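import Cfsg.Agent.StdSz.Reduce

/-!
# S1773: reduction to the group generated by the simple layer and the involution

`G` finite, `O(G) = 1`, `A` standard, `t` an involution of `C_G(A)`, `C_G(A)` with cyclic Sylow
2-subgroups.  In the main case `E(G) = L` is simple and `C_G(L) = 1`; the group `L⟨t⟩` together with
`A` and `t` is again of the same kind (structure `Conf`).
-/

set_option autoImplicit false
set_option linter.unusedSectionVars false

namespace Cfsg.Agent.StdL2.Setup

open Cfsg Subgroup Cfsg.Agent.SignalizersComponents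
open Cfsg.Agent.SignalizersComponents.StandardTools

universe u

variable {G : Type u} [Group G]

/-- The reduced configuration: `L` simple nonabelian, normal, `C_G(L) = 1`, `G = L⟨t⟩`, `A ≤ L` standard
in `G`, the involution `t` centralizes `A`, and `C_G(A)` has cyclic Sylow 2-subgroups. -/
structure Conf [Finite G] (L A : Subgroup G) (t : G) : Prop where
  normal : L.Normal
  simple : IsSimpleGroup ↥L
  not_comm : ¬ IsMulCommutative ↥L
  cent : Subgroup.centralizer (L : Set G) = ⊥
  gen : L ⊔ Subgroup.zpowers t = ⊤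
  le : A ≤ L
  std : IsStandardSubgroup A
  ht : orderOf t = 2
  htA : t ∈ Subgroup.centralizer (A : Set G)
  cyc : ∀ R : Sylow 2 ↥(Subgroup.centralizer (A : Set G)),
    IsCyclic ↥(R : Subgroup ↥(Subgroup.centralizer (A : Set G)))

section Sub

variable [Finite G] {H A : Subgroup G} {t : G}

theorem mem_centralizer_subgroupOf (hAH : A ≤ H) {x : ↥H} :
    x ∈ Subgroup.centralizer ((A.subgroupOf H : Subgroup ↥H) : Set ↥H) ↔
      (x : G) ∈ Subgroup.centralizer (A : Set G) := by
  rw [mem_centralizer_iff, mem_centralizer_iff]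
  constructor
  · intro h a ha
    have := h ⟨a, hAH ha⟩ (by rw [SetLike.mem_coe, mem_subgroupOf]; exact ha)
    exact congrArg Subtype.val this
  · intro h a ha
    exact Subtype.ext (h a (mem_subgroupOf.mp ha))

theorem mem_normalizer_subgroupOf' (hAH : A ≤ H) {x : ↥H} :
    x ∈ Subgroup.normalizer ((A.subgroupOf H : Subgroup ↥H) : Set ↥H) ↔
      (x : G) ∈ Subgroup.normalizer (A : Set G) := by
  rw [mem_normalizer_iff, mem_normalizer_iff]
  constructor
  · intro h a
    constructor
    · intro ha
      exact mem_subgroupOf.mp ((h ⟨a, hAH ha⟩).mp (mem_subgroupOf.mpr ha))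
    · intro ha
      have h1 : a ∈ H := by
        have h2 := mul_mem (mul_mem (inv_mem x.2) (hAH ha)) x.2
        have e : (x : G)⁻¹ * ((x : G) * a * (x : G)⁻¹) * (x : G) = a := by group
        rwa [e] at h2
      exact mem_subgroupOf.mp ((h ⟨a, h1⟩).mpr (mem_subgroupOf.mpr ha))
  · intro h a
    rw [mem_subgroupOf, mem_subgroupOf]
    exact h a

/-- A standard subgroup of `G` is standard in every subgroup containing it and an involution centralizing
it. -/
theorem std_subgroupOf (hAH : A ≤ H) (hA : IsStandardSubgroup A) (ht : orderOf t = 2)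
    (htA : t ∈ Subgroup.centralizer (A : Set G)) (htH : t ∈ H) :
    IsStandardSubgroup (A.subgroupOf H) := by
  obtain ⟨h1, h2, h3, h4⟩ := hA
  have hA' : IsStandardSubgroup A := ⟨h1, h2, h3, h4⟩
  set C := Subgroup.centralizer (A : Set G) with hC
  set C' := Subgroup.centralizer ((A.subgroupOf H : Subgroup ↥H) : Set ↥H) with hC'
  have hC'C : ∀ x : ↥H, x ∈ C' ↔ (x : G) ∈ C := fun x => mem_centralizer_subgroupOf hAH
  -- conjugation in `H` of `C'`
  have hint : ∀ g : ↥H, (g : G) ∉ Subgroup.normalizer (C : Set G) →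
      Odd (Nat.card ↥(C' ⊓ C'.map (MulAut.conj g).toMonoidHom)) := by
    intro g hg
    have h5 := h2.2 (g : G) hg
    have h6 : (C' ⊓ C'.map (MulAut.conj g).toMonoidHom).map H.subtype ≤
        C ⊓ C.map (MulAut.conj (g : G)).toMonoidHom := by
      rintro _ ⟨x, hx, rfl⟩
      obtain ⟨hx1, y, hy, hxy⟩ := mem_inf.mp hx
      refine mem_inf.mpr ⟨(hC'C x).mp hx1, (y : G), (hC'C y).mp hy, ?_⟩
      rw [← hxy]
      simp
    have h7 := card_dvd_of_le h6
    rw [card_map_of_injective H.subtype_injective] at h7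
    exact Odd.of_dvd_nat h5 h7
  have heven : Even (Nat.card ↥C') := by
    have h5 : (⟨t, htH⟩ : ↥H) ∈ C' := (hC'C _).mpr htA
    have h6 : orderOf (⟨⟨t, htH⟩, h5⟩ : ↥C') = 2 := by
      rw [← Subgroup.orderOf_coe, ← Subgroup.orderOf_coe]; exact ht
    rw [even_iff_two_dvd, ← h6]
    exact orderOf_dvd_natCard _
  have hnorm : ∀ g : ↥H, g ∈ Subgroup.normalizer (C' : Set ↥H) ↔
      (g : G) ∈ Subgroup.normalizer (C : Set G) := by
    intro g
    constructor
    · intro hg
      by_contra hgn
      have h5 := hint g hgn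
      have e : C'.map (MulAut.conj g).toMonoidHom = C' := mem_normalizer_iff_map_conj_eq.mp hg
      rw [e, inf_idem] at h5
      exact (Nat.not_even_iff_odd.mpr h5) heven
    · intro hg
      rw [mem_normalizer_iff] at hg ⊢
      intro x
      rw [hC'C, hC'C]
      exact hg x
  refine ⟨?_, ⟨heven, fun g hg => ?_⟩, fun g hg => ?_, ?_⟩
  · exact Components.isQuasisimple_of_mulEquiv (subgroupOfEquivOfLe hAH).symm h1
  · exact hint g (fun h => hg ((hnorm g).mpr h))
  · intro hcomm
    apply h3 (g : G)
    · intro heq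
      apply hg
      ext x
      constructor
      · rintro ⟨y, hy, rfl⟩
        rw [mem_subgroupOf]
        rw [← heq]
        exact ⟨(y : G), mem_subgroupOf.mp hy, by simp⟩
      · intro hx
        rw [mem_subgroupOf, ← heq] at hx
        obtain ⟨y, hy, hyx⟩ := hx
        refine ⟨⟨y, hAH hy⟩, mem_subgroupOf.mpr hy, ?_⟩
        apply Subtype.ext
        simpa using hyx
    · rw [commutator_eq_bot_iff_le_centralizer] at hcomm ⊢
      intro a ha
      rw [mem_centralizer_iff]
      rintro _ ⟨b, hb, rfl⟩
      have h5 := hcomm (mem_subgroupOf.mpr (show ((⟨a, hAH ha⟩ : ↥H) : G) ∈ A from ha))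
      rw [mem_centralizer_iff] at h5
      have h6 := h5 ((MulAut.conj g).toMonoidHom ⟨b, hAH hb⟩)
        ⟨⟨b, hAH hb⟩, mem_subgroupOf.mpr hb, rfl⟩
      have h7 := congrArg Subtype.val h6
      simpa using h7
  · ext g
    rw [hnorm, mem_normalizer_subgroupOf' hAH, h4]

/-- Sylow 2-subgroups of `C_H(A)` are cyclic. -/
theorem cyc_subgroupOf (hAH : A ≤ H)
    (cyc : ∀ R : Sylow 2 ↥(Subgroup.centralizer (A : Set G)),
      IsCyclic ↥(R : Subgroup ↥(Subgroup.centralizer (A : Set G)))) :
    ∀ R : Sylow 2 ↥(Subgroup.centralizer ((A.subgroupOf H : Subgroup ↥H) : Set ↥H)),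
      IsCyclic ↥(R : Subgroup ↥(Subgroup.centralizer ((A.subgroupOf H : Subgroup ↥H) : Set ↥H))) := by
  intro R
  let f : ↥(Subgroup.centralizer ((A.subgroupOf H : Subgroup ↥H) : Set ↥H)) →*
      ↥(Subgroup.centralizer (A : Set G)) :=
    { toFun := fun x => ⟨((x : ↥H) : G), (mem_centralizer_subgroupOf hAH).mp x.2⟩
      map_one' := rfl
      map_mul' := fun x y => rfl }
  have hf : Function.Injective f := by
    intro x y h
    have := congrArg Subtype.val h
    exact Subtype.ext (Subtype.ext this)
  have h1 := (R.2 : IsPGroup 2 _).map f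
  obtain ⟨S, hS⟩ := h1.exists_le_sylow
  have h2 := cyc S
  let g : ↥(R : Subgroup ↥(Subgroup.centralizer ((A.subgroupOf H : Subgroup ↥H) : Set ↥H))) →*
      ↥(S : Subgroup ↥(Subgroup.centralizer (A : Set G))) :=
    { toFun := fun x => ⟨f (x : ↥(Subgroup.centralizer ((A.subgroupOf H : Subgroup ↥H) : Set ↥H))),
        hS ⟨_, x.2, rfl⟩⟩
      map_one' := Subtype.ext (map_one f)
      map_mul' := fun x y => Subtype.ext (map_mul f _ _) }
  have hg : Function.Injective g := by
    intro x y h
    have := congrArg Subtype.val h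
    exact Subtype.ext (hf this)
  exact isCyclic_of_injective g hg

end Sub

end Cfsg.Agent.StdL2.Setup
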