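import Mathlib
import Cfsg.Agent.Lib.ElemAbGL
import Cfsg.Agent.S0249
import Cfsg.Agent.SmallSimple.Simple168Klein

/-!
S1773, case q = 8, N(E)/C(E) = L3(2): the automorphism group of an elementary abelian group of
order 8 (simple of order 168), bases, transvections.
-/

set_option autoImplicit false
set_option linter.style.haveILetI false
set_option linter.unusedSectionVars false

namespace Cfsg.Agent.StdL2.G23Aut

theorem card_GL : Nat.card (GL (Fin 3) (ZMod 2)) = 168 := by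
  haveI : Fact (Nat.Prime 2) := ⟨Nat.prime_two⟩
  rw [Matrix.card_GL_field]
  simp [Fin.prod_univ_three, ZMod.card]

theorem toGL_surjective :
    Function.Surjective (Matrix.SpecialLinearGroup.toGL (n := Fin 3) (R := ZMod 2)) := by
  intro g
  have hu : ∀ u : (ZMod 2)ˣ, u = 1 := by decide
  have h := hu (Matrix.GeneralLinearGroup.det g)
  refine ⟨⟨(g : Matrix (Fin 3) (Fin 3) (ZMod 2)), ?_⟩, ?_⟩
  · have := congrArg (fun u : (ZMod 2)ˣ => (u : ZMod 2)) h
    simpa using this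
  · ext i j
    rfl

theorem toGL_injective :
    Function.Injective (Matrix.SpecialLinearGroup.toGL (n := Fin 3) (R := ZMod 2)) :=
  Matrix.SpecialLinearGroup.toGL_injective

theorem center_eq_bot :
    Subgroup.center (Matrix.SpecialLinearGroup (Fin 3) (ZMod 2)) = ⊥ := by
  rw [eq_bot_iff]
  intro A hA
  obtain ⟨r, hr, hrA⟩ := Matrix.SpecialLinearGroup.mem_center_iff.1 hA
  have h2 : ∀ r : ZMod 2, r ^ 3 = 1 → r = 1 := by decide
  have h1 : r = 1 := h2 r (by simpa using hr)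
  rw [Subgroup.mem_bot]
  apply Subtype.ext
  rw [← hrA, h1]
  simp

theorem nontrivial_GL : Nontrivial (GL (Fin 3) (ZMod 2)) := by
  haveI : Finite (GL (Fin 3) (ZMod 2)) := Nat.finite_of_card_ne_zero (by rw [card_GL]; norm_num)
  exact Finite.one_lt_card_iff_nontrivial.1 (by rw [card_GL]; norm_num)

theorem simple_GL : IsSimpleGroup (GL (Fin 3) (ZMod 2)) := by
  haveI : Fact (Nat.Prime 2) := ⟨Nat.prime_two⟩
  haveI := nontrivial_GL
  haveI hs : IsSimpleGroup (Matrix.ProjectiveSpecialLinearGroup (Fin 3) (ZMod 2)) :=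
    Cfsg.Agent.S0249.result 3 le_rfl
  let e1 : Matrix.SpecialLinearGroup (Fin 3) (ZMod 2) ≃* GL (Fin 3) (ZMod 2) :=
    MulEquiv.ofBijective _ ⟨toGL_injective, toGL_surjective⟩
  let e2 : Matrix.ProjectiveSpecialLinearGroup (Fin 3) (ZMod 2) ≃*
      Matrix.SpecialLinearGroup (Fin 3) (ZMod 2) :=
    (QuotientGroup.quotientMulEquivOfEq center_eq_bot).trans QuotientGroup.quotientBot
  exact IsSimpleGroup.isSimpleGroup_of_surjective (e2.trans e1).toMonoidHom
    (e2.trans e1).surjective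

section

variable {V : Type*} [Group V]

theorem comm_of_sq (hsq : ∀ v : V, v * v = 1) (a b : V) : a * b = b * a := by
  have h := hsq (a * b)
  have ha := hsq a
  have hb := hsq b
  have ha' : a⁻¹ = a := inv_eq_of_mul_eq_one_left ha
  have hb' : b⁻¹ = b := inv_eq_of_mul_eq_one_left hb
  have : (a * b)⁻¹ = a * b := inv_eq_of_mul_eq_one_left h
  rw [mul_inv_rev, ha', hb'] at this
  exact this.symm

theorem equiv_GL (hsq : ∀ v : V, v * v = 1) (h8 : Nat.card V = 8) :
    Nonempty (MulAut V ≃* GL (Fin 3) (ZMod 2)) := by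
  haveI : Fact (Nat.Prime 2) := ⟨Nat.prime_two⟩
  letI : CommGroup V := { (inferInstance : Group V) with mul_comm := comm_of_sq hsq }
  exact Cfsg.Agent.Lib.ElemAbGL.mulAut_equiv_GL (V := V) 2 3
    (fun x => by rw [pow_two]; exact hsq x) (by rw [h8]; norm_num)

theorem card_aut (hsq : ∀ v : V, v * v = 1) (h8 : Nat.card V = 8) :
    Nat.card (MulAut V) = 168 := by
  obtain ⟨e⟩ := equiv_GL hsq h8
  rw [Nat.card_congr e.toEquiv, card_GL]

theorem simple_aut (hsq : ∀ v : V, v * v = 1) (h8 : Nat.card V = 8) :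
    IsSimpleGroup (MulAut V) := by
  obtain ⟨e⟩ := equiv_GL hsq h8
  haveI := simple_GL
  haveI : Nontrivial (MulAut V) := e.toEquiv.nontrivial
  exact IsSimpleGroup.isSimpleGroup_of_surjective e.symm.toMonoidHom e.symm.surjective

end

/-! ### Bases -/

variable {G : Type*} [Group G]

/-- `V` is elementary abelian of order 8. -/
structure Oct (V : Subgroup G) : Prop where
  card : Nat.card V = 8
  sq : ∀ v ∈ V, v * v = 1

/-- A basis of an elementary abelian group of order 8. -/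
structure Bas (V : Subgroup G) (x y w : G) : Prop where
  hx : x ∈ V
  hy : y ∈ V
  hw : w ∈ V
  x1 : x ≠ 1
  y1 : y ≠ 1
  yx : y ≠ x
  w1 : w ≠ 1
  wx : w ≠ x
  wy : w ≠ y
  wxy : w ≠ x * y

theorem Oct.comm {V : Subgroup G} (h : Oct V) {a b : G} (ha : a ∈ V) (hb : b ∈ V) :
    a * b = b * a := by
  have := comm_of_sq (V := V) (fun v => Subtype.ext (h.sq v v.2)) ⟨a, ha⟩ ⟨b, hb⟩
  exact congrArg Subtype.val this

theorem Oct.inv {V : Subgroup G} (h : Oct V) {a : G} (ha : a ∈ V) : a⁻¹ = a :=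
  inv_eq_of_mul_eq_one_left (h.sq a ha)

theorem Oct.eq_of_mul {V : Subgroup G} (h : Oct V) {a b : G} (hb : b ∈ V)
    (hab : a * b = 1) : a = b := by
  rw [eq_inv_of_mul_eq_one_left hab, h.inv hb]

/-- powers with exponent modulo two -/
def pw (x : G) (i : ZMod 2) : G := if i = 0 then 1 else x

theorem pw_add {x : G} (hx : x * x = 1) (i j : ZMod 2) : pw x (i + j) = pw x i * pw x j := by
  have h : ∀ i : ZMod 2, i = 0 ∨ i = 1 := by decide
  rcases h i with rfl | rfl <;> rcases h j with rfl | rfl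
  · simp [pw]
  · simp [pw]
  · simp [pw]
  · have : (1 + 1 : ZMod 2) = 0 := by decide
    rw [this]
    simp [pw, hx]

theorem pw_mem {V : Subgroup G} {x : G} (hx : x ∈ V) (i : ZMod 2) : pw x i ∈ V := by
  unfold pw
  split_ifs
  · exact V.one_mem
  · exact hx

@[simp] theorem pw_zero (x : G) : pw x 0 = 1 := by simp [pw]
@[simp] theorem pw_one (x : G) : pw x 1 = x := by simp [pw]

theorem zmod2 (i : ZMod 2) : i = 0 ∨ i = 1 := by revert i; decide

variable [Finite G]

theorem Bas.exists_equiv {V : Subgroup G} (h : Oct V) {x y w : G} (b : Bas V x y w) :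
    ∃ e : Multiplicative (ZMod 2 × ZMod 2 × ZMod 2) ≃* V,
      ∀ i j k, (e (Multiplicative.ofAdd (i, j, k)) : G) = pw x i * pw y j * pw w k := by
  let f : Multiplicative (ZMod 2 × ZMod 2 × ZMod 2) →* V :=
    { toFun := fun p => ⟨pw x p.toAdd.1 * pw y p.toAdd.2.1 * pw w p.toAdd.2.2,
        V.mul_mem (V.mul_mem (pw_mem b.hx _) (pw_mem b.hy _)) (pw_mem b.hw _)⟩
      map_one' := by
        apply Subtype.ext
        simp [toAdd_one]
      map_mul' := by
        intro p q
        apply Subtype.ext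
        simp only [toAdd_mul, Prod.fst_add, Prod.snd_add, Subgroup.coe_mul]
        rw [pw_add (h.sq x b.hx), pw_add (h.sq y b.hy), pw_add (h.sq w b.hw)]
        have c1 : pw x q.toAdd.1 * pw y p.toAdd.2.1 = pw y p.toAdd.2.1 * pw x q.toAdd.1 :=
          h.comm (pw_mem b.hx _) (pw_mem b.hy _)
        have c2 : (pw x q.toAdd.1 * pw y q.toAdd.2.1) * pw w p.toAdd.2.2 =
            pw w p.toAdd.2.2 * (pw x q.toAdd.1 * pw y q.toAdd.2.1) :=
          h.comm (V.mul_mem (pw_mem b.hx _) (pw_mem b.hy _)) (pw_mem b.hw _)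
        calc pw x p.toAdd.1 * pw x q.toAdd.1 * (pw y p.toAdd.2.1 * pw y q.toAdd.2.1) *
              (pw w p.toAdd.2.2 * pw w q.toAdd.2.2)
            = pw x p.toAdd.1 * (pw x q.toAdd.1 * pw y p.toAdd.2.1) * pw y q.toAdd.2.1 *
              (pw w p.toAdd.2.2 * pw w q.toAdd.2.2) := by group
          _ = pw x p.toAdd.1 * (pw y p.toAdd.2.1 * pw x q.toAdd.1) * pw y q.toAdd.2.1 *
              (pw w p.toAdd.2.2 * pw w q.toAdd.2.2) := by rw [c1]
          _ = pw x p.toAdd.1 * pw y p.toAdd.2.1 *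
              ((pw x q.toAdd.1 * pw y q.toAdd.2.1) * pw w p.toAdd.2.2) * pw w q.toAdd.2.2 := by
              group
          _ = pw x p.toAdd.1 * pw y p.toAdd.2.1 *
              (pw w p.toAdd.2.2 * (pw x q.toAdd.1 * pw y q.toAdd.2.1)) * pw w q.toAdd.2.2 := by
              rw [c2]
          _ = _ := by group }
  have hinj : Function.Injective f := by
    rw [injective_iff_map_eq_one]
    intro p hp
    have hp' : pw x p.toAdd.1 * pw y p.toAdd.2.1 * pw w p.toAdd.2.2 = 1 :=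
      congrArg Subtype.val hp
    obtain ⟨i, j, k⟩ := p
    change pw x i * pw y j * pw w k = 1 at hp'
    rcases zmod2 i with rfl | rfl <;> rcases zmod2 j with rfl | rfl <;>
      rcases zmod2 k with rfl | rfl <;> simp only [pw_zero, pw_one, one_mul, mul_one] at hp'
    · rfl
    · exact absurd hp' b.w1
    · exact absurd hp' b.y1
    · exact absurd (h.eq_of_mul b.hw hp').symm b.wy
    · exact absurd hp' b.x1
    · exact absurd (h.eq_of_mul b.hw hp').symm b.wx
    · exact absurd (h.eq_of_mul b.hy hp').symm b.yx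
    · exact absurd (h.eq_of_mul b.hw hp').symm b.wxy
  have hcard : Nat.card (Multiplicative (ZMod 2 × ZMod 2 × ZMod 2)) = Nat.card V := by
    rw [h.card]
    simp [Nat.card_eq_fintype_card, ZMod.card]
  refine ⟨MulEquiv.ofBijective f ((Nat.bijective_iff_injective_and_card f).2 ⟨hinj, hcard⟩), ?_⟩
  intro i j k
  rfl

theorem Bas.cases {V : Subgroup G} (h : Oct V) {x y w : G} (b : Bas V x y w) {v : G}
    (hv : v ∈ V) : v = 1 ∨ v = x ∨ v = y ∨ v = x * y ∨ v = w ∨ v = x * w ∨ v = y * w ∨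
      v = x * y * w := by
  obtain ⟨e, he⟩ := b.exists_equiv h
  obtain ⟨p, hp⟩ := e.surjective ⟨v, hv⟩
  obtain ⟨i, j, k⟩ := p
  have := he i j k
  have h1 : (e (Multiplicative.ofAdd (i, j, k)) : G) = v := congrArg Subtype.val hp
  rw [h1] at this
  rw [this]
  rcases zmod2 i with rfl | rfl <;> rcases zmod2 j with rfl | rfl <;>
      rcases zmod2 k with rfl | rfl <;> simp

/-- Two bases are related by an automorphism. -/
theorem Bas.exists_aut {V : Subgroup G} (h : Oct V) {x y w x' y' w' : G} (b : Bas V x y w)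
    (b' : Bas V x' y' w') :
    ∃ φ : MulAut V, φ ⟨x, b.hx⟩ = ⟨x', b'.hx⟩ ∧ φ ⟨y, b.hy⟩ = ⟨y', b'.hy⟩ ∧
      φ ⟨w, b.hw⟩ = ⟨w', b'.hw⟩ := by
  obtain ⟨e, he⟩ := b.exists_equiv h
  obtain ⟨e', he'⟩ := b'.exists_equiv h
  have h1 : e (Multiplicative.ofAdd (1, 0, 0)) = ⟨x, b.hx⟩ := Subtype.ext (by rw [he]; simp)
  have h2 : e (Multiplicative.ofAdd (0, 1, 0)) = ⟨y, b.hy⟩ := Subtype.ext (by rw [he]; simp)
  have h3 : e (Multiplicative.ofAdd (0, 0, 1)) = ⟨w, b.hw⟩ := Subtype.ext (by rw [he]; simp)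
  refine ⟨e.symm.trans e', ?_, ?_, ?_⟩
  · rw [← h1, MulEquiv.trans_apply, MulEquiv.symm_apply_apply]
    exact Subtype.ext (by rw [he']; simp)
  · rw [← h2, MulEquiv.trans_apply, MulEquiv.symm_apply_apply]
    exact Subtype.ext (by rw [he']; simp)
  · rw [← h3, MulEquiv.trans_apply, MulEquiv.symm_apply_apply]
    exact Subtype.ext (by rw [he']; simp)

/-! ### The action of the normaliser -/

/-- the group of automorphisms of `V` induced by `K` -/
noncomputable def img (K V : Subgroup G) : Subgroup (MulAut V) :=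
  (K.subgroupOf (Subgroup.normalizer (V : Set G))).map V.normalizerMonoidHom

omit [Finite G] in
theorem mem_img {K V : Subgroup G} {φ : MulAut V} :
    φ ∈ img K V ↔ ∃ k ∈ K, k ∈ Subgroup.normalizer (V : Set G) ∧
      ∀ v : V, k * (v : G) * k⁻¹ = φ v := by
  unfold img
  rw [Subgroup.mem_map]
  constructor
  · rintro ⟨k, hk, rfl⟩
    exact ⟨k, hk, k.2, fun v => rfl⟩
  · rintro ⟨k, hk, hn, hv⟩
    refine ⟨⟨k, hn⟩, hk, ?_⟩
    ext v
    exact hv v

theorem card_inf_eq (H K : Subgroup G) : Nat.card (H.subgroupOf K) = Nat.card (H ⊓ K : Subgroup G) := by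
  rw [← Subgroup.subgroupOf_map_subtype]
  exact (Subgroup.card_map_of_injective K.subtype_injective).symm

theorem card_img_mul {K V : Subgroup G} (hK : K ≤ Subgroup.normalizer (V : Set G)) :
    Nat.card (img K V) * Nat.card (K ⊓ Subgroup.centralizer (V : Set G) : Subgroup G) =
      Nat.card K := by
  let f : K →* MulAut V := V.normalizerMonoidHom.comp (Subgroup.inclusion hK)
  have h1 : f.range = img K V := by
    ext φ
    rw [mem_img, MonoidHom.mem_range]
    constructor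
    · rintro ⟨k, rfl⟩
      exact ⟨k, k.2, hK k.2, fun v => rfl⟩
    · rintro ⟨k, hk, -, hv⟩
      refine ⟨⟨k, hk⟩, ?_⟩
      ext v
      exact hv v
  have h2 : f.ker = (Subgroup.centralizer (V : Set G)).subgroupOf K := by
    ext k
    rw [MonoidHom.mem_ker, Subgroup.mem_subgroupOf, Subgroup.mem_centralizer_iff]
    constructor
    · intro h v hv
      have h3 := congrArg (fun φ : MulAut V => ((φ ⟨v, hv⟩ : V) : G)) h
      have h4 : (k : G) * v * (k : G)⁻¹ = v := h3
      exact (mul_inv_eq_iff_eq_mul.1 h4).symm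
    · intro h
      ext v
      have h3 := h v v.2
      change (k : G) * v * (k : G)⁻¹ = v
      rw [← h3]
      group
  have h3 := f.ker.card_mul_index
  rw [Subgroup.index_ker, h2, card_inf_eq, inf_comm] at h3
  rw [← h1, mul_comm]
  exact h3

/-- `K` induces all automorphisms of `V`. -/
def Full (K V : Subgroup G) : Prop := ∀ φ : MulAut V, ∃ k ∈ K, ∀ v : V, k * (v : G) * k⁻¹ = φ v

theorem full_iff {K V : Subgroup G} (hK : K ≤ Subgroup.normalizer (V : Set G)) :
    Full K V ↔ img K V = ⊤ := by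
  constructor
  · intro h
    rw [eq_top_iff]
    intro φ _
    obtain ⟨k, hk, hv⟩ := h φ
    exact mem_img.2 ⟨k, hk, hK hk, hv⟩
  · intro h φ
    have : φ ∈ img K V := by rw [h]; trivial
    obtain ⟨k, hk, -, hv⟩ := mem_img.1 this
    exact ⟨k, hk, hv⟩

theorem Oct.card_aut {V : Subgroup G} (h : Oct V) : Nat.card (MulAut V) = 168 :=
  G23Aut.card_aut (V := V) (fun v => Subtype.ext (h.sq v v.2)) h.card

theorem Oct.simple_aut {V : Subgroup G} (h : Oct V) : IsSimpleGroup (MulAut V) :=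
  G23Aut.simple_aut (V := V) (fun v => Subtype.ext (h.sq v v.2)) h.card

theorem Oct.finite_aut {V : Subgroup G} (h : Oct V) : Finite (MulAut V) :=
  Nat.finite_of_card_ne_zero (by rw [h.card_aut]; norm_num)

/-- A group of automorphisms of order divisible by 56 is everything. -/
theorem Oct.eq_top {V : Subgroup G} (h : Oct V) (X : Subgroup (MulAut V))
    (h8 : 8 ∣ Nat.card X) (h7 : 7 ∣ Nat.card X) : X = ⊤ := by
  haveI := h.simple_aut
  haveI := h.finite_aut
  by_contra hX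
  have h1 := Cfsg.Agent.SmallSimple.Simple168Klein.index_ge_seven h.card_aut X hX
  have h2 := X.card_mul_index
  rw [h.card_aut] at h2
  have h56 : 56 ∣ Nat.card X := Nat.Coprime.mul_dvd_of_dvd_of_dvd (by norm_num) h8 h7
  have h3 : 56 ≤ Nat.card X := Nat.le_of_dvd Nat.card_pos h56
  nlinarith

/-- A nontrivial normal group of automorphisms is everything. -/
theorem Oct.normal {V : Subgroup G} (h : Oct V) (X : Subgroup (MulAut V)) (hX : X.Normal) :
    X = ⊥ ∨ X = ⊤ := by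
  haveI := h.simple_aut
  exact hX.eq_bot_or_eq_top

theorem Full.bas {K V : Subgroup G} (hF : Full K V) (h : Oct V) {x y w x' y' w' : G}
    (b : Bas V x y w) (b' : Bas V x' y' w') :
    ∃ k ∈ K, k ∈ Subgroup.normalizer (V : Set G) ∧ k * x * k⁻¹ = x' ∧ k * y * k⁻¹ = y' ∧
      k * w * k⁻¹ = w' := by
  obtain ⟨φ, h1, h2, h3⟩ := b.exists_aut h b'
  obtain ⟨k, hk, hv⟩ := hF φ
  have hn : k ∈ Subgroup.normalizer (V : Set G) := by
    rw [Subgroup.mem_normalizer_iff]
    intro g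
    constructor
    · intro hg
      have := hv ⟨g, hg⟩
      rw [this]
      exact (φ ⟨g, hg⟩).2
    · intro hg
      have h4 := hv (φ.symm ⟨_, hg⟩)
      rw [MulEquiv.apply_symm_apply] at h4
      have h5 : ((φ.symm ⟨_, hg⟩ : V) : G) = g := by
        have h6 : k * ((φ.symm ⟨_, hg⟩ : V) : G) * k⁻¹ = k * g * k⁻¹ := h4
        exact mul_left_cancel (mul_right_cancel h6)
      rw [← h5]
      exact (φ.symm ⟨_, hg⟩).2
  refine ⟨k, hk, hn, ?_, ?_, ?_⟩
  · rw [show k * x * k⁻¹ = k * ((⟨x, b.hx⟩ : V) : G) * k⁻¹ from rfl, hv, h1]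
  · rw [show k * y * k⁻¹ = k * ((⟨y, b.hy⟩ : V) : G) * k⁻¹ from rfl, hv, h2]
  · rw [show k * w * k⁻¹ = k * ((⟨w, b.hw⟩ : V) : G) * k⁻¹ from rfl, hv, h3]

/-! ### Transvections -/

theorem mem_inf_cent {V : Subgroup G} {d v : G} :
    v ∈ (V ⊓ Subgroup.centralizer ({d} : Set G) : Subgroup G) ↔ v ∈ V ∧ d * v * d⁻¹ = v := by
  rw [Subgroup.mem_inf, Subgroup.mem_centralizer_singleton_iff, mul_inv_eq_iff_eq_mul, eq_comm]

/-- An element acting as an involution on `V` acts as a transvection. -/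
theorem Oct.trans {V : Subgroup G} (h : Oct V) {d : G}
    (hn : d ∈ Subgroup.normalizer (V : Set G)) (h2 : ∀ v ∈ V, d * (d * v * d⁻¹) * d⁻¹ = v)
    (hne : ∃ v ∈ V, d * v * d⁻¹ ≠ v) :
    ∃ c ∈ V, c ≠ 1 ∧ d * c * d⁻¹ = c ∧ (∀ v ∈ V, d * v * d⁻¹ = v ∨ d * v * d⁻¹ = v * c) ∧
      Nat.card (V ⊓ Subgroup.centralizer ({d} : Set G) : Subgroup G) = 4 := by
  have hc : ∀ v ∈ V, d * v * d⁻¹ ∈ V := fun v hv => (Subgroup.mem_normalizer_iff.1 hn v).1 hv
  let f : V →* V :=
    { toFun := fun v => ⟨d * v * d⁻¹ * v, V.mul_mem (hc v v.2) v.2⟩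
      map_one' := Subtype.ext (by simp)
      map_mul' := by
        intro v w
        apply Subtype.ext
        simp only [Subgroup.coe_mul]
        have := h.comm (hc w w.2) v.2
        calc d * ((v : G) * w) * d⁻¹ * (v * w) = (d * v * d⁻¹) * ((d * w * d⁻¹) * v) * w := by group
          _ = (d * v * d⁻¹) * (v * (d * w * d⁻¹)) * w := by rw [this]
          _ = d * v * d⁻¹ * v * (d * w * d⁻¹ * w) := by group }
  have hker : ∀ v : V, f v = 1 ↔ d * (v : G) * d⁻¹ = v := by
    intro v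
    constructor
    · intro hv
      exact h.eq_of_mul v.2 (congrArg Subtype.val hv)
    · intro hv
      apply Subtype.ext
      change d * (v : G) * d⁻¹ * v = 1
      rw [hv, h.sq v v.2]
  have hrk : f.range ≤ f.ker := by
    rintro _ ⟨v, rfl⟩
    rw [MonoidHom.mem_ker, hker]
    change d * (d * v * d⁻¹ * v) * d⁻¹ = d * v * d⁻¹ * v
    calc d * (d * (v : G) * d⁻¹ * v) * d⁻¹ = (d * (d * (v : G) * d⁻¹) * d⁻¹) * (d * v * d⁻¹) := by
          group
      _ = v * (d * v * d⁻¹) := by rw [h2 v v.2]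
      _ = d * v * d⁻¹ * v := h.comm v.2 (hc v v.2)
  have hm := f.ker.card_mul_index
  rw [Subgroup.index_ker] at hm
  change Nat.card f.ker * Nat.card f.range = Nat.card V at hm
  rw [h.card] at hm
  have hle : Nat.card f.range ≤ Nat.card f.ker := Subgroup.card_le_of_le hrk
  have hne1 : Nat.card f.range ≠ 1 := by
    intro h1
    obtain ⟨v, hv, hvne⟩ := hne
    have h3 : f.range = ⊥ := Subgroup.eq_bot_of_card_eq _ h1
    have h4 : f ⟨v, hv⟩ ∈ f.range := ⟨_, rfl⟩
    rw [h3, Subgroup.mem_bot, hker] at h4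
    exact hvne h4
  have hr2 : Nat.card f.range = 2 := by
    have h5 : Nat.card f.range ∣ 8 := ⟨_, by rw [mul_comm]; exact hm.symm⟩
    have h6 : Nat.card f.range ≤ 8 := Nat.le_of_dvd (by norm_num) h5
    interval_cases hN : Nat.card f.range <;> omega
  have hk4 : Nat.card f.ker = 4 := by rw [hr2] at hm; omega
  obtain ⟨c, hc1, hcu⟩ := (Nat.card_eq_two_iff' (1 : f.range)).1 hr2
  have hcr : (c : V) ∈ f.range := c.2
  refine ⟨((c : V) : G), (c : V).2, ?_, ?_, ?_, ?_⟩
  · intro h7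
    exact hc1 (Subtype.ext (Subtype.ext h7))
  · exact (hker _).1 (hrk hcr)
  · intro v hv
    by_cases h8 : d * v * d⁻¹ = v
    · exact Or.inl h8
    · right
      have h9 : f ⟨v, hv⟩ ≠ 1 := fun h10 => h8 ((hker _).1 h10)
      have h11 : (⟨f ⟨v, hv⟩, ⟨_, rfl⟩⟩ : f.range) = c :=
        hcu _ (fun h12 => h9 (congrArg Subtype.val h12))
      have h13 : d * v * d⁻¹ * v = ((c : V) : G) := by rw [← h11]; rfl
      rw [← h13, h.comm (hc v hv) hv, ← mul_assoc, h.sq v hv, one_mul]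
  · have h14 : (V ⊓ Subgroup.centralizer ({d} : Set G) : Subgroup G) = f.ker.map V.subtype := by
      ext x
      rw [mem_inf_cent, Subgroup.mem_map]
      constructor
      · rintro ⟨hx, hxd⟩
        exact ⟨⟨x, hx⟩, (hker ⟨x, hx⟩).2 hxd, rfl⟩
      · rintro ⟨y, hy, rfl⟩
        exact ⟨y.2, (hker y).1 hy⟩
    rw [h14, Subgroup.card_map_of_injective V.subtype_injective, hk4]

/-- Automorphism version of `Oct.trans`. -/
theorem Oct.trans_aut {V : Subgroup G} (h : Oct V) {ξ : MulAut V} (hξ : ξ * ξ = 1) (h1 : ξ ≠ 1) :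
    ∃ c : V, c ≠ 1 ∧ ξ c = c ∧ ∀ v, ξ v = v ∨ ξ v = v * c := by
  have hcomm : ∀ a b : V, a * b = b * a := fun a b => Subtype.ext (h.comm a.2 b.2)
  have hsq : ∀ a : V, a * a = 1 := fun a => Subtype.ext (h.sq a a.2)
  have hinv : ∀ a : V, ξ (ξ a) = a := fun a => congrArg (fun φ : MulAut V => φ a) hξ
  let f : V →* V :=
    { toFun := fun v => ξ v * v
      map_one' := by simp
      map_mul' := by
        intro v w
        rw [map_mul]
        calc ξ v * ξ w * (v * w) = ξ v * (ξ w * v) * w := by group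
          _ = ξ v * (v * ξ w) * w := by rw [hcomm (ξ w) v]
          _ = ξ v * v * (ξ w * w) := by group }
  have hker : ∀ v : V, f v = 1 ↔ ξ v = v := by
    intro v
    constructor
    · intro hv
      have h3 : ξ v * v = 1 := hv
      rw [eq_inv_of_mul_eq_one_left h3, inv_eq_of_mul_eq_one_left (hsq v)]
    · intro hv
      change ξ v * v = 1
      rw [hv, hsq]
  have hrk : f.range ≤ f.ker := by
    rintro _ ⟨v, rfl⟩
    rw [MonoidHom.mem_ker, hker]
    change ξ (ξ v * v) = ξ v * v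
    rw [map_mul, hinv, hcomm]
  have hm := f.ker.card_mul_index
  rw [Subgroup.index_ker] at hm
  change Nat.card f.ker * Nat.card f.range = Nat.card V at hm
  rw [h.card] at hm
  have hle : Nat.card f.range ≤ Nat.card f.ker := Subgroup.card_le_of_le hrk
  have hne1 : Nat.card f.range ≠ 1 := by
    intro h1'
    apply h1
    ext v
    have h3 : f.range = ⊥ := Subgroup.eq_bot_of_card_eq _ h1'
    have h4 : f v ∈ f.range := ⟨_, rfl⟩
    rw [h3, Subgroup.mem_bot, hker] at h4
    rw [h4]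
    rfl
  have hr2 : Nat.card f.range = 2 := by
    have h5 : Nat.card f.range ∣ 8 := ⟨_, by rw [mul_comm]; exact hm.symm⟩
    have h6 : Nat.card f.range ≤ 8 := Nat.le_of_dvd (by norm_num) h5
    interval_cases hN : Nat.card f.range <;> omega
  obtain ⟨c, hc1, hcu⟩ := (Nat.card_eq_two_iff' (1 : f.range)).1 hr2
  have hcr : (c : V) ∈ f.range := c.2
  refine ⟨(c : V), ?_, ?_, ?_⟩
  · intro h7
    exact hc1 (Subtype.ext h7)
  · exact (hker _).1 (hrk hcr)
  · intro v
    by_cases h8 : ξ v = v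
    · exact Or.inl h8
    · right
      have h9 : f v ≠ 1 := fun h10 => h8 ((hker _).1 h10)
      have h11 : (⟨f v, ⟨_, rfl⟩⟩ : f.range) = c :=
        hcu _ (fun h12 => h9 (congrArg Subtype.val h12))
      have h13 : ξ v * v = (c : V) := by rw [← h11]; rfl
      rw [← h13, hcomm (ξ v), ← mul_assoc, hsq, one_mul]

/-- Two automorphisms that agree on a basis are equal. -/
theorem Bas.ext_aut {V : Subgroup G} (h : Oct V) {x y w : G} (b : Bas V x y w) {φ ψ : MulAut V}
    (h1 : φ ⟨x, b.hx⟩ = ψ ⟨x, b.hx⟩) (h2 : φ ⟨y, b.hy⟩ = ψ ⟨y, b.hy⟩)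
    (h3 : φ ⟨w, b.hw⟩ = ψ ⟨w, b.hw⟩) : φ = ψ := by
  ext ⟨v, hv⟩
  have e1 : ∀ (p q : G) (hp : p ∈ V) (hq : q ∈ V), (⟨p * q, V.mul_mem hp hq⟩ : V) =
      ⟨p, hp⟩ * ⟨q, hq⟩ := fun p q hp hq => rfl
  rcases b.cases h hv with h0 | h0 | h0 | h0 | h0 | h0 | h0 | h0 <;> subst h0
  · have : (⟨1, hv⟩ : V) = 1 := rfl
    rw [this, map_one, map_one]
  · rw [h1]
  · rw [h2]
  · rw [e1 _ _ b.hx b.hy, map_mul, map_mul, h1, h2]
  · rw [h3]
  · rw [e1 _ _ b.hx b.hw, map_mul, map_mul, h1, h3]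
  · rw [e1 _ _ b.hy b.hw, map_mul, map_mul, h2, h3]
  · rw [e1 _ _ (V.mul_mem b.hx b.hy) b.hw, e1 _ _ b.hx b.hy, map_mul, map_mul, map_mul, map_mul,
      h1, h2, h3]

/-- Any nontrivial element is the first member of a basis. -/
theorem Oct.exists_mem {V : Subgroup G} (h : Oct V) (s : Finset G) (hs : s.card < 8) :
    ∃ v ∈ V, v ∉ s := by
  by_contra hcon
  push Not at hcon
  have h1 : (V : Set G) ⊆ (s : Set G) := fun v hv => hcon v hv
  have h2 := Set.ncard_le_ncard h1 (Finset.finite_toSet s)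
  rw [Set.ncard_coe_finset] at h2
  have h3 : Nat.card V = (V : Set G).ncard := rfl
  have := h.card
  omega

theorem Oct.exists_bas {V : Subgroup G} (h : Oct V) {x : G} (hx : x ∈ V) (hx1 : x ≠ 1) :
    ∃ y w, Bas V x y w := by
  classical
  obtain ⟨y, hy, hy'⟩ := h.exists_mem {1, x} (lt_of_le_of_lt (Finset.card_le_two) (by norm_num))
  have hy1 : y ≠ 1 := fun e => hy' (by rw [e]; exact Finset.mem_insert_self _ _)
  have hyx : y ≠ x := fun e => hy' (by
    rw [e]; exact Finset.mem_insert_of_mem (Finset.mem_singleton_self _))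
  obtain ⟨w, hw, hw'⟩ := h.exists_mem {1, x, y, x * y}
    (lt_of_le_of_lt (Finset.card_le_four) (by norm_num))
  simp only [Finset.mem_insert, Finset.mem_singleton, not_or] at hw'
  exact ⟨y, w, hx, hy, hw, hx1, hy1, hyx, hw'.1, hw'.2.1, hw'.2.2.1, hw'.2.2.2⟩

theorem Oct.exists_bas' {V : Subgroup G} (h : Oct V) {x y : G} (hx : x ∈ V) (hx1 : x ≠ 1)
    (hy : y ∈ V) (hy1 : y ≠ 1) (hyx : y ≠ x) : ∃ w, Bas V x y w := by
  classical
  obtain ⟨w, hw, hw'⟩ := h.exists_mem {1, x, y, x * y}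
    (lt_of_le_of_lt (Finset.card_le_four) (by norm_num))
  simp only [Finset.mem_insert, Finset.mem_singleton, not_or] at hw'
  exact ⟨w, hx, hy, hw, hx1, hy1, hyx, hw'.1, hw'.2.1, hw'.2.2.1, hw'.2.2.2⟩

theorem Bas.swap12 {V : Subgroup G} (h : Oct V) {x y w : G} (b : Bas V x y w) : Bas V y x w :=
  ⟨b.hy, b.hx, b.hw, b.y1, b.x1, b.yx.symm, b.w1, b.wy, b.wx, fun e => b.wxy (by
    rw [e, h.comm b.hy b.hx])⟩

theorem Bas.swap23 {V : Subgroup G} (h : Oct V) {x y w : G} (b : Bas V x y w) : Bas V x w y :=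
  ⟨b.hx, b.hw, b.hy, b.x1, b.w1, b.wx, b.y1, b.yx, b.wy.symm, fun e => b.wxy (by
    rw [e, ← mul_assoc, h.sq x b.hx, one_mul])⟩

theorem Bas.mulx {V : Subgroup G} (h : Oct V) {x y w : G} (b : Bas V x y w) :
    Bas V x y (w * x) := by
  refine ⟨b.hx, b.hy, V.mul_mem b.hw b.hx, b.x1, b.y1, b.yx, ?_, ?_, ?_, ?_⟩
  · intro e
    exact b.wx (h.eq_of_mul b.hx e)
  · intro e
    exact b.w1 (mul_eq_right.1 e)
  · intro e
    apply b.wxy
    rw [← e, h.comm b.hw b.hx, ← mul_assoc, h.sq x b.hx, one_mul]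
  · intro e
    apply b.wy
    rw [h.comm b.hw b.hx] at e
    exact mul_left_cancel e

theorem Bas.mul3x {V : Subgroup G} (h : Oct V) {x y w : G} (b : Bas V x y w) (k : ZMod 2) :
    Bas V x y (w * pw x k) := by
  rcases zmod2 k with rfl | rfl
  · simpa using b
  · simpa using b.mulx h

theorem Bas.mul3y {V : Subgroup G} (h : Oct V) {x y w : G} (b : Bas V x y w) (k : ZMod 2) :
    Bas V x y (w * pw y k) := ((b.swap12 h).mul3x h k).swap12 h

theorem Bas.mul2x {V : Subgroup G} (h : Oct V) {x y w : G} (b : Bas V x y w) (k : ZMod 2) :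
    Bas V x (y * pw x k) w := ((b.swap23 h).mul3x h k).swap23 h

theorem Bas.mul2w {V : Subgroup G} (h : Oct V) {x y w : G} (b : Bas V x y w) (k : ZMod 2) :
    Bas V x (y * pw w k) w := ((b.swap23 h).mul3y h k).swap23 h

theorem Bas.mul1y {V : Subgroup G} (h : Oct V) {x y w : G} (b : Bas V x y w) (k : ZMod 2) :
    Bas V (x * pw y k) y w := ((b.swap12 h).mul2x h k).swap12 h

theorem Bas.mul1w {V : Subgroup G} (h : Oct V) {x y w : G} (b : Bas V x y w) (k : ZMod 2) :
    Bas V (x * pw w k) y w := ((b.swap12 h).mul2w h k).swap12 h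

/-- A Sylow 2-subgroup of the automorphism group is the unitriangular group of a flag. -/
theorem Oct.flag {V : Subgroup G} (h : Oct V) (T : Subgroup (MulAut V)) (hT : Nat.card T = 8) :
    ∃ z a b : G, ∃ B : Bas V z a b,
      (∀ φ ∈ T, (φ ⟨z, B.hx⟩ : G) = z ∧ ((φ ⟨a, B.hy⟩ : G) = a ∨ (φ ⟨a, B.hy⟩ : G) = a * z)) ∧
      ∀ i j k : ZMod 2, ∃ φ ∈ T, (φ ⟨z, B.hx⟩ : G) = z ∧ (φ ⟨a, B.hy⟩ : G) = a * pw z i ∧
        (φ ⟨b, B.hw⟩ : G) = b * pw a j * pw z k := by
  haveI := h.simple_aut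
  haveI := h.finite_aut
  haveI : Fact (Nat.Prime 2) := ⟨Nat.prime_two⟩
  have hsq : ∀ a : V, a * a = 1 := fun a => Subtype.ext (h.sq a a.2)
  have hcomm : ∀ a b : V, a * b = b * a := fun a b => Subtype.ext (h.comm a.2 b.2)
  -- a central involution of `T`
  have hTp : IsPGroup 2 T := IsPGroup.of_card (n := 3) (by rw [hT]; norm_num)
  haveI : Nontrivial T := Finite.one_lt_card_iff_nontrivial.1 (by rw [hT]; norm_num)
  obtain ⟨ζ, hζ⟩ : ∃ ζ : T, orderOf ζ = 2 ∧ ζ ∈ Subgroup.center T := by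
    haveI := hTp.center_nontrivial
    have hcp : IsPGroup 2 (Subgroup.center T) := hTp.to_subgroup _
    obtain ⟨n, hn⟩ := IsPGroup.iff_card.1 hcp
    have hn0 : n ≠ 0 := by
      rintro rfl
      rw [pow_zero] at hn
      have := Finite.one_lt_card_iff_nontrivial.2 (inferInstance : Nontrivial (Subgroup.center T))
      omega
    obtain ⟨g, hg⟩ := exists_prime_orderOf_dvd_card' (G := Subgroup.center T) 2
      (by rw [hn]; exact dvd_pow_self 2 hn0)
    exact ⟨g, by rw [Subgroup.orderOf_coe]; exact hg, g.2⟩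
  set ξ : MulAut V := (ζ : MulAut V) with hξdef
  have hξ2 : orderOf ξ = 2 := by rw [hξdef, Subgroup.orderOf_coe]; exact hζ.1
  have hξξ : ξ * ξ = 1 := by rw [← pow_two, ← hξ2, pow_orderOf_eq_one]
  have hξ1 : ξ ≠ 1 := by
    intro h1
    rw [h1, orderOf_one] at hξ2
    omega
  have hcard := Cfsg.Agent.SmallSimple.Simple168Classes.card_centralizer_two h.card_aut ξ hξ2
  have hTle : T ≤ Subgroup.centralizer {ξ} := by
    intro φ hφ
    rw [Subgroup.mem_centralizer_singleton_iff]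
    exact congrArg Subtype.val (Subgroup.mem_center_iff.1 hζ.2 ⟨φ, hφ⟩)
  have hTeq : T = Subgroup.centralizer {ξ} :=
    Subgroup.eq_of_le_of_card_ge hTle (by rw [hT, hcard])
  obtain ⟨c, hc1, hcc, hc⟩ := h.trans_aut hξξ hξ1
  -- choose the basis
  obtain ⟨b, hb⟩ : ∃ b : V, ξ b ≠ b := by
    by_contra hcon
    push Not at hcon
    exact hξ1 (MulEquiv.ext hcon)
  have hbc : ξ b = b * c := (hc b).resolve_left hb
  have hb1 : b ≠ 1 := by rintro rfl; exact hb (map_one _)
  have hbne : b ≠ c := by rintro rfl; exact hb hcc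
  obtain ⟨a0, hB0⟩ := h.exists_bas' c.2 (fun h1 => hc1 (Subtype.ext h1)) b.2
    (fun h1 => hb1 (Subtype.ext h1)) (fun h1 => hbne (Subtype.ext h1))
  -- `a` fixed by `ξ`, outside `⟨c⟩`
  obtain ⟨a, haV, hfix, hBas⟩ : ∃ (a : G) (haV : a ∈ V), ξ ⟨a, haV⟩ = ⟨a, haV⟩ ∧
      Bas V (c : G) a (b : G) := by
    have B0 : Bas V (c : G) a0 (b : G) := by
      refine ⟨c.2, hB0.hw, b.2, hB0.x1, hB0.w1, hB0.wx, hB0.y1, hB0.yx, Ne.symm hB0.wy, ?_⟩
      intro e
      apply hB0.wxy
      rw [e, ← mul_assoc, h.sq c c.2, one_mul]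
    rcases hc ⟨a0, hB0.hw⟩ with h1 | h1
    · exact ⟨a0, hB0.hw, h1, B0⟩
    · refine ⟨a0 * b, V.mul_mem hB0.hw b.2, ?_, ?_⟩
      · have e1 : (⟨a0 * b, V.mul_mem hB0.hw b.2⟩ : V) = ⟨a0, hB0.hw⟩ * b := rfl
        rw [e1, map_mul, h1, hbc]
        calc (⟨a0, hB0.hw⟩ : V) * c * (b * c) = ⟨a0, hB0.hw⟩ * (c * b) * c := by group
          _ = ⟨a0, hB0.hw⟩ * (b * c) * c := by rw [hcomm c b]
          _ = ⟨a0, hB0.hw⟩ * b * (c * c) := by group
          _ = _ := by rw [hsq, mul_one]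
      · refine ⟨c.2, V.mul_mem hB0.hw b.2, b.2, hB0.x1, ?_, ?_, hB0.y1, hB0.yx, ?_, ?_⟩
        · intro e
          exact hB0.wy (h.eq_of_mul b.2 e)
        · intro e
          apply hB0.wxy
          rw [← e, mul_assoc, h.sq b b.2, mul_one]
        · intro e
          apply hB0.w1
          exact (mul_eq_right.1 e.symm)
        · intro e
          apply hB0.wx
          have e2 : (c : G) * (a0 * b) = (c * a0) * b := by group
          rw [e2] at e
          have e3 : (c : G) * a0 = 1 := mul_eq_right.1 e.symm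
          exact (h.eq_of_mul hB0.hw e3).symm
  have hba : ξ ⟨b, b.2⟩ = ⟨b, b.2⟩ * c := hbc
  refine ⟨(c : G), a, (b : G), hBas, ?_, ?_⟩
  · intro φ hφ
    have hφξ : ∀ v, φ (ξ v) = ξ (φ v) := by
      rw [hTeq, Subgroup.mem_centralizer_singleton_iff] at hφ
      intro v
      exact congrArg (fun ψ : MulAut V => ψ v) hφ
    have h1 : φ c = c := by
      have h2 := hφξ b
      rw [hbc, map_mul] at h2
      rcases hc (φ b) with h3 | h3
      · rw [h3] at h2
        have h4 : φ c = 1 := mul_eq_left.1 h2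
        exact absurd ((map_eq_one_iff φ φ.injective).1 h4) hc1
      · rw [h3] at h2
        exact mul_left_cancel h2
    refine ⟨congrArg Subtype.val h1, ?_⟩
    have h5 : ξ (φ ⟨a, haV⟩) = φ ⟨a, haV⟩ := by rw [← hφξ, hfix]
    have h6 : ∀ v : V, ξ v = v → (v : G) = 1 ∨ (v : G) = c ∨ (v : G) = a ∨ (v : G) = a * c := by
      intro v hv
      have hξm : ∀ u w : V, ξ u = u → ξ w = w → ξ (u * w) = u * w := by
        intro u w hu hw
        rw [map_mul, hu, hw]
      rcases hBas.cases h v.2 with h0 | h0 | h0 | h0 | h0 | h0 | h0 | h0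
      · exact Or.inl h0
      · exact Or.inr (Or.inl h0)
      · exact Or.inr (Or.inr (Or.inl h0))
      · refine Or.inr (Or.inr (Or.inr ?_))
        rw [h0, h.comm c.2 haV]
      · exact absurd (by have e : v = b := Subtype.ext h0
                         rw [← e]; exact hv) hb
      · exfalso
        apply hb
        have e : b = c * v := by
          apply Subtype.ext
          rw [Subgroup.coe_mul, h0, ← mul_assoc, h.sq c c.2, one_mul]
        rw [e]
        exact hξm c v hcc hv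
      · exfalso
        apply hb
        have e : b = ⟨a, haV⟩ * v := by
          apply Subtype.ext
          rw [Subgroup.coe_mul, h0, ← mul_assoc, h.sq a haV, one_mul]
        rw [e]
        exact hξm _ v hfix hv
      · exfalso
        apply hb
        have e : b = (c * ⟨a, haV⟩) * v := by
          apply Subtype.ext
          rw [Subgroup.coe_mul, h0, ← mul_assoc, Subgroup.coe_mul,
            h.sq _ (V.mul_mem c.2 haV), one_mul]
        rw [e]
        exact hξm _ v (hξm _ _ hcc hfix) hv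
    rcases h6 _ h5 with h7 | h7 | h7 | h7
    · exfalso
      have h8 : φ ⟨a, haV⟩ = 1 := Subtype.ext h7
      exact hBas.y1 (congrArg Subtype.val ((map_eq_one_iff φ φ.injective).1 h8))
    · exfalso
      have h8 : φ ⟨a, haV⟩ = φ c := by rw [h1]; exact Subtype.ext h7
      exact hBas.yx (congrArg Subtype.val (φ.injective h8))
    · exact Or.inl h7
    · exact Or.inr h7
  · intro i j k
    have hzV : pw (c : G) i ∈ V := pw_mem c.2 i
    have haj : pw a j ∈ V := pw_mem haV j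
    have hzk : pw (c : G) k ∈ V := pw_mem c.2 k
    have hBas' : Bas V (c : G) (a * pw (c : G) i) ((b : G) * pw a j * pw (c : G) k) :=
      ((hBas.mul3y h j).mul3x h k).mul2x h i
    obtain ⟨φ, h1, h2, h3⟩ := hBas.exists_aut h hBas'
    refine ⟨φ, ?_, congrArg Subtype.val h1, congrArg Subtype.val h2, congrArg Subtype.val h3⟩
    rw [hTeq, Subgroup.mem_centralizer_singleton_iff]
    have hpc : ∀ i, ξ ⟨pw (c : G) i, pw_mem c.2 i⟩ = ⟨pw (c : G) i, pw_mem c.2 i⟩ := by
      intro i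
      rcases zmod2 i with rfl | rfl
      · have e : (⟨pw (c : G) 0, pw_mem c.2 0⟩ : V) = 1 := Subtype.ext (by simp)
        rw [e, map_one]
      · have e : (⟨pw (c : G) 1, pw_mem c.2 1⟩ : V) = c := Subtype.ext (by simp)
        rw [e, hcc]
    have hpa : ξ ⟨pw a j, haj⟩ = ⟨pw a j, haj⟩ := by
      rcases zmod2 j with rfl | rfl
      · have e : (⟨pw a 0, haj⟩ : V) = 1 := Subtype.ext (by simp)
        rw [e, map_one]
      · have e : (⟨pw a 1, haj⟩ : V) = ⟨a, haV⟩ := Subtype.ext (by simp)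
        rw [e, hfix]
    refine hBas.ext_aut h ?_ ?_ ?_
    · change φ (ξ c) = ξ (φ c)
      have h1' : φ c = c := h1
      rw [hcc, h1', hcc]
    · change φ (ξ ⟨a, haV⟩) = ξ (φ ⟨a, haV⟩)
      rw [hfix, h2]
      have e : (⟨a * pw (c : G) i, V.mul_mem haV hzV⟩ : V) = ⟨a, haV⟩ * ⟨pw (c : G) i, hzV⟩ := rfl
      rw [e, map_mul, hfix, hpc i]
    · change φ (ξ b) = ξ (φ b)
      have h3' : φ b = b * ⟨pw a j, haj⟩ * ⟨pw (c : G) k, hzk⟩ := h3
      have h1' : φ c = c := h1
      rw [hbc, map_mul, h3', h1', map_mul, map_mul, hpa, hpc k, hbc]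
      calc b * ⟨pw a j, haj⟩ * ⟨pw (c : G) k, hzk⟩ * c
          = b * (⟨pw a j, haj⟩ * ⟨pw (c : G) k, hzk⟩ * c) := by group
        _ = b * (c * (⟨pw a j, haj⟩ * ⟨pw (c : G) k, hzk⟩)) := by
            rw [hcomm (⟨pw a j, haj⟩ * ⟨pw (c : G) k, hzk⟩) c]
        _ = _ := by group

end Cfsg.Agent.StdL2.G23Aut
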