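import Cfsg.Agent.StdL2.ExcUp

/-!
# The exceptional case above the bottom of the tower: the Sylow 2-subgroup

`|S| = 16 |W|`, `S / (W ∪ tW)` is dihedral of order 8, and `S` has a subgroup of index two
containing `W` and no conjugate of `t`.
-/

set_option autoImplicit false
set_option linter.unusedSectionVars false

namespace Cfsg.Agent.StdL2

open scoped commutatorElement

open G23Aut G23Loc

universe u

variable {G : Type u} [Group G]

namespace Exc

variable [Finite G] {t d : G} {V W : Subgroup G} {k : ℕ}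

/-- `N` normalises `V`. -/
theorem norm_V (L : Lv t d V W k) {x : G} (hx : x ∈ Subgroup.normalizer (W : Set G)) :
    x ∈ Subgroup.normalizer (V : Set G) := by
  apply mem_norm_of_le
  intro v hv
  apply L.om _ ((Subgroup.mem_normalizer_iff.1 hx v).1 (L.VW hv))
  have h1 : x * v * x⁻¹ * (x * v * x⁻¹) = x * (v * v) * x⁻¹ := by group
  rw [h1, L.vsq v hv, mul_one, mul_inv_cancel]

theorem ES.le_norm_V {X : Exc t d V W k} {S : Subgroup G} (hS : X.ES S) :
    S ≤ Subgroup.normalizer (V : Set G) := fun _ hs => norm_V X.lv (hS.le hs).1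

theorem orbit_N (H : TCen t V) (X : Exc t d V W k) :
    ({y | ∃ m ∈ towerN t W, m * t * m⁻¹ = y} : Set G) = (fun w => t * w) '' (W : Set G) := by
  have L := X.lv
  ext y
  constructor
  · rintro ⟨m, hm, rfl⟩
    refine ⟨⁅m, t⁆⁻¹, inv_mem hm.2, ?_⟩
    show t * ⁅m, t⁆⁻¹ = m * t * m⁻¹
    rw [← L.w_t H.t2 hm.2, commutatorElement_def]
    group
  · rintro ⟨w, hw, rfl⟩
    obtain ⟨m, hm, h⟩ := X.N_trans H w hw
    exact ⟨m, hm, h⟩

theorem ES.relIndex (H : TCen t V) {X : Exc t d V W k} {S : Subgroup G} (hS : X.ES S) :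
    (Subgroup.centralizer ({t} : Set G)).relIndex S = Nat.card W := by
  classical
  have L := X.lv
  set M := towerN t W with hM
  have hOM := X.orbit_N H
  have h1 := ncard_orbit' M t
  rw [hOM, Set.ncard_image_of_injective _ (mul_right_injective t)] at h1
  have h2 := ncard_orbit' S t
  have hsub : ({y | ∃ s ∈ S, s * t * s⁻¹ = y} : Set G) ⊆ (fun w => t * w) '' (W : Set G) := by
    rw [← hOM]
    rintro y ⟨s, hs, h⟩
    exact ⟨s, hS.le hs, h⟩
  have hcardW : (W : Set G).ncard = Nat.card W := rfl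
  obtain ⟨n, hn⟩ := IsPGroup.iff_card.1 L.W_pgroup
  have h3 : (Subgroup.centralizer {t} ⊓ S).relIndex S * S.relIndex M =
      (Subgroup.centralizer {t} ⊓ S).relIndex M :=
    Subgroup.relIndex_mul_relIndex _ _ _ inf_le_right hS.le
  have h4 : (Subgroup.centralizer {t} ⊓ S).relIndex (Subgroup.centralizer {t} ⊓ M) *
      (Subgroup.centralizer {t} ⊓ M).relIndex M =
      (Subgroup.centralizer {t} ⊓ S).relIndex M :=
    Subgroup.relIndex_mul_relIndex _ _ _ (inf_le_inf_left _ hS.le) inf_le_right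
  rw [Subgroup.inf_relIndex_right] at h3 h4
  have h5 : 2 ^ n ∣ (Subgroup.centralizer {t}).relIndex S * S.relIndex M := by
    rw [h3, ← h4, ← hn, ← hcardW, h1]
    exact Dvd.intro_left _ rfl
  have h6 : Nat.Coprime (2 ^ n) (S.relIndex M) := by
    apply Nat.Coprime.pow_left
    exact (Nat.Prime.coprime_iff_not_dvd Nat.prime_two).2 hS.odd
  have h7 : 2 ^ n ∣ (Subgroup.centralizer {t}).relIndex S := h6.dvd_of_dvd_mul_right h5
  have hpos : 0 < (Subgroup.centralizer {t}).relIndex S := by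
    rw [← h2]
    apply (Set.ncard_pos (Set.toFinite _)).2
    exact ⟨t, 1, one_mem _, by group⟩
  have h8 : (Subgroup.centralizer {t}).relIndex S ≤ Nat.card W := by
    rw [← h2, ← hcardW, ← Set.ncard_image_of_injective (W : Set G) (mul_right_injective t)]
    exact Set.ncard_le_ncard hsub (Set.toFinite _)
  exact le_antisymm h8 (hn ▸ Nat.le_of_dvd hpos h7)

/-- `S` is transitive on `t W`. -/
theorem ES.trans (H : TCen t V) {X : Exc t d V W k} {S : Subgroup G} (hS : X.ES S) :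
    ∀ w ∈ W, ∃ s ∈ S, s * t * s⁻¹ = t * w := by
  have hsub : ({y | ∃ s ∈ S, s * t * s⁻¹ = y} : Set G) ⊆ (fun w => t * w) '' (W : Set G) := by
    rw [← X.orbit_N H]
    rintro y ⟨s, hs, h⟩
    exact ⟨s, hS.le hs, h⟩
  have h9 := Set.eq_of_subset_of_ncard_le hsub (by
    rw [ncard_orbit' S t, hS.relIndex H, Set.ncard_image_of_injective _ (mul_right_injective t)]
    exact le_rfl) (Set.toFinite _)
  intro w hw
  have h10 : t * w ∈ (fun w => t * w) '' (W : Set G) := ⟨w, hw, rfl⟩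
  rw [← h9] at h10
  exact h10

theorem ES.inf_cent (H : TCen t V) {X : Exc t d V W k} {S : Subgroup G} (hS : X.ES S) :
    Subgroup.centralizer ({t} : Set G) ⊓ S = H.E := by
  have L := X.lv
  apply le_antisymm
  · intro x hx
    exact H.syl (Subgroup.centralizer ({t} : Set G) ⊓ S) (hS.pg.to_le inf_le_right)
      (fun z hz => (Subgroup.mem_centralizer_singleton_iff.1 hz.1).symm)
      (fun v hv => ⟨Subgroup.mem_centralizer_singleton_iff.2 (H.vt v hv).symm, hS.WS (L.VW hv)⟩)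
      ⟨Subgroup.mem_centralizer_singleton_iff.2 rfl, hS.tS⟩ x hx
  · intro x hx
    refine ⟨Subgroup.mem_centralizer_singleton_iff.2 (H.E_comm hx).symm, ?_⟩
    rcases hx with h | h
    · exact hS.WS (L.VW h)
    · rw [Lv.eq_t_mul H.t2 x]
      exact S.mul_mem hS.tS (hS.WS (L.VW h))

/-- `|S| = 16 |W|`. -/
theorem ES.card (H : TCen t V) {X : Exc t d V W k} {S : Subgroup G} (hS : X.ES S) :
    Nat.card S = 16 * Nat.card W := by
  have h1 := ((Subgroup.centralizer ({t} : Set G)).subgroupOf S).card_mul_index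
  rw [card_inf_eq, hS.inf_cent H, H.card_E, X.oct] at h1
  have h2 : ((Subgroup.centralizer ({t} : Set G)).subgroupOf S).index = Nat.card W := hS.relIndex H
  rw [h2] at h1
  rw [← h1]

theorem ES.sq_mem (H : TCen t V) {X : Exc t d V W k} {S : Subgroup G} (hS : X.ES S) {s : G}
    (hs : s ∈ S) (h : ∀ v ∈ V, (s * s) * v * (s * s)⁻¹ = v) : s * s ∈ W := by
  rcases hS.mem_Q H (S.mul_mem hs hs) h with h1 | h1
  · exact h1
  · exfalso
    obtain ⟨n, hn, h2⟩ := X.N_trans H _ h1
    rw [← Lv.eq_t_mul H.t2] at h2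
    apply H.not_sq (n⁻¹ * s * n)
    have h3 : n⁻¹ * s * n * (n⁻¹ * s * n) = n⁻¹ * (s * s) * n := by group
    rw [h3, ← h2]
    group

theorem card_Q (L : Lv t d V W k) (H : TCen t V) : Nat.card (L.Q H.t2) = 2 * Nat.card W := by
  classical
  have ht2 := H.t2
  have h1 : (L.Q ht2 : Set G) = (W : Set G) ∪ ((fun x => t * x) '' (W : Set G)) := by
    ext x
    constructor
    · rintro (h | h)
      · exact Or.inl h
      · right
        exact ⟨t * x, h, by show t * (t * x) = x; rw [← mul_assoc, H.t2, one_mul]⟩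
    · rintro (h | ⟨y, hy, rfl⟩)
      · exact Or.inl h
      · right
        show t * (t * y) ∈ W
        rw [← mul_assoc, H.t2, one_mul]
        exact hy
  have h2 : Disjoint (W : Set G) ((fun x => t * x) '' (W : Set G)) := by
    rw [Set.disjoint_left]
    rintro _ h ⟨y, hy, rfl⟩
    exact L.tw_notMem H hy h
  have h3 : Nat.card (L.Q ht2) = (L.Q ht2 : Set G).ncard := rfl
  have h4 : Nat.card W = (W : Set G).ncard := rfl
  rw [h3, h1, Set.ncard_union_eq h2 (Set.toFinite _) (Set.toFinite _),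
    Set.ncard_image_of_injective _ (mul_right_injective t), h4, two_mul]

theorem ES.card_inf {X : Exc t d V W k} (H : TCen t V) {S : Subgroup G} (hS : X.ES S) :
    Nat.card (S ⊓ Subgroup.centralizer (V : Set G) : Subgroup G) = 2 * Nat.card W := by
  have L := X.lv
  have h1 : (S ⊓ Subgroup.centralizer (V : Set G) : Subgroup G) = L.Q H.t2 := by
    apply le_antisymm
    · intro x hx
      exact hS.mem_Q H hx.1 (fun v hv => by
        have h2 := Subgroup.mem_centralizer_iff.1 hx.2 v hv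
        rw [← h2, mul_inv_cancel_right])
    · intro x hx
      rcases hx with h | h
      · refine ⟨hS.WS h, Subgroup.mem_centralizer_iff.2 ?_⟩
        intro v hv
        exact L.comm v (L.VW hv) x h
      · refine ⟨?_, Subgroup.mem_centralizer_iff.2 ?_⟩
        · rw [Lv.eq_t_mul H.t2 x]
          exact S.mul_mem hS.tS (hS.WS h)
        · intro v hv
          rw [Lv.eq_t_mul H.t2 x, ← mul_assoc v t, ← H.vt v hv, mul_assoc t v,
            L.comm v (L.VW hv) _ h, ← mul_assoc t]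
  rw [h1, card_Q L H]

theorem ES.card_img {X : Exc t d V W k} (H : TCen t V) {S : Subgroup G} (hS : X.ES S) :
    Nat.card (img S V) = 8 := by
  have h1 := card_img_mul hS.le_norm_V
  rw [hS.card_inf H, hS.card H] at h1
  have h2 : 0 < Nat.card W := Nat.card_pos
  nlinarith

theorem octV (H : TCen t V) (X : Exc t d V W k) : Oct V := ⟨X.oct, H.vsq⟩

/-- An index 2 subgroup of `S` containing `W` but not `t`. -/
theorem ES.exists_U0 (H : TCen t V) {X : Exc t d V W k} {S : Subgroup G} (hS : X.ES S) :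
    ∃ U₀ : Subgroup G, U₀ ≤ S ∧ W ≤ U₀ ∧ t ∉ U₀ ∧ U₀.relIndex S = 2 := by
  have L := X.lv
  have hO := X.octV H
  obtain ⟨z, a, b, F⟩ := exists_flag hO hS.le_norm_V (hS.card_img H)
  obtain ⟨u₁, hu₁, z1, a1, b1⟩ := F.ex 0 1 0
  obtain ⟨u₂, hu₂, z2, a2, b2⟩ := F.ex 1 0 0
  simp only [pw_zero, pw_one, mul_one] at a1 b1 a2 b2
  have hzV := F.bas.hx
  have haV := F.bas.hy
  have hbV := F.bas.hw
  have e : ∀ g p q : G, g * (p * q) * g⁻¹ = (g * p * g⁻¹) * (g * q * g⁻¹) := by
    intro g p q; group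
  have ecomp : ∀ g g' p : G, (g * g') * p * (g * g')⁻¹ = g * (g' * p * g'⁻¹) * g⁻¹ := by
    intro g g' p; group
  have sqz := hO.sq z hzV
  have sqa := hO.sq a haV
  -- the product
  set r := u₁ * u₂ with hr
  have rz : r * z * r⁻¹ = z := by rw [hr, ecomp, z2, z1]
  have ra : r * a * r⁻¹ = a * z := by rw [hr, ecomp, a2, e, a1, z1]
  have rb : r * b * r⁻¹ = b * a := by rw [hr, ecomp, b2, b1]
  have r2z : (r * r) * z * (r * r)⁻¹ = z := by rw [ecomp, rz, rz]
  have r2a : (r * r) * a * (r * r)⁻¹ = a := by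
    rw [ecomp, ra, e, ra, rz, mul_assoc, sqz, mul_one]
  have r2b : (r * r) * b * (r * r)⁻¹ = b * z := by
    rw [ecomp, rb, e, rb, ra, mul_assoc, ← mul_assoc a a z, sqa, one_mul]
  have hSV := hS.le_norm_V
  -- squares
  have hu1 : u₁ * u₁ ∈ W := by
    apply hS.sq_mem H hu₁
    apply Bas.fix hO F.bas
    · rw [ecomp, z1, z1]
    · rw [ecomp, a1, a1]
    · rw [ecomp, b1, e, b1, a1, mul_assoc, sqa, mul_one]
  have hu2 : u₂ * u₂ ∈ W := by
    apply hS.sq_mem H hu₂
    apply Bas.fix hO F.bas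
    · rw [ecomp, z2, z2]
    · rw [ecomp, a2, e, a2, z2, mul_assoc, sqz, mul_one]
    · rw [ecomp, b2, b2]
  have hrS : r ∈ S := S.mul_mem hu₁ hu₂
  have hr4 : (r * r) * (r * r) ∈ W := by
    apply hS.sq_mem H (S.mul_mem hrS hrS)
    apply Bas.fix hO F.bas
    · rw [ecomp, r2z, r2z]
    · rw [ecomp, r2a, r2a]
    · rw [ecomp, r2b, e, r2b, r2z, mul_assoc, sqz, mul_one]
  -- the quotient `S / W`
  have hWS := hS.WS
  haveI hnorm : (W.subgroupOf S).Normal := by
    rw [Subgroup.normal_subgroupOf_iff_le_normalizer hWS]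
    exact fun s hs => (hS.le hs).1
  let ρ : S →* MulAut V := V.normalizerMonoidHom.comp (Subgroup.inclusion hSV)
  have hρ : ∀ (s : S) (v : V), ((ρ s v : V) : G) = (s : G) * v * (s : G)⁻¹ := fun s v => rfl
  let f : S ⧸ W.subgroupOf S →* MulAut V := QuotientGroup.lift _ ρ (by
    intro s hs
    ext v
    rw [hρ]
    have hsV : (s : G) ∈ W := Subgroup.mem_subgroupOf.1 hs
    rw [L.comm _ hsV _ (L.VW v.2)]
    change (v : G) * s * (s : G)⁻¹ = v
    group)
  have hf : ∀ s : S, f (QuotientGroup.mk s) = ρ s := fun s => rfl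
  have hQ : Nat.card (S ⧸ W.subgroupOf S) = 16 := by
    have h1 := (W.subgroupOf S).card_mul_index
    rw [Nat.card_congr (Subgroup.subgroupOfEquivOfLe hWS).toEquiv, hS.card H] at h1
    change (W.subgroupOf S).index = 16
    have h2 : 0 < Nat.card W := Nat.card_pos
    nlinarith
  have hmk1 : ∀ (g : G) (hg : g ∈ S), g ∈ W →
      (QuotientGroup.mk (⟨g, hg⟩ : S) : S ⧸ W.subgroupOf S) = 1 := by
    intro g hg hgV
    exact (QuotientGroup.eq_one_iff _).2 (Subgroup.mem_subgroupOf.2 hgV)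
  have htS : t ∈ S := hS.tS
  obtain ⟨M, hM2, hMt⟩ := exists_index_two f hQ (QuotientGroup.mk ⟨t, htS⟩) (by
      intro h1
      exact L.t_notMem H (Subgroup.mem_subgroupOf.1 ((QuotientGroup.eq_one_iff _).1 h1)))
    (by
      rw [hf]
      ext v
      rw [hρ]
      change t * (v : G) * t⁻¹ = v
      rw [H.vt _ v.2, mul_inv_cancel_right])
    (QuotientGroup.mk ⟨u₁, hu₁⟩) (QuotientGroup.mk ⟨u₂, hu₂⟩)
    (by rw [← QuotientGroup.mk_mul]; exact hmk1 _ (S.mul_mem hu₁ hu₁) hu1)
    (by rw [← QuotientGroup.mk_mul]; exact hmk1 _ (S.mul_mem hu₂ hu₂) hu2)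
    (by
      rw [← QuotientGroup.mk_mul]
      have e4 : ((QuotientGroup.mk ((⟨u₁, hu₁⟩ : S) * ⟨u₂, hu₂⟩)) : S ⧸ W.subgroupOf S) ^ 4 =
          QuotientGroup.mk (⟨(r * r) * (r * r), S.mul_mem (S.mul_mem hrS hrS) (S.mul_mem hrS hrS)⟩ : S) := by
        rw [← QuotientGroup.mk_pow]
        congr 1
        apply Subtype.ext
        change r ^ 4 = _
        rw [show (4 : ℕ) = 2 + 2 by norm_num, pow_add, pow_two]
      rw [e4]
      exact hmk1 _ _ hr4)
    (by
      intro h1
      rw [← QuotientGroup.mk_mul, ← map_pow, ← QuotientGroup.mk_pow, hf] at h1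
      have h2 := congrArg (fun φ : MulAut V => ((φ ⟨b, hbV⟩ : V) : G)) h1
      simp only [hρ] at h2
      have h3 : r ^ 2 * b * (r ^ 2)⁻¹ = b := h2
      rw [pow_two, r2b] at h3
      exact F.bas.x1 (mul_eq_left.1 h3))
  -- pull back
  let M' : Subgroup S := M.comap (QuotientGroup.mk' _)
  have hM' : M'.index = 2 := by
    rw [Subgroup.index_comap_of_surjective _ (QuotientGroup.mk'_surjective _), hM2]
  refine ⟨M'.map S.subtype, ?_, ?_, ?_, ?_⟩
  · rintro _ ⟨s, -, rfl⟩
    exact s.2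
  · intro v hv
    refine ⟨⟨v, hWS hv⟩, ?_, rfl⟩
    change QuotientGroup.mk (⟨v, hWS hv⟩ : S) ∈ M
    rw [hmk1 v (hWS hv) hv]
    exact M.one_mem
  · rintro ⟨s, hs, hst⟩
    apply hMt
    have : s = ⟨t, htS⟩ := Subtype.ext hst
    rw [← this]
    exact hs
  · rw [← hM', Subgroup.relIndex]
    congr 1
    ext s
    rw [Subgroup.mem_subgroupOf, Subgroup.mem_map]
    constructor
    · rintro ⟨s', hs', hss⟩
      have : s' = s := Subtype.ext hss
      rwa [← this]
    · intro hs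
      exact ⟨s, hs, rfl⟩

/-- No conjugate of `t` lies in `U₀`. -/
theorem ES.noconj (H : TCen t V) {X : Exc t d V W k} (hk : 1 ≤ k) {S : Subgroup G}
    (hS : X.ES S) {U₀ : Subgroup G} (hU : U₀ ≤ S) (hWU : W ≤ U₀) (ht : t ∉ U₀) (g : G) :
    g * t * g⁻¹ ∉ U₀ := by
  intro h
  have h1 := hS.conj_mem H hk (hU h)
  apply ht
  have h2 : t = (g * t * g⁻¹) * (t * (g * t * g⁻¹))⁻¹ := by
    have h3 : (g * t * g⁻¹)⁻¹ = g * t * g⁻¹ := by
      apply inv_eq_of_mul_eq_one_right
      have h4 : g * t * g⁻¹ * (g * t * g⁻¹) = g * (t * t) * g⁻¹ := by group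
      rw [h4, H.t2, mul_one, mul_inv_cancel]
    rw [mul_inv_rev, ← mul_assoc, mul_inv_cancel, one_mul]
    exact (inv_eq_of_mul_eq_one_right H.t2).symm
  rw [h2]
  exact U₀.mul_mem h (U₀.inv_mem (hWU h1))

end Exc

end Cfsg.Agent.StdL2
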