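import Mathlib
import Cfsg.Agent.StdL2.G23Aut
import Cfsg.Agent.StdL2.G23Coset

/-!
S1773, case q = 8, N(E)/C(E) = L3(2): the 2-local structure around `E = ⟨t⟩ × V`.
-/

set_option autoImplicit false
set_option linter.style.haveILetI false
set_option linter.unusedSectionVars false

namespace Cfsg.Agent.StdL2.G23Loc

open G23Aut G23Coset

variable {G : Type*} [Group G]

/-- The local hypotheses. -/
structure Loc (t : G) (V : Subgroup G) : Prop where
  oct : Oct V
  tt : t * t = 1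
  comm : ∀ v ∈ V, t * v = v * t
  tnV : t ∉ V
  syl : ¬ 32 ∣ Nat.card (Subgroup.centralizer ({t} : Set G))
  conj1 : ∀ n ∈ Subgroup.normalizer ((V ⊔ Subgroup.zpowers t : Subgroup G) : Set G),
    ∃ v ∈ V, n * t * n⁻¹ = t * v
  conj2 : ∀ v ∈ V, ∃ n ∈ Subgroup.normalizer ((V ⊔ Subgroup.zpowers t : Subgroup G) : Set G),
    n * t * n⁻¹ = t * v
  cent : ∀ n ∈ Subgroup.normalizer ((V ⊔ Subgroup.zpowers t : Subgroup G) : Set G),
    (∀ v ∈ V, n * v = v * n) → n * t = t * n
  seven : ∃ n ∈ Subgroup.normalizer ((V ⊔ Subgroup.zpowers t : Subgroup G) : Set G),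
    (∃ v ∈ V, n * v ≠ v * n) ∧ ∀ v ∈ V, n ^ 7 * v = v * n ^ 7

variable {t : G} {V : Subgroup G}

namespace Loc

/-- `E = ⟨t⟩ × V` -/
abbrev E (_ : Loc t V) : Subgroup G := V ⊔ Subgroup.zpowers t

/-- the normaliser of `E` -/
abbrev N (h : Loc t V) : Subgroup G := Subgroup.normalizer (h.E : Set G)

theorem tinv (h : Loc t V) : t⁻¹ = t := inv_eq_of_mul_eq_one_left h.tt

theorem t1 (h : Loc t V) : t ≠ 1 := fun e => h.tnV (e ▸ V.one_mem)

theorem tconj (h : Loc t V) {v : G} (hv : v ∈ V) : t * v * t⁻¹ = v := by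
  rw [h.comm v hv]; group

theorem zpowers_le_norm (h : Loc t V) : Subgroup.zpowers t ≤ Subgroup.normalizer (V : Set G) := by
  rw [Subgroup.zpowers_le, Subgroup.mem_normalizer_iff]
  intro v
  constructor
  · intro hv
    rw [h.tconj hv]
    exact hv
  · intro hv
    have h1 := h.tconj hv
    rw [show t * (t * v * t⁻¹) * t⁻¹ = (t * t) * v * (t * t)⁻¹ by group, h.tt] at h1
    simp only [one_mul, inv_one, mul_one] at h1
    rw [h1]
    exact hv

theorem mem_zpowers_t (h : Loc t V) {g : G} : g ∈ Subgroup.zpowers t ↔ g = 1 ∨ g = t := by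
  constructor
  · rintro ⟨k, rfl⟩
    have h2 : t ^ (2 : ℤ) = 1 := by
      rw [show (2 : ℤ) = 1 + 1 by norm_num, zpow_add, zpow_one, h.tt]
    rcases Int.even_or_odd' k with ⟨m, rfl | rfl⟩
    · left
      change t ^ (2 * m) = 1
      rw [zpow_mul, h2, one_zpow]
    · right
      change t ^ (2 * m + 1) = t
      rw [zpow_add, zpow_mul, h2, one_zpow, one_mul, zpow_one]
  · rintro (rfl | rfl)
    · exact Subgroup.one_mem _
    · exact Subgroup.mem_zpowers _

theorem mem_E (h : Loc t V) {g : G} : g ∈ h.E ↔ g ∈ V ∨ ∃ v ∈ V, g = t * v := by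
  change g ∈ V ⊔ Subgroup.zpowers t ↔ _
  rw [sup_comm, mem_sup_iff h.zpowers_le_norm]
  constructor
  · rintro ⟨x, hx, y, hy, rfl⟩
    rcases h.mem_zpowers_t.1 hx with rfl | rfl
    · left; rwa [one_mul]
    · exact Or.inr ⟨y, hy, rfl⟩
  · rintro (hg | ⟨v, hv, rfl⟩)
    · exact ⟨1, Subgroup.one_mem _, g, hg, one_mul _⟩
    · exact ⟨t, Subgroup.mem_zpowers _, v, hv, rfl⟩

theorem VE (h : Loc t V) : V ≤ h.E := le_sup_left

theorem tE (h : Loc t V) : t ∈ h.E := Subgroup.mem_sup_right (Subgroup.mem_zpowers t)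

theorem tvE (h : Loc t V) {v : G} (hv : v ∈ V) : t * v ∈ h.E := h.E.mul_mem h.tE (h.VE hv)

theorem tv_not_mem (h : Loc t V) {v : G} (hv : v ∈ V) : t * v ∉ V := fun h1 =>
  h.tnV (by rw [show t = t * v * v⁻¹ by group]; exact V.mul_mem h1 (V.inv_mem hv))

theorem E_comm (h : Loc t V) {a b : G} (ha : a ∈ h.E) (hb : b ∈ h.E) : a * b = b * a := by
  rcases h.mem_E.1 ha with ha | ⟨v, hv, rfl⟩ <;> rcases h.mem_E.1 hb with hb | ⟨w, hw, rfl⟩
  · exact h.oct.comm ha hb
  · calc a * (t * w) = (a * t) * w := by group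
      _ = t * (a * w) := by rw [← h.comm a ha, mul_assoc]
      _ = t * w * a := by rw [h.oct.comm ha hw, mul_assoc]
  · calc t * v * b = t * (b * v) := by rw [mul_assoc, h.oct.comm hv hb]
      _ = b * (t * v) := by rw [← mul_assoc, h.comm b hb, mul_assoc]
  · have e : ∀ x ∈ V, ∀ y ∈ V, t * x * (t * y) = (t * t) * (x * y) := by
      intro x hx y _
      calc t * x * (t * y) = t * (x * t) * y := by group
        _ = t * (t * x) * y := by rw [h.comm x hx]
        _ = (t * t) * (x * y) := by group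
    rw [e v hv w hw, e w hw v hv, h.oct.comm hv hw]

theorem E_sq (h : Loc t V) {a : G} (ha : a ∈ h.E) : a * a = 1 := by
  rcases h.mem_E.1 ha with ha | ⟨v, hv, rfl⟩
  · exact h.oct.sq a ha
  · calc t * v * (t * v) = t * (v * t) * v := by group
      _ = (t * t) * (v * v) := by rw [← h.comm v hv]; group
      _ = 1 := by rw [h.tt, h.oct.sq v hv, one_mul]

theorem E_inv (h : Loc t V) {a : G} (ha : a ∈ h.E) : a⁻¹ = a :=
  inv_eq_of_mul_eq_one_left (h.E_sq ha)

theorem E_pgroup (h : Loc t V) : IsPGroup 2 h.E := by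
  rintro ⟨a, ha⟩
  exact ⟨1, Subtype.ext (by rw [pow_one]; change a ^ 2 = 1; rw [pow_two]; exact h.E_sq ha)⟩

theorem E_le_cent (h : Loc t V) : h.E ≤ Subgroup.centralizer {t} := by
  intro a ha
  rw [Subgroup.mem_centralizer_singleton_iff]
  exact h.E_comm ha h.tE

theorem card_E [Finite G] (h : Loc t V) : Nat.card h.E = 16 := by
  have h1 := card_sup_mul_card_inf h.zpowers_le_norm
  have h2 : (Subgroup.zpowers t ⊓ V : Subgroup G) = ⊥ := by
    rw [eq_bot_iff]
    rintro x ⟨hx, hxV⟩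
    rcases h.mem_zpowers_t.1 hx with rfl | rfl
    · exact Subgroup.one_mem _
    · exact absurd hxV h.tnV
  have h3 : Nat.card (Subgroup.zpowers t) = 2 := by
    rw [Nat.card_zpowers]
    exact orderOf_eq_prime (by rw [pow_two]; exact h.tt) h.t1
  rw [h2, Subgroup.card_bot, mul_one, h3, h.oct.card, sup_comm] at h1
  exact h1

/-- every element of `tV` is conjugate to `t` -/
theorem norm_tV (h : Loc t V) {n : G} (hn : n ∈ h.N) {v : G} (hv : v ∈ V) :
    ∃ w ∈ V, n * (t * v) * n⁻¹ = t * w := by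
  obtain ⟨m, hm, hmv⟩ := h.conj2 v hv
  obtain ⟨w, hw, hnw⟩ := h.conj1 (n * m) (Subgroup.mul_mem _ hn hm)
  refine ⟨w, hw, ?_⟩
  rw [← hnw, ← hmv]
  group

theorem N_conj_mem (h : Loc t V) {n : G} (hn : n ∈ h.N) {v : G} (hv : v ∈ V) :
    n * v * n⁻¹ ∈ V := by
  obtain ⟨w, hw, h1⟩ := h.norm_tV hn hv
  obtain ⟨u, hu, h2⟩ := h.conj1 n hn
  have h3 : n * v * n⁻¹ = (n * t * n⁻¹)⁻¹ * (n * (t * v) * n⁻¹) := by group
  rw [h3, h1, h2, mul_inv_rev]
  rw [show u⁻¹ * t⁻¹ * (t * w) = u⁻¹ * w by group]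
  exact V.mul_mem (V.inv_mem hu) hw

theorem N_le (h : Loc t V) : h.N ≤ Subgroup.normalizer (V : Set G) := by
  intro n hn
  rw [Subgroup.mem_normalizer_iff]
  intro v
  constructor
  · exact h.N_conj_mem hn
  · intro hv
    have := h.N_conj_mem (Subgroup.inv_mem _ hn) hv
    rwa [show n⁻¹ * (n * v * n⁻¹) * n⁻¹⁻¹ = v by group] at this

variable [Finite G]

/-- a 2-subgroup of `C(t)` containing `E` is `E` -/
theorem eq_E (h : Loc t V) {P : Subgroup G} (hP : IsPGroup 2 P)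
    (hPt : P ≤ Subgroup.centralizer {t}) (hEP : h.E ≤ P) : P = h.E := by
  haveI : Fact (Nat.Prime 2) := ⟨Nat.prime_two⟩
  obtain ⟨n, hn⟩ := IsPGroup.iff_card.1 hP
  have h1 : Nat.card P ∣ Nat.card (Subgroup.centralizer ({t} : Set G)) :=
    Subgroup.card_dvd_of_le hPt
  have h2 : n ≤ 4 := by
    by_contra hcon
    push Not at hcon
    apply h.syl
    refine Dvd.dvd.trans ?_ h1
    rw [hn]
    exact pow_dvd_pow 2 hcon
  refine (Subgroup.eq_of_le_of_card_ge hEP ?_).symm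
  rw [h.card_E, hn]
  exact (Nat.pow_le_pow_right (by norm_num) h2)

theorem mem_E_of_comm (h : Loc t V) {n : G} (hn : n ∈ h.N) (h2 : TwoEl n) (ht : n * t = t * n) :
    n ∈ h.E := by
  have h3 : IsPGroup 2 (h.E ⊔ Subgroup.zpowers n : Subgroup G) :=
    isPGroup_sup h.E_pgroup h2 (by rwa [Subgroup.zpowers_le])
  have h4 := h.eq_E h3 (sup_le h.E_le_cent (by
    rw [Subgroup.zpowers_le, Subgroup.mem_centralizer_singleton_iff]; exact ht)) le_sup_left
  rw [← h4]
  exact Subgroup.mem_sup_right (Subgroup.mem_zpowers n)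

theorem mem_E_of_cent (h : Loc t V) {n : G} (hn : n ∈ h.N) (h2 : TwoEl n)
    (hV : ∀ v ∈ V, n * v = v * n) : n ∈ h.E :=
  h.mem_E_of_comm hn h2 (h.cent n hn hV)

/-- a 2-element of `N` outside `E` centralises no element of `tV` -/
theorem not_comm (h : Loc t V) {d : G} (hd : d ∈ h.N) (h2 : TwoEl d) (hdE : d ∉ h.E) {v : G}
    (hv : v ∈ V) : d * (t * v) ≠ (t * v) * d := by
  intro hcon
  obtain ⟨n, hn, hnv⟩ := h.conj2 v hv
  apply hdE
  have h3 : n⁻¹ * d * n ∈ h.E := by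
    apply h.mem_E_of_comm
    · exact Subgroup.mul_mem _ (Subgroup.mul_mem _ (Subgroup.inv_mem _ hn) hd) hn
    · have := h2.conj n⁻¹
      rwa [inv_inv] at this
    · rw [← hnv] at hcon
      have h4 : n⁻¹ * (d * (n * t * n⁻¹)) * n = n⁻¹ * (n * t * n⁻¹ * d) * n := by rw [hcon]
      calc n⁻¹ * d * n * t = n⁻¹ * (d * (n * t * n⁻¹)) * n := by group
        _ = n⁻¹ * (n * t * n⁻¹ * d) * n := h4
        _ = t * (n⁻¹ * d * n) := by group
  have h5 := (Subgroup.mem_normalizer_iff.1 hn _).1 h3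
  rwa [show n * (n⁻¹ * d * n) * n⁻¹ = d by group] at h5

theorem centE_eq (h : Loc t V) {d : G} (hd : d ∈ h.N) (h2 : TwoEl d) (hdE : d ∉ h.E) {e : G}
    (he : e ∈ h.E) (hde : d * e * d⁻¹ = e) : e ∈ V := by
  rcases h.mem_E.1 he with he | ⟨v, hv, rfl⟩
  · exact he
  · exact absurd (mul_inv_eq_iff_eq_mul.1 hde) (h.not_comm hd h2 hdE hv)

/-- The structure of the coset `dE` for a 2-element `d` acting as an involution on `V`. -/
theorem coset (h : Loc t V) {d : G} (hd : d ∈ h.N) (h2 : TwoEl d) (hdE : d ∉ h.E)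
    (hdd : ∀ v ∈ V, d * (d * v * d⁻¹) * d⁻¹ = v) :
    d * d ∈ V ∧ (∃ e ∈ h.E, d * e * (d * e) = 1) ∧
      (d * d = 1 → ∀ e ∈ h.E, d * e * (d * e) = 1 → e ∈ V ∧ ∃ f ∈ h.E, d * e = f * d * f⁻¹) := by
  have hdd' : d * d ∈ h.E := by
    apply h.mem_E_of_cent (Subgroup.mul_mem _ hd hd)
    · exact TwoEl.of_mem h2 (Subgroup.mul_mem _ (Subgroup.mem_zpowers d) (Subgroup.mem_zpowers d))
    · intro v hv
      calc d * d * v = d * (d * v * d⁻¹) * d⁻¹ * (d * d) := by group
        _ = v * (d * d) := by rw [hdd v hv]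
  have hc : ∀ e ∈ h.E, d⁻¹ * e * d ∈ h.E := by
    intro e he
    have := (Subgroup.mem_normalizer_iff.1 (Subgroup.inv_mem _ hd) e).1 he
    rwa [inv_inv] at this
  let f : h.E →* h.E :=
    { toFun := fun e => ⟨d⁻¹ * e * d * e, h.E.mul_mem (hc e e.2) e.2⟩
      map_one' := Subtype.ext (by simp)
      map_mul' := by
        intro v w
        apply Subtype.ext
        simp only [Subgroup.coe_mul]
        have := h.E_comm (hc w w.2) v.2
        calc d⁻¹ * ((v : G) * w) * d * (v * w) = (d⁻¹ * v * d) * ((d⁻¹ * w * d) * v) * w := by group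
          _ = (d⁻¹ * v * d) * (v * (d⁻¹ * w * d)) * w := by rw [this]
          _ = d⁻¹ * v * d * v * (d⁻¹ * w * d * w) := by group }
  have hker : ∀ v : h.E, f v = 1 ↔ d * (v : G) * d⁻¹ = v := by
    intro v
    have e1 : f v = 1 ↔ d⁻¹ * v * d = v := by
      constructor
      · intro hv
        have h3 : d⁻¹ * (v : G) * d * v = 1 := congrArg Subtype.val hv
        rw [eq_inv_of_mul_eq_one_left h3, h.E_inv v.2]
      · intro hv
        apply Subtype.ext
        change d⁻¹ * (v : G) * d * v = 1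
        rw [hv, h.E_sq v.2]
    rw [e1]
    constructor
    · intro e
      nth_rewrite 1 [← e]
      group
    · intro e
      nth_rewrite 1 [← e]
      group
  have hrk : f.range ≤ f.ker := by
    rintro _ ⟨v, rfl⟩
    rw [MonoidHom.mem_ker, hker]
    change d * (d⁻¹ * v * d * v) * d⁻¹ = d⁻¹ * v * d * v
    have h3 := h.E_comm hdd' v.2
    have h4 : d * (v : G) * d⁻¹ = d⁻¹ * v * d := by
      have : d⁻¹ * (d * d * (v : G)) * d⁻¹ = d⁻¹ * (v * (d * d)) * d⁻¹ := by rw [h3]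
      calc d * (v : G) * d⁻¹ = d⁻¹ * (d * d * (v : G)) * d⁻¹ := by group
        _ = d⁻¹ * (v * (d * d)) * d⁻¹ := this
        _ = _ := by group
    calc d * (d⁻¹ * v * d * v) * d⁻¹ = (v : G) * (d * v * d⁻¹) := by group
      _ = v * (d⁻¹ * v * d) := by rw [h4]
      _ = d⁻¹ * v * d * v := h.E_comm v.2 (hc v v.2)
  have hm := f.ker.card_mul_index
  rw [Subgroup.index_ker] at hm
  change Nat.card f.ker * Nat.card f.range = Nat.card h.E at hm
  rw [h.card_E] at hm
  have hle : Nat.card f.range ≤ Nat.card f.ker := Subgroup.card_le_of_le hrk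
  -- the kernel is contained in `V`, properly
  have hkV : f.ker.map h.E.subtype ≤ V := by
    rintro _ ⟨e, he, rfl⟩
    exact h.centE_eq hd h2 hdE e.2 ((hker e).1 he)
  have hkV' : f.ker.map h.E.subtype ≠ V := by
    intro hcon
    apply hdE
    apply h.mem_E_of_cent hd h2
    intro v hv
    rw [← hcon] at hv
    obtain ⟨e, he, rfl⟩ := hv
    exact mul_inv_eq_iff_eq_mul.1 ((hker e).1 he)
  have hk8 : Nat.card f.ker ∣ 8 := by
    rw [← Subgroup.card_map_of_injective (f := h.E.subtype) h.E.subtype_injective,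
      ← h.oct.card]
    exact Subgroup.card_dvd_of_le hkV
  have hkne : Nat.card f.ker ≠ 8 := by
    intro hcon
    apply hkV'
    refine Subgroup.eq_of_le_of_card_ge hkV ?_
    rw [Subgroup.card_map_of_injective h.E.subtype_injective, hcon, h.oct.card]
  have hk4 : Nat.card f.ker = 4 ∧ Nat.card f.range = 4 := by
    have h6 : Nat.card f.ker ≤ 8 := Nat.le_of_dvd (by norm_num) hk8
    interval_cases hN : Nat.card f.ker <;> omega
  have hrkeq : f.range = f.ker := Subgroup.eq_of_le_of_card_ge hrk (by rw [hk4.1, hk4.2])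
  have hdV : d * d ∈ V := by
    apply h.centE_eq hd h2 hdE hdd'
    group
  refine ⟨hdV, ?_, ?_⟩
  · have h7 : (⟨d * d, hdd'⟩ : h.E) ∈ f.range := by
      rw [hrkeq, MonoidHom.mem_ker, hker]
      change d * (d * d) * d⁻¹ = d * d
      group
    obtain ⟨e, he⟩ := h7
    refine ⟨e, e.2, ?_⟩
    have h8 : d⁻¹ * (e : G) * d * e = d * d := congrArg Subtype.val he
    calc d * (e : G) * (d * e) = d * d * (d⁻¹ * e * d * e) := by group
      _ = (d * d) * (d * d) := by rw [h8]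
      _ = 1 := h.E_sq hdd'
  · intro hd1 e he hde
    have hdinv : d⁻¹ = d := inv_eq_of_mul_eq_one_left hd1
    have h9 : (⟨e, he⟩ : h.E) ∈ f.ker := by
      rw [MonoidHom.mem_ker]
      apply Subtype.ext
      change d⁻¹ * e * d * e = 1
      rw [hdinv]
      simpa [mul_assoc] using hde
    refine ⟨hkV ⟨_, h9, rfl⟩, ?_⟩
    rw [← hrkeq] at h9
    obtain ⟨g, hg⟩ := h9
    refine ⟨g, g.2, ?_⟩
    have h10 : d⁻¹ * (g : G) * d * g = e := congrArg Subtype.val hg
    rw [← h10, h.E_inv g.2]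
    group

end Loc

end Cfsg.Agent.StdL2.G23Loc
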