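import Mathlib
import Cfsg.Agent.StdL2.G23Loc

/-!
S1773, case q = 8, N(E)/C(E) = L3(2): the normaliser of `E` induces all automorphisms of `V`,
and its Sylow 2-subgroups (of order 128) are Sylow 2-subgroups of `G`.
-/

set_option autoImplicit false
set_option linter.style.haveILetI false
set_option linter.unusedSectionVars false

namespace Cfsg.Agent.StdL2.G23Loc

open G23Aut G23Coset

variable {G : Type*} [Group G] [Finite G] {t : G} {V : Subgroup G}

namespace Loc

theorem E_le_N (h : Loc t V) : h.E ≤ h.N := Subgroup.le_normalizer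

theorem dvd_card_N (h : Loc t V) : 128 ∣ Nat.card h.N := by
  have h1 := ncard_conj h.N t
  have h2 : {y | ∃ k ∈ h.N, k * t * k⁻¹ = y} = {y | ∃ v ∈ V, y = t * v} := by
    ext y
    constructor
    · rintro ⟨k, hk, rfl⟩
      exact h.conj1 k hk
    · rintro ⟨v, hv, rfl⟩
      exact h.conj2 v hv
  rw [h2, ncard_coset, h.oct.card] at h1
  have h3 : Nat.card h.E ∣ Nat.card (h.N ⊓ Subgroup.centralizer {t} : Subgroup G) :=
    Subgroup.card_dvd_of_le (le_inf h.E_le_N h.E_le_cent)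
  rw [h.card_E] at h3
  rw [← h1]
  exact Nat.mul_dvd_mul_left 8 h3

/-- the structure of 2-subgroups of `N` containing `E` -/
theorem card_two (h : Loc t V) {P : Subgroup G} (hP : IsPGroup 2 P) (hPN : P ≤ h.N)
    (hEP : h.E ≤ P) : Nat.card (img P V) * 16 = Nat.card P ∧ Nat.card (img P V) ∣ 8 := by
  have h1 := card_img_mul (K := P) (hPN.trans h.N_le)
  have h2 : (P ⊓ Subgroup.centralizer (V : Set G) : Subgroup G) = h.E := by
    apply le_antisymm
    · rintro x ⟨hx, hxV⟩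
      refine h.mem_E_of_cent (hPN hx) (TwoEl.of_mem hP hx) ?_
      intro v hv
      exact (Subgroup.mem_centralizer_iff.1 hxV v hv).symm
    · refine le_inf hEP ?_
      intro e he
      rw [Subgroup.mem_centralizer_iff]
      intro v hv
      exact h.E_comm (h.VE hv) he
  rw [h2, h.card_E] at h1
  refine ⟨h1, ?_⟩
  haveI : Fact (Nat.Prime 2) := ⟨Nat.prime_two⟩
  obtain ⟨n, hn⟩ := IsPGroup.iff_card.1 hP
  have h3 : Nat.card (img P V) ∣ 2 ^ n := by
    rw [← hn, ← h1]
    exact Dvd.intro _ rfl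
  obtain ⟨m, -, hm⟩ := (Nat.dvd_prime_pow Nat.prime_two).1 h3
  have h4 : Nat.card (img P V) ∣ 168 := by
    haveI := h.oct.finite_aut
    rw [← h.oct.card_aut]
    exact Subgroup.card_subgroup_dvd_card _
  rw [hm] at h4 ⊢
  have h5 : 2 ^ m ∣ 8 * 21 := h4
  exact Nat.Coprime.dvd_of_dvd_mul_right (Nat.Coprime.pow_left m (by norm_num)) h5

theorem card_dvd (h : Loc t V) {P : Subgroup G} (hP : IsPGroup 2 P) (hPN : P ≤ h.N) :
    Nat.card P ∣ 128 := by
  have h1 : IsPGroup 2 (h.E ⊔ P : Subgroup G) := isPGroup_sup h.E_pgroup hP hPN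
  obtain ⟨h2, h3⟩ := h.card_two h1 (sup_le h.E_le_N hPN) le_sup_left
  have h4 : Nat.card P ∣ Nat.card (h.E ⊔ P : Subgroup G) := Subgroup.card_dvd_of_le le_sup_right
  refine h4.trans ?_
  rw [← h2]
  exact Nat.mul_dvd_mul_right h3 16

/-- A Sylow 2-subgroup of `N`. -/
structure IsSyl (h : Loc t V) (S : Subgroup G) : Prop where
  le : S ≤ h.N
  card : Nat.card S = 128

theorem IsSyl.pgroup {h : Loc t V} {S : Subgroup G} (hS : h.IsSyl S) : IsPGroup 2 S :=
  haveI : Fact (Nat.Prime 2) := ⟨Nat.prime_two⟩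
  IsPGroup.of_card (n := 7) (by rw [hS.card]; norm_num)

theorem IsSyl.E_le {h : Loc t V} {S : Subgroup G} (hS : h.IsSyl S) : h.E ≤ S := by
  have h1 : IsPGroup 2 (h.E ⊔ S : Subgroup G) := isPGroup_sup h.E_pgroup hS.pgroup hS.le
  have h2 := h.card_dvd h1 (sup_le h.E_le_N hS.le)
  have h3 : S = h.E ⊔ S := Subgroup.eq_of_le_of_card_ge le_sup_right (by
    rw [hS.card]; exact Nat.le_of_dvd (by norm_num) h2)
  rw [h3]
  exact le_sup_left

theorem IsSyl.card_img {h : Loc t V} {S : Subgroup G} (hS : h.IsSyl S) :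
    Nat.card (img S V) = 8 := by
  have h1 := (h.card_two hS.pgroup hS.le hS.E_le).1
  rw [hS.card] at h1
  omega

/-- Sylow extension inside a subgroup `M` of `N` of order divisible by 128. -/
theorem exists_syl_in (h : Loc t V) {M R : Subgroup G} (hM : M ≤ h.N) (h128 : 128 ∣ Nat.card M)
    (hR : IsPGroup 2 R) (hRM : R ≤ M) : ∃ S, h.IsSyl S ∧ R ≤ S ∧ S ≤ M := by
  haveI : Fact (Nat.Prime 2) := ⟨Nat.prime_two⟩
  have hR' : IsPGroup 2 (R.subgroupOf M) :=
    hR.of_equiv (Subgroup.subgroupOfEquivOfLe hRM).symm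
  obtain ⟨n, hn⟩ := IsPGroup.iff_card.1 hR'
  have h1 : Nat.card (R.subgroupOf M) = Nat.card R :=
    Nat.card_congr (Subgroup.subgroupOfEquivOfLe hRM).toEquiv
  have h2 : Nat.card R ∣ 128 := h.card_dvd hR (hRM.trans hM)
  have h3 : n ≤ 7 := by
    rw [← h1, hn] at h2
    have : 2 ^ n ∣ 2 ^ 7 := h2
    exact (Nat.pow_dvd_pow_iff_le_right (by norm_num)).1 this
  obtain ⟨K, hK, hRK⟩ := Sylow.exists_subgroup_card_pow_prime_le 2 (m := 7)
    (by norm_num; exact h128) (R.subgroupOf M) hn h3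
  refine ⟨K.map M.subtype, ⟨?_, ?_⟩, ?_, ?_⟩
  · rintro _ ⟨x, -, rfl⟩
    exact hM x.2
  · rw [Subgroup.card_map_of_injective M.subtype_injective, hK]
    norm_num
  · intro r hr
    exact ⟨⟨r, hRM hr⟩, hRK (Subgroup.mem_subgroupOf.2 hr), rfl⟩
  · rintro _ ⟨x, -, rfl⟩
    exact x.2

theorem exists_syl (h : Loc t V) {R : Subgroup G} (hR : IsPGroup 2 R) (hRN : R ≤ h.N) :
    ∃ S, h.IsSyl S ∧ R ≤ S := by
  obtain ⟨S, h1, h2, -⟩ := h.exists_syl_in le_rfl h.dvd_card_N hR hRN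
  exact ⟨S, h1, h2⟩

theorem img_mono {K L : Subgroup G} (hKL : K ≤ L) (V : Subgroup G) : img K V ≤ img L V := by
  intro φ hφ
  obtain ⟨k, hk, hn, hv⟩ := mem_img.1 hφ
  exact mem_img.2 ⟨k, hKL hk, hn, hv⟩

/-- `N` induces all automorphisms of `V`. -/
theorem img_N (h : Loc t V) : img h.N V = ⊤ := by
  haveI := h.oct.finite_aut
  apply h.oct.eq_top
  · obtain ⟨S, hS, -⟩ := h.exists_syl (R := ⊥) (IsPGroup.of_bot) bot_le
    rw [← hS.card_img]
    exact Subgroup.card_dvd_of_le (img_mono hS.le V)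
  · obtain ⟨n, hn, ⟨v, hv, hne⟩, h7⟩ := h.seven
    have hnV := h.N_le hn
    let ψ : MulAut V := V.normalizerMonoidHom ⟨n, hnV⟩
    have hψ : ψ ∈ img h.N V := mem_img.2 ⟨n, hn, hnV, fun v => rfl⟩
    have h8 : ψ ^ 7 = 1 := by
      have e : ψ ^ 7 = V.normalizerMonoidHom (⟨n, hnV⟩ ^ 7) := by rw [map_pow]
      rw [e]
      ext v
      change n ^ 7 * (v : G) * (n ^ 7)⁻¹ = v
      rw [h7 v v.2]
      group
    have h9 : ψ ≠ 1 := by
      intro e
      have := congrArg (fun φ : MulAut V => ((φ ⟨v, hv⟩ : V) : G)) e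
      have h10 : n * v * n⁻¹ = v := this
      exact hne (mul_inv_eq_iff_eq_mul.1 h10)
    haveI : Fact (Nat.Prime 7) := ⟨by norm_num⟩
    have h11 : orderOf ψ = 7 := orderOf_eq_prime h8 h9
    rw [← h11, ← Subgroup.orderOf_mk ψ hψ]
    exact orderOf_dvd_natCard _

theorem full (h : Loc t V) : Full h.N V := (full_iff h.N_le).2 h.img_N

theorem card_N_eq (h : Loc t V) :
    168 * Nat.card (h.N ⊓ Subgroup.centralizer (V : Set G) : Subgroup G) = Nat.card h.N := by
  have h1 := card_img_mul (K := h.N) h.N_le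
  rw [h.img_N, Subgroup.card_top, h.oct.card_aut] at h1
  exact h1

/-- elements of `V` have large centralisers -/
theorem dvd_card_cent_V (h : Loc t V) {v : G} (hv : v ∈ V) (hv1 : v ≠ 1) :
    128 ∣ Nat.card (Subgroup.centralizer ({v} : Set G)) := by
  obtain ⟨S, hS, -⟩ := h.exists_syl (R := ⊥) (IsPGroup.of_bot) bot_le
  obtain ⟨z, a, b, B, hfix, -⟩ := h.oct.flag (img S V) hS.card_img
  obtain ⟨y, w, B'⟩ := h.oct.exists_bas hv hv1
  obtain ⟨n, hn, -, hnz, -, -⟩ := h.full.bas h.oct B B'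
  have h1 : S ≤ Subgroup.centralizer {z} := by
    intro s hs
    rw [Subgroup.mem_centralizer_singleton_iff]
    have h2 : V.normalizerMonoidHom ⟨s, h.N_le (hS.le hs)⟩ ∈ img S V :=
      mem_img.2 ⟨s, hs, h.N_le (hS.le hs), fun v => rfl⟩
    have h3 : s * z * s⁻¹ = z := (hfix _ h2).1
    exact mul_inv_eq_iff_eq_mul.1 h3
  have h4 : S.map (MulAut.conj n).toMonoidHom ≤ Subgroup.centralizer {v} := by
    rintro _ ⟨s, hs, rfl⟩
    rw [Subgroup.mem_centralizer_singleton_iff]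
    have h5 := Subgroup.mem_centralizer_singleton_iff.1 (h1 hs)
    change n * s * n⁻¹ * v = v * (n * s * n⁻¹)
    rw [← hnz]
    calc n * s * n⁻¹ * (n * z * n⁻¹) = n * (s * z) * n⁻¹ := by group
      _ = n * (z * s) * n⁻¹ := by rw [h5]
      _ = _ := by group
  have h6 := Subgroup.card_dvd_of_le h4
  rwa [Subgroup.card_map_of_injective (MulAut.conj n).injective, hS.card] at h6

/-- Involutions of `N` outside `E` have large centralisers. -/
theorem dvd_card_cent (h : Loc t V) {x : G} (hx : x ∈ h.N) (hxx : x * x = 1) (hxE : x ∉ h.E) :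
    32 ∣ Nat.card (Subgroup.centralizer ({x} : Set G)) := by
  haveI := h.oct.finite_aut
  haveI := h.oct.simple_aut
  have hx2 : TwoEl x := TwoEl.of_sq hxx
  have hxV := h.N_le hx
  set ξ : MulAut V := V.normalizerMonoidHom ⟨x, hxV⟩ with hξ
  have hξv : ∀ v : V, (ξ v : G) = x * v * x⁻¹ := fun v => rfl
  have hξ2 : ξ ^ 2 = 1 := by
    rw [pow_two, hξ, ← map_mul]
    ext v
    change x * x * (v : G) * (x * x)⁻¹ = v
    rw [hxx]; group
  have hξ1 : ξ ≠ 1 := by
    intro e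
    apply hxE
    apply h.mem_E_of_cent hx hx2
    intro v hv
    have := hξv ⟨v, hv⟩
    rw [e] at this
    exact mul_inv_eq_iff_eq_mul.1 this.symm
  have hord : orderOf ξ = 2 := orderOf_eq_prime hξ2 hξ1
  have hc8 := Cfsg.Agent.SmallSimple.Simple168Classes.card_centralizer_two h.oct.card_aut ξ hord
  -- the preimage `M` of the centraliser of `ξ`
  let f : h.N →* MulAut V := V.normalizerMonoidHom.comp (Subgroup.inclusion h.N_le)
  let M : Subgroup G := ((Subgroup.centralizer {ξ}).comap f).map h.N.subtype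
  have hMN : M ≤ h.N := by
    rintro _ ⟨y, -, rfl⟩
    exact y.2
  have hfsurj : Function.Surjective f := by
    intro φ
    obtain ⟨k, hk, hv⟩ := h.full φ
    refine ⟨⟨k, hk⟩, ?_⟩
    ext v
    exact hv v
  have hMcard : Nat.card M * 21 = Nat.card h.N := by
    have h1 : Nat.card M = Nat.card ((Subgroup.centralizer {ξ}).comap f) :=
      Subgroup.card_map_of_injective h.N.subtype_injective
    have h2 : ((Subgroup.centralizer {ξ}).comap f).index = 21 := by
      rw [Subgroup.index_comap_of_surjective _ hfsurj]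
      have h3 := (Subgroup.centralizer {ξ}).card_mul_index
      rw [hc8, h.oct.card_aut] at h3
      omega
    have h4 := ((Subgroup.centralizer {ξ}).comap f).card_mul_index
    rw [h2, ← h1] at h4
    exact h4
  have hM128 : 128 ∣ Nat.card M := by
    have h1 := h.dvd_card_N
    rw [← hMcard] at h1
    exact Nat.Coprime.dvd_of_dvd_mul_right (by norm_num) h1
  have hcommM : ∀ u ∈ M, ∀ v ∈ V, u * (x * v * x⁻¹) * u⁻¹ = x * (u * v * u⁻¹) * x⁻¹ := by
    rintro _ ⟨y, hy, rfl⟩ v hv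
    have h1 : f y * ξ = ξ * f y := Subgroup.mem_centralizer_singleton_iff.1 hy
    exact congrArg (fun φ : MulAut V => ((φ ⟨v, hv⟩ : V) : G)) h1
  have hxM : x ∈ M := by
    refine ⟨⟨x, hx⟩, ?_, rfl⟩
    rw [SetLike.mem_coe, Subgroup.mem_comap, Subgroup.mem_centralizer_singleton_iff]
    rfl
  obtain ⟨T, hT, hxT, hTM⟩ := h.exists_syl_in hMN hM128 (R := Subgroup.zpowers x) hx2
    (by rwa [Subgroup.zpowers_le])
  have hxT' : x ∈ T := hxT (Subgroup.mem_zpowers x)
  have hET := hT.E_le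
  -- `T = C_T(x) E`
  have hcos := h.coset hx hx2 hxE (by
    intro v hv
    rw [show x * (x * v * x⁻¹) * x⁻¹ = (x * x) * v * (x * x)⁻¹ by group, hxx]
    group)
  have hfac : ∀ u ∈ T, ∃ f ∈ h.E, f⁻¹ * u ∈ T ⊓ Subgroup.centralizer {x} := by
    intro u hu
    have hcE : x⁻¹ * (u * x * u⁻¹) ∈ h.E := by
      apply h.mem_E_of_cent
      · exact h.N.mul_mem (h.N.inv_mem hx) (h.N.mul_mem (h.N.mul_mem (hT.le hu) hx)
          (h.N.inv_mem (hT.le hu)))
      · exact TwoEl.of_mem hT.pgroup (T.mul_mem (T.inv_mem hxT') (T.mul_mem (T.mul_mem hu hxT')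
          (T.inv_mem hu)))
      · intro v hv
        have h1 := hcommM u (hTM hu) (u⁻¹ * v * u) (by
          have := h.N_conj_mem (h.N.inv_mem (hT.le hu)) hv
          rwa [inv_inv] at this)
        have h2 : u * (x * (u⁻¹ * v * u) * x⁻¹) * u⁻¹ = (u * x * u⁻¹) * v * (u * x * u⁻¹)⁻¹ := by
          group
        rw [h2] at h1
        have h3 : (u * x * u⁻¹) * v * (u * x * u⁻¹)⁻¹ = x * v * x⁻¹ := by
          rw [h1]; group
        calc x⁻¹ * (u * x * u⁻¹) * v
            = x⁻¹ * ((u * x * u⁻¹) * v * (u * x * u⁻¹)⁻¹) * (u * x * u⁻¹) := by group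
          _ = x⁻¹ * (x * v * x⁻¹) * (u * x * u⁻¹) := by rw [h3]
          _ = v * (x⁻¹ * (u * x * u⁻¹)) := by group
    obtain ⟨-, e, he, hxe⟩ := hcos.2.2 hxx _ hcE (by
      rw [show x * (x⁻¹ * (u * x * u⁻¹)) * (x * (x⁻¹ * (u * x * u⁻¹))) = u * (x * x) * u⁻¹ by group,
        hxx]
      group)
    refine ⟨e, he, Subgroup.mem_inf.2 ⟨T.mul_mem (T.inv_mem (hET he)) hu, ?_⟩⟩
    rw [Subgroup.mem_centralizer_singleton_iff]
    have h4 : u * x * u⁻¹ = e * x * e⁻¹ := by
      rw [← hxe]; group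
    calc e⁻¹ * u * x = e⁻¹ * (u * x * u⁻¹) * u := by group
      _ = e⁻¹ * (e * x * e⁻¹) * u := by rw [h4]
      _ = x * (e⁻¹ * u) := by group
  -- orders
  have hnorm : (T ⊓ Subgroup.centralizer {x} : Subgroup G) ≤ Subgroup.normalizer (h.E : Set G) :=
    inf_le_left.trans hT.le
  have hcard := card_sup_mul_card_inf hnorm
  have hsup : (T ⊓ Subgroup.centralizer {x} : Subgroup G) ⊔ h.E = T := by
    apply le_antisymm (sup_le inf_le_left hET)
    intro u hu
    obtain ⟨f, hf, hfu⟩ := hfac u hu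
    rw [show u = f * (f⁻¹ * u) by group]
    exact Subgroup.mul_mem _ (Subgroup.mem_sup_right hf) (Subgroup.mem_sup_left hfu)
  have hinf : Nat.card ((T ⊓ Subgroup.centralizer {x} : Subgroup G) ⊓ h.E : Subgroup G) = 4 := by
    obtain ⟨c, -, -, -, -, h4⟩ := h.oct.trans hxV (by
      intro v hv
      rw [show x * (x * v * x⁻¹) * x⁻¹ = (x * x) * v * (x * x)⁻¹ by group, hxx]
      group) (by
      by_contra hcon
      push Not at hcon
      exact hxE (h.mem_E_of_cent hx hx2 (fun v hv => mul_inv_eq_iff_eq_mul.1 (hcon v hv))))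
    rw [← h4]
    congr 2
    ext y
    rw [mem_inf_cent, Subgroup.mem_inf, Subgroup.mem_inf, Subgroup.mem_centralizer_singleton_iff]
    constructor
    · rintro ⟨⟨hyT, hyx⟩, hyE⟩
      have h5 : x * y * x⁻¹ = y := mul_inv_eq_iff_eq_mul.2 hyx.symm
      exact ⟨h.centE_eq hx hx2 hxE hyE h5, h5⟩
    · rintro ⟨hyV, hyx⟩
      exact ⟨⟨hET (h.VE hyV), (mul_inv_eq_iff_eq_mul.1 hyx).symm⟩, h.VE hyV⟩
  rw [hsup, hinf, hT.card, h.card_E] at hcard
  have h32 : Nat.card (T ⊓ Subgroup.centralizer {x} : Subgroup G) = 32 := by omega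
  rw [← h32]
  exact Subgroup.card_dvd_of_le inf_le_right

theorem card_cent_conj (x g : G) : Nat.card (Subgroup.centralizer ({g * x * g⁻¹} : Set G)) =
    Nat.card (Subgroup.centralizer ({x} : Set G)) := by
  have hc : Nat.card ((Subgroup.centralizer ({x} : Set G)).map (MulAut.conj g).toMonoidHom) =
      Nat.card (Subgroup.centralizer ({x} : Set G)) :=
    Subgroup.card_map_of_injective (MulAut.conj g).injective
  rw [← hc]
  congr 2
  ext y
  rw [Subgroup.mem_map, Subgroup.mem_centralizer_singleton_iff]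
  constructor
  · intro hy
    refine ⟨g⁻¹ * y * g, ?_, ?_⟩
    · rw [Subgroup.mem_centralizer_singleton_iff]
      calc g⁻¹ * y * g * x = g⁻¹ * (y * (g * x * g⁻¹)) * g := by group
        _ = g⁻¹ * ((g * x * g⁻¹) * y) * g := by rw [hy]
        _ = _ := by group
    · change g * (g⁻¹ * y * g) * g⁻¹ = y
      group
  · rintro ⟨z, hz, rfl⟩
    rw [Subgroup.mem_centralizer_singleton_iff] at hz
    change g * z * g⁻¹ * (g * x * g⁻¹) = (g * x * g⁻¹) * (g * z * g⁻¹)
    calc g * z * g⁻¹ * (g * x * g⁻¹) = g * (z * x) * g⁻¹ := by group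
      _ = g * (x * z) * g⁻¹ := by rw [hz]
      _ = _ := by group

/-- A conjugate of `t` in `N` lies in `tV`. -/
theorem conj_mem (h : Loc t V) {g : G} (hg : g * t * g⁻¹ ∈ h.N) :
    ∃ v ∈ V, g * t * g⁻¹ = t * v := by
  have hsq : g * t * g⁻¹ * (g * t * g⁻¹) = 1 := by
    rw [show g * t * g⁻¹ * (g * t * g⁻¹) = g * (t * t) * g⁻¹ by group, h.tt]
    group
  by_cases hE : g * t * g⁻¹ ∈ h.E
  · rcases h.mem_E.1 hE with hV | hV
    · exfalso
      have h1 : g * t * g⁻¹ ≠ 1 := fun e => h.t1 (by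
        rw [show t = g⁻¹ * (g * t * g⁻¹) * g by group, e]; group)
      have h2 := h.dvd_card_cent_V hV h1
      rw [card_cent_conj] at h2
      exact h.syl ((show 32 ∣ 128 by norm_num).trans h2)
    · exact hV
  · exfalso
    have h2 := h.dvd_card_cent hg hsq hE
    rw [card_cent_conj] at h2
    exact h.syl h2

/-- A Sylow 2-subgroup of `N` is a Sylow 2-subgroup of `G`. -/
theorem not_dvd (h : Loc t V) : ¬ 256 ∣ Nat.card G := by
  haveI : Fact (Nat.Prime 2) := ⟨Nat.prime_two⟩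
  intro h256
  obtain ⟨S, hS, -⟩ := h.exists_syl (R := ⊥) (IsPGroup.of_bot) bot_le
  obtain ⟨K, hK, hSK⟩ := Sylow.exists_subgroup_card_pow_prime_le 2 (m := 8)
    (by norm_num; exact h256) S (n := 7) (by rw [hS.card]; norm_num) (by norm_num)
  have hidx : (S.subgroupOf K).index = 2 := by
    have h1 := (S.subgroupOf K).card_mul_index
    rw [Nat.card_congr (Subgroup.subgroupOfEquivOfLe hSK).toEquiv, hS.card, hK] at h1
    omega
  have hnorm : (S.subgroupOf K).Normal := Subgroup.normal_of_index_eq_two hidx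
  have hKN : K ≤ h.N := by
    intro g hg
    have hgS : ∀ s ∈ S, g * s * g⁻¹ ∈ S := by
      intro s hs
      have := hnorm.conj_mem ⟨s, hSK hs⟩ (Subgroup.mem_subgroupOf.2 hs) ⟨g, hg⟩
      exact Subgroup.mem_subgroupOf.1 this
    have hgS' : ∀ s ∈ S, g⁻¹ * s * g ∈ S := by
      intro s hs
      have := hnorm.conj_mem ⟨s, hSK hs⟩ (Subgroup.mem_subgroupOf.2 hs) ⟨g⁻¹, K.inv_mem hg⟩
      have h2 := Subgroup.mem_subgroupOf.1 this
      simpa using h2
    have hgt : ∀ g' : G, (∀ s ∈ S, g' * s * g'⁻¹ ∈ S) → ∀ e ∈ h.E, g' * e * g'⁻¹ ∈ h.E := by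
      intro g' hg'
      have key : ∀ v ∈ V, ∃ w ∈ V, g' * (t * v) * g'⁻¹ = t * w := by
        intro v hv
        obtain ⟨n, hn, hnv⟩ := h.conj2 v hv
        have h3 : g' * (t * v) * g'⁻¹ = (g' * n) * t * (g' * n)⁻¹ := by
          rw [← hnv]; group
        have h4 : (g' * n) * t * (g' * n)⁻¹ ∈ h.N := by
          rw [← h3]
          exact hS.le (hg' _ (hS.E_le (h.tvE hv)))
        obtain ⟨w, hw, h5⟩ := h.conj_mem h4
        exact ⟨w, hw, by rw [h3, h5]⟩
      intro e he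
      rcases h.mem_E.1 he with he | ⟨v, hv, rfl⟩
      · obtain ⟨w, hw, h5⟩ := key e he
        obtain ⟨u, hu, h6⟩ := key 1 V.one_mem
        rw [mul_one] at h6
        have h7 : g' * e * g'⁻¹ = (g' * t * g'⁻¹)⁻¹ * (g' * (t * e) * g'⁻¹) := by group
        rw [h7, h5, h6, show (t * u)⁻¹ * (t * w) = u⁻¹ * w by group]
        exact h.VE (V.mul_mem (V.inv_mem hu) hw)
      · obtain ⟨w, hw, h5⟩ := key v hv
        rw [h5]
        exact h.tvE hw
    rw [Subgroup.mem_normalizer_iff]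
    intro e
    constructor
    · exact hgt g hgS e
    · intro he
      have := hgt g⁻¹ (by simpa using hgS') _ he
      rwa [show g⁻¹ * (g * e * g⁻¹) * g⁻¹⁻¹ = e by group] at this
  have hKp : IsPGroup 2 K := IsPGroup.of_card hK
  have := h.card_dvd hKp hKN
  rw [hK] at this
  norm_num at this

end Loc

end Cfsg.Agent.StdL2.G23Loc
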