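import Mathlib
import Cfsg.Agent.StdL2.G23Full
import Cfsg.Agent.Lib.SylowNormalInf
import Cfsg.Agent.Transfer.ThompsonTransfer

/-!
S1773, case q = 8, N(E)/C(E) = L3(2): `t` does not lie in the simple normal subgroup `J`
(Thompson transfer).
-/

set_option autoImplicit false
set_option linter.style.haveILetI false
set_option linter.unusedSectionVars false

namespace Cfsg.Agent.StdL2.G23Loc

open G23Aut G23Coset

/-- A group of order 16 with a map onto a dihedral group of order 8 with kernel `⟨τ⟩`, in which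
the relations of the dihedral group lift. -/
theorem exists_index_two {Q : Type*} [Group Q] [Finite Q] {A : Type*} [Group A] (f : Q →* A)
    (hQ : Nat.card Q = 16) (τ : Q) (hτ1 : τ ≠ 1) (hfτ : f τ = 1) (x y : Q)
    (hx : x * x = 1) (hy : y * y = 1) (hxy : (x * y) ^ 4 = 1) (hne : f (x * y) ^ 2 ≠ 1) :
    ∃ H : Subgroup Q, H.index = 2 ∧ τ ∉ H := by
  set r := x * y with hr
  have hxinv : x⁻¹ = x := inv_eq_of_mul_eq_one_left hx
  have hyinv : y⁻¹ = y := inv_eq_of_mul_eq_one_left hy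
  have hxr : x * r * x⁻¹ = r⁻¹ := by
    rw [hr, mul_inv_rev, hxinv, hyinv, ← mul_assoc, hx, one_mul]
  have hnorm : Subgroup.zpowers x ≤ Subgroup.normalizer (Subgroup.zpowers r : Set Q) := by
    rw [Subgroup.zpowers_le, Subgroup.mem_normalizer_iff]
    have key : ∀ g ∈ Subgroup.zpowers r, x * g * x⁻¹ ∈ Subgroup.zpowers r := by
      rintro _ ⟨k, rfl⟩
      refine ⟨-k, ?_⟩
      change r ^ (-k) = x * r ^ k * x⁻¹
      rw [← conj_zpow, hxr, inv_zpow, zpow_neg]
    intro g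
    constructor
    · exact key g
    · intro hg
      have := key _ hg
      rw [hxinv] at this
      rwa [show x * (x * g * x) * x = (x * x) * g * (x * x) by group, hx, one_mul, mul_one] at this
  set H := Subgroup.zpowers x ⊔ Subgroup.zpowers r with hH
  have hxH : x ∈ H := Subgroup.mem_sup_left (Subgroup.mem_zpowers x)
  have hrH : r ∈ H := Subgroup.mem_sup_right (Subgroup.mem_zpowers r)
  have hle : Nat.card H ≤ 8 := by
    have h1 := card_sup_mul_card_inf hnorm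
    have h2 : Nat.card (Subgroup.zpowers x) ≤ 2 := by
      rw [Nat.card_zpowers]
      exact Nat.le_of_dvd (by norm_num) (orderOf_dvd_of_pow_eq_one (by rw [pow_two]; exact hx))
    have h3 : Nat.card (Subgroup.zpowers r) ≤ 4 := by
      rw [Nat.card_zpowers]
      exact Nat.le_of_dvd (by norm_num) (orderOf_dvd_of_pow_eq_one hxy)
    have h4 : 0 < Nat.card (Subgroup.zpowers x ⊓ Subgroup.zpowers r : Subgroup Q) := Nat.card_pos
    nlinarith
  -- the image has order at least 8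
  have hord : orderOf (f r) = 4 := by
    have h1 : orderOf (f r) ∣ 4 := orderOf_dvd_of_pow_eq_one (by rw [← map_pow, hxy, map_one])
    have h2 : ¬ orderOf (f r) ∣ 2 := fun h => hne (orderOf_dvd_iff_pow_eq_one.1 h)
    have h3 : orderOf (f r) ≤ 4 := Nat.le_of_dvd (by norm_num) h1
    interval_cases hN : orderOf (f r) <;> omega
  have hfin : Finite (H.map f) :=
    Finite.of_surjective (fun h : H => (⟨f h, ⟨h, h.2, rfl⟩⟩ : H.map f)) (by
      rintro ⟨_, h, hh, rfl⟩
      exact ⟨⟨h, hh⟩, rfl⟩)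
  have h4dvd : 4 ∣ Nat.card (H.map f) := by
    have hm : f r ∈ H.map f := ⟨r, hrH, rfl⟩
    rw [← hord, ← Subgroup.orderOf_mk (f r) hm]
    exact orderOf_dvd_natCard _
  have hne4 : Nat.card (H.map f) ≠ 4 := by
    intro h4
    have h5 : Subgroup.zpowers (f r) = H.map f := by
      apply Subgroup.eq_of_le_of_card_ge
      · rw [Subgroup.zpowers_le]; exact ⟨r, hrH, rfl⟩
      · rw [h4, Nat.card_zpowers, hord]
    have h6 : f x ∈ Subgroup.zpowers (f r) := by rw [h5]; exact ⟨x, hxH, rfl⟩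
    obtain ⟨k, hk⟩ := h6
    have h7 : f x * f r = f r * f x := by
      have hk' : f r ^ k = f x := hk
      rw [← hk', ← zpow_one_add, ← zpow_add_one, add_comm]
    apply hne
    have h8 : f x * f r * (f x)⁻¹ = (f r)⁻¹ := by rw [← map_inv, ← map_inv, ← map_mul, ← map_mul, hxr]
    rw [h7] at h8
    rw [pow_two]
    have h9 : f r = (f r)⁻¹ := by
      calc f r = f r * f x * (f x)⁻¹ := by group
        _ = _ := h8
    nth_rewrite 1 [h9]
    group
  have hdvd : Nat.card (H.map f) ∣ Nat.card H := Subgroup.card_map_dvd H f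
  have hpos : 0 < Nat.card H := Nat.card_pos
  have hge : 8 ≤ Nat.card (H.map f) := by
    obtain ⟨m, hm⟩ := h4dvd
    have : 0 < Nat.card (H.map f) := Nat.card_pos
    omega
  have h8 : Nat.card H = 8 := by
    have := Nat.le_of_dvd hpos hdvd
    omega
  have h8' : Nat.card (H.map f) = 8 := by
    have := Nat.le_of_dvd hpos hdvd
    omega
  refine ⟨H, ?_, ?_⟩
  · have := H.card_mul_index
    rw [h8, hQ] at this
    omega
  · intro hτ
    -- `f` is injective on `H`
    have hsur : Function.Surjective (fun h : H => (⟨f h, ⟨h, h.2, rfl⟩⟩ : H.map f)) := by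
      rintro ⟨_, h, hh, rfl⟩
      exact ⟨⟨h, hh⟩, rfl⟩
    have hbij : Function.Bijective (fun h : H => (⟨f h, ⟨h, h.2, rfl⟩⟩ : H.map f)) := by
      rw [Nat.bijective_iff_surjective_and_card]
      exact ⟨hsur, by rw [h8, h8']⟩
    have h1 : (⟨τ, hτ⟩ : H) = 1 := by
      apply hbij.1
      apply Subtype.ext
      change f τ = f ((1 : H) : Q)
      rw [hfτ, OneMemClass.coe_one, map_one]
    exact hτ1 (congrArg Subtype.val h1)

theorem Bas.fix {G : Type*} [Group G] [Finite G] {V : Subgroup G} (h : Oct V) {x y w : G}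
    (B : Bas V x y w) {g : G} (hx : g * x * g⁻¹ = x) (hy : g * y * g⁻¹ = y)
    (hw : g * w * g⁻¹ = w) : ∀ v ∈ V, g * v * g⁻¹ = v := by
  have e : ∀ p q : G, g * (p * q) * g⁻¹ = (g * p * g⁻¹) * (g * q * g⁻¹) := by
    intro p q; group
  intro v hv
  rcases B.cases h hv with h0 | h0 | h0 | h0 | h0 | h0 | h0 | h0 <;> subst h0
  · group
  · exact hx
  · exact hy
  · rw [e, hx, hy]
  · exact hw
  · rw [e, hx, hw]
  · rw [e, hy, hw]
  · rw [e, e, hx, hy, hw]

variable {G : Type*} [Group G] [Finite G] {t : G} {V : Subgroup G}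

/-- A flag for a 2-group `S` acting on `V`: the elements of `S` act as all unitriangular
matrices. -/
structure Flag (S V : Subgroup G) (z a b : G) : Prop where
  bas : Bas V z a b
  fz : ∀ s ∈ S, s * z * s⁻¹ = z
  fa : ∀ s ∈ S, s * a * s⁻¹ = a ∨ s * a * s⁻¹ = a * z
  ex : ∀ i j k : ZMod 2, ∃ s ∈ S, s * z * s⁻¹ = z ∧ s * a * s⁻¹ = a * pw z i ∧
    s * b * s⁻¹ = b * pw a j * pw z k

theorem exists_flag {S V : Subgroup G} (h : Oct V) (hS : S ≤ Subgroup.normalizer (V : Set G))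
    (h8 : Nat.card (img S V) = 8) : ∃ z a b, Flag S V z a b := by
  obtain ⟨z, a, b, B, h1, h2⟩ := h.flag (img S V) h8
  refine ⟨z, a, b, B, ?_, ?_, ?_⟩
  · intro s hs
    exact (h1 (V.normalizerMonoidHom ⟨s, hS hs⟩) (mem_img.2 ⟨s, hs, hS hs, fun v => rfl⟩)).1
  · intro s hs
    exact (h1 (V.normalizerMonoidHom ⟨s, hS hs⟩) (mem_img.2 ⟨s, hs, hS hs, fun v => rfl⟩)).2
  · intro i j k
    obtain ⟨φ, hφ, e1, e2, e3⟩ := h2 i j k
    obtain ⟨s, hs, -, hv⟩ := mem_img.1 hφ
    refine ⟨s, hs, ?_, ?_, ?_⟩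
    · exact (hv ⟨z, B.hx⟩).trans e1
    · exact (hv ⟨a, B.hy⟩).trans e2
    · exact (hv ⟨b, B.hw⟩).trans e3

namespace Loc

theorem E_conj (h : Loc t V) {e : G} (he : e ∈ h.E) {v : G} (hv : v ∈ V) : e * v * e⁻¹ = v :=
  mul_inv_eq_iff_eq_mul.2 (h.E_comm he (h.VE hv))

theorem not_mem_E (h : Loc t V) {d v : G} (hv : v ∈ V) (hne : d * v * d⁻¹ ≠ v) : d ∉ h.E :=
  fun he => hne (h.E_conj he hv)

theorem IsSyl.tconj {h : Loc t V} {S : Subgroup G} (hS : h.IsSyl S) {s : G} (hs : s ∈ S) :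
    ∃ v ∈ V, s * t * s⁻¹ = t * v := h.conj1 s (hS.le hs)

/-- An index 2 subgroup of `S` containing `V` but not `t`. -/
theorem IsSyl.exists_U0 {h : Loc t V} {S : Subgroup G} (hS : h.IsSyl S) :
    ∃ U₀ : Subgroup G, U₀ ≤ S ∧ V ≤ U₀ ∧ t ∉ U₀ ∧ U₀.relIndex S = 2 := by
  obtain ⟨z, a, b, F⟩ := exists_flag h.oct (hS.le.trans h.N_le) hS.card_img
  obtain ⟨u₁, hu₁, z1, a1, b1⟩ := F.ex 0 1 0
  obtain ⟨u₂, hu₂, z2, a2, b2⟩ := F.ex 1 0 0
  simp only [pw_zero, pw_one, mul_one] at a1 b1 a2 b2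
  have hzV := F.bas.hx
  have haV := F.bas.hy
  have hbV := F.bas.hw
  have e : ∀ g p q : G, g * (p * q) * g⁻¹ = (g * p * g⁻¹) * (g * q * g⁻¹) := by
    intro g p q; group
  have ecomp : ∀ g g' p : G, (g * g') * p * (g * g')⁻¹ = g * (g' * p * g'⁻¹) * g⁻¹ := by
    intro g g' p; group
  have sqz := h.oct.sq z hzV
  have sqa := h.oct.sq a haV
  -- the product
  set r := u₁ * u₂ with hr
  have rz : r * z * r⁻¹ = z := by rw [hr, ecomp, z2, z1]
  have ra : r * a * r⁻¹ = a * z := by rw [hr, ecomp, a2, e, a1, z1]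
  have rb : r * b * r⁻¹ = b * a := by rw [hr, ecomp, b2, b1]
  have r2z : (r * r) * z * (r * r)⁻¹ = z := by rw [ecomp, rz, rz]
  have r2a : (r * r) * a * (r * r)⁻¹ = a := by
    rw [ecomp, ra, e, ra, rz, mul_assoc, sqz, mul_one]
  have r2b : (r * r) * b * (r * r)⁻¹ = b * z := by
    rw [ecomp, rb, e, rb, ra, mul_assoc, ← mul_assoc a a z, sqa, one_mul]
  have hSV := hS.le.trans h.N_le
  -- squares
  have sq_mem : ∀ d ∈ S, (∃ v ∈ V, d * v * d⁻¹ ≠ v) → (∀ v ∈ V, (d * d) * v * (d * d)⁻¹ = v) →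
      d * d ∈ V := by
    rintro d hd ⟨v, hv, hne⟩ hdd
    exact (h.coset (hS.le hd) (TwoEl.of_mem hS.pgroup hd) (h.not_mem_E hv hne) (by
      intro v hv
      rw [← ecomp]
      exact hdd v hv)).1
  have hu1 : u₁ * u₁ ∈ V := by
    apply sq_mem u₁ hu₁ ⟨b, hbV, by rw [b1]; exact fun e => F.bas.y1 (mul_eq_left.1 e)⟩
    apply Bas.fix h.oct F.bas
    · rw [ecomp, z1, z1]
    · rw [ecomp, a1, a1]
    · rw [ecomp, b1, e, b1, a1, mul_assoc, sqa, mul_one]
  have hu2 : u₂ * u₂ ∈ V := by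
    apply sq_mem u₂ hu₂ ⟨a, haV, by rw [a2]; exact fun e => F.bas.x1 (mul_eq_left.1 e)⟩
    apply Bas.fix h.oct F.bas
    · rw [ecomp, z2, z2]
    · rw [ecomp, a2, e, a2, z2, mul_assoc, sqz, mul_one]
    · rw [ecomp, b2, b2]
  have hrS : r ∈ S := S.mul_mem hu₁ hu₂
  have hr4 : (r * r) * (r * r) ∈ V := by
    apply sq_mem (r * r) (S.mul_mem hrS hrS)
      ⟨b, hbV, by rw [r2b]; exact fun e => F.bas.x1 (mul_eq_left.1 e)⟩
    apply Bas.fix h.oct F.bas
    · rw [ecomp, r2z, r2z]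
    · rw [ecomp, r2a, r2a]
    · rw [ecomp, r2b, e, r2b, r2z, mul_assoc, sqz, mul_one]
  -- the quotient `S / V`
  have hVS : V ≤ S := h.VE.trans hS.E_le
  haveI hnorm : (V.subgroupOf S).Normal := by
    rw [Subgroup.normal_subgroupOf_iff_le_normalizer hVS]
    exact hSV
  let ρ : S →* MulAut V := V.normalizerMonoidHom.comp (Subgroup.inclusion hSV)
  have hρ : ∀ (s : S) (v : V), ((ρ s v : V) : G) = (s : G) * v * (s : G)⁻¹ := fun s v => rfl
  let f : S ⧸ V.subgroupOf S →* MulAut V := QuotientGroup.lift _ ρ (by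
    intro s hs
    ext v
    rw [hρ]
    have hsV : (s : G) ∈ V := Subgroup.mem_subgroupOf.1 hs
    rw [h.oct.comm hsV v.2]
    change (v : G) * s * (s : G)⁻¹ = v
    group)
  have hf : ∀ s : S, f (QuotientGroup.mk s) = ρ s := fun s => rfl
  have hVcard : Nat.card (V.subgroupOf S) = 8 := by
    rw [Nat.card_congr (Subgroup.subgroupOfEquivOfLe hVS).toEquiv, h.oct.card]
  have hQ : Nat.card (S ⧸ V.subgroupOf S) = 16 := by
    have h1 := (V.subgroupOf S).card_mul_index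
    rw [hVcard, hS.card] at h1
    change (V.subgroupOf S).index = 16
    omega
  have hmk1 : ∀ (g : G) (hg : g ∈ S), g ∈ V → (QuotientGroup.mk (⟨g, hg⟩ : S) : S ⧸ V.subgroupOf S) = 1 := by
    intro g hg hgV
    exact (QuotientGroup.eq_one_iff _).2 (Subgroup.mem_subgroupOf.2 hgV)
  have htS : t ∈ S := hS.E_le h.tE
  obtain ⟨H, hH2, hHt⟩ := exists_index_two f hQ (QuotientGroup.mk ⟨t, htS⟩) (by
      intro h1
      exact h.tnV (Subgroup.mem_subgroupOf.1 ((QuotientGroup.eq_one_iff _).1 h1)))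
    (by
      rw [hf]
      ext v
      rw [hρ]
      exact h.tconj v.2)
    (QuotientGroup.mk ⟨u₁, hu₁⟩) (QuotientGroup.mk ⟨u₂, hu₂⟩)
    (by rw [← QuotientGroup.mk_mul]; exact hmk1 _ (S.mul_mem hu₁ hu₁) hu1)
    (by rw [← QuotientGroup.mk_mul]; exact hmk1 _ (S.mul_mem hu₂ hu₂) hu2)
    (by
      rw [← QuotientGroup.mk_mul]
      have e4 : ((QuotientGroup.mk ((⟨u₁, hu₁⟩ : S) * ⟨u₂, hu₂⟩)) : S ⧸ V.subgroupOf S) ^ 4 =
          QuotientGroup.mk (⟨(r * r) * (r * r), S.mul_mem (S.mul_mem hrS hrS) (S.mul_mem hrS hrS)⟩ : S) := by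
        rw [← QuotientGroup.mk_pow]
        congr 1
        apply Subtype.ext
        change r ^ 4 = _
        rw [show (4 : ℕ) = 2 + 2 by norm_num, pow_add, pow_two]
      rw [e4]
      exact hmk1 _ _ hr4)
    (by
      intro h1
      rw [← QuotientGroup.mk_mul, ← map_pow, ← QuotientGroup.mk_pow, hf] at h1
      have h2 := congrArg (fun φ : MulAut V => ((φ ⟨b, hbV⟩ : V) : G)) h1
      simp only [hρ] at h2
      have h3 : r ^ 2 * b * (r ^ 2)⁻¹ = b := h2
      rw [pow_two, r2b] at h3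
      exact F.bas.x1 (mul_eq_left.1 h3))
  -- pull back
  let H' : Subgroup S := H.comap (QuotientGroup.mk' _)
  have hH' : H'.index = 2 := by
    rw [Subgroup.index_comap_of_surjective _ (QuotientGroup.mk'_surjective _), hH2]
  refine ⟨H'.map S.subtype, ?_, ?_, ?_, ?_⟩
  · rintro _ ⟨s, -, rfl⟩
    exact s.2
  · intro v hv
    refine ⟨⟨v, hVS hv⟩, ?_, rfl⟩
    change QuotientGroup.mk (⟨v, hVS hv⟩ : S) ∈ H
    rw [hmk1 v (hVS hv) hv]
    exact H.one_mem
  · rintro ⟨s, hs, hst⟩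
    apply hHt
    have : s = ⟨t, htS⟩ := Subtype.ext hst
    rw [← this]
    exact hs
  · rw [← hH', Subgroup.relIndex]
    congr 1
    ext s
    rw [Subgroup.mem_subgroupOf, Subgroup.mem_map]
    constructor
    · rintro ⟨s', hs', hss⟩
      have : s' = s := Subtype.ext hss
      rwa [← this]
    · intro hs
      exact ⟨s, hs, rfl⟩

theorem IsSyl.not_dvd_index {h : Loc t V} {S : Subgroup G} (hS : h.IsSyl S) : ¬ 2 ∣ S.index := by
  intro h2
  apply h.not_dvd
  rw [← S.card_mul_index, hS.card]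
  exact Nat.mul_dvd_mul_left 128 h2

theorem IsSyl.not_dvd_relIndex {h : Loc t V} {S : Subgroup G} (hS : h.IsSyl S) (J : Subgroup G)
    [J.Normal] : ¬ 2 ∣ S.relIndex J := by
  haveI : Fact (Nat.Prime 2) := ⟨Nat.prime_two⟩
  exact Cfsg.Agent.Lib.SylowNormalInf.not_dvd_relIndex (hS.pgroup.toSylow hS.not_dvd_index) J

/-- homomorphisms from a nonabelian simple group to `±1` are trivial -/
theorem hom_units {J : Type*} [Group J] [IsSimpleGroup J] (hJ : ¬ IsMulCommutative J)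
    (f : J →* ℤˣ) (x : J) : f x = 1 := by
  rcases (inferInstance : f.ker.Normal).eq_bot_or_eq_top with hk | hk
  · exfalso
    apply hJ
    have hinj : Function.Injective f := (MonoidHom.ker_eq_bot_iff f).1 hk
    exact ⟨⟨fun a b => hinj (by rw [map_mul, map_mul, mul_comm])⟩⟩
  · have : x ∈ f.ker := by rw [hk]; trivial
    exact this

/-- `t` does not lie in the simple normal subgroup `J`. -/
theorem t_not_mem (h : Loc t V) (J : Subgroup G) [J.Normal] (hJs : IsSimpleGroup J)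
    (hJ : ¬ IsMulCommutative J) : t ∉ J := by
  intro htJ
  obtain ⟨S, hS, -⟩ := h.exists_syl (R := ⊥) (IsPGroup.of_bot) bot_le
  obtain ⟨U₀, hU₀S, hVU₀, htU₀, hidx⟩ := hS.exists_U0
  have htS : t ∈ S := hS.E_le h.tE
  have hrel : U₀.relIndex (S ⊓ J) = 2 := by
    have h1 : U₀.relIndex (S ⊓ J) ≤ U₀.relIndex S :=
      Subgroup.relIndex_le_of_le_right inf_le_left (by rw [hidx]; norm_num)
    have h2 : U₀.relIndex (S ⊓ J) ≠ 1 := by
      intro h3
      exact htU₀ (Subgroup.relIndex_eq_one.1 h3 ⟨htS, htJ⟩)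
    have h3 : U₀.relIndex (S ⊓ J) ≠ 0 := Subgroup.FiniteIndex.index_ne_zero
    omega
  have hindex : (U₀.subgroupOf J).index = 2 * S.relIndex J := by
    change U₀.relIndex J = _
    have h1 := Subgroup.relIndex_mul_relIndex (U₀ ⊓ J) (S ⊓ J) J (inf_le_inf_right J hU₀S)
      inf_le_right
    rw [Subgroup.inf_relIndex_right, Subgroup.inf_relIndex_right] at h1
    rw [← h1, ← hrel]
    congr 1
    rw [← Subgroup.inf_relIndex_right, ← Subgroup.inf_relIndex_right U₀]
    congr 1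
    ext x
    simp only [Subgroup.mem_inf]
    tauto
  obtain ⟨f, hf⟩ := Cfsg.Agent.Transfer.ThompsonTransfer.exists_hom_eq_neg_one (G := J)
    (U₀.subgroupOf J) hindex (Nat.odd_iff.2 (Nat.two_dvd_ne_zero.1 (hS.not_dvd_relIndex J)))
    ⟨t, htJ⟩ (Subtype.ext (by rw [pow_two]; exact h.tt)) (by
      intro g hg
      have hg' : (g : G) * t * (g : G)⁻¹ ∈ U₀ := Subgroup.mem_subgroupOf.1 hg
      obtain ⟨v, hv, hgt⟩ := h.conj_mem (hS.le (hU₀S hg'))
      rw [hgt] at hg'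
      apply htU₀
      rw [show t = t * v * v⁻¹ by group]
      exact U₀.mul_mem hg' (U₀.inv_mem (hVU₀ hv)))
  rw [hom_units hJ f] at hf
  exact absurd hf (by decide)

end Loc

end Cfsg.Agent.StdL2.G23Loc
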