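import Cfsg.Agent.StdL2.TowerFinal
import Cfsg.Agent.StdL2.G23Loc

/-!
# The exceptional case at the bottom of the tower
-/

set_option autoImplicit false
set_option linter.style.haveILetI false

namespace Cfsg.Agent.StdL2

open scoped commutatorElement

universe u

variable {G : Type u} [Group G] [Finite G] {t d : G} {V W : Subgroup G}

omit [Finite G] in
theorem Exc.W_eq (X : Exc t d V W 0) : W = V := by
  apply le_antisymm _ X.lv.VW
  intro w hw
  have h2 := X.lv.pw w hw
  rwa [pow_zero, pow_one] at h2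

/-- The local hypotheses of the exceptional case, `k = 0`. -/
theorem Exc.loc (H : TCen t V) (X : Exc t d V W 0) : G23Loc.Loc t V := by
  classical
  have hWV := X.W_eq
  subst hWV
  have ht2 := H.t2
  have hV : 4 ≤ Nat.card W := by rw [X.oct]; norm_num
  -- `⟨t⟩ V`
  have hE : W ⊔ Subgroup.zpowers t = H.E := by
    apply le_antisymm
    · exact sup_le H.V_le_E ((Subgroup.zpowers_le).2 H.t_mem_E)
    · intro x hx
      rcases hx with h | h
      · exact Subgroup.mem_sup_left h
      · rw [Lv.eq_t_mul ht2 x]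
        exact mul_mem (Subgroup.mem_sup_right (Subgroup.mem_zpowers t)) (Subgroup.mem_sup_left h)
  have hNV : ∀ n ∈ Subgroup.normalizer (H.E : Set G), ∀ v ∈ W, n * v * n⁻¹ ∈ W := X.nE rfl
  -- the normaliser of `E`
  have hNt : ∀ n ∈ Subgroup.normalizer (H.E : Set G), n ∈ towerN t W := by
    intro n hn
    have h1 := mem_norm_of_le (hNV n hn)
    refine ⟨h1, ?_⟩
    have h2 : n * t * n⁻¹ ∈ H.E := (Subgroup.mem_normalizer_iff.1 hn t).1 H.t_mem_E
    rcases h2 with h2 | h2
    · exfalso
      exact H.tV ((Subgroup.mem_normalizer_iff.1 h1 t).2 h2)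
    · have h3 : ⁅n, t⁆ = t * (t * (n * t * n⁻¹)) * t⁻¹ := by
        rw [← Lv.eq_t_mul ht2, commutatorElement_def]
      rw [h3, X.lv.tinv _ h2]
      exact inv_mem h2
  have hNt' : ∀ n ∈ towerN t W, n ∈ Subgroup.normalizer (H.E : Set G) := by
    intro n hn
    apply mem_norm_of_le
    intro e he
    have h1 := X.lv.conj_mem_Q H hn (x := e) he
    exact h1
  have hconj : ∀ n ∈ towerN t W, n * t * n⁻¹ = t * ⁅n, t⁆ := by
    intro n hn
    rw [X.lv.conj_t H hn, inv_eq_of_mul_eq_one_right (H.vsq _ hn.2)]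
  refine ⟨?_, ht2, H.vt, H.tV, ?_, ?_, ?_, ?_, ?_⟩
  · exact ⟨X.oct, H.vsq⟩
  · intro h
    obtain ⟨P, hP⟩ := Sylow.exists_subgroup_card_pow_prime (G := Subgroup.centralizer ({t} : Set G))
      2 (n := 5) (by simpa using h)
    have hPp : IsPGroup 2 P := IsPGroup.of_card hP
    have h1 := H.card_le (P := P.map (Subgroup.centralizer ({t} : Set G)).subtype) (hPp.map _) (by
      rintro _ ⟨x, _, rfl⟩
      exact (Subgroup.mem_centralizer_singleton_iff.1 x.2).symm)
    have h2 : Nat.card (P.map (Subgroup.centralizer ({t} : Set G)).subtype) = Nat.card P :=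
      Nat.card_congr (P.equivMapOfInjective _ (Subgroup.subtype_injective _)).symm.toEquiv
    rw [h2, hP, X.oct] at h1
    norm_num at h1
  · intro n hn
    rw [hE] at hn
    have h1 := hNt n hn
    exact ⟨⁅n, t⁆, h1.2, hconj n h1⟩
  · intro v hv
    obtain ⟨n, hn, h1⟩ := X.tr v hv
    rw [pow_zero, pow_one] at h1
    refine ⟨n, by rw [hE]; exact hNt' n hn, ?_⟩
    rw [hconj n hn, h1]
  · intro n hn hc
    rw [hE] at hn
    have h1 := X.cent n (hNt n hn) (fun v hv => by rw [hc v hv, mul_inv_cancel_right])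
    rw [pow_zero, pow_one, commutatorElement_eq_one_iff_mul_comm] at h1
    exact h1
  · refine ⟨d, ?_, ?_, ?_⟩
    · rw [hE]
      apply hNt'
      refine ⟨mem_norm_of_le X.tor.dV, ?_⟩
      rw [commutatorElement_eq_one_iff_mul_comm.2 X.tor.dt]
      exact one_mem _
    · obtain ⟨F, _, _, _, τ, lam, C, hF⟩ := exists_crd hV H.vsq X.tor
      have hlam : lam ≠ 1 := by
        rintro rfl
        obtain ⟨r, hr0, hr1⟩ := hF
        obtain ⟨n, hn⟩ := C.gen r hr0
        rw [one_pow] at hn
        exact hr1 hn.symm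
      refine ⟨τ 1, C.mem 1, ?_⟩
      intro h
      apply hlam
      have h1 := C.conj 1
      rw [h, mul_inv_cancel_right, mul_one] at h1
      exact (C.inj _ _ h1).symm
    · obtain ⟨F, _, _, _, τ, lam, C, hF⟩ := exists_crd hV H.vsq X.tor
      intro v hv
      obtain ⟨a, rfl⟩ := C.surj v hv
      letI : Fintype F := Fintype.ofFinite F
      have hcard : Fintype.card F = 8 := by
        rw [← Nat.card_eq_fintype_card, ← X.oct]
        exact Nat.card_congr (Equiv.ofBijective (fun a => (⟨τ a, C.mem a⟩ : W))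
          ⟨fun a b h => C.inj _ _ (congrArg Subtype.val h),
            fun x => by
              obtain ⟨a, ha⟩ := C.surj x x.2
              exact ⟨a, Subtype.ext ha⟩⟩)
      have hlam0 : lam ≠ 0 := by
        rintro rfl
        obtain ⟨r, hr0, hr1⟩ := hF
        obtain ⟨n, hn⟩ := C.gen r hr0
        rcases Nat.eq_zero_or_pos n with h | h
        · rw [h, pow_zero] at hn
          exact hr1 hn.symm
        · rw [zero_pow h.ne'] at hn
          exact hr0 hn.symm
      have hl7 : lam ^ 7 = 1 := by
        have h1 := FiniteField.pow_card_sub_one_eq_one lam hlam0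
        rw [hcard] at h1
        exact h1
      have hpow : ∀ n : ℕ, d ^ n * τ a * (d ^ n)⁻¹ = τ (lam ^ n * a) := by
        intro n
        induction n with
        | zero => simp
        | succ n ih =>
          have h2 : d ^ (n + 1) * τ a * (d ^ (n + 1))⁻¹ =
              d * (d ^ n * τ a * (d ^ n)⁻¹) * d⁻¹ := by
            rw [pow_succ']
            group
          rw [h2, ih, C.conj, pow_succ', mul_assoc]
      have h3 := hpow 7
      rw [hl7, one_mul, mul_inv_eq_iff_eq_mul] at h3
      exact h3

end Cfsg.Agent.StdL2
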