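import Cfsg.Statements.S1773
import Cfsg.Agent.StdL2.Setup
import Cfsg.Agent.StdSz.EquivMaps

/-!
# S1773: assembly from the reduced configuration

`Concl L A t F a` is what has to be proved for a reduced configuration `Conf L A t`; `of_core` deduces
the statement S1773.
-/

set_option autoImplicit false
set_option linter.unusedSectionVars false

namespace Cfsg.Agent.StdL2.Assemble

open Cfsg Subgroup Cfsg.Agent.SignalizersComponents
open Cfsg.Agent.StdL2.Setup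

universe u v

/-- the Lie type groups of characteristic 2 which can occur -/
def Lie2 (L : Type*) [Group L] : Prop :=
  (∃ (E : Type) (_ : Field E) (_ : Fintype E) (n : ℕ), CharP E 2 ∧ 2 ≤ n ∧
      (n = 2 → 4 ≤ Fintype.card E) ∧ Nonempty (L ≃* Matrix.ProjectiveSpecialLinearGroup (Fin n) E)) ∨
    (∃ (E : Type) (_ : Field E) (_ : Fintype E), CharP E 2 ∧ 4 ≤ Fintype.card E ∧
      Nonempty (L ≃* Cfsg.PSp 2 E)) ∨
    (∃ (E : Type) (_ : Field E) (_ : Fintype E) (q : ℕ), Fintype.card E = q ^ 2 ∧ Even q ∧ 4 ≤ q ∧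
      Nonempty (L ≃* Cfsg.PSU 3 E q))

/-- the exceptional groups for `q = 4` -/
def Exc4 (L : Type*) [Group L] : Prop :=
  Cfsg.Spor.IsoM12 L ∨ Nonempty (L ≃* ↥(alternatingGroup (Fin 9))) ∨ Cfsg.Spor.IsoJ1 L ∨
    Cfsg.Spor.IsoJ2 L ∨ Nonempty (L ≃* ↥(alternatingGroup (Fin 7))) ∨
    (∃ (E : Type) (_ : Field E) (_ : Fintype E), Fintype.card E = 25 ∧
      (Nonempty (L ≃* Matrix.ProjectiveSpecialLinearGroup (Fin 2) E) ∨
        Nonempty (L ≃* Cfsg.PSU 3 E 5))) ∨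
    (∃ (E : Type) (_ : Field E) (_ : Fintype E), Fintype.card E = 5 ∧
      (Nonempty (L ≃* Matrix.ProjectiveSpecialLinearGroup (Fin 3) E) ∨
        Nonempty (L ≃* ↥(Cfsg.Lie.chevG2.group E)))) ∨
    (∃ (K : Type) (_ : Field K) (_ : Fintype K), Fintype.card K = 125 ∧
      Nonempty (L ≃* ↥(Cfsg.Lie.twistedD4 K 5)))

/-- `G₂(3)` -/
def IsoG23 (L : Type*) [Group L] : Prop :=
  ∃ (E : Type) (_ : Field E) (_ : Fintype E), Fintype.card E = 3 ∧
    Nonempty (L ≃* ↥(Cfsg.Lie.chevG2.group E))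

/-- What has to be proved for a reduced configuration. -/
def Concl {G : Type*} [Group G] (L A : Subgroup G) (t : G) (F : Type*) [Field F] [Fintype F]
    (a : ℕ) : Prop :=
  (Lie2 ↥L ∧ t ∉ L) ∨ (a = 2 ∧ Exc4 ↥L) ∨
    (Nonempty (↥A ≃* Matrix.ProjectiveSpecialLinearGroup (Fin 2) F) ∧ Fintype.card F = 8 ∧ IsoG23 ↥L)

theorem Lie2.congr {L L' : Type*} [Group L] [Group L'] (e : L' ≃* L) (h : Lie2 L) : Lie2 L' := by
  rcases h with ⟨E, i1, i2, n, h1, h2, h3, ⟨f⟩⟩ | ⟨E, i1, i2, h1, h2, ⟨f⟩⟩ |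
    ⟨E, i1, i2, q, h1, h2, h3, ⟨f⟩⟩
  · exact Or.inl ⟨E, i1, i2, n, h1, h2, h3, ⟨e.trans f⟩⟩
  · exact Or.inr (Or.inl ⟨E, i1, i2, h1, h2, ⟨e.trans f⟩⟩)
  · exact Or.inr (Or.inr ⟨E, i1, i2, q, h1, h2, h3, ⟨e.trans f⟩⟩)

theorem Exc4.congr {L L' : Type*} [Group L] [Group L'] (e : L' ≃* L) (h : Exc4 L) : Exc4 L' := by
  rcases h with h | ⟨⟨f⟩⟩ | h | h | ⟨⟨f⟩⟩ | ⟨E, i1, i2, h1, h⟩ | ⟨E, i1, i2, h1, h⟩ |
    ⟨E, i1, i2, h1, ⟨f⟩⟩
  · obtain ⟨f⟩ := h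
    exact Or.inl ⟨e.trans f⟩
  · exact Or.inr (Or.inl ⟨e.trans f⟩)
  · obtain ⟨f⟩ := h
    exact Or.inr (Or.inr (Or.inl ⟨e.trans f⟩))
  · obtain ⟨f⟩ := h
    exact Or.inr (Or.inr (Or.inr (Or.inl ⟨e.trans f⟩)))
  · exact Or.inr (Or.inr (Or.inr (Or.inr (Or.inl ⟨e.trans f⟩))))
  · refine Or.inr (Or.inr (Or.inr (Or.inr (Or.inr (Or.inl ⟨E, i1, i2, h1, ?_⟩)))))
    rcases h with ⟨⟨f⟩⟩ | ⟨⟨f⟩⟩
    · exact Or.inl ⟨e.trans f⟩
    · exact Or.inr ⟨e.trans f⟩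
  · refine Or.inr (Or.inr (Or.inr (Or.inr (Or.inr (Or.inr (Or.inl ⟨E, i1, i2, h1, ?_⟩))))))
    rcases h with ⟨⟨f⟩⟩ | ⟨⟨f⟩⟩
    · exact Or.inl ⟨e.trans f⟩
    · exact Or.inr ⟨e.trans f⟩
  · exact Or.inr (Or.inr (Or.inr (Or.inr (Or.inr (Or.inr (Or.inr ⟨E, i1, i2, h1, ⟨e.trans f⟩⟩))))))

theorem IsoG23.congr {L L' : Type*} [Group L] [Group L'] (e : L' ≃* L) (h : IsoG23 L) :
    IsoG23 L' := by
  obtain ⟨E, i1, i2, h1, ⟨f⟩⟩ := h
  exact ⟨E, i1, i2, h1, ⟨e.trans f⟩⟩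

theorem Lie2.isLieTypeChar {L : Type*} [Group L] (h : Lie2 L) : Cfsg.IsLieTypeChar 2 L := by
  rcases h with ⟨E, i1, i2, n, h1, h2, h3, f⟩ | ⟨E, i1, i2, h1, h2, f⟩ |
    ⟨E, i1, i2, q, h1, h2, h3, f⟩
  · exact Or.inl ⟨E, i1, i2, h1, n, h2, h3, f⟩
  · exact Or.inr (Or.inl ⟨E, i1, i2, h1, 2, le_rfl, fun _ => by omega, f⟩)
  · refine Or.inr (Or.inr (Or.inl ?_))
    have h4 : CharP E 2 := by
      obtain ⟨p, hp⟩ := CharP.exists E
      have := hp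
      obtain ⟨k, hpp, hk⟩ := FiniteField.card E p
      have h5 : 2 ∣ p ^ (k : ℕ) := by
        rw [← hk, h1, pow_two]
        exact Dvd.dvd.mul_right h2.two_dvd _
      have h6 : 2 ∣ p := Nat.Prime.dvd_of_dvd_pow Nat.prime_two h5
      have h7 : 2 = p := (Nat.prime_dvd_prime_iff_eq Nat.prime_two hpp).mp h6
      exact h7 ▸ hp
    exact ⟨E, i1, i2, h4, 3, q, h1, le_rfl, fun h => by omega, f⟩

section Red

variable {G : Type u} [Group G] [Finite G] {A : Subgroup G} {t : G}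

/-- the reduced configuration inside `E(G)⟨t⟩`. -/
theorem conf_of_simple (S : Cfsg.Agent.StdSz.Reduce.Simple A) (ht : orderOf t = 2)
    (htA : t ∈ Subgroup.centralizer (A : Set G))
    (cyc : ∀ R : Sylow 2 ↥(Subgroup.centralizer (A : Set G)),
      IsCyclic ↥(R : Subgroup ↥(Subgroup.centralizer (A : Set G)))) :
    Conf ((Cfsg.layer G).subgroupOf (Cfsg.layer G ⊔ Subgroup.zpowers t))
      (A.subgroupOf (Cfsg.layer G ⊔ Subgroup.zpowers t))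
      (⟨t, (le_sup_right : Subgroup.zpowers t ≤ _) (Subgroup.mem_zpowers t)⟩ :
        ↥(Cfsg.layer G ⊔ Subgroup.zpowers t)) := by
  have hLH : Cfsg.layer G ≤ Cfsg.layer G ⊔ Subgroup.zpowers t := le_sup_left
  have hAH : A ≤ Cfsg.layer G ⊔ Subgroup.zpowers t := S.le_layer.trans hLH
  have htH : t ∈ Cfsg.layer G ⊔ Subgroup.zpowers t :=
    (le_sup_right : Subgroup.zpowers t ≤ _) (Subgroup.mem_zpowers t)
  have hn := S.layer_normal
  have e := subgroupOfEquivOfLe hLH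
  have := S.simple
  refine ⟨inferInstance, e.isSimpleGroup, ?_, ?_, ?_, ?_, ?_, ?_, ?_, ?_⟩
  · intro h
    apply S.not_comm
    refine ⟨⟨fun x y => ?_⟩⟩
    have := h.is_comm.comm (e.symm x) (e.symm y)
    have h2 := congrArg e this
    simpa using h2
  · rw [← le_bot_iff]
    intro x hx
    have h1 := (mem_centralizer_subgroupOf hLH).mp hx
    rw [S.centralizer, mem_bot] at h1
    rw [mem_bot]
    exact Subtype.ext h1
  · rw [eq_top_iff]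
    intro x _
    have h1 : (Cfsg.layer G ⊔ Subgroup.zpowers t) =
        ((Cfsg.layer G).subgroupOf (Cfsg.layer G ⊔ Subgroup.zpowers t) ⊔
          Subgroup.zpowers (⟨t, htH⟩ : ↥(Cfsg.layer G ⊔ Subgroup.zpowers t))).map
          (Cfsg.layer G ⊔ Subgroup.zpowers t).subtype := by
      rw [Subgroup.map_sup, subgroupOf_map_subtype, MonoidHom.map_zpowers]
      have h2 : Cfsg.layer G ⊓ (Cfsg.layer G ⊔ Subgroup.zpowers t) = Cfsg.layer G :=
        inf_eq_left.mpr hLH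
      rw [h2]
      rfl
    have h3 : (x : G) ∈ ((Cfsg.layer G).subgroupOf (Cfsg.layer G ⊔ Subgroup.zpowers t) ⊔
          Subgroup.zpowers (⟨t, htH⟩ : ↥(Cfsg.layer G ⊔ Subgroup.zpowers t))).map
          (Cfsg.layer G ⊔ Subgroup.zpowers t).subtype := h1 ▸ x.2
    obtain ⟨y, hy, hyx⟩ := h3
    have h4 : y = x := Subtype.ext hyx
    rw [← h4]
    exact hy
  · intro x hx
    exact mem_subgroupOf.mpr (S.le_layer (mem_subgroupOf.mp hx))
  · exact std_subgroupOf hAH S.std ht htA htH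
  · rw [← Subgroup.orderOf_coe]; exact ht
  · exact (mem_centralizer_subgroupOf hAH).mpr htA
  · exact cyc_subgroupOf hAH cyc

end Red

/-- The statement S1773 from the analysis of the reduced configurations. -/
theorem of_core
    (core : ∀ (H : Type u) [Group H] [Finite H] (L A : Subgroup H) (t : H), Conf L A t →
      ∀ (F : Type v) [Field F] [Fintype F] (a : ℕ), 2 ≤ a → Fintype.card F = 2 ^ a →
        Nonempty (↥A ⧸ Subgroup.center ↥A ≃* Matrix.ProjectiveSpecialLinearGroup (Fin 2) F) →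
        Concl L A t F a)
    {G : Type u} [Group G] [Finite G] (hO : Cfsg.oddCore G = ⊥)
    (A : Subgroup G) (hA : Cfsg.IsStandardSubgroup A) (hnA : ¬ A.Normal)
    (hR : ∀ R : Sylow 2 ↥(Subgroup.centralizer (A : Set G)), IsCyclic ↥(R : Subgroup ↥(Subgroup.centralizer (A : Set G))))
    (t : G) (ht : orderOf t = 2) (htA : t ∈ Subgroup.centralizer (A : Set G))
    {F : Type v} [Field F] [Fintype F] (a : ℕ) (ha : 2 ≤ a) (hF : Fintype.card F = 2 ^ a)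
    (hAX : Nonempty (↥A ⧸ Subgroup.center ↥A ≃* Matrix.ProjectiveSpecialLinearGroup (Fin 2) F)) :
    Nonempty (↥(Cfsg.layer G) ≃* ↥A × ↥A) ∨ ((Cfsg.IsLieTypeChar 2 ↥(Cfsg.layer G) ∨ Cfsg.Lie.IsoTits ↥(Cfsg.layer G)) ∧ ¬ (∃ e : G, e ∈ Cfsg.layer G ∧ ∀ x ∈ Cfsg.layer G, t * x * t⁻¹ = e * x * e⁻¹)) ∨
      (a = 2 ∧ (Cfsg.Spor.IsoM12 ↥(Cfsg.layer G) ∨ Nonempty (↥(Cfsg.layer G) ≃* ↥(alternatingGroup (Fin 9))) ∨ Cfsg.Spor.IsoJ1 ↥(Cfsg.layer G) ∨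
        Cfsg.Spor.IsoJ2 ↥(Cfsg.layer G) ∨ Nonempty (↥(Cfsg.layer G) ≃* ↥(alternatingGroup (Fin 7))) ∨
        (∃ (E : Type) (_ : Field E) (_ : Fintype E), Fintype.card E = 25 ∧ (Nonempty (↥(Cfsg.layer G) ≃* Matrix.ProjectiveSpecialLinearGroup (Fin 2) E) ∨ Nonempty (↥(Cfsg.layer G) ≃* Cfsg.PSU 3 E 5))) ∨
        (∃ (E : Type) (_ : Field E) (_ : Fintype E), Fintype.card E = 5 ∧ (Nonempty (↥(Cfsg.layer G) ≃* Matrix.ProjectiveSpecialLinearGroup (Fin 3) E) ∨ Nonempty (↥(Cfsg.layer G) ≃* ↥(Cfsg.Lie.chevG2.group E)))) ∨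
        (∃ (K : Type) (_ : Field K) (_ : Fintype K), Fintype.card K = 125 ∧ Nonempty (↥(Cfsg.layer G) ≃* ↥(Cfsg.Lie.twistedD4 K 5))))) ∨
      (Nonempty (↥A ≃* Matrix.ProjectiveSpecialLinearGroup (Fin 2) F) ∧ Fintype.card F = 8 ∧
        ∃ (E : Type) (_ : Field E) (_ : Fintype E), Fintype.card E = 3 ∧ Nonempty (↥(Cfsg.layer G) ≃* ↥(Cfsg.Lie.chevG2.group E))) := by
  rcases Cfsg.Agent.StdSz.Reduce.prod_or_simple hA hnA hO ht htA with h | S
  · exact Or.inl h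
  have C := conf_of_simple S ht htA hR
  have hLH : Cfsg.layer G ≤ Cfsg.layer G ⊔ Subgroup.zpowers t := le_sup_left
  have hAH : A ≤ Cfsg.layer G ⊔ Subgroup.zpowers t := S.le_layer.trans hLH
  have eL := subgroupOfEquivOfLe hLH
  have eA := subgroupOfEquivOfLe hAH
  have hAX' : Nonempty (↥(A.subgroupOf (Cfsg.layer G ⊔ Subgroup.zpowers t)) ⧸
      Subgroup.center ↥(A.subgroupOf (Cfsg.layer G ⊔ Subgroup.zpowers t)) ≃*
        Matrix.ProjectiveSpecialLinearGroup (Fin 2) F) := by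
    obtain ⟨f⟩ := hAX
    refine ⟨(QuotientGroup.congr _ _ eA ?_).trans f⟩
    ext x
    constructor
    · rintro ⟨y, hy, rfl⟩
      rw [mem_center_iff]
      intro g
      have h1 := mem_center_iff.mp hy (eA.symm g)
      have h2 := congrArg eA h1
      simpa using h2
    · intro hx
      refine ⟨eA.symm x, ?_, by simp⟩
      rw [SetLike.mem_coe, mem_center_iff]
      intro g
      have h1 := mem_center_iff.mp hx (eA g)
      have h2 := congrArg eA.symm h1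
      simpa using h2
  right
  rcases core _ _ _ _ C F a ha hF hAX' with ⟨h1, h2⟩ | ⟨h1, h2⟩ | ⟨⟨f⟩, h2, h3⟩
  · left
    refine ⟨Or.inl (h1.congr eL.symm).isLieTypeChar, S.not_inner ?_⟩
    intro h
    exact h2 (mem_subgroupOf.mpr h)
  · right; left
    exact ⟨h1, h2.congr eL.symm⟩
  · right; right
    exact ⟨⟨eA.symm.trans f⟩, h2, h3.congr eL.symm⟩

end Cfsg.Agent.StdL2.Assemble
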