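import Cfsg.Agent.StdL2.FrameZero

/-!
# S1773: the case `A ≃ L₂(q)`

`par_case` splits the case `A = π(SL₂(F))` into: no field automorphism of even order (`zero_case`; open: the
exceptional case `Exc` of the tower), field automorphisms and `q ≥ 16` (open: the final contradiction from
`FOut`), and `q = 4`.  `core` adds the double cover of `A₅`.
-/

set_option autoImplicit false
set_option linter.unusedSectionVars false
set_option linter.style.haveILetI false
set_option Elab.async false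

namespace Cfsg.Agent.StdL2.FrameFT

open scoped commutatorElement

open Cfsg Subgroup Cfsg.Agent.StdL2 Cfsg.Agent.StdL2.Setup Cfsg.Agent.StdL2.Frame
  Cfsg.Agent.StdL2.Field Cfsg.Agent.StdL2.FieldStart Cfsg.Agent.StdL2.FT Cfsg.Agent.StdL2.Assemble
open Cfsg.Agent.Lib.SL2Mat Cfsg.Agent.Lib.AutSL2
open Cfsg.Agent.Lib.GoldschmidtFusion (lt_inf_normalizer)

local notation "SL2" => Matrix.SpecialLinearGroup (Fin 2)

universe u v

/-- if `T` does not centralise the root group then `q = 4` or `q ≥ 16`. -/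
theorem two_or_four {F : Type v} [Field F] [Fintype F] [CharP F 2] {G : Type u} [Group G] [Finite G]
    {A T : Subgroup G} {t : G} {π : SL2 F →* G} (B : Base A t T π) {a : ℕ} (ha : 2 ≤ a)
    (hF : Fintype.card F = 2 ^ a) (hw : ∃ w ∈ T, ∃ v ∈ VV π, w * v ≠ v * w) : a = 2 ∨ 4 ≤ a := by
  obtain ⟨w, hwT, hw1, hw2⟩ := B.exists_witness hw
  have h1 := B.fld.fix w hwT hw1 hw2
  rw [card_VV B.P, (Nat.card_eq_fintype_card (α := F)), hF] at h1
  by_contra hcon
  push Not at hcon
  have h3 : a = 3 := by omega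
  rw [h3] at h1
  generalize Nat.card (VV π ⊓ centralizer ({w} : Set G) : Subgroup G) = n at h1
  have h4 : n ≤ 2 ∨ 3 ≤ n := by omega
  rcases h4 with h4 | h4
  · have : n ^ 2 ≤ 2 ^ 2 := Nat.pow_le_pow_left h4 2
    omega
  · have : 3 ^ 2 ≤ n ^ 2 := Nat.pow_le_pow_left h4 2
    omega

/-- the final contradiction in the case of field automorphisms, `q ≥ 16` -/
def FieldStmt : Prop :=
  ∀ (F : Type v) [Field F] [Fintype F] [CharP F 2] (G : Type u) [Group G] [Finite G]
    (L A T U : Subgroup G) (t d : G) (π : SL2 F →* G), Conf L A t → ∀ B : Base A t T π,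
    16 ≤ Nat.card F → FTD t (VV π) T (C0 B.P) → d ∈ A → Tor t (VV π) d →
    FOut t (VV π) T d U → False

/-- the exceptional case of the tower -/
def ExcStmt : Prop :=
  ∀ (F : Type v) [Field F] [Fintype F] [CharP F 2] (G : Type u) [Group G] [Finite G]
    (L A T W : Subgroup G) (t d : G) (π : SL2 F →* G) (a k : ℕ), Conf L A t → Base A t T π →
    Fintype.card F = 2 ^ a → (∀ x ∈ T, ∀ v ∈ VV π, x * v = v * x) →
    (∀ x ∈ T, x ∈ centralizer (A : Set G) → x = 1 ∨ x = t) →
    TCen t (VV π) → Exc t d (VV π) W k → Concl L A t F a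

/-- the case `q = 4`, `N(A) / C(A) = S₅` -/
def FiveStmt : Prop :=
  ∀ (F : Type v) [Field F] [Fintype F] [CharP F 2] (G : Type u) [Group G] [Finite G]
    (L A T : Subgroup G) (t : G) (π : SL2 F →* G), Conf L A t → Base A t T π →
    Fintype.card F = 4 → (∃ w ∈ T, ∃ v ∈ VV π, w * v ≠ v * w) → Concl L A t F 2

/-- the case where `A` is the double cover of `A₅` -/
def DoubleStmt : Prop :=
  ∀ (F : Type v) [Field F] [Fintype F] [CharP F 2] (G : Type u) [Group G] [Finite G]
    (L A : Subgroup G) (t : G), Conf L A t → Fintype.card F = 4 → t ∈ A →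
    (∃ f : ↥A →* SL2 F, Function.Surjective f ∧ f.ker = center ↥A ∧
      (∀ x : ↥A, x ∈ center ↥A ↔ x = 1 ∨ (x : G) = t) ∧
      ∀ x : ↥A, f x ≠ 1 → f x * f x = 1 → (x : G) * x = t) → Concl L A t F 2

/-- **The case `A ≃ L₂(q)`.** -/
theorem par_case (h0506 : Ends.S0506Stmt.{u}) (h1170 : Cfsg.Agent.StdSz.Out.S1170Stmt.{u})
    (h1740 : EndOne.S1740Stmt.{u}) (hf : FieldStmt.{u, v}) (hE : ExcStmt.{u, v})
    (h5 : FiveStmt.{u, v})
    {F : Type v} [Field F] [Fintype F] [CharP F 2] {G : Type u} [Group G] [Finite G]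
    {L A : Subgroup G} {t : G} {π : SL2 F →* G} (C : Conf L A t) (P : IsPar A π) {a : ℕ}
    (ha : 2 ≤ a) (hF : Fintype.card F = 2 ^ a) : Concl L A t F a := by
  obtain ⟨T, B, -⟩ := exists_base C P
  by_cases hc : ∀ x ∈ T, ∀ v ∈ VV π, x * v = v * x
  · rcases zero_case h0506 h1170 h1740 C B ha hF hc with h | ⟨k, W, d, H, X⟩
    · exact h
    · exact hE F G L A T W t d π a k C B hF hc (R_eq C B hc) H X
  · push Not at hc
    rcases two_or_four B ha hF hc with rfl | h4
    · exact h5 F G L A T t π C B hF hc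
    · exfalso
      have h16 : 16 ≤ Nat.card F := by
        rw [Nat.card_eq_fintype_card, hF]
        calc 16 = 2 ^ 4 := by norm_num
          _ ≤ 2 ^ a := Nat.pow_le_pow_right (by norm_num) h4
      obtain ⟨-, HF, d, hdA, hd, U, hU⟩ := field_case C B h16 hc
      exact hf F G L A T U t d π C B h16 HF hdA hd hU

theorem charP_of_card {F : Type v} [Field F] [Fintype F] {a : ℕ} (ha : 2 ≤ a)
    (hF : Fintype.card F = 2 ^ a) : CharP F 2 := by
  obtain ⟨p, hp⟩ := CharP.exists F
  have := hp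
  obtain ⟨k, hpp, hk⟩ := FiniteField.card F p
  have h5 : 2 ∣ p ^ (k : ℕ) := by
    rw [← hk, hF]; exact dvd_pow_self 2 (by omega)
  have h6 : 2 ∣ p := Nat.Prime.dvd_of_dvd_pow Nat.prime_two h5
  have h7 : 2 = p := (Nat.prime_dvd_prime_iff_eq Nat.prime_two hpp).mp h6
  exact h7 ▸ hp

/-- **The core of S1773.** -/
theorem core (h0506 : Ends.S0506Stmt.{u}) (h1170 : Cfsg.Agent.StdSz.Out.S1170Stmt.{u})
    (h1740 : EndOne.S1740Stmt.{u}) (hf : FieldStmt.{u, v}) (hE : ExcStmt.{u, v})
    (h5 : FiveStmt.{u, v}) (hD : DoubleStmt.{u, v})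
    (H : Type u) [Group H] [Finite H] (L A : Subgroup H) (t : H) (C : Conf L A t)
    (F : Type v) [Field F] [Fintype F] (a : ℕ) (ha : 2 ≤ a) (hF : Fintype.card F = 2 ^ a)
    (he : Nonempty (↥A ⧸ Subgroup.center ↥A ≃* Matrix.ProjectiveSpecialLinearGroup (Fin 2) F)) :
    Concl L A t F a := by
  haveI : CharP F 2 := charP_of_card ha hF
  rcases par_or_double C ha hF he with ⟨π, P⟩ | ⟨rfl, htA, h⟩
  · exact par_case h0506 h1170 h1740 hf hE h5 C P ha hF
  · exact hD F H L A t C hF htA h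

end Cfsg.Agent.StdL2.FrameFT
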