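import Cfsg.Agent.StdL2.FrameConf
import Cfsg.Agent.PermutationGroups.NoIndexTwo

/-!
# S1773: perfect subgroups of `C(t) ∩ C(v)`, `v` an involution of `A`

`odd_of_perfect`: they have odd order (they centralise `A`).  `exists_perfect_lift`: perfect subgroups of an
image lift to perfect subgroups.
-/

set_option autoImplicit false
set_option linter.unusedSectionVars false
set_option linter.style.haveILetI false
set_option Elab.async false

namespace Cfsg.Agent.StdL2.FrameFT

open scoped commutatorElement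

open Cfsg Subgroup Cfsg.Agent.StdL2 Cfsg.Agent.StdL2.Setup Cfsg.Agent.StdL2.Frame
  Cfsg.Agent.StdL2.Field Cfsg.Agent.StdL2.FieldStart Cfsg.Agent.StdL2.FT
open Cfsg.Agent.Lib.SL2Mat Cfsg.Agent.Lib.AutSL2

local notation "SL2" => Matrix.SpecialLinearGroup (Fin 2)

universe u

section general

/-- a perfect finite group with a cyclic Sylow 2-subgroup has odd order -/
theorem odd_of_cyclic {D : Type*} [Group D] [Finite D] (hp : commutator D = ⊤) (P : Sylow 2 D)
    (hP : IsCyclic (P : Subgroup D)) : Odd (Nat.card D) := by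
  rw [← Nat.not_even_iff_odd, even_iff_two_dvd]
  intro h2
  obtain ⟨N, hN⟩ := Cfsg.Agent.PermutationGroups.NoIndexTwo.exists_index_two_of_isCyclic P hP h2
  haveI hn : N.Normal := normal_of_index_eq_two hN
  haveI : Fact (Nat.Prime 2) := ⟨Nat.prime_two⟩
  have hc : IsCyclic (D ⧸ N) := isCyclic_of_prime_card (p := 2) (by
    rw [← Subgroup.index_eq_card, hN])
  have hle : commutator D ≤ N := by
    rw [_root_.commutator_def, commutator_le]
    intro a _ b _
    rw [← QuotientGroup.ker_mk' N, MonoidHom.mem_ker, map_commutatorElement,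
      commutatorElement_eq_one_iff_mul_comm]
    exact (IsCyclic.commGroup (α := D ⧸ N)).mul_comm _ _
  rw [hp, top_le_iff] at hle
  rw [hle, index_top] at hN
  omega

theorem commutator_self_iff {G : Type*} [Group G] (D : Subgroup G) :
    commutator ↥D = ⊤ ↔ ⁅D, D⁆ = D := by
  have h1 : (commutator ↥D).map D.subtype = ⁅D, D⁆ := by
    rw [_root_.commutator_def, map_commutator, ← MonoidHom.range_eq_map, range_subtype]
  constructor
  · intro h
    rw [← h1, h, ← MonoidHom.range_eq_map, range_subtype]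
  · intro h
    apply map_injective D.subtype_injective
    rw [h1, h, ← MonoidHom.range_eq_map, range_subtype]

/-- perfect subgroups of an image lift -/
theorem exists_perfect_lift {X Y : Type*} [Group X] [Finite X] [Group Y] (f : X →* Y)
    (D : Subgroup Y) (hD : D ≤ f.range) (hp : ⁅D, D⁆ = D) :
    ∃ P : Subgroup X, ⁅P, P⁆ = P ∧ P.map f = D := by
  have h1 : ∃ P : Subgroup X, P.map f = D := by
    refine ⟨D.comap f, ?_⟩
    rw [map_comap_eq, inf_eq_right.2 hD]
  obtain ⟨P, hP, hmin⟩ : ∃ P : Subgroup X, P.map f = D ∧ ∀ Q ≤ P, Q.map f = D → Q = P := by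
    obtain ⟨P, hP⟩ := (Set.toFinite {P : Subgroup X | P.map f = D}).exists_minimal h1
    exact ⟨P, hP.1, fun Q hQ hQD => le_antisymm hQ (hP.2 hQD hQ)⟩
  refine ⟨P, hmin _ ?_ ?_, hP⟩
  · rw [commutator_le]
    intro a ha b hb
    rw [commutatorElement_def]
    exact P.mul_mem (P.mul_mem (P.mul_mem ha hb) (P.inv_mem ha)) (P.inv_mem hb)
  · rw [map_commutator, hP, hp]

/-- With the odd order theorem, a group all of whose perfect subgroups have odd order is solvable. -/
theorem isSolvable_of_perfect
    (hft : ∀ (G : Type u) [Group G] [Finite G], Odd (Nat.card G) → Group.IsSolvable G)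
    {X : Type u} [Group X] [Finite X]
    (h : ∀ D : Subgroup X, ⁅D, D⁆ = D → Odd (Nat.card D)) : Group.IsSolvable X := by
  obtain ⟨n, hn⟩ : ∃ n, derivedSeries X (n + 1) = derivedSeries X n := by
    obtain ⟨P, hP⟩ := (Set.toFinite (Set.range (derivedSeries X))).exists_minimal
      ⟨_, ⟨0, rfl⟩⟩
    obtain ⟨⟨n, rfl⟩, hmin⟩ := hP
    refine ⟨n, le_antisymm ?_ ?_⟩
    · exact derivedSeries_antitone X (Nat.le_succ n)
    · exact hmin ⟨n + 1, rfl⟩ (derivedSeries_antitone X (Nat.le_succ n))
  rw [derivedSeries_succ] at hn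
  have h1 := hft _ (h _ hn)
  refine ⟨n, ?_⟩
  by_contra hne
  have hnt : Nontrivial (derivedSeries X n) := (Subgroup.nontrivial_iff_ne_bot _).2 hne
  have h2 := Group.IsSolvable.commutator_lt_top_of_nontrivial (derivedSeries X n)
  rw [(commutator_self_iff _).2 hn] at h2
  exact lt_irrefl _ h2

end general

variable {F : Type*} [Field F] [Finite F] [CharP F 2] {G : Type u} [Group G] [Finite G]
  {L A T : Subgroup G} {t : G} {π : SL2 F →* G}

/-- **Perfect subgroups of `C(t) ∩ C(v)` centralise `A`.** -/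
theorem Base.le_centralizer (B : Base A t T π) {v : G} (hv : v ∈ VV π) (hv1 : v ≠ 1)
    {D : Subgroup G} (hp : ⁅D, D⁆ = D) (hDt : ∀ x ∈ D, x * t = t * x)
    (hDv : ∀ x ∈ D, x * v = v * x) : D ≤ centralizer (A : Set G) := by
  have hpD : commutator ↥D = ⊤ := (commutator_self_iff D).2 hp
  have hDN : D ≤ normalizer (A : Set G) := fun x hx =>
    B.cle (mem_centralizer_singleton_iff.2 (hDt x hx))
  -- no field automorphisms
  have hfld : ∀ x (hx : x ∈ D), Field.fld B.P ⟨x, hDN hx⟩ = 1 := by
    intro x hx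
    let f : D →* (F ≃+* F) := (Field.fld B.P).comp (Subgroup.inclusion hDN)
    have h1 : commutator ↥D ≤ f.ker := by
      rw [_root_.commutator_def, commutator_le]
      intro a _ b _
      rw [MonoidHom.mem_ker, map_commutatorElement, commutatorElement_eq_one_iff_mul_comm]
      exact Cfsg.Agent.StdRank2.OutField.comm _ _
    rw [hpD, top_le_iff] at h1
    have h2 : (⟨x, hx⟩ : D) ∈ f.ker := by rw [h1]; exact mem_top _
    exact h2
  -- elements of `D` act as elements of the root group
  have hact : ∀ x ∈ D, ∃ b : F, Acts π x (up b) 1 := by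
    intro x hx
    obtain ⟨y, hy⟩ := exists_acts B.P (hDN hx)
    rw [hfld x hx] at hy
    obtain ⟨c, rfl⟩ := mem_VV.1 hv
    have hc0 : c ≠ 0 := by
      rintro rfl
      rw [up_zero, map_one] at hv1
      exact hv1 rfl
    have h1 := hy (up c)
    rw [fieldAut_one_apply, hDv x hx, mul_inv_cancel_right] at h1
    have h2 := B.P.inj h1
    have h3 : ent y 1 0 = 0 := ent_of_conj hc0 h2.symm
    rw [conj_up h3] at h2
    have h4 : ent y 0 0 ^ 2 = 1 := by
      have h5 := up_inj h2
      have h6 : (ent y 0 0 ^ 2 - 1) * c = 0 := by linear_combination -h5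
      have := (mul_eq_zero.1 h6).resolve_right hc0
      linear_combination this
    have h5 : ent y 0 0 = 1 := by
      have h6 : (ent y 0 0 - 1) ^ 2 = 0 := by
        have e2 : (2 : F) = 0 := CharTwo.two_eq_zero
        linear_combination h4 - (ent y 0 0 - 1) * e2
      have := pow_eq_zero_iff (two_ne_zero) |>.1 h6
      linear_combination this
    refine ⟨ent y 0 1, ?_⟩
    rw [← eq_up h3 h5]
    exact hy
  have h1 : commutator ↥D ≤ (centralizer (A : Set G)).subgroupOf D := by
    rw [_root_.commutator_def, commutator_le]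
    rintro ⟨a, ha⟩ _ ⟨b, hb⟩ _
    rw [mem_subgroupOf]
    show a * b * a⁻¹ * b⁻¹ ∈ centralizer (A : Set G)
    obtain ⟨c, hc⟩ := hact a ha
    obtain ⟨e, he⟩ := hact b hb
    have h2 : Acts π (a * b) (up c * up e) 1 := by
      have := hc.mul he
      simpa [fieldAut_one_apply] using this
    have h3 : Acts π (b * a) (up c * up e) 1 := by
      have h4 := he.mul hc
      have h5 : (up e : SL2 F) * up c = up c * up e := by
        rw [up_mul, up_mul, add_comm]
      simp only [fieldAut_one_apply, mul_one] at h4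
      rwa [h5] at h4
    rw [mem_centralizer_iff]
    intro w hw
    obtain ⟨z, rfl⟩ := B.P.exists_eq hw
    -- `(ba)⁻¹` and `ab`
    have h4 : ∀ z, a * b * π z * (a * b)⁻¹ = b * a * π z * (b * a)⁻¹ := fun z => by
      rw [h2 z, h3 z]
    have h5 := h4 z
    have h6 : ∀ z, a * b * a⁻¹ * b⁻¹ * π z * (a * b * a⁻¹ * b⁻¹)⁻¹ = π z := by
      intro z
      obtain ⟨y, hy⟩ : ∃ y, π y = (b * a)⁻¹ * π z * (b * a) := by
        apply B.P.exists_eq
        have h7 : b * a ∈ normalizer (A : Set G) := mul_mem (hDN hb) (hDN ha)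
        have h8 := (mem_normalizer_iff.1 (inv_mem h7) (π z)).1 (B.P.mem z)
        rwa [inv_inv] at h8
      have h7 : π z = b * a * π y * (b * a)⁻¹ := by rw [hy]; group
      have h8 := h4 y
      have e : a * b * a⁻¹ * b⁻¹ = (a * b) * (b * a)⁻¹ := by group
      rw [e]
      calc a * b * (b * a)⁻¹ * π z * (a * b * (b * a)⁻¹)⁻¹ =
          a * b * ((b * a)⁻¹ * π z * (b * a)) * (a * b)⁻¹ := by group
        _ = a * b * π y * (a * b)⁻¹ := by rw [hy]
        _ = π z := by rw [h8, ← h7]
    have h7 := h6 z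
    rw [mul_inv_eq_iff_eq_mul] at h7
    exact h7.symm
  intro x hx
  rw [hpD] at h1
  exact mem_subgroupOf.1 (h1 (mem_top (⟨x, hx⟩ : D)))

/-- **Perfect subgroups of `C(t) ∩ C(v)` have odd order.** -/
theorem Base.odd_of_perfect (B : Base A t T π) {v : G} (hv : v ∈ VV π) (hv1 : v ≠ 1)
    {D : Subgroup G} (hp : ⁅D, D⁆ = D) (hDt : ∀ x ∈ D, x * t = t * x)
    (hDv : ∀ x ∈ D, x * v = v * x) : Odd (Nat.card D) := by
  have h1 := B.le_centralizer hv hv1 hp hDt hDv
  obtain ⟨S⟩ : Nonempty (Sylow 2 D) := inferInstance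
  refine odd_of_cyclic ((commutator_self_iff D).2 hp) S ?_
  -- the Sylow subgroup is cyclic
  let i : D →* centralizer (A : Set G) := Subgroup.inclusion h1
  have hi : Function.Injective i := Subgroup.inclusion_injective h1
  obtain ⟨R, hR⟩ := (S.isPGroup'.map i).exists_le_sylow
  have hc := B.cyc R
  let g : (S : Subgroup D) →* (R : Subgroup (centralizer (A : Set G))) :=
    { toFun := fun x => ⟨i x, hR ⟨x, x.2, rfl⟩⟩
      map_one' := Subtype.ext (map_one i)
      map_mul' := fun x y => Subtype.ext (map_mul i _ _) }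
  have hg : Function.Injective g := by
    intro x y h
    exact Subtype.ext (hi (congrArg Subtype.val h))
  exact isCyclic_of_injective g hg

/-- `C(t) ∩ C(v)` is solvable. -/
theorem Base.solvable (B : Base A t T π)
    (hft : ∀ (G : Type u) [Group G] [Finite G], Odd (Nat.card G) → Group.IsSolvable G)
    {v : G} (hv : v ∈ VV π) (hv1 : v ≠ 1) :
    Group.IsSolvable ↥(centralizer ({t} : Set G) ⊓ centralizer ({v} : Set G)) := by
  apply isSolvable_of_perfect hft
  intro D hD
  have h1 : ⁅D.map (Subgroup.subtype _), D.map (Subgroup.subtype _)⁆ = D.map (Subgroup.subtype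
      (centralizer ({t} : Set G) ⊓ centralizer ({v} : Set G))) := by
    rw [← map_commutator, hD]
  have h2 := B.odd_of_perfect hv hv1 h1 (by
    rintro _ ⟨x, -, rfl⟩
    exact mem_centralizer_singleton_iff.1 x.2.1) (by
    rintro _ ⟨x, -, rfl⟩
    exact mem_centralizer_singleton_iff.1 x.2.2)
  rwa [Subgroup.card_map_of_injective (Subgroup.subtype_injective _)] at h2

/-- The section version: perfect subgroups of a quotient of a subgroup of `C(t) ∩ C(v)` by a subgroup of
odd order, in terms of a homomorphism. -/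
theorem Base.odd_of_perfect_image (B : Base A t T π) {v : G} (hv : v ∈ VV π) (hv1 : v ≠ 1)
    {K : Subgroup G} (hKt : ∀ x ∈ K, x * t = t * x) (hKv : ∀ x ∈ K, x * v = v * x)
    {Y : Type*} [Group Y] (f : K →* Y) {D : Subgroup Y} (hD : D ≤ f.range) (hp : ⁅D, D⁆ = D) :
    Odd (Nat.card D) := by
  obtain ⟨P, hP, hPD⟩ := exists_perfect_lift f D hD hp
  have h1 : ⁅P.map K.subtype, P.map K.subtype⁆ = P.map K.subtype := by
    rw [← map_commutator, hP]
  have h2 := B.odd_of_perfect hv hv1 h1 (by
    rintro _ ⟨x, -, rfl⟩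
    exact hKt x x.2) (by
    rintro _ ⟨x, -, rfl⟩
    exact hKv x x.2)
  have h3 : Nat.card (P.map K.subtype) = Nat.card P :=
    (Nat.card_congr (P.equivMapOfInjective K.subtype K.subtype_injective).toEquiv).symm
  rw [h3] at h2
  have h4 : Nat.card D ∣ Nat.card P := by
    rw [← hPD]
    exact Subgroup.card_dvd_of_surjective (f.subgroupMap P) (f.subgroupMap_surjective P)
  exact Odd.of_dvd_nat h2 h4

end Cfsg.Agent.StdL2.FrameFT
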