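import Cfsg.Agent.StdL2.G23Ident
import Cfsg.Agent.StdL2.FrameAll
import Cfsg.Agent.StdL2.FrameSolv
import Cfsg.Agent.StdL2.TowerLoc

/-!
# S1773: the exceptional case of the tower, `k = 0`: `L ≃ G₂(3)`
-/

set_option autoImplicit false

namespace Cfsg.Agent.StdL2.FrameFT

open Cfsg Subgroup Cfsg.Agent.StdL2 Cfsg.Agent.StdL2.Setup Cfsg.Agent.StdL2.Frame
  Cfsg.Agent.StdL2.Field Cfsg.Agent.StdL2.FieldStart Cfsg.Agent.StdL2.FT Cfsg.Agent.StdL2.Assemble
open Cfsg.Agent.Lib.SL2Mat

local notation "SL2" => Matrix.SpecialLinearGroup (Fin 2)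

universe u v

/-- **The exceptional case, `k = 0`.** -/
theorem exc_zero (gold : G23U.Gold.{u}) (hodd : G23Comp.OddSolv.{u}) (hwal : G23NoComp.Walter.{u})
    (hdich : G23Ident.Dich.{u}) (hsmall : G23Ident.Small.{u})
    {F : Type v} [Field F] [Fintype F] [CharP F 2] {G : Type u} [Group G] [Finite G]
    {L A T W : Subgroup G} {t d : G} {π : SL2 F →* G} {a : ℕ} (C : Conf L A t) (B : Base A t T π)
    (hF : Fintype.card F = 2 ^ a) (H : TCen t (VV π)) (X : Exc t d (VV π) W 0) :
    Concl L A t F a := by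
  have h8 : Fintype.card F = 8 := by
    rw [← Nat.card_eq_fintype_card, ← card_VV B.P, X.oct]
  refine Or.inr (Or.inr ⟨?_, h8, ?_⟩)
  · obtain ⟨e⟩ := Cfsg.Agent.WeakTI.PslTwo.nonempty_equiv (F := F)
    exact ⟨(((MulEquiv.subgroupCongr B.P.range).symm.trans
      (MonoidHom.ofInjective B.P.inj).symm).trans e)⟩
  · have hVA : VV π ≤ A := by
      rw [← B.P.range]
      exact map_le_range _ _
    exact G23Ident.main (J := L) (V := VV π) (t := t)
      { loc := X.loc H, nJ := C.normal, simple := C.simple, nonab := C.not_comm,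
        VJ := hVA.trans C.le }
      (fun v hv hv1 => B.solvable hodd hv hv1) gold hodd hwal hdich hsmall

end Cfsg.Agent.StdL2.FrameFT
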