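import Cfsg.Agent.StdL2.ExcHigh
import Cfsg.Agent.StdL2.FrameAll
import Cfsg.Agent.StdL2.FrameSolv
import Cfsg.Agent.StdL2.ExcZero

/-!
# S1773: the exceptional case of the tower

`excStmt_of`: `ExcStmt` follows from its case `k = 0` (`ExcZeroStmt`).
-/

set_option autoImplicit false
set_option linter.unusedSectionVars false
set_option linter.style.haveILetI false

namespace Cfsg.Agent.StdL2.ExcMain

open Cfsg Subgroup Cfsg.Agent.StdL2 Cfsg.Agent.StdL2.Setup Cfsg.Agent.StdL2.Frame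
  Cfsg.Agent.StdL2.Assemble Cfsg.Agent.StdL2.FrameFT

local notation "SL2" => Matrix.SpecialLinearGroup (Fin 2)

universe u v

/-- the exceptional case at the bottom of the tower: `U = V`, order 8, `N(V)/C(V) = GL(3,2)` in the sense of `Exc` -/
def ExcZeroStmt : Prop :=
  ∀ (F : Type v) [Field F] [Fintype F] [CharP F 2] (G : Type u) [Group G] [Finite G]
    (L A T W : Subgroup G) (t d : G) (π : SL2 F →* G) (a : ℕ), Conf L A t → Base A t T π →
    Fintype.card F = 2 ^ a → (∀ x ∈ T, ∀ v ∈ VV π, x * v = v * x) →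
    (∀ x ∈ T, x ∈ centralizer (A : Set G) → x = 1 ∨ x = t) →
    TCen t (VV π) → Exc t d (VV π) W 0 → Concl L A t F a

/-- **The exceptional case** from its case `k = 0`. -/
theorem excStmt_of (h1169 : S1169Stmt.{u}) (h0222 : S0222Stmt.{u}) (h1171 : TypeL3.H1171.{u})
    (h1296 : TypeL3.H1296.{u})
    (hft : ∀ (G : Type u) [Group G] [Finite G], Odd (Nat.card G) → Group.IsSolvable G)
    (h0 : ExcZeroStmt.{u, v}) : ExcStmt.{u, v} := by
  intro F _ _ _ G _ _ L A T W t d π a k C B hF hT hR H X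
  rcases Nat.eq_zero_or_pos k with rfl | hk
  · exact h0 F G L A T W t d π a C B hF hT hR H X
  · obtain ⟨htL, -⟩ := X.base C H hk
    refine Or.inl ⟨X.high h1169 h0222 h1171 h1296 C (three_dvd B.P hF) H hk ?_, htL⟩
    intro v hv hv1
    exact B.solvable hft hv hv1

/-- **The exceptional case.** -/
theorem excStmt (h1169 : S1169Stmt.{u}) (h0222 : S0222Stmt.{u}) (h1171 : TypeL3.H1171.{u})
    (h1296 : TypeL3.H1296.{u}) (gold : G23U.Gold.{u}) (hodd : G23Comp.OddSolv.{u})
    (hwal : G23NoComp.Walter.{u}) (hdich : G23Ident.Dich.{u}) (hsmall : G23Ident.Small.{u}) :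
    ExcStmt.{u, v} :=
  excStmt_of h1169 h0222 h1171 h1296 hodd
    fun _ _ _ _ _ _ _ _ _ _ _ _ _ _ _ C B hF _ _ H X =>
      exc_zero gold hodd hwal hdich hsmall C B hF H X

end Cfsg.Agent.StdL2.ExcMain
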