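import Cfsg.Agent.StdL2.FEnd

/-!
# S1773, case (f), the end, second part: `S ∩ L` contains elements interchanging `V₁` and `V₂`

Then `U` is strongly closed in `S ∩ L` with respect to `L` (LEMMA SC), and the field involution is
not fused into `U`: contradiction to Goldschmidt's theorem.
-/

set_option autoImplicit false
set_option linter.unusedSectionVars false

open Subgroup
open scoped commutatorElement

namespace Cfsg.Agent.StdL2.FEnd

open Cfsg.Agent.StdL2.FieldStart (IsSyl exists_isSyl card_le_two_mul exists_normalizer_gt)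
open Cfsg.Agent.StdL2.SC (conj_mem_norm norm_conj norm_conj')
open Cfsg.Agent.StdL2.FGal (GalAct)
open Cfsg.Agent.StdL2.FWr Cfsg.Agent.StdL2.FT
open Cfsg.Agent.GH.E (rr mem_rr le_rr self_mem_rr)

namespace Fin5

section

variable {G : Type*} [Group G] [Finite G] {t : G} {V T C₀ U V1 V2 S L : Subgroup G}

/-- if `x ∈ S` is fused into `U`, then so by an element conjugating `C_S(x)` into `S`. -/
theorem extremal (H : Fin5 t V T C₀ U V1 V2 S) {x g0 : G} (hx : g0 * x * g0⁻¹ ∈ U) :
    ∃ g, g * x * g⁻¹ ∈ U ∧ ∀ y ∈ S, y * x = x * y → g * y * g⁻¹ ∈ S := by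
  have W := H.W
  set u := g0 * x * g0⁻¹ with hudef
  have hWu : U ≤ centralizer {u} := fun w hw => mem_centralizer_singleton_iff.2 (W.ucomm hw hx)
  obtain ⟨R, hR, hWR⟩ := exists_isSyl (centralizer {u}) U (W.S2.to_le W.US) hWu
  let Q0 : Subgroup G := (S ⊓ centralizer {x} : Subgroup G).map (MulAut.conj g0).toMonoidHom
  have hQ0 : IsPGroup 2 Q0 := (W.S2.to_le inf_le_left).map _
  have hQ0' : Q0 ≤ centralizer {u} := by
    rintro _ ⟨y, ⟨hy, hyx⟩, rfl⟩
    have hyx' : y * x = x * y := mem_centralizer_singleton_iff.1 hyx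
    refine mem_centralizer_singleton_iff.2 ?_
    change g0 * y * g0⁻¹ * u = u * (g0 * y * g0⁻¹)
    rw [hudef]
    have e1 : g0 * y * g0⁻¹ * (g0 * x * g0⁻¹) = g0 * (y * x) * g0⁻¹ := by group
    have e2 : g0 * x * g0⁻¹ * (g0 * y * g0⁻¹) = g0 * (x * y) * g0⁻¹ := by group
    rw [e1, e2, hyx']
  obtain ⟨c, hc, hcR⟩ := hR.conj hQ0 hQ0'
  obtain ⟨k, -, hkn, hkP⟩ := SC.into H.Syl (fun g _ h => W.wc g h) hR.1 le_top hWR
  have hcu : c * u = u * c := mem_centralizer_singleton_iff.1 hc
  refine ⟨k * c * g0, ?_, ?_⟩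
  · have e : k * c * g0 * x * (k * c * g0)⁻¹ = k * (c * u * c⁻¹) * k⁻¹ := by
      rw [hudef]; group
    have e' : c * u * c⁻¹ = u := by rw [hcu]; group
    rw [e, e']
    exact norm_conj hkn hx
  · intro y hy hyx
    have e : k * c * g0 * y * (k * c * g0)⁻¹ = k * (c * (g0 * y * g0⁻¹) * c⁻¹) * k⁻¹ := by group
    rw [e]
    exact hkP _ (hcR _ ⟨y, ⟨hy, mem_centralizer_singleton_iff.2 hyx⟩, rfl⟩)

variable {u : G}

/-- the field involution is not fused into `U`. -/
theorem not_bad (H : Fin5 t V T C₀ U V1 V2 S) (h : Fu H.W T V L u) (g : G) :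
    g * u * g⁻¹ ∉ U := by
  intro hg
  have W := H.W
  obtain ⟨k, hku, hk⟩ := H.extremal hg
  have hkt := hk t W.tS (H.fcomm h).symm
  have hc : k * u * k⁻¹ * (k * t * k⁻¹) = k * t * k⁻¹ * (k * u * k⁻¹) := by
    have e1 : k * u * k⁻¹ * (k * t * k⁻¹) = k * (u * t) * k⁻¹ := by group
    have e2 : k * t * k⁻¹ * (k * u * k⁻¹) = k * (t * u) * k⁻¹ := by group
    rw [e1, e2, H.fcomm h]
  have h1 := H.key hkt hku hc
  have e : k⁻¹ * (k * u * k⁻¹) * k = u := by group
  rw [e] at h1
  exact H.fu_notC h h1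

/-- no involution of type `(f, f)` is fused into `U`. -/
theorem type_not_bad (H : Fin5 t V T C₀ U V1 V2 S) (h : Fu H.W T V L u) {y : G}
    (hy : u⁻¹ * y ∈ U) (g : G) : g * y * g⁻¹ ∉ U := by
  intro hg
  have W := H.W
  have hyy : y * y = 1 := by
    have h1 := W.usq _ hg
    have e : g * y * g⁻¹ * (g * y * g⁻¹) = g * (y * y) * g⁻¹ := by group
    rw [e] at h1
    exact conj_eq_one_iff.1 h1
  have huS := H.TS h.mT
  have hui : u⁻¹ = u := inv_eq_of_mul_eq_one_left h.sq
  rw [hui] at hy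
  have hc : Nat.card (SFive.LeafTools.cq U u) ^ 2 = Nat.card U := by
    apply le_antisymm
    · have h5 := W.prod_le h.mN h.mN (X := U ⊓ centralizer {u}) inf_le_left
        (fun x hx => mem_centralizer_singleton_iff.1 hx.2)
        (fun x hx => mem_centralizer_singleton_iff.1 hx.2)
      have h6 := W.fix1 h.mN (H.fu_ne1 h)
      have h7 := W.fix2 h.mN (H.fu_ne2 h)
      rw [W.card_U]
      calc Nat.card (SFive.LeafTools.cq U u) ^ 2 ≤
          (Nat.card (V1 ⊓ centralizer {u} : Subgroup G) *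
            Nat.card (V2 ⊓ centralizer {u} : Subgroup G)) ^ 2 := Nat.pow_le_pow_left h5 2
        _ = Nat.card (V1 ⊓ centralizer {u} : Subgroup G) ^ 2 *
            Nat.card (V2 ⊓ centralizer {u} : Subgroup G) ^ 2 := by ring
        _ ≤ Nat.card V1 * Nat.card V1 := Nat.mul_le_mul h6 h7
        _ = Nat.card V1 ^ 2 := by ring
    · exact EOneFusion.card_le_cent_sq h.sq W.usq (W.SU u huS)
  obtain ⟨r, -, hr⟩ := SFive.LeafTools.conj_of_invol W.usq (W.SU u huS) h.sq hc hy hyy
  apply H.not_bad h (g * r)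
  have e : g * r * u * (g * r)⁻¹ = g * (r * u * r⁻¹) * g⁻¹ := by group
  rw [e, hr]
  exact hg

/-- an element `y ∈ N₀` such that some `y w`, `w ∈ U`, is fused into `U`, acts trivially on `V₁` or
on `V₂`. -/
theorem bad_cases (H : Fin5 t V T C₀ U V1 V2 S) (h : Fu H.W T V L u) {y : G} (hy : y ∈ H.W.N0)
    (hyy : y * y ∈ U) (hbad : ∃ w ∈ U, ∃ g : G, g * (y * w) * g⁻¹ ∈ U) :
    (∀ a ∈ V1, y * a = a * y) ∨ ∀ b ∈ V2, y * b = b * y := by
  by_contra hcon
  push Not at hcon
  obtain ⟨h1, h2⟩ := hcon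
  have h3 := H.type h hy hyy h1 h2
  obtain ⟨w, hw, g, hg⟩ := hbad
  refine H.type_not_bad h (y := y * w) ?_ g hg
  rw [← mul_assoc]
  exact U.mul_mem h3 hw

/-- the bound for a subgroup commuting with a swapping element and with an element of `N₀`. -/
theorem _root_.Cfsg.Agent.StdL2.FWr.Wr.sw_le' (W : Wr t U V1 V2 S) {y z : G} (hy : y ∈ S)
    (hyN : y ∉ W.N0) (hz : z ∈ W.N0) {X : Subgroup G} (hX : X ≤ U) (hXy : ∀ x ∈ X, x * y = y * x)
    (hXz : ∀ x ∈ X, x * z = z * x) :
    Nat.card X ≤ Nat.card (V1 ⊓ centralizer {z} : Subgroup G) := by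
  classical
  obtain ⟨h1, h2⟩ := W.sw hy hyN
  choose f hf g hg hfg using fun x : X => W.gen x (hX x.2)
  have hfz : ∀ x : X, f x * z = z * f x := by
    intro x
    have h := hXz x x.2
    rw [hfg x] at h
    have h3 : (z * f x * z⁻¹) * (z * g x * z⁻¹) = f x * g x := by
      calc (z * f x * z⁻¹) * (z * g x * z⁻¹) = z * (f x * g x) * z⁻¹ := by group
        _ = f x * g x := by rw [← h]; group
    have h4 := (W.dec (W.n1 hz _ (hf x)) (hf x) (W.n2 hz _ (hg x)) (hg x) h3).1
    rw [mul_inv_eq_iff_eq_mul] at h4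
    exact h4.symm
  refine Nat.card_le_card_of_injective (fun x : X =>
    (⟨f x, hf x, mem_centralizer_singleton_iff.2 (hfz x)⟩ :
      (V1 ⊓ centralizer {z} : Subgroup G))) ?_
  have key : ∀ x : X, g x = y * f x * y⁻¹ := by
    intro x
    have h3 := hXy x x.2
    rw [hfg x] at h3
    have h4 : (y * g x * y⁻¹) * (y * f x * y⁻¹) = f x * g x := by
      calc (y * g x * y⁻¹) * (y * f x * y⁻¹) = y * (g x * f x) * y⁻¹ := by group
        _ = y * (f x * g x) * y⁻¹ := by rw [W.ucomm (W.V2U (hg x)) (W.V1U (hf x))]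
        _ = f x * g x := by rw [← h3]; group
    exact ((W.dec (h2 _ (hg x)) (hf x) (h1 _ (hf x)) (hg x) h4).2).symm
  intro x x' h
  have h3 : f x = f x' := congrArg (fun p : (V1 ⊓ centralizer {z} : Subgroup G) => (p : G)) h
  apply Subtype.ext
  rw [hfg x, hfg x', key x, key x', h3]

/-- (i) of LEMMA SC -/
theorem sc_i (H : Fin5 t V T C₀ U V1 V2 S) (h : Fu H.W T V L u) {F : Subgroup G}
    (hFS : F ≤ S) (hcomm : ∀ y ∈ F, ∀ z ∈ F, y * z * y⁻¹ * z⁻¹ ∈ U) (hsq : ∀ y ∈ F, y * y ∈ U)
    (hbad : ∀ y ∈ F, y ∉ U → ∃ w ∈ U, ∃ g ∈ L, g * (y * w) * g⁻¹ ∈ U) :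
    ∀ y ∈ F, ∀ z ∈ F, y ∉ U → z ∉ U → y⁻¹ * z ∈ U := by
  have W := H.W
  have hcase : ∀ y ∈ F, y ∉ U → y ∈ W.N0 → (∀ a ∈ V1, y * a = a * y) ∨ ∀ b ∈ V2, y * b = b * y := by
    intro y hy hyU hyN
    obtain ⟨w, hw, g, -, hg⟩ := hbad y hy hyU
    exact H.bad_cases h hyN (hsq y hy) ⟨w, hw, g, hg⟩
  intro y hy z hz hyU hzU
  by_cases hall : ∃ s ∈ F, s ∉ W.N0
  · -- all elements of `F ∩ N₀` are in `U`
    obtain ⟨s, hs, hsN⟩ := hall
    have hsS := hFS hs
    obtain ⟨s1, s2⟩ := W.sw hsS hsN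
    have key : ∀ x ∈ F, x ∈ W.N0 → x ∈ U := by
      intro x hx hxN
      by_contra hxU
      have hc := hcomm s hs x hx
      -- `s x s⁻¹ ∈ U x`
      have hsx : ∀ v ∈ U, x * v = v * x → (s * x * s⁻¹) * v = v * (s * x * s⁻¹) := by
        intro v hv hxv
        have e : s * x * s⁻¹ = (s * x * s⁻¹ * x⁻¹) * x := by group
        rw [e, mul_assoc, hxv, ← mul_assoc, W.ucomm hc hv, mul_assoc]
      have hback : ∀ v, (s * x * s⁻¹) * (s * v * s⁻¹) = (s * v * s⁻¹) * (s * x * s⁻¹) →
          x * v = v * x := by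
        intro v hv
        have e1 : (s * x * s⁻¹) * (s * v * s⁻¹) = s * (x * v) * s⁻¹ := by group
        have e2 : (s * v * s⁻¹) * (s * x * s⁻¹) = s * (v * x) * s⁻¹ := by group
        rw [e1, e2] at hv
        exact mul_left_cancel (mul_right_cancel hv)
      rcases hcase x hx hxU hxN with h1 | h2
      · apply hxU
        refine W.mem_U (hFS hx) h1 fun b hb => hback b ?_
        exact hsx _ (W.V1U (s2 b hb)) (h1 _ (s2 b hb))
      · apply hxU
        refine W.mem_U (hFS hx) (fun a ha => hback a ?_) h2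
        exact hsx _ (W.V2U (s1 a ha)) (h2 _ (s1 a ha))
    have hyN : y ∉ W.N0 := fun hN => hyU (key y hy hN)
    have hzN : z ∉ W.N0 := fun hN => hzU (key z hz hN)
    refine key _ (F.mul_mem (F.inv_mem hy) hz) (W.mul_mem_of_sw (S.inv_mem (hFS hy)) (hFS hz) ?_ hzN)
    intro hN
    apply hyN
    have := W.N0.inv_mem hN
    rwa [inv_inv] at this
  · push Not at hall
    have hsqc : ∀ x ∈ F, ∀ v ∈ U, (x * x) * v = v * (x * x) := fun x hx v hv =>
      W.ucomm (hsq x hx) hv
    have hyN := hall y hy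
    have hzN := hall z hz
    have hyS := W.N0S hyN
    have hzS := W.N0S hzN
    have hinvc : ∀ {v : G}, y * v = v * y → z * v = v * z → (y⁻¹ * z) * v = v * (y⁻¹ * z) := by
      intro v hyv hzv
      have h1 : y⁻¹ * v = v * y⁻¹ := by
        rw [inv_mul_eq_iff_eq_mul, ← mul_assoc, hyv, mul_inv_cancel_right]
      rw [mul_assoc, hzv, ← mul_assoc, h1, mul_assoc]
    -- the mixed case
    have hmix : ∀ x ∈ F, ∀ x' ∈ F, x ∉ U → x' ∉ U → (∀ a ∈ V1, x * a = a * x) →
        ¬ ∀ b ∈ V2, x' * b = b * x' := by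
      intro x hx x' hx' hxU hxU' h1 h2
      have hxN := hall x hx
      have hxN' := hall x' hx'
      have hxxF := F.mul_mem hx hx'
      have h3 : ¬ ∀ b ∈ V2, x * b = b * x := fun h3 => hxU (W.mem_U (hFS hx) h1 h3)
      have h4 : ¬ ∀ a ∈ V1, x' * a = a * x' := fun h4 => hxU' (W.mem_U (hFS hx') h4 h2)
      have h5 : ¬ ∀ a ∈ V1, (x * x') * a = a * (x * x') := by
        intro h5
        apply h4
        intro a ha
        have h6 := h5 a ha
        have h7 := h1 (x' * a * x'⁻¹) (W.n1 hxN' a ha)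
        have h8 : x * (x' * a * x'⁻¹) = a * x := by
          calc x * (x' * a * x'⁻¹) = (x * x' * a) * x'⁻¹ := by group
            _ = (a * (x * x')) * x'⁻¹ := by rw [h6]
            _ = a * x := by group
        rw [h7, ← h1 a ha] at h8
        rw [h1 a ha] at h8
        have h9 := mul_right_cancel h8
        rwa [mul_inv_eq_iff_eq_mul] at h9
      have h6 : ¬ ∀ b ∈ V2, (x * x') * b = b * (x * x') := by
        intro h6
        apply h3
        intro b hb
        have h7 := h6 b hb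
        rw [mul_assoc, h2 b hb] at h7
        have h8 : (x * b) * x' = (b * x) * x' := by
          rw [mul_assoc, h7, mul_assoc]
        exact mul_right_cancel h8
      have hU : x * x' ∉ U := by
        intro hU
        exact h5 fun a ha => W.ucomm hU (W.V1U ha)
      rcases hcase _ hxxF hU (hall _ hxxF) with h7 | h7
      · exact h5 h7
      · exact h6 h7
    rcases hcase y hy hyU hyN with h1 | h1
    · rcases hcase z hz hzU hzN with h2 | h2
      · -- both centralise `V₁`
        have h3 : ∃ b ∈ V2, y * b ≠ b * y := by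
          by_contra hcon
          push Not at hcon
          exact hyU (W.mem_U hyS h1 hcon)
        have h4 : ∃ b ∈ V2, z * b ≠ b * z := by
          by_contra hcon
          push Not at hcon
          exact hzU (W.mem_U hzS h2 hcon)
        refine W.mem_U (S.mul_mem (S.inv_mem hyS) hzS) (fun a ha => hinvc (h1 a ha) (h2 a ha)) ?_
        exact W.symm.gal.uniq y hyS z hzS (W.n2 hyN) (W.n2 hzN)
          (fun b hb => hsqc y hy b (W.V2U hb)) (fun b hb => hsqc z hz b (W.V2U hb)) h3 h4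
      · exact absurd h2 (hmix y hy z hz hyU hzU h1)
    · rcases hcase z hz hzU hzN with h2 | h2
      · exact absurd h1 (hmix z hz y hy hzU hyU h2)
      · have h3 : ∃ a ∈ V1, y * a ≠ a * y := by
          by_contra hcon
          push Not at hcon
          exact hyU (W.mem_U hyS hcon h1)
        have h4 : ∃ a ∈ V1, z * a ≠ a * z := by
          by_contra hcon
          push Not at hcon
          exact hzU (W.mem_U hzS hcon h2)
        refine W.mem_U (S.mul_mem (S.inv_mem hyS) hzS) ?_ (fun a ha => hinvc (h1 a ha) (h2 a ha))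
        exact W.gal.uniq y hyS z hzS (W.n1 hyN) (W.n1 hzN)
          (fun b hb => hsqc y hy b (W.V1U hb)) (fun b hb => hsqc z hz b (W.V1U hb)) h3 h4

/-- the cardinality hypothesis of LEMMA SC -/
theorem sc_card (H : Fin5 t V T C₀ U V1 V2 S) {x : G} (hx : x ∈ S) (hxU : x ∉ U) :
    2 * Nat.card (U ⊓ centralizer {x} : Subgroup G) < Nat.card U := by
  have W := H.W
  have hq := W.card16
  rw [W.card_U]
  set X : Subgroup G := U ⊓ centralizer {x}
  have hXx : ∀ y ∈ X, y * x = x * y := fun y hy => mem_centralizer_singleton_iff.1 hy.2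
  set q := Nat.card V1
  by_cases hN : x ∈ W.N0
  · have h1 := W.lt_of_not_mem hN hxU (X := X) inf_le_left hXx
    by_contra hcon
    push Not at hcon
    have h7 : (q ^ 2) ^ 2 ≤ (2 * Nat.card X) ^ 2 := Nat.pow_le_pow_left hcon 2
    have h11 : q ^ 3 * q ≤ q ^ 3 * 4 := by
      calc q ^ 3 * q = (q ^ 2) ^ 2 := by ring
        _ ≤ (2 * Nat.card X) ^ 2 := h7
        _ = 4 * Nat.card X ^ 2 := by ring
        _ ≤ 4 * q ^ 3 := Nat.mul_le_mul_left 4 h1
        _ = q ^ 3 * 4 := by ring
    have h12 := Nat.le_of_mul_le_mul_left h11 (by positivity)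
    omega
  · have h1 := W.sw_le hx hN (X := X) inf_le_left hXx
    nlinarith

theorem one_le_card (X : Subgroup G) : 1 ≤ Nat.card X := Nat.card_pos

/-- `x` acts trivially on `V₂`, nontrivially on `V₁`; the case `x ∈ N₀` of (ii). -/
theorem sc_ii_aux (H : Fin5 t V T C₀ U V1 V2 S) (Ln : L.Normal) (tL : t ∉ L) (UL : U ≤ L)
    (hcase : ∃ s ∈ S, s ∈ L ∧ s ∉ H.W.N0) {x : G}
    (hxN : x ∈ H.W.N0) (hxU : x ∉ U) (hxx : x * x = 1) (h2 : ∀ b ∈ V2, x * b = b * x)
    {B : Subgroup G} (hB : B ≤ U ⊓ centralizer {x})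
    (hc : Nat.card (U ⊓ centralizer {x} : Subgroup G) ≤ 2 * Nat.card B) {y : G} (hy : y ∈ S)
    (hyL : y ∈ L) (hyB : ∀ b ∈ B, y * b = b * y) : y ∈ U ∨ x * y ∈ U := by
  have W := H.W
  have hq := W.card16
  have hBx : ∀ b ∈ B, b * x = x * b := fun b hb => mem_centralizer_singleton_iff.1 (hB hb).2
  have hBU : B ≤ U := hB.trans inf_le_left
  have h1 : ∃ a ∈ V1, x * a ≠ a * x := by
    by_contra hcon
    push Not at hcon
    exact hxU (W.mem_U (W.N0S hxN) hcon h2)
  have hlow := W.le_cent h2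
  have hfx := W.fix1 hxN h1
  have hqx := W.q_le hxN hxx
  set q := Nat.card V1 with hqdef
  set c := Nat.card (V1 ⊓ centralizer {x} : Subgroup G) with hcdef
  have hcc : c ^ 2 = q := le_antisymm hfx hqx
  have hqcB : q * c ≤ 2 * Nat.card B := hlow.trans hc
  have hc4 : 4 ≤ c := by
    by_contra hcon
    have h3 : c ≤ 3 := by omega
    have h4 : c ^ 2 ≤ 3 ^ 2 := Nat.pow_le_pow_left h3 2
    omega
  by_cases hyN : y ∈ W.N0
  · -- `y` centralises `V₂`
    have hy2 : ∀ b ∈ V2, y * b = b * y := by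
      by_contra hcon
      push Not at hcon
      have h3 := W.fix2 hyN hcon
      have h4 := W.prod_le hxN hyN hBU hBx (fun b hb => (hyB b hb).symm)
      set c2 := Nat.card (V2 ⊓ centralizer {y} : Subgroup G)
      have h5 : c * q ≤ c * (2 * c2) := by
        calc c * q = q * c := by ring
          _ ≤ 2 * Nat.card B := hqcB
          _ ≤ 2 * (c * c2) := Nat.mul_le_mul_left 2 h4
          _ = c * (2 * c2) := by ring
      have h6 := Nat.le_of_mul_le_mul_left h5 (by omega)
      have h7 : q ^ 2 ≤ (2 * c2) ^ 2 := Nat.pow_le_pow_left h6 2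
      have h8 : (2 * c2) ^ 2 = 4 * c2 ^ 2 := by ring
      rw [h8] at h7
      nlinarith
    by_cases hyy : ∀ a ∈ V1, (y * y) * a = a * (y * y)
    · by_cases hy1 : ∀ a ∈ V1, y * a = a * y
      · exact Or.inl (W.mem_U hy hy1 hy2)
      · push Not at hy1
        right
        have h3 := W.gal.uniq x (W.N0S hxN) y hy (W.n1 hxN) (W.n1 hyN)
          (fun a _ => by rw [hxx, one_mul, mul_one]) hyy h1 hy1
        have hxi : x⁻¹ = x := inv_eq_of_mul_eq_one_left hxx
        rw [hxi] at h3
        refine W.mem_U (S.mul_mem (W.N0S hxN) hy) h3 fun b hb => ?_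
        rw [mul_assoc, hy2 b hb, ← mul_assoc, h2 b hb, mul_assoc]
    · -- the exceptional case `q = 16`
      exfalso
      push Not at hyy
      have h3 := W.gal.fix4 y hy (W.n1 hyN) hyy
      have h4 := W.prod_le hyN hxN hBU (fun b hb => (hyB b hb).symm) hBx
      have h5 := W.card_cent_le2 x
      set c1 := Nat.card (V1 ⊓ centralizer {y} : Subgroup G) with hc1def
      have h6 : q * c ≤ q * (2 * c1) := by
        calc q * c ≤ 2 * Nat.card B := hqcB
          _ ≤ 2 * (c1 * Nat.card (V2 ⊓ centralizer {x} : Subgroup G)) := Nat.mul_le_mul_left 2 h4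
          _ ≤ 2 * (c1 * q) := Nat.mul_le_mul_left 2 (Nat.mul_le_mul_left c1 h5)
          _ = q * (2 * c1) := by ring
      have h7 := Nat.le_of_mul_le_mul_left h6 (by omega)
      have h8 : c1 ≤ 2 := by
        by_contra hcon
        have h9 : 3 ≤ c1 := by omega
        have h10 : c1 ^ 4 ≤ (2 * c1) ^ 2 := by
          calc c1 ^ 4 ≤ q := h3
            _ = c ^ 2 := hcc.symm
            _ ≤ (2 * c1) ^ 2 := Nat.pow_le_pow_left h7 2
        have h11 : c1 ^ 2 * c1 ^ 2 ≤ c1 ^ 2 * 4 := by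
          calc c1 ^ 2 * c1 ^ 2 = c1 ^ 4 := by ring
            _ ≤ (2 * c1) ^ 2 := h10
            _ = c1 ^ 2 * 4 := by ring
        have h12 := Nat.le_of_mul_le_mul_left h11 (by positivity)
        have h13 : 3 ^ 2 ≤ c1 ^ 2 := Nat.pow_le_pow_left h9 2
        omega
      -- `N₀ ≤ L`
      have hN0L : ∀ s ∈ W.N0, s ∈ L := by
        intro s hs
        have hsS := W.N0S hs
        obtain ⟨n, hn⟩ := W.gal.gen2 y hy (W.n1 hyN) h8 s hsS (W.n1 hs)
        have hts := W.conj_t_N0 hs
        obtain ⟨m, hm⟩ := W.gal.gen2 y hy (W.n1 hyN) h8 _ (W.N0S hts) (W.n1 hts)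
        -- `y₂ = t⁻¹ y t`
        have ht' : ∀ a ∈ V1, t⁻¹ * a * t ∈ V2 := by
          intro a ha
          have := W.tsw a ha
          rw [W.tinv] at this ⊢
          exact this
        have ht'' : ∀ b ∈ V2, t⁻¹ * b * t ∈ V1 := by
          intro b hb
          have := W.tsw' b hb
          rw [W.tinv] at this ⊢
          exact this
        set y2 := t⁻¹ * y * t with hy2def
        have hy2L : y2 ∈ L := by
          have := Ln.conj_mem _ hyL t⁻¹
          rwa [inv_inv] at this
        have hy2S : y2 ∈ S := S.mul_mem (S.mul_mem (S.inv_mem W.tS) hy) W.tS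
        have hy2c : ∀ a ∈ V1, y2 * a = a * y2 := by
          intro a ha
          have h9 := hy2 (t * a * t⁻¹) (W.tsw a ha)
          have e1 : y * (t * a * t⁻¹) = t * (y2 * a) * t⁻¹ := by rw [hy2def]; group
          have e2 : (t * a * t⁻¹) * y = t * (a * y2) * t⁻¹ := by rw [hy2def]; group
          rw [e1, e2] at h9
          exact mul_left_cancel (mul_right_cancel h9)
        have hpow : ∀ (z v : G) (k : ℕ), z * v = v * z → z ^ k * v = v * z ^ k := by
          intro z v k hzv
          exact (Commute.pow_left (show Commute z v from hzv) k)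
        have hsU : y ^ n * y2 ^ m * s ∈ U := by
          apply W.mem_U (S.mul_mem (S.mul_mem (S.pow_mem hy n) (S.pow_mem hy2S m)) hsS)
          · intro a ha
            have h9 := hn a ha
            have h10 := hpow y2 _ m (hy2c _ (W.n1 hs a ha))
            calc y ^ n * y2 ^ m * s * a = y ^ n * (y2 ^ m * (s * a * s⁻¹)) * s := by group
              _ = y ^ n * ((s * a * s⁻¹) * y2 ^ m) * s := by rw [h10]
              _ = (y ^ n * s * a) * (s⁻¹ * y2 ^ m * s) := by group
              _ = (a * (y ^ n * s)) * (s⁻¹ * y2 ^ m * s) := by rw [h9]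
              _ = a * (y ^ n * y2 ^ m * s) := by group
          · intro b hb
            have h9 := hm (t * b * t⁻¹) (W.tsw' b hb)
            have e1 : (y ^ m * (t * s * t⁻¹)) * (t * b * t⁻¹) = t * ((y2 ^ m * s) * b) * t⁻¹ := by
              have : y ^ m = t * y2 ^ m * t⁻¹ := by
                rw [hy2def, ← conj_pow]
                congr 1
                group
              rw [this]; group
            have e2 : (t * b * t⁻¹) * (y ^ m * (t * s * t⁻¹)) = t * (b * (y2 ^ m * s)) * t⁻¹ := by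
              have : y ^ m = t * y2 ^ m * t⁻¹ := by
                rw [hy2def, ← conj_pow]
                congr 1
                group
              rw [this]; group
            rw [e1, e2] at h9
            have h10 : (y2 ^ m * s) * b = b * (y2 ^ m * s) := mul_left_cancel (mul_right_cancel h9)
            have h11 := hpow y b n (hy2 b hb)
            calc y ^ n * y2 ^ m * s * b = y ^ n * ((y2 ^ m * s) * b) := by group
              _ = y ^ n * (b * (y2 ^ m * s)) := by rw [h10]
              _ = (y ^ n * b) * (y2 ^ m * s) := by group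
              _ = (b * y ^ n) * (y2 ^ m * s) := by rw [h11]
              _ = b * (y ^ n * y2 ^ m * s) := by group
        have h9 := UL hsU
        have h10 : y ^ n * y2 ^ m ∈ L := L.mul_mem (L.pow_mem hyL n) (L.pow_mem hy2L m)
        have h11 := L.mul_mem (L.inv_mem h10) h9
        rwa [inv_mul_cancel_left] at h11
      obtain ⟨s, hsS, hsL, hsN⟩ := hcase
      have h9 := hN0L _ (W.mul_mem_of_sw W.tS hsS W.t_not hsN)
      apply tL
      have h10 := L.mul_mem h9 (L.inv_mem hsL)
      rwa [mul_inv_cancel_right] at h10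
  · exfalso
    have h3 := W.sw_le hy hyN hBU (fun b hb => (hyB b hb).symm)
    have h4 : q * c ≤ q * 2 := by
      calc q * c ≤ 2 * Nat.card B := hqcB
        _ ≤ 2 * q := Nat.mul_le_mul_left 2 h3
        _ = q * 2 := by ring
    have h5 := Nat.le_of_mul_le_mul_left h4 (by omega)
    omega

/-- (ii) of LEMMA SC inside `S ∩ L`. -/
theorem sc_ii (H : Fin5 t V T C₀ U V1 V2 S) (h : Fu H.W T V L u) (Ln : L.Normal) (tL : t ∉ L)
    (UL : U ≤ L) (hcase : ∃ s ∈ S, s ∈ L ∧ s ∉ H.W.N0) {x : G}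
    (hxS : x ∈ S) (hxU : x ∉ U) (hbad : ∃ g : G, g * x * g⁻¹ ∈ U)
    {B : Subgroup G} (hB : B ≤ U ⊓ centralizer {x})
    (hc : Nat.card (U ⊓ centralizer {x} : Subgroup G) ≤ 2 * Nat.card B) {y : G} (hy : y ∈ S)
    (hyL : y ∈ L) (hyB : ∀ b ∈ B, y * b = b * y) : y ∈ U ∨ x * y ∈ U := by
  have W := H.W
  have hq := W.card16
  have hBx : ∀ b ∈ B, b * x = x * b := fun b hb => mem_centralizer_singleton_iff.1 (hB hb).2
  have hBU : B ≤ U := hB.trans inf_le_left
  have hxx : x * x = 1 := by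
    obtain ⟨g, hg⟩ := hbad
    have h1 := W.usq _ hg
    have e : g * x * g⁻¹ * (g * x * g⁻¹) = g * (x * x) * g⁻¹ := by group
    rw [e] at h1
    exact conj_eq_one_iff.1 h1
  by_cases hxN : x ∈ W.N0
  · rcases H.bad_cases h hxN (by rw [hxx]; exact U.one_mem)
      ⟨1, U.one_mem, by simpa using hbad⟩ with h1 | h2
    · exact H.symm.sc_ii_aux Ln tL UL (by rw [W.N0_symm]; exact hcase)
        (by rw [W.N0_symm]; exact hxN) hxU hxx h1 hB hc hy hyL hyB
    · exact H.sc_ii_aux Ln tL UL hcase hxN hxU hxx h2 hB hc hy hyL hyB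
  · -- `x` interchanges `V₁` and `V₂`
    have hqB : Nat.card V1 ≤ 2 * Nat.card B := by
      refine le_trans ?_ hc
      have h1 := EOneFusion.card_le_cent_sq hxx W.usq (W.SU x hxS)
      rw [W.card_U] at h1
      exact (Nat.pow_le_pow_iff_left (by norm_num)).1 h1
    have key : ∀ y ∈ W.N0, (∀ b ∈ B, y * b = b * y) → y ∈ U := by
      intro y hyN hyB
      have hgen : ∀ c : ℕ, Nat.card B ≤ c → c ^ 2 ≤ Nat.card V1 → False := by
        intro c h3 h4
        have h5 : Nat.card V1 ≤ 2 * c := hqB.trans (Nat.mul_le_mul_left 2 h3)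
        have h6 : Nat.card V1 ^ 2 ≤ (2 * c) ^ 2 := Nat.pow_le_pow_left h5 2
        have h7 : (2 * c) ^ 2 = 4 * c ^ 2 := by ring
        rw [h7] at h6
        nlinarith
      apply W.mem_U (W.N0S hyN)
      · by_contra hcon
        push Not at hcon
        exact hgen _ (W.sw_le' hxS hxN hyN hBU hBx (fun b hb => (hyB b hb).symm))
          (W.fix1 hyN hcon)
      · by_contra hcon
        push Not at hcon
        exact hgen _ (W.symm.sw_le' hxS (by rw [W.N0_symm]; exact hxN)
          (by rw [W.N0_symm]; exact hyN) hBU hBx (fun b hb => (hyB b hb).symm))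
          (W.fix2 hyN hcon)
    by_cases hyN : y ∈ W.N0
    · exact Or.inl (key y hyN hyB)
    · right
      refine key _ (W.mul_mem_of_sw hxS hy hxN hyN) fun b hb => ?_
      rw [mul_assoc, hyB b hb, ← mul_assoc, ← hBx b hb, mul_assoc]

/-- `U` is strongly closed in `S ∩ L` with respect to `L`. -/
theorem strongly_closed (H : Fin5 t V T C₀ U V1 V2 S) (h : Fu H.W T V L u) (Ln : L.Normal)
    (tL : t ∉ L) (UL : U ≤ L) (hcase : ∃ s ∈ S, s ∈ L ∧ s ∉ H.W.N0) :
    ∀ w ∈ U, ∀ g ∈ L, g * w * g⁻¹ ∈ S ⊓ L → g * w * g⁻¹ ∈ U := by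
  have W := H.W
  have hSyl : IsSyl L (S ⊓ L) := by
    have := H.Syl.inf_normal Ln
    rwa [top_inf_eq] at this
  have wc : ∀ g ∈ L, (∀ w ∈ U, g * w * g⁻¹ ∈ S ⊓ L) → ∀ w ∈ U, g * w * g⁻¹ ∈ U :=
    fun g _ hg => W.wc g fun w hw => (hg w hw).1
  refine SC.strong hSyl (le_inf W.US UL) W.usq wc ?_ ?_ ?_
  · intro F _ hFS hcomm hsq hbad
    exact H.sc_i (L := L) h (hFS.trans inf_le_left) hcomm hsq hbad
  · intro x hx hxU _
    exact H.sc_card hx.1 hxU
  · intro x hx hxU hbad B hB hc Q hQ hQL hUQ hxQ hQB _ y hy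
    obtain ⟨k, hkL, hkn, hkP⟩ := SC.into hSyl wc hQ hQL hUQ
    -- transport with `k`
    let B' : Subgroup G := B.map (MulAut.conj k).toMonoidHom
    have hB'c : Nat.card B' = Nat.card B :=
      (Nat.card_congr (B.equivMapOfInjective _ (MulAut.conj k).injective).toEquiv).symm
    have hmap : (U ⊓ centralizer {x} : Subgroup G).map (MulAut.conj k).toMonoidHom =
        U ⊓ centralizer {k * x * k⁻¹} := by
      apply le_antisymm
      · rintro _ ⟨w, ⟨hw, hwx⟩, rfl⟩
        have hwx' := mem_centralizer_singleton_iff.1 hwx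
        refine ⟨norm_conj hkn hw, mem_centralizer_singleton_iff.2 ?_⟩
        change k * w * k⁻¹ * (k * x * k⁻¹) = k * x * k⁻¹ * (k * w * k⁻¹)
        have e1 : k * w * k⁻¹ * (k * x * k⁻¹) = k * (w * x) * k⁻¹ := by group
        have e2 : k * x * k⁻¹ * (k * w * k⁻¹) = k * (x * w) * k⁻¹ := by group
        rw [e1, e2, hwx']
      · rintro w ⟨hw, hwx⟩
        have hwx' := mem_centralizer_singleton_iff.1 hwx
        refine ⟨k⁻¹ * w * k, ⟨norm_conj' hkn hw, mem_centralizer_singleton_iff.2 ?_⟩, ?_⟩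
        · have e1 : k⁻¹ * w * k * x = k⁻¹ * (w * (k * x * k⁻¹)) * k := by group
          have e2 : x * (k⁻¹ * w * k) = k⁻¹ * ((k * x * k⁻¹) * w) * k := by group
          rw [e1, e2, hwx']
        · change k * (k⁻¹ * w * k) * k⁻¹ = w
          group
    have hcard : Nat.card (U ⊓ centralizer {k * x * k⁻¹} : Subgroup G) =
        Nat.card (U ⊓ centralizer {x} : Subgroup G) := by
      rw [← hmap]
      exact (Nat.card_congr (Subgroup.equivMapOfInjective _ _
        (MulAut.conj k).injective).toEquiv).symm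
    have hxk := hkP x hxQ
    have hyk := hkP y hy
    have hback : ∀ z : G, k * z * k⁻¹ ∈ U → z ∈ U := by
      intro z hz
      have h1 := norm_conj' hkn hz
      have e : k⁻¹ * (k * z * k⁻¹) * k = z := by group
      rwa [e] at h1
    have hres := H.sc_ii h Ln tL UL hcase (x := k * x * k⁻¹) hxk.1
      (fun hU => hxU (hback x hU)) (by
        obtain ⟨g, -, hg⟩ := hbad
        refine ⟨g * k⁻¹, ?_⟩
        have e : g * k⁻¹ * (k * x * k⁻¹) * (g * k⁻¹)⁻¹ = g * x * g⁻¹ := by group
        rw [e]; exact hg) (B := B') (by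
        rw [← hmap]
        exact Subgroup.map_mono hB) (by rw [hcard, hB'c]; exact hc) hyk.1 hyk.2 (by
        rintro _ ⟨b, hb, rfl⟩
        change k * y * k⁻¹ * (k * b * k⁻¹) = k * b * k⁻¹ * (k * y * k⁻¹)
        have e1 : k * y * k⁻¹ * (k * b * k⁻¹) = k * (y * b) * k⁻¹ := by group
        have e2 : k * b * k⁻¹ * (k * y * k⁻¹) = k * (b * y) * k⁻¹ := by group
        rw [e1, e2, hQB y hy b hb])
    rcases hres with h1 | h1
    · exact Or.inl (hback y h1)
    · right
      apply hback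
      have e : k * (x * y) * k⁻¹ = k * x * k⁻¹ * (k * y * k⁻¹) := by group
      rw [e]; exact h1

end

end Fin5

open Cfsg.Agent.StdSz.EndClosed (Gold)

universe u

/-- a strongly closed elementary abelian subgroup and an involution outside. -/
theorem false_of_closed {L : Type u} [Group L] [Finite L] [IsSimpleGroup L] (gold : Gold.{u})
    (X : Sylow 2 L) (Z : Subgroup L) (hsc : Cfsg.IsStronglyClosed Z (X : Subgroup L))
    (hZ2 : ∀ z ∈ Z, z * z = 1) (hZne : ∃ z ∈ Z, z ≠ 1)
    (hnc : ¬ IsMulCommutative (X : Subgroup L))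
    (hy : ∃ y ∈ X, y ∉ Z ∧ y * y = 1) : False := by
  obtain ⟨z, hz, hz1⟩ := hZne
  obtain ⟨y, hyX, hyZ, hy2⟩ := hy
  have hy1 : y ≠ 1 := by rintro rfl; exact hyZ (one_mem _)
  have hoz : orderOf z = 2 := orderOf_eq_prime (by rw [pow_two]; exact hZ2 z hz) hz1
  have hoy : orderOf y = 2 := orderOf_eq_prime (by rw [pow_two]; exact hy2) hy1
  have hne : Z ≠ ⊥ := by
    intro h
    rw [h, mem_bot] at hz
    exact hz1 hz
  have hcomm : IsMulCommutative Z := by
    refine ⟨⟨fun a b => Subtype.ext ?_⟩⟩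
    have ha := hZ2 a a.2
    have hb := hZ2 b b.2
    have hab := hZ2 _ (mul_mem a.2 b.2)
    show (a : L) * b = b * a
    have ha' : (a : L)⁻¹ = a := inv_eq_of_mul_eq_one_left ha
    have hb' : (b : L)⁻¹ = b := inv_eq_of_mul_eq_one_left hb
    have h1 : ((a : L) * b)⁻¹ = a * b := inv_eq_of_mul_eq_one_left hab
    rw [mul_inv_rev, ha', hb'] at h1
    exact h1.symm
  rcases gold X Z hne hcomm hsc with h | ⟨H, hH⟩
  · exact hnc h
  · -- all involutions are conjugate
    have hone : ∀ a b : L, orderOf a = 2 → orderOf b = 2 → IsConj a b := by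
      have hfact : Fact (Nat.Prime 2) := ⟨Nat.prime_two⟩
      have h2 : 2 ∣ Nat.card H := hH.2.1.two_dvd
      obtain ⟨s, hs⟩ := exists_prime_orderOf_dvd_card' 2 h2
      have hs' : orderOf (s : L) = 2 := by rw [orderOf_coe]; exact hs
      obtain ⟨u, hu, huH⟩ : ∃ u : L, orderOf u = 2 ∧ u ∉ H := by
        by_contra hcon
        push Not at hcon
        have h3 : normalClosure ({(s : L)} : Set L) ≤ H := by
          rw [normalClosure, closure_le]
          intro x hx
          rw [Group.mem_conjugatesOfSet_iff] at hx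
          obtain ⟨a, ha, hax⟩ := hx
          rw [Set.mem_singleton_iff] at ha
          subst ha
          obtain ⟨c, hc⟩ := isConj_iff.mp hax
          apply hcon
          rw [← hc]
          have : orderOf (c * (s : L) * c⁻¹) = orderOf (s : L) := (MulAut.conj c).orderOf_eq (s : L)
          rw [this, hs']
        have h4 : (normalClosure ({(s : L)} : Set L)).Normal := normalClosure_normal
        rcases h4.eq_bot_or_eq_top with h5 | h5
        · have h6 : (s : L) ∈ normalClosure ({(s : L)} : Set L) :=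
            subset_normalClosure (Set.mem_singleton _)
          rw [h5, mem_bot] at h6
          rw [h6, orderOf_one] at hs'
          omega
        · rw [h5] at h3
          exact hH.1 (top_le_iff.mp h3)
      exact (Cfsg.Agent.S1225.result H hH u hu huH s s hs' s.2 hs' s.2).2
    obtain ⟨c, hc⟩ := isConj_iff.mp (hone z y hoz hoy)
    have h1 := hsc.2 z hz c (by rw [hc]; exact hyX)
    rw [hc] at h1
    exact hyZ h1

/-- **The end of case (f).** -/
theorem Fin5.main {G : Type u} [Group G] [Finite G] {t : G} {V T C₀ U V1 V2 S L A : Subgroup G}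
    (gold : Gold.{u}) (C : Setup.Conf L A t) (H : Fin5 t V T C₀ U V1 V2 S)
    (UG : U ≤ commutator G) : False := by
  have W := H.W
  have Ln := C.normal
  have tL := H.alpha C
  have UL : U ≤ L := UG.trans (Ends.commutator_le_L C)
  have ht2 := W.t2
  have hLt : ∀ x, x ∈ L ∨ t * x ∈ L := by
    intro x
    have hx : x ∈ L ⊔ zpowers t := by rw [C.gen]; exact mem_top x
    obtain ⟨l, hl, z, hz, rfl⟩ := mem_sup_of_normal_left.1 hx
    obtain ⟨n, rfl⟩ := mem_zpowers_iff.1 hz
    have ht2' : t ^ (2 : ℤ) = 1 := by rw [zpow_two]; exact ht2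
    rcases Int.even_or_odd' n with ⟨k, rfl | rfl⟩
    · left
      rw [zpow_mul, ht2', one_zpow, mul_one]; exact hl
    · right
      rw [zpow_add, zpow_mul, ht2', one_zpow, one_mul, zpow_one, ← mul_assoc]
      have h1 := Ln.conj_mem l hl t
      rwa [W.tinv] at h1
  obtain ⟨u, hu⟩ := H.exists_fu Ln hLt tL UL
  by_cases hcase : ∀ s ∈ S, s ∈ L → s ∈ W.N0
  · refine H.beta_one hu Ln UL hcase ?_
    have hs := C.simple
    have h1 : commutator L = ⊤ := by
      rcases (inferInstance : (commutator L).Normal).eq_bot_or_eq_top with h | h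
      · exfalso
        apply C.not_comm
        refine ⟨⟨fun x y => ?_⟩⟩
        have h2 : ⁅x, y⁆ ∈ commutator L := commutator_mem_commutator (mem_top x) (mem_top y)
        rw [h, mem_bot, commutatorElement_eq_one_iff_mul_comm] at h2
        exact h2
      · exact h
    rw [h1]
    exact mem_top _
  · push Not at hcase
    have hsc := H.strongly_closed hu Ln tL UL hcase
    have hSyl : IsSyl L (S ⊓ L) := by
      have := H.Syl.inf_normal Ln
      rwa [top_inf_eq] at this
    have hs := C.simple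
    let X : Sylow 2 L :=
      { toSubgroup := (S ⊓ L).subgroupOf L
        isPGroup' := hSyl.1.comap_subtype
        is_maximal' := by
          intro Q hQ hTQ
          refine le_antisymm ?_ hTQ
          intro q hq
          have h1 : S ⊓ L ≤ Q.map L.subtype := by
            intro x hx
            exact ⟨⟨x, hx.2⟩, hTQ (mem_subgroupOf.2 hx), rfl⟩
          exact mem_subgroupOf.2
            (hSyl.2.2 (Q.map L.subtype) (hQ.map L.subtype) h1 (map_subtype_le _) ⟨q, hq, rfl⟩) }
    have hX : ∀ x : L, x ∈ (X : Subgroup L) ↔ (x : G) ∈ S ⊓ L := fun x => mem_subgroupOf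
    obtain ⟨s, hsS, hsL, hsN⟩ := hcase
    obtain ⟨a, ha, ha1⟩ := W.exists_ne
    have haL := UL (W.V1U ha)
    refine false_of_closed gold X (U.subgroupOf L) ⟨?_, ?_⟩ ?_ ?_ ?_ ?_
    · intro x hx
      exact (hX x).2 ⟨W.US (mem_subgroupOf.1 hx), x.2⟩
    · intro x hx g hg
      exact mem_subgroupOf.2 (hsc x (mem_subgroupOf.1 hx) g g.2 ((hX _).1 hg))
    · intro z hz
      exact Subtype.ext (W.usq z (mem_subgroupOf.1 hz))
    · exact ⟨⟨a, haL⟩, mem_subgroupOf.2 (W.V1U ha), fun e => ha1 (congrArg Subtype.val e)⟩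
    · intro hcomm
      have h1 := hcomm.is_comm.comm (⟨⟨s, hsL⟩, (hX _).2 ⟨hsS, hsL⟩⟩ : (X : Subgroup L))
        ⟨⟨a, haL⟩, (hX _).2 ⟨W.US (W.V1U ha), haL⟩⟩
      have h2 : s * a = a * s := congrArg (fun z : (X : Subgroup L) => ((z : L) : G)) h1
      have h3 := (W.sw hsS hsN).1 a ha
      rw [h2, mul_inv_cancel_right] at h3
      exact ha1 (W.disj a ha h3)
    · refine ⟨⟨u, hu.mL⟩, (hX _).2 ⟨H.TS hu.mT, hu.mL⟩, fun h => ?_, Subtype.ext hu.sq⟩
      exact H.fu_notU hu (mem_subgroupOf.1 h)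

/-- The end of case (f), from the output of the tower. -/
theorem false_of_wr {G : Type u} [Group G] [Finite G] {t d : G}
    {V T C₀ U V1 V2 S L A : Subgroup G} (gold : Gold.{u}) (C : Setup.Conf L A t)
    (F : FTD t V T C₀) (O : FOut t V T d U) (W : Wr t U V1 V2 S) (hTS : T ≤ S)
    (hS : IsSyl ⊤ S) : False :=
  Fin5.main gold C ⟨F, W, hTS, hS, O.VU, O.card, O.fix, O.bad⟩ O.gU

end Cfsg.Agent.StdL2.FEnd
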