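import Mathlib

/-!
# S1773, case (f): the group `X = N(W₀)/C(W₀)` acting on `W = W₀`

`W` is a 2-dimensional space over the field `F` of order `q = q₀²` (embedded by `κ` in `End W`,
`d(Fˣ) ≤ X`), `t` an `F`-linear involution (a transvection in the basis `w₁, t w₁ + w₁`), `f` an
involution commuting with `t`, acting `σ`-semilinearly, `σ` the involutory automorphism of `F`.
The centralizer of `t` in `X` normalizes `d(Fˣ)`, and its elements centralizing `d(Fˣ)` lie in
`⟨t⟩ d(Fˣ)`.
-/

set_option autoImplicit false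
set_option linter.unusedSectionVars false

namespace Cfsg.Agent.StdL2.F

/-- The configuration. -/
structure XC {X W F : Type*} [Group X] [AddCommGroup W] [DistribMulAction X W] [Field F]
    (κ : F →+* AddMonoid.End W) (d : Fˣ →* X) (σ : F ≃+* F) (t f : X) (w₁ : W) : Prop where
  faithful : ∀ x : X, (∀ w : W, x • w = w) → x = 1
  two : (2 : F) = 0
  sig : ∀ a, σ (σ a) = a
  sig1 : ∃ a, σ a ≠ a
  four : 4 ≤ Nat.card {a : F // σ a = a}
  act : ∀ (a : Fˣ) (w : W), d a • w = κ (a : F) w
  tt : t * t = 1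
  ff : f * f = 1
  tf : t * f = f * t
  td : ∀ a, t * d a = d a * t
  fd : ∀ a, f * d a = d (Units.map (σ : F →* F) a) * f
  fw : f • w₁ = w₁
  span : ∀ w, ∃ a b : F, w = κ a w₁ + κ b (t • w₁ + w₁)
  indep : ∀ a b : F, κ a w₁ + κ b (t • w₁ + w₁) = 0 → a = 0 ∧ b = 0
  normD : ∀ x : X, x * t = t * x → ∀ a, ∃ b, x * d a = d b * x
  centD : ∀ x : X, x * t = t * x → (∀ a, x * d a = d a * x) → ∃ a, x = d a ∨ x = t * d a

namespace XC

variable {X W F : Type*} [Group X] [Finite X] [AddCommGroup W] [DistribMulAction X W] [Field F]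
  [Finite F] {κ : F →+* AddMonoid.End W} {d : Fˣ →* X} {σ : F ≃+* F} {t f : X} {w₁ : W}

/-! ### characteristic 2 -/

theorem add_self_F (C : XC κ d σ t f w₁) (a : F) : a + a = 0 := by
  rw [← two_mul, C.two, zero_mul]

theorem neg_F (C : XC κ d σ t f w₁) (a : F) : -a = a :=
  neg_eq_of_add_eq_zero_left (C.add_self_F a)

theorem add_self_W (C : XC κ d σ t f w₁) (w : W) : w + w = 0 := by
  have h1 : κ (1 + 1) w = 0 := by rw [C.add_self_F 1, map_zero]; rfl
  rw [map_add, map_one] at h1
  exact h1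

theorem neg_W (C : XC κ d σ t f w₁) (w : W) : -w = w :=
  neg_eq_of_add_eq_zero_left (C.add_self_W w)

theorem add_eq_zero_iff_W (C : XC κ d σ t f w₁) {v w : W} : v + w = 0 ↔ v = w := by
  constructor
  · intro h
    have := eq_neg_of_add_eq_zero_left h
    rwa [C.neg_W] at this
  · rintro rfl; exact C.add_self_W v

theorem add_self_R (C : XC κ d σ t f w₁) (x : AddMonoid.End W) : x + x = 0 := by
  ext w; exact C.add_self_W (x w)

/-! ### the representation -/

/-- the representation of `X` -/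
abbrev rho (X W : Type*) [Group X] [AddCommGroup W] [DistribMulAction X W] :
    X →* AddMonoid.End W := DistribMulAction.toAddMonoidEnd X W

@[simp] theorem rho_apply (x : X) (w : W) : rho X W x w = x • w := rfl

theorem rho_d (C : XC κ d σ t f w₁) (a : Fˣ) : rho X W (d a) = κ a := by
  ext w; exact C.act a w

theorem rho_inj (C : XC κ d σ t f w₁) : Function.Injective (rho X W) := by
  intro x y h
  have h1 : x⁻¹ * y = 1 := by
    apply C.faithful
    intro w
    have := DFunLike.congr_fun h w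
    simp only [rho_apply] at this
    rw [mul_smul, ← this, inv_smul_smul]
  exact (inv_mul_eq_one.mp h1)

theorem nontrivial (C : XC κ d σ t f w₁) : Nontrivial W := by
  refine ⟨⟨w₁, 0, ?_⟩⟩
  intro h
  have := C.indep 1 0 (by rw [h]; simp)
  exact one_ne_zero this.1

theorem kappa_injective (C : XC κ d σ t f w₁) : Function.Injective κ := by
  intro a b h
  have h1 := C.indep (a - b) 0 (by
    rw [map_sub, h, sub_self, map_zero]
    simp)
  exact sub_eq_zero.mp h1.1

theorem d_inj (C : XC κ d σ t f w₁) : Function.Injective d := by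
  intro a b h
  have h1 : κ (a : F) = κ (b : F) := by rw [← C.rho_d, ← C.rho_d, h]
  exact Units.ext (C.kappa_injective h1)

theorem t_kappa (C : XC κ d σ t f w₁) (a : F) :
    rho X W t * κ a = κ a * rho X W t := by
  by_cases ha : a = 0
  · subst ha; rw [map_zero, mul_zero, zero_mul]
  · have h := congrArg (rho X W) (C.td (Units.mk0 a ha))
    rw [map_mul, map_mul, C.rho_d] at h
    exact h

theorem f_kappa (C : XC κ d σ t f w₁) (a : F) :
    rho X W f * κ a = κ (σ a) * rho X W f := by
  by_cases ha : a = 0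
  · subst ha; rw [map_zero, mul_zero, map_zero, map_zero, zero_mul]
  · have h := congrArg (rho X W) (C.fd (Units.mk0 a ha))
    rw [map_mul, map_mul, C.rho_d, C.rho_d] at h
    exact h

theorem t_smul_kappa (C : XC κ d σ t f w₁) (a : F) (w : W) : t • κ a w = κ a (t • w) := by
  have := DFunLike.congr_fun (C.t_kappa a) w
  exact this

theorem f_smul_kappa (C : XC κ d σ t f w₁) (a : F) (w : W) : f • κ a w = κ (σ a) (f • w) := by
  have := DFunLike.congr_fun (C.f_kappa a) w
  exact this

theorem rho_tt (C : XC κ d σ t f w₁) : rho X W t * rho X W t = 1 := by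
  rw [← map_mul, C.tt, map_one]

theorem rho_ff (C : XC κ d σ t f w₁) : rho X W f * rho X W f = 1 := by
  rw [← map_mul, C.ff, map_one]

theorem rho_tf (C : XC κ d σ t f w₁) : rho X W t * rho X W f = rho X W f * rho X W t := by
  rw [← map_mul, C.tf, map_mul]

theorem t_inv (C : XC κ d σ t f w₁) : t⁻¹ = t := inv_eq_of_mul_eq_one_left C.tt

theorem f_inv (C : XC κ d σ t f w₁) : f⁻¹ = f := inv_eq_of_mul_eq_one_left C.ff

/-- the vector `v₁ = t w₁ + w₁` -/
theorem t_v (C : XC κ d σ t f w₁) : t • (t • w₁ + w₁) = t • w₁ + w₁ := by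
  rw [smul_add, smul_smul, C.tt, one_smul, add_comm]

theorem f_v (C : XC κ d σ t f w₁) : f • (t • w₁ + w₁) = t • w₁ + w₁ := by
  rw [smul_add, smul_smul, ← C.tf, mul_smul, C.fw]

theorem v_ne (C : XC κ d σ t f w₁) : t • w₁ + w₁ ≠ 0 := by
  intro h
  have := C.indep 0 1 (by rw [h]; simp)
  exact one_ne_zero this.2

theorem t_w (C : XC κ d σ t f w₁) : t • w₁ = w₁ + (t • w₁ + w₁) := by
  rw [add_comm (t • w₁) w₁, ← add_assoc, C.add_self_W, zero_add]

theorem t_ne_one (C : XC κ d σ t f w₁) : t ≠ 1 := by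
  intro h
  apply C.v_ne
  rw [h, one_smul]; exact C.add_self_W w₁

theorem f_ne_one (C : XC κ d σ t f w₁) : f ≠ 1 := by
  intro h
  obtain ⟨a, ha⟩ := C.sig1
  apply ha
  have h1 := C.f_smul_kappa a w₁
  rw [h, one_smul, one_smul] at h1
  have h2 := C.indep (a + σ a) 0 (by
    rw [map_zero]
    change κ (a + σ a) w₁ + (0 : W) = 0
    rw [map_add, add_zero]
    change κ a w₁ + κ (σ a) w₁ = 0
    rw [← h1]; exact C.add_self_W _)
  have h3 := eq_neg_of_add_eq_zero_left h2.1
  rw [C.neg_F] at h3
  exact h3.symm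

theorem f_ne_t (C : XC κ d σ t f w₁) : f ≠ t := by
  intro h
  apply C.v_ne
  rw [← h, C.fw]; exact C.add_self_W w₁

/-! ### the fixed field and the element `ω` -/

theorem exists_omega (C : XC κ d σ t f w₁) : ∃ ω : F, σ ω = ω + 1 := by
  obtain ⟨b, hb⟩ := C.sig1
  have hτ : b + σ b ≠ 0 := by
    intro h
    have := eq_neg_of_add_eq_zero_left h
    rw [C.neg_F] at this
    exact hb this.symm
  have hτ' : σ (b + σ b) = b + σ b := by rw [map_add, C.sig, add_comm]
  refine ⟨b / (b + σ b), ?_⟩
  rw [map_div₀, hτ']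
  field_simp
  have := C.add_self_F b
  linear_combination -this

theorem decomp (C : XC κ d σ t f w₁) {ω : F} (hω : σ ω = ω + 1) (a : F) :
    ∃ u v : F, σ u = u ∧ σ v = v ∧ a = u + v * ω := by
  refine ⟨a + (a + σ a) * ω, a + σ a, ?_, ?_, ?_⟩
  · rw [map_add, map_mul, map_add, C.sig, hω]
    have := C.add_self_F (σ a)
    linear_combination this
  · rw [map_add, C.sig, add_comm]
  · have := C.add_self_F ((a + σ a) * ω)
    linear_combination -this

theorem decomp_unique (_C : XC κ d σ t f w₁) {ω : F} (hω : σ ω = ω + 1) {u v : F}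
    (hu : σ u = u) (hv : σ v = v) (h : u + v * ω = 0) : u = 0 ∧ v = 0 := by
  have h1 := congrArg σ h
  rw [map_add, map_mul, hu, hv, hω, map_zero] at h1
  have hv0 : v = 0 := by linear_combination h1 - h
  subst hv0
  simpa using h

theorem omega_sq (C : XC κ d σ t f w₁) {ω : F} (hω : σ ω = ω + 1) :
    σ (ω * ω + ω) = ω * ω + ω := by
  rw [map_add, map_mul, hω]
  have := C.add_self_F ω
  have h2 := C.add_self_F (1 : F)
  linear_combination this + h2

end XC

end Cfsg.Agent.StdL2.F
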