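import Mathlib

/-!
# S1773, case (f): finite fields of characteristic 2

* `exists_aut`: a relation which looks like the graph of an automorphism is one.
* `eq_top`: a subring `R` of a finite field with `|F| < |R|²` is everything.
* `inv_unique`: a finite field has at most one automorphism of order 2.
-/

set_option autoImplicit false

namespace Cfsg.Agent.StdL2.FRel

variable {F : Type*} [Field F]

/-- a relation on a field which is the graph of a partial injective ring homomorphism -/
structure Good (P : F → F → Prop) : Prop where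
  add : ∀ a b a' b', P a b → P a' b' → P (a + a') (b + b')
  mul : ∀ a b a' b', P a b → P a' b' → P (a * a') (b * b')
  one : P 1 1
  neg : ∀ a b, P a b → P (-a) (-b)
  uniq : ∀ a b b', P a b → P a b' → b = b'
  inj : ∀ a, P a 0 → a = 0

namespace Good

variable {P : F → F → Prop}

theorem zero (h : Good P) : P 0 0 := by
  have := h.add _ _ _ _ h.one (h.neg _ _ h.one)
  rwa [add_neg_cancel] at this

/-- the domain -/
def dom (h : Good P) : Subring F where
  carrier := {a | ∃ b, P a b}
  mul_mem' := by
    rintro a a' ⟨b, hb⟩ ⟨b', hb'⟩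
    exact ⟨_, h.mul _ _ _ _ hb hb'⟩
  one_mem' := ⟨1, h.one⟩
  add_mem' := by
    rintro a a' ⟨b, hb⟩ ⟨b', hb'⟩
    exact ⟨_, h.add _ _ _ _ hb hb'⟩
  zero_mem' := ⟨0, h.zero⟩
  neg_mem' := by
    rintro a ⟨b, hb⟩
    exact ⟨_, h.neg _ _ hb⟩

theorem exists_aut [Finite F] (h : Good P) (hd : ∀ a, ∃ b, P a b) :
    ∃ τ : F ≃+* F, ∀ a, P a (τ a) := by
  choose τ hτ using hd
  let g : F →+* F :=
    { toFun := τ
      map_one' := h.uniq _ _ _ (hτ 1) h.one
      map_mul' := fun a b => h.uniq _ _ _ (hτ _) (h.mul _ _ _ _ (hτ a) (hτ b))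
      map_zero' := h.uniq _ _ _ (hτ 0) h.zero
      map_add' := fun a b => h.uniq _ _ _ (hτ _) (h.add _ _ _ _ (hτ a) (hτ b)) }
  have hb : Function.Bijective g := Finite.injective_iff_bijective.1 g.injective
  exact ⟨RingEquiv.ofBijective g hb, fun a => hτ a⟩

end Good

/-- a large subring of a finite field is everything -/
theorem eq_top [Finite F] (R : Subring F) (h : Nat.card F < Nat.card R ^ 2) : R = ⊤ := by
  classical
  have hinv : ∀ a ∈ R, a⁻¹ ∈ R := by
    intro a ha
    by_cases h0 : a = 0
    · rw [h0, inv_zero]; exact R.zero_mem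
    haveI := Fintype.ofFinite F
    have h1 : a ^ (Fintype.card F - 1) = 1 := FiniteField.pow_card_sub_one_eq_one a h0
    have h2 : 1 < Fintype.card F := Fintype.one_lt_card
    have h3 : a ^ (Fintype.card F - 2) * a = 1 := by
      rw [← pow_succ, ← h1]; congr 1; omega
    have h4 : a⁻¹ = a ^ (Fintype.card F - 2) := (eq_inv_of_mul_eq_one_left h3).symm
    rw [h4]
    exact R.pow_mem ha _
  let K : Subfield F := { R with inv_mem' := hinv }
  have hK : Nat.card K = Nat.card R := rfl
  have h1 : Nat.card F = Nat.card K ^ Module.finrank K F := Module.natCard_eq_pow_finrank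
  have h2 : 1 < Nat.card K := Finite.one_lt_card
  have h3 : Module.finrank K F < 2 := by
    by_contra hn
    rw [not_lt] at hn
    have := Nat.pow_le_pow_right (by omega : 0 < Nat.card K) hn
    rw [← h1, hK] at this
    omega
  have h4 : Nat.card F ≤ Nat.card R := by
    rw [h1, ← hK]
    calc Nat.card K ^ Module.finrank K F ≤ Nat.card K ^ 1 :=
          Nat.pow_le_pow_right (by omega) (by omega)
      _ = Nat.card K := pow_one _
  rw [eq_top_iff]
  intro a _
  have h5 : (R : Set F) = Set.univ :=
    Set.eq_of_subset_of_ncard_le (Set.subset_univ _) (by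
      rw [Set.ncard_univ]; exact h4) (Set.toFinite _)
  have h6 : a ∈ (R : Set F) := by rw [h5]; exact Set.mem_univ a
  exact h6

/-- the automorphism group of a finite field is cyclic -/
theorem isCyclic_aut [Finite F] (h2 : (2 : F) = 0) : IsCyclic (F ≃+* F) := by
  haveI : CharP F 2 := CharTwo.of_one_ne_zero_of_two_eq_zero one_ne_zero h2
  letI : Algebra (ZMod 2) F := ZMod.algebra F 2
  let g : (F ≃+* F) →* (F ≃ₐ[ZMod 2] F) :=
    { toFun := fun τ => AlgEquiv.ofRingEquiv (f := τ) (fun x => by
        have := congrArg (fun r : ZMod 2 →+* F => r x)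
          (Subsingleton.elim ((τ : F →+* F).comp (algebraMap (ZMod 2) F)) (algebraMap (ZMod 2) F))
        exact this)
      map_one' := by ext; rfl
      map_mul' := fun a b => by ext; rfl }
  have hg : Function.Injective g := by
    intro a b h
    ext x
    exact DFunLike.congr_fun h x
  haveI : IsCyclic (F ≃ₐ[ZMod 2] F) := inferInstance
  exact isCyclic_of_injective g hg

theorem inv_unique [Finite F] (h2 : (2 : F) = 0) {τ τ' : F ≃+* F} (h : τ * τ = 1)
    (h' : τ' * τ' = 1) (h1 : τ ≠ 1) (h1' : τ' ≠ 1) : τ = τ' := by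
  classical
  haveI := isCyclic_aut (F := F) h2
  haveI : Finite (F ≃+* F) := Finite.of_injective (fun τ : F ≃+* F => (τ : F → F))
    (fun a b hab => RingEquiv.ext fun x => congrFun hab x)
  haveI := Fintype.ofFinite (F ≃+* F)
  by_contra hne
  have h3 := IsCyclic.card_pow_eq_one_le (α := F ≃+* F) (n := 2) (by norm_num)
  have h4 : ({1, τ, τ'} : Finset (F ≃+* F)) ⊆ Finset.univ.filter (fun a => a ^ 2 = 1) := by
    intro x hx
    simp only [Finset.mem_insert, Finset.mem_singleton] at hx
    rw [Finset.mem_filter]
    refine ⟨Finset.mem_univ _, ?_⟩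
    rcases hx with rfl | rfl | rfl
    · exact one_pow 2
    · rw [pow_two]; exact h
    · rw [pow_two]; exact h'
  have h5 := Finset.card_le_card h4
  rw [Finset.card_insert_of_notMem (by simp [h1.symm, h1'.symm]),
    Finset.card_insert_of_notMem (by simpa using hne), Finset.card_singleton] at h5
  omega

end Cfsg.Agent.StdL2.FRel
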