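import Mathlib

/-!
# S1773, start of the case `e ≥ 1` (field automorphisms)

`T` is a Sylow 2-subgroup of `C(t)`, `V ≤ T` elementary abelian, `R` cyclic containing `t`,
`C_T(V) = R V`, the elements of `T` outside `R V` with square in `R V` act on `V` as field
automorphisms of order `2`.  Then `R = ⟨t⟩`, the `N(E)`-class of `t` is `t V` for
`E = ⟨t⟩ V`, and `N(E)` normalises `V`.
-/

set_option autoImplicit false
set_option linter.unusedSectionVars false
set_option linter.style.haveILetI false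

open Subgroup

namespace Cfsg.Agent.StdL2.FieldStart

section General

variable {G : Type*} [Group G] [Finite G]

theorem card_le_two_mul (K H : Subgroup G) (h : ∀ x ∈ K, ∀ y ∈ K, x ∉ H → y ∉ H → x⁻¹ * y ∈ H) :
    Nat.card K ≤ 2 * Nat.card (K ⊓ H : Subgroup G) := by
  classical
  by_cases hKH : K ≤ H
  · rw [inf_eq_left.2 hKH]; omega
  obtain ⟨x0, hx0K, hx0H⟩ := Set.not_subset.1 hKH
  have hinj : Function.Injective (fun y : K => if hy : (y : G) ∈ H then
      ((true, ⟨y, y.2, hy⟩) : Bool × (K ⊓ H : Subgroup G)) else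
      (false, ⟨x0⁻¹ * y, K.mul_mem (K.inv_mem hx0K) y.2, h x0 hx0K y y.2 hx0H hy⟩)) := by
    intro a b hab
    by_cases ha : (a : G) ∈ H <;> by_cases hb : (b : G) ∈ H <;> simp only [ha, hb, dif_pos,
      dif_neg, not_false_eq_true, Prod.mk.injEq, true_and, reduceCtorEq,
      false_and] at hab
    · exact Subtype.ext (congrArg (fun z : (K ⊓ H : Subgroup G) => (z : G)) hab)
    · have h1 : x0⁻¹ * (a : G) = x0⁻¹ * (b : G) :=
        congrArg (fun z : (K ⊓ H : Subgroup G) => (z : G)) hab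
      exact Subtype.ext (mul_left_cancel h1)
  have := Nat.card_le_card_of_injective _ hinj
  rwa [Nat.card_prod, Nat.card_eq_fintype_card (α := Bool), Fintype.card_bool] at this

/-- a 2-group together with a normalising element of 2-power order -/
theorem isPGroup_sup {P Q : Subgroup G} (hP : IsPGroup 2 P) (hQ : IsPGroup 2 Q)
    (h : Q ≤ normalizer (P : Set G)) : IsPGroup 2 (P ⊔ Q : Subgroup G) :=
  IsPGroup.to_sup_of_normal_left' hP hQ h

/-- `T` is a Sylow 2-subgroup of `K` -/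
def IsSyl (K T : Subgroup G) : Prop :=
  IsPGroup 2 T ∧ T ≤ K ∧ ∀ P : Subgroup G, IsPGroup 2 P → T ≤ P → P ≤ K → P ≤ T

theorem exists_isSyl (K P : Subgroup G) (hP : IsPGroup 2 P) (hPK : P ≤ K) :
    ∃ T, IsSyl K T ∧ P ≤ T := by
  obtain ⟨S, hS⟩ := (hP.comap_subtype (K := K)).exists_le_sylow
  refine ⟨(S : Subgroup K).map K.subtype, ⟨S.isPGroup'.map K.subtype, map_subtype_le _, ?_⟩, ?_⟩
  · intro Q hQ hSQ hQK x hx
    have h1 : (S : Subgroup K) ≤ Q.comap K.subtype := by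
      intro s hs
      exact hSQ ⟨s, hs, rfl⟩
    have h2 := S.is_maximal' (hQ.comap_subtype (K := K)) h1
    exact ⟨⟨x, hQK hx⟩, by rw [← h2]; exact hx, rfl⟩
  · intro x hx
    exact ⟨⟨x, hPK hx⟩, hS hx, rfl⟩

theorem IsSyl.conj {K T : Subgroup G} (hT : IsSyl K T) {P : Subgroup G} (hP : IsPGroup 2 P)
    (hPK : P ≤ K) : ∃ c ∈ K, ∀ x ∈ P, c * x * c⁻¹ ∈ T := by
  haveI : Fact (Nat.Prime 2) := ⟨Nat.prime_two⟩
  let T' : Sylow 2 K :=
    { toSubgroup := T.comap K.subtype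
      isPGroup' := hT.1.comap_subtype
      is_maximal' := by
        intro Q hQ hTQ
        refine le_antisymm ?_ hTQ
        intro q hq
        have h1 : T ≤ Q.map K.subtype := by
          intro x hx
          exact ⟨⟨x, hT.2.1 hx⟩, hTQ hx, rfl⟩
        exact hT.2.2 (Q.map K.subtype) (hQ.map K.subtype) h1 (map_subtype_le _) ⟨q, hq, rfl⟩ }
  obtain ⟨S, hS⟩ := (hP.comap_subtype (K := K)).exists_le_sylow
  obtain ⟨c, hc⟩ := MulAction.exists_smul_eq K S T'
  refine ⟨c, c.2, fun x hx => ?_⟩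
  have h1 : (⟨x, hPK hx⟩ : K) ∈ (S : Subgroup K) := hS hx
  have h2 : c * ⟨x, hPK hx⟩ * c⁻¹ ∈ ((c • S : Sylow 2 K) : Subgroup K) :=
    (Subgroup.smul_mem_pointwise_smul (⟨x, hPK hx⟩ : K) (MulAut.conj c) (S : Subgroup K) h1 :)
  rw [hc] at h2
  exact h2

theorem IsSyl.card_le {K T : Subgroup G} (hT : IsSyl K T) {P : Subgroup G} (hP : IsPGroup 2 P)
    (hPK : P ≤ K) : Nat.card P ≤ Nat.card T := by
  obtain ⟨c, _, hc⟩ := hT.conj hP hPK
  refine Nat.card_le_card_of_injective (fun x : P => (⟨c * x * c⁻¹, hc x x.2⟩ : T)) ?_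
  intro x y hxy
  have : c * (x : G) * c⁻¹ = c * (y : G) * c⁻¹ := congrArg (fun z : T => (z : G)) hxy
  exact Subtype.ext (mul_left_cancel (mul_right_cancel this))

theorem exists_normalizer_gt {P Q : Subgroup G} (hQ : IsPGroup 2 Q) (h : P < Q) :
    ∃ n ∈ Q, n ∉ P ∧ n ∈ normalizer (P : Set G) := by
  haveI : Fact (Nat.Prime 2) := ⟨Nat.prime_two⟩
  haveI := hQ.isNilpotent
  have hlt : P.subgroupOf Q < ⊤ := by
    rw [lt_top_iff_ne_top]
    intro e
    rw [subgroupOf_eq_top] at e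
    exact h.not_ge e
  have hnc : NormalizerCondition Q := Group.normalizerCondition_of_isNilpotent
  obtain ⟨n, hn, hnP⟩ := SetLike.exists_of_lt (hnc _ hlt)
  refine ⟨n, n.2, fun e => hnP (mem_subgroupOf.2 e), ?_⟩
  rw [mem_normalizer_iff]
  intro x
  have hle : ∀ m : Q, m ∈ normalizer ((P.subgroupOf Q : Subgroup Q) : Set Q) →
      ∀ x ∈ P, (m : G) * x * (m : G)⁻¹ ∈ P := by
    intro m hm x hx
    have := (mem_normalizer_iff.1 hm ⟨x, h.le hx⟩).1 (mem_subgroupOf.2 hx)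
    exact mem_subgroupOf.1 this
  refine ⟨hle n hn x, fun hx => ?_⟩
  have := hle n⁻¹ ((normalizer _).inv_mem hn) _ hx
  have e : ((n⁻¹ : Q) : G) * ((n : G) * x * (n : G)⁻¹) * ((n⁻¹ : Q) : G)⁻¹ = x := by
    rw [InvMemClass.coe_inv]; group
  rwa [e] at this

end General

/-- Setting: `t`, the root group `V`, the cyclic `R ∋ t` and the Sylow 2-subgroup `T` of `C(t)`. -/
structure Fld {G : Type*} [Group G] (t : G) (V R T : Subgroup G) : Prop where
  t2 : t * t = 1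
  t1 : t ≠ 1
  tR : t ∈ R
  Rcyc : IsCyclic R
  RT : R ≤ T
  VT : V ≤ T
  vsq : ∀ v ∈ V, v * v = 1
  rv : ∀ r ∈ R, ∀ v ∈ V, r * v = v * r
  disj : ∀ x ∈ R, x ∈ V → x = 1
  T2 : IsPGroup 2 T
  Tt : ∀ x ∈ T, x * t = t * x
  Tmax : ∀ P : Subgroup G, IsPGroup 2 P → T ≤ P → (∀ x ∈ P, x * t = t * x) → P ≤ T
  Vn : ∀ x ∈ T, ∀ v ∈ V, x * v * x⁻¹ ∈ V
  cent : ∀ x ∈ T, (∀ v ∈ V, x * v = v * x) → ∃ r ∈ R, ∃ v ∈ V, x = r * v
  uniq : ∀ x ∈ T, ∀ y ∈ T, (∀ v ∈ V, (x * x) * v = v * (x * x)) →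
    (∀ v ∈ V, (y * y) * v = v * (y * y)) → (∃ v ∈ V, x * v ≠ v * x) →
    (∃ v ∈ V, y * v ≠ v * y) → ∀ v ∈ V, (x⁻¹ * y) * v = v * (x⁻¹ * y)
  fix : ∀ x ∈ T, (∃ v ∈ V, x * v ≠ v * x) → (∀ v ∈ V, (x * x) * v = v * (x * x)) →
    (Nat.card (V ⊓ centralizer {x} : Subgroup G)) ^ 2 = Nat.card V

namespace Fld

variable {G : Type*} [Group G] [Finite G] {t : G} {V R T : Subgroup G}

theorem tv (F : Fld t V R T) {v : G} (hv : v ∈ V) : t * v = v * t := F.rv t F.tR v hv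

theorem tV (F : Fld t V R T) : t ∉ V := fun h => F.t1 (F.disj t F.tR h)

theorem vinv (F : Fld t V R T) {v : G} (hv : v ∈ V) : v⁻¹ = v :=
  inv_eq_of_mul_eq_one_left (F.vsq v hv)

theorem tinv (F : Fld t V R T) : t⁻¹ = t := inv_eq_of_mul_eq_one_left F.t2

theorem vcomm (F : Fld t V R T) {v w : G} (hv : v ∈ V) (hw : w ∈ V) : v * w = w * v := by
  have h1 := F.vinv (V.mul_mem hv hw)
  rw [← h1, mul_inv_rev, F.vinv hv, F.vinv hw]

/-- `E = ⟨t⟩ V` -/
def E (F : Fld t V R T) : Subgroup G where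
  carrier := {x | x ∈ V ∨ t * x ∈ V}
  one_mem' := Or.inl V.one_mem
  mul_mem' := by
    rintro x y (hx | hx) (hy | hy)
    · exact Or.inl (V.mul_mem hx hy)
    · right
      have : t * (x * y) = x * (t * y) := by rw [← mul_assoc, F.tv hx, mul_assoc]
      rw [this]; exact V.mul_mem hx hy
    · right
      rw [← mul_assoc]; exact V.mul_mem hx hy
    · left
      have h1 : x = t * (t * x) := by rw [← mul_assoc, F.t2, one_mul]
      have h2 : x * y = (t * x) * (t * y) := by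
        have h3 : (t * x) * t = t * (t * x) := (F.tv hx).symm
        rw [← mul_assoc (t * x), h3, ← h1]
      rw [h2]; exact V.mul_mem hx hy
  inv_mem' := by
    rintro x (hx | hx)
    · exact Or.inl (V.inv_mem hx)
    · right
      have h1 : x = t * (t * x) := by rw [← mul_assoc, F.t2, one_mul]
      have h2 : x⁻¹ = (t * x)⁻¹ * t := by
        conv_lhs => rw [h1]
        rw [mul_inv_rev, F.tinv]
      have h3 : t * x⁻¹ = (t * x)⁻¹ := by
        rw [h2, ← mul_assoc, F.tv (V.inv_mem hx), mul_assoc, F.t2, mul_one]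
      rw [h3]; exact V.inv_mem hx

theorem mem_E (F : Fld t V R T) {x : G} : x ∈ F.E ↔ x ∈ V ∨ t * x ∈ V := Iff.rfl

theorem VE (F : Fld t V R T) : V ≤ F.E := fun _ h => Or.inl h

theorem tE (F : Fld t V R T) : t ∈ F.E := Or.inr (by rw [F.t2]; exact V.one_mem)

theorem eq_tmul (F : Fld t V R T) (x : G) : x = t * (t * x) := by
  rw [← mul_assoc, F.t2, one_mul]

theorem tT (F : Fld t V R T) : t ∈ T := F.RT F.tR

theorem ET (F : Fld t V R T) : F.E ≤ T := by
  rintro x (hx | hx)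
  · exact F.VT hx
  · rw [F.eq_tmul x]; exact T.mul_mem F.tT (F.VT hx)

theorem tcomm (F : Fld t V R T) {x : G} (hx : x ∈ F.E) : x * t = t * x := F.Tt x (F.ET hx)

theorem Esq (F : Fld t V R T) {x : G} (hx : x ∈ F.E) : x * x = 1 := by
  rcases hx with hx | hx
  · exact F.vsq x hx
  · have h1 := F.vsq _ hx
    have h2 : x * t = t * x := F.tcomm (Or.inr hx)
    have h3 : t * x * (t * x) = t * (x * t) * x := by group
    rw [h3, h2, ← mul_assoc, F.t2, one_mul] at h1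
    exact h1

theorem Einv (F : Fld t V R T) {x : G} (hx : x ∈ F.E) : x⁻¹ = x :=
  inv_eq_of_mul_eq_one_left (F.Esq hx)

theorem Ecomm (F : Fld t V R T) {x y : G} (hx : x ∈ F.E) (hy : y ∈ F.E) : x * y = y * x := by
  have h1 := F.Einv (F.E.mul_mem hx hy)
  rw [← h1, mul_inv_rev, F.Einv hx, F.Einv hy]

/-- the product of two elements of `E ∖ V` is in `V` -/
theorem mul_mem_V (F : Fld t V R T) {x y : G} (hx : x ∈ F.E) (hy : y ∈ F.E) (hxV : x ∉ V)
    (hyV : y ∉ V) : x * y ∈ V := by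
  have hx' : t * x ∈ V := hx.resolve_left hxV
  have hy' : t * y ∈ V := hy.resolve_left hyV
  have h1 : x * y = (t * x) * (t * y) := by
    rw [← mul_assoc, F.tcomm (F.VE hx'), ← F.eq_tmul]
  rw [h1]; exact V.mul_mem hx' hy'

theorem card_E (F : Fld t V R T) : Nat.card F.E ≤ 2 * Nat.card V ∧
    2 * Nat.card V ≤ Nat.card F.E := by
  constructor
  · have h := card_le_two_mul F.E V (fun x hx y hy hxV hyV => by
      rw [F.Einv hx]; exact F.mul_mem_V hx hy hxV hyV)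
    rwa [inf_eq_right.2 F.VE] at h
  · have h1 : Nat.card V ∣ Nat.card F.E := card_dvd_of_le F.VE
    obtain ⟨k, hk⟩ := h1
    have h2 : k ≠ 0 := by rintro rfl; exact Nat.card_pos.ne' (hk.trans (mul_zero _))
    have h3 : k ≠ 1 := by
      rintro rfl
      rw [mul_one] at hk
      have := eq_of_le_of_card_ge F.VE hk.le
      exact F.tV (this ▸ F.tE)
    have h4 : 2 ≤ k := by omega
    rw [hk, mul_comm]
    exact Nat.mul_le_mul_left _ h4

/-- the unique involution of the cyclic group `R` -/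
theorem eq_of_sq (F : Fld t V R T) {r : G} (hr : r ∈ R) (h : r * r = 1) : r = 1 ∨ r = t := by
  classical
  haveI := F.Rcyc
  by_contra hcon
  push Not at hcon
  letI := Fintype.ofFinite R
  have hle := IsCyclic.card_pow_eq_one_le (α := R) (n := 2) (by norm_num)
  have hsub : ({1, ⟨t, F.tR⟩, ⟨r, hr⟩} : Finset R) ⊆
      Finset.univ.filter fun a : R => a ^ 2 = 1 := by
    intro a ha
    simp only [Finset.mem_insert, Finset.mem_singleton] at ha
    simp only [Finset.mem_filter, Finset.mem_univ, true_and]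
    rcases ha with rfl | rfl | rfl
    · simp
    · rw [pow_two]; exact Subtype.ext F.t2
    · rw [pow_two]; exact Subtype.ext h
  have h3 : ({1, ⟨t, F.tR⟩, ⟨r, hr⟩} : Finset R).card = 3 := by
    rw [Finset.card_eq_three]
    refine ⟨1, ⟨t, F.tR⟩, ⟨r, hr⟩, ?_, ?_, ?_, rfl⟩
    · intro e; exact F.t1 (congrArg Subtype.val e).symm
    · intro e; exact hcon.1 (congrArg Subtype.val e).symm
    · intro e; exact hcon.2 (congrArg Subtype.val e).symm
  have := Finset.card_le_card hsub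
  omega

/-- elements of `T` with square `1` which centralise `V` are in `E` -/
theorem mem_E_of_sq (F : Fld t V R T) {x : G} (hx : x ∈ T) (h2 : x * x = 1)
    (hc : ∀ v ∈ V, x * v = v * x) : x ∈ F.E := by
  obtain ⟨r, hr, v, hv, rfl⟩ := F.cent x hx hc
  have h1 : r * v * (r * v) = (r * r) * (v * v) := by
    have := F.rv r hr v hv
    calc r * v * (r * v) = r * (v * r) * v := by group
      _ = r * (r * v) * v := by rw [this]
      _ = (r * r) * (v * v) := by group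
  rw [h1, F.vsq v hv, mul_one] at h2
  rcases F.eq_of_sq hr h2 with h | h
  · rw [h, one_mul]; exact F.VE hv
  · rw [h]; exact F.E.mul_mem F.tE (F.VE hv)

/-- `|C_V(x)| ≥ 4` -/
theorem four_le (F : Fld t V R T) (hq : 16 ≤ Nat.card V) {x : G} (hx : x ∈ T)
    (h1 : ∃ v ∈ V, x * v ≠ v * x) (h2 : ∀ v ∈ V, (x * x) * v = v * (x * x)) :
    4 ≤ Nat.card (V ⊓ centralizer {x} : Subgroup G) := by
  have h := F.fix x hx h1 h2
  by_contra hcon
  push Not at hcon
  have h3 : Nat.card (V ⊓ centralizer {x} : Subgroup G) ^ 2 ≤ 3 ^ 2 :=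
    Nat.pow_le_pow_left (by omega) 2
  omega

/-- `E` is the only elementary abelian subgroup of its order in `T` -/
theorem eq_E (F : Fld t V R T) (hq : 16 ≤ Nat.card V) {P : Subgroup G} (hPT : P ≤ T)
    (hP : ∀ x ∈ P, x * x = 1) (hc : Nat.card F.E ≤ Nat.card P) : P = F.E := by
  by_cases hPV : ∀ x ∈ P, ∀ v ∈ V, x * v = v * x
  · exact eq_of_le_of_card_ge (fun x hx => F.mem_E_of_sq (hPT hx) (hP x hx) (hPV x hx)) hc
  exfalso
  push Not at hPV
  obtain ⟨x0, hx0, v0, hv0, hxv⟩ := hPV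
  have hmem : ∀ x : G, x ∉ centralizer (V : Set G) → ∃ v ∈ V, x * v ≠ v * x := by
    intro x hx
    by_contra hcon
    push Not at hcon
    apply hx
    rw [mem_centralizer_iff]
    intro v hv
    exact (hcon v hv).symm
  have hsq : ∀ x ∈ P, ∀ v ∈ V, (x * x) * v = v * (x * x) := by
    intro x hx v _
    rw [hP x hx, one_mul, mul_one]
  have h1 := card_le_two_mul P (centralizer (V : Set G)) (fun x hx y hy hxV hyV => by
    rw [mem_centralizer_iff]
    intro v hv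
    exact (F.uniq x (hPT hx) y (hPT hy) (hsq x hx) (hsq y hy) (hmem x hxV) (hmem y hyV) v
      hv).symm)
  -- `P ∩ C(V) ≤ E ∩ C(x0)`
  have h2 : (P ⊓ centralizer (V : Set G) : Subgroup G) ≤ F.E ⊓ centralizer {x0} := by
    rintro x ⟨hx, hxV⟩
    refine ⟨F.mem_E_of_sq (hPT hx) (hP x hx) (fun v hv => (mem_centralizer_iff.1 hxV v hv).symm),
      mem_centralizer_singleton_iff.2 ?_⟩
    have h3 := hP _ (P.mul_mem hx hx0)
    have h4 : (x * x0)⁻¹ = x * x0 := inv_eq_of_mul_eq_one_left h3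
    have h5 : x⁻¹ = x := inv_eq_of_mul_eq_one_left (hP x hx)
    have h6 : x0⁻¹ = x0 := inv_eq_of_mul_eq_one_left (hP x0 hx0)
    rw [← h4, mul_inv_rev, h5, h6]
  have h3 := card_le_of_le h2
  have h4 := card_le_two_mul (F.E ⊓ centralizer {x0}) V (fun x hx y hy hxV hyV => by
    rw [F.Einv hx.1]; exact F.mul_mem_V hx.1 hy.1 hxV hyV)
  have h5 : (F.E ⊓ centralizer {x0} ⊓ V : Subgroup G) = V ⊓ centralizer {x0} := by
    rw [inf_right_comm, inf_eq_right.2 F.VE]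
  rw [h5] at h4
  have h6 := F.fix x0 (hPT hx0) ⟨v0, hv0, hxv⟩ (hsq x0 hx0)
  have h7 := F.four_le hq (hPT hx0) ⟨v0, hv0, hxv⟩ (hsq x0 hx0)
  have h8 := F.card_E.2
  set c := Nat.card (V ⊓ centralizer {x0} : Subgroup G)
  have h9 : Nat.card P ≤ 4 * c := by omega
  have h10 : 2 * c ^ 2 ≤ 4 * c := by rw [h6]; omega
  nlinarith

/-- transitivity hypotheses: `C(t)` is transitive on `V#`, `N(E) ∩ C(t)` normalises `V` -/
structure Tr (F : Fld t V R T) : Prop where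
  tr : ∀ v ∈ V, v ≠ 1 → ∀ w ∈ V, w ≠ 1 → ∃ d : G, d * t = t * d ∧ d * v * d⁻¹ = w ∧
    ∀ u ∈ V, d * u * d⁻¹ ∈ V
  vn : ∀ n : G, n * t = t * n → (∀ e ∈ F.E, n * e * n⁻¹ ∈ F.E) → ∀ v ∈ V, n * v * n⁻¹ ∈ V

theorem conj_mem_norm {P : Subgroup G} {n : G} (h : ∀ x ∈ P, n * x * n⁻¹ ∈ P) :
    n ∈ normalizer (P : Set G) := by
  have hle : P.map (MulAut.conj n).toMonoidHom ≤ P := by
    rintro _ ⟨x, hx, rfl⟩
    exact h x hx
  have heq : P.map (MulAut.conj n).toMonoidHom = P := by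
    refine Subgroup.eq_of_le_of_card_ge hle ?_
    rw [Nat.card_congr (P.equivMapOfInjective _ (MulAut.conj n).injective).symm.toEquiv]
  rw [mem_normalizer_iff]
  intro x
  refine ⟨h x, fun hx => ?_⟩
  rw [← heq] at hx
  obtain ⟨y, hy, hyx⟩ := hx
  have : y = x := (MulAut.conj n).injective (by simpa [MulAut.conj_apply] using hyx)
  rwa [← this]

theorem norm_conj {P : Subgroup G} {n : G} (h : n ∈ normalizer (P : Set G)) {x : G} (hx : x ∈ P) :
    n * x * n⁻¹ ∈ P := (mem_normalizer_iff.1 h x).1 hx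

theorem norm_conj' {P : Subgroup G} {n : G} (h : n ∈ normalizer (P : Set G)) {x : G} (hx : x ∈ P) :
    n⁻¹ * x * n ∈ P := by
  have := norm_conj ((normalizer (P : Set G)).inv_mem h) hx
  rwa [inv_inv] at this

theorem d_norm (F : Fld t V R T) {d : G} (hd : d * t = t * d) (hV : ∀ u ∈ V, d * u * d⁻¹ ∈ V) :
    d ∈ normalizer (F.E : Set G) := by
  apply conj_mem_norm
  rintro x (hx | hx)
  · exact F.VE (hV x hx)
  · right
    have h1 : t * (d * x * d⁻¹) = d * (t * x) * d⁻¹ := by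
      rw [← mul_assoc, ← mul_assoc, ← hd]; group
    rw [h1]; exact hV _ hx

variable {F : Fld t V R T}

theorem Tr.vn' (H : Tr F) {n : G} (hn : n ∈ normalizer (F.E : Set G)) (hnt : n * t = t * n)
    {v : G} (hv : v ∈ V) : n * v * n⁻¹ ∈ V :=
  H.vn n hnt (fun _ he => norm_conj hn he) v hv

/-- `y ∈ V_x` -/
def B (F : Fld t V R T) (x y : G) : Prop :=
  ∃ g ∈ normalizer (F.E : Set G), g * t * g⁻¹ = x ∧ g⁻¹ * y * g ∈ V

theorem B_iff (H : Tr F) {g x y : G} (hg : g ∈ normalizer (F.E : Set G)) (hgx : g * t * g⁻¹ = x) :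
    B F x y ↔ g⁻¹ * y * g ∈ V := by
  constructor
  · rintro ⟨g', hg', hgx', hy⟩
    have h1 : (g⁻¹ * g') * t = t * (g⁻¹ * g') := by
      have h2 : g' * t * g'⁻¹ = g * t * g⁻¹ := by rw [hgx, hgx']
      have h3 : g' * t = g * t * g⁻¹ * g' := by rw [← h2]; group
      calc (g⁻¹ * g') * t = g⁻¹ * (g' * t) := by group
        _ = t * (g⁻¹ * g') := by rw [h3]; group
    have h4 := H.vn' ((normalizer (F.E : Set G)).mul_mem ((normalizer (F.E : Set G)).inv_mem hg) hg')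
      h1 hy
    have h5 : g⁻¹ * g' * (g'⁻¹ * y * g') * (g⁻¹ * g')⁻¹ = g⁻¹ * y * g := by group
    rwa [h5] at h4
  · intro h
    exact ⟨g, hg, hgx, h⟩

theorem B_conj {n x y : G} (hn : n ∈ normalizer (F.E : Set G)) (h : B F x y) :
    B F (n * x * n⁻¹) (n * y * n⁻¹) := by
  obtain ⟨g, hg, hgx, hy⟩ := h
  refine ⟨n * g, (normalizer (F.E : Set G)).mul_mem hn hg, ?_, ?_⟩
  · rw [← hgx]; group
  · have : (n * g)⁻¹ * (n * y * n⁻¹) * (n * g) = g⁻¹ * y * g := by group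
    rwa [this]

theorem B_conj_iff {n x y : G} (hn : n ∈ normalizer (F.E : Set G)) :
    B F (n * x * n⁻¹) (n * y * n⁻¹) ↔ B F x y := by
  refine ⟨fun h => ?_, B_conj hn⟩
  have := B_conj ((normalizer (F.E : Set G)).inv_mem hn) h
  have e1 : n⁻¹ * (n * x * n⁻¹) * n⁻¹⁻¹ = x := by group
  have e2 : n⁻¹ * (n * y * n⁻¹) * n⁻¹⁻¹ = y := by group
  rwa [e1, e2] at this

theorem B_self {x : G} : ¬ B F x x := by
  rintro ⟨g, _, hgx, hy⟩
  have : g⁻¹ * x * g = t := by rw [← hgx]; group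
  rw [this] at hy
  exact F.tV hy

theorem B_mul (H : Tr F) {g x y z : G} (hg : g ∈ normalizer (F.E : Set G))
    (hgx : g * t * g⁻¹ = x) (hy : y ∈ F.E) (hz : z ∈ F.E) :
    B F x (y * z) ↔ (B F x y ↔ B F x z) := by
  rw [B_iff H hg hgx, B_iff H hg hgx, B_iff H hg hgx]
  have e : g⁻¹ * (y * z) * g = (g⁻¹ * y * g) * (g⁻¹ * z * g) := by group
  rw [e]
  have hy' := norm_conj' hg hy
  have hz' := norm_conj' hg hz
  by_cases h1 : g⁻¹ * y * g ∈ V <;> by_cases h2 : g⁻¹ * z * g ∈ V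
  · simp only [h1, h2, iff_true]; exact V.mul_mem h1 h2
  · simp only [h1, h2, iff_false, not_true_eq_false]
    exact fun h => h2 ((V.mul_mem_cancel_left h1).1 h)
  · have h3 : g⁻¹ * y * g * (g⁻¹ * z * g) ∉ V := fun h => h1 ((V.mul_mem_cancel_right h2).1 h)
    simp only [h1, h2, h3, iff_true]
  · simp only [h1, h2, iff_true]; exact F.mul_mem_V hy' hz' h1 h2

/-- not all of `E#` is fused -/
theorem not_all (H : Tr F) {w : G} (hw : w ∈ T) {v0 : G} (hv0 : v0 ∈ V) (hwv : w * v0 ≠ v0 * w)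
    (hw2 : (w * w) * v0 = v0 * (w * w))
    (hall : ∀ x ∈ F.E, x ≠ 1 → ∃ g ∈ normalizer (F.E : Set G), g * t * g⁻¹ = x) : False := by
  have hwN : w ∈ normalizer (F.E : Set G) := F.d_norm (F.Tt w hw) (F.Vn w hw)
  -- pairs in relation are conjugate
  have hp1 : ∀ x ∈ F.E, x ≠ 1 → ∀ y ∈ F.E, y ≠ 1 → B F x y → ∀ x' ∈ F.E, x' ≠ 1 → ∀ y' ∈ F.E,
      y' ≠ 1 → B F x' y' → ∃ n ∈ normalizer (F.E : Set G), n * x * n⁻¹ = x' ∧
        n * y * n⁻¹ = y' := by
    rintro x hx hx1 y hy hy1 ⟨g, hg, hgx, hgy⟩ x' hx' hx1' y' hy' hy1' ⟨g', hg', hgx', hgy'⟩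
    have e1 : g⁻¹ * y * g ≠ 1 := fun e => hy1 (by
      have := congrArg (fun z => g * z * g⁻¹) e
      simpa [mul_assoc] using this)
    have e1' : g'⁻¹ * y' * g' ≠ 1 := fun e => hy1' (by
      have := congrArg (fun z => g' * z * g'⁻¹) e
      simpa [mul_assoc] using this)
    obtain ⟨d, hdt, hd, hdV⟩ := H.tr _ hgy e1 _ hgy' e1'
    refine ⟨g' * d * g⁻¹, (normalizer (F.E : Set G)).mul_mem ((normalizer (F.E : Set G)).mul_mem hg'
      (F.d_norm hdt hdV)) ((normalizer (F.E : Set G)).inv_mem hg), ?_, ?_⟩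
    · rw [← hgx, ← hgx']
      have : g' * d * g⁻¹ * (g * t * g⁻¹) * (g' * d * g⁻¹)⁻¹ = g' * (d * t * d⁻¹) * g'⁻¹ := by group
      rw [this, hdt]; group
    · have : g' * d * g⁻¹ * y * (g' * d * g⁻¹)⁻¹ = g' * (d * (g⁻¹ * y * g) * d⁻¹) * g'⁻¹ := by group
      rw [this, hd]; group
  have hp2 : ∀ x ∈ F.E, x ≠ 1 → ∀ y ∈ F.E, y ≠ 1 → x ≠ y → ¬ B F x y → ∀ x' ∈ F.E, x' ≠ 1 →
      ∀ y' ∈ F.E, y' ≠ 1 → x' ≠ y' → ¬ B F x' y' → ∃ n ∈ normalizer (F.E : Set G),
        n * x * n⁻¹ = x' ∧ n * y * n⁻¹ = y' := by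
    intro x hx hx1 y hy hy1 hxy hB x' hx' hx1' y' hy' hy1' hxy' hB'
    -- `B x (x y)`
    obtain ⟨g, hg, hgx⟩ := hall x hx hx1
    obtain ⟨g', hg', hgx'⟩ := hall x' hx' hx1'
    have hxx : ¬ B F x x := B_self
    have hxx' : ¬ B F x' x' := B_self
    have h1 : B F x (x * y) := (B_mul H hg hgx hx hy).2 (by simp only [hxx, hB])
    have h1' : B F x' (x' * y') := (B_mul H hg' hgx' hx' hy').2 (by simp only [hxx', hB'])
    obtain ⟨n, hn, hnx, hny⟩ := hp1 x hx hx1 (x * y) (F.E.mul_mem hx hy)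
      (fun e => hxy (by
        have := eq_inv_of_mul_eq_one_left e
        rwa [F.Einv hy] at this)) h1 x' hx' hx1' (x' * y') (F.E.mul_mem hx' hy')
      (fun e => hxy' (by
        have := eq_inv_of_mul_eq_one_left e
        rwa [F.Einv hy'] at this)) h1'
    refine ⟨n, hn, hnx, ?_⟩
    have e1 : n * (x * y) * n⁻¹ = (n * x * n⁻¹) * (n * y * n⁻¹) := by group
    rw [e1, hnx] at hny
    exact mul_left_cancel hny
  -- the swapped pair
  set v1 := w * v0 * w⁻¹ with hv1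
  have hv1V : v1 ∈ V := F.Vn w hw v0 hv0
  have hv01 : v0 ≠ 1 := by rintro rfl; exact hwv (by simp)
  have hv11 : v1 ≠ 1 := by
    intro e
    apply hv01
    have := congrArg (fun z => w⁻¹ * z * w) e
    simpa [hv1, mul_assoc] using this
  have hne : v0 ≠ v1 := by
    intro e
    apply hwv
    rw [hv1] at e
    have := congrArg (fun z => z * w) e
    simp only [inv_mul_cancel_right] at this
    exact this.symm
  have hwv1 : w * v1 * w⁻¹ = v0 := by
    have : w * v1 * w⁻¹ = (w * w) * v0 * (w * w)⁻¹ := by rw [hv1]; group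
    rw [this, hw2, mul_inv_cancel_right]
  have hswap : B F v0 v1 ↔ B F v1 v0 := by
    have := B_conj_iff (F := F) (x := v0) (y := v1) hwN
    rw [← hv1, hwv1] at this
    exact this.symm
  have hsym : ∀ x ∈ F.E, x ≠ 1 → ∀ y ∈ F.E, y ≠ 1 → x ≠ y → (B F x y ↔ B F y x) := by
    by_cases hB : B F v0 v1
    · have key : ∀ x ∈ F.E, x ≠ 1 → ∀ y ∈ F.E, y ≠ 1 → B F x y → B F y x := by
        intro x hx hx1 y hy hy1 hxy
        obtain ⟨n, hn, rfl, rfl⟩ := hp1 v0 (F.VE hv0) hv01 v1 (F.VE hv1V) hv11 hB x hx hx1 y hy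
          hy1 hxy
        exact B_conj hn (hswap.1 hB)
      intro x hx hx1 y hy hy1 _
      exact ⟨key x hx hx1 y hy hy1, key y hy hy1 x hx hx1⟩
    · have key : ∀ x ∈ F.E, x ≠ 1 → ∀ y ∈ F.E, y ≠ 1 → x ≠ y → ¬ B F x y → ¬ B F y x := by
        intro x hx hx1 y hy hy1 hxy hxyB
        obtain ⟨n, hn, rfl, rfl⟩ := hp2 v0 (F.VE hv0) hv01 v1 (F.VE hv1V) hv11 hne hB x hx hx1 y
          hy hy1 hxy hxyB
        rw [B_conj_iff hn, ← hswap]
        exact hB
      intro x hx hx1 y hy hy1 hxy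
      constructor
      · intro h
        by_contra hcon
        exact key y hy hy1 x hx hx1 (Ne.symm hxy) hcon h
      · intro h
        by_contra hcon
        exact key x hx hx1 y hy hy1 hxy hcon h
  -- contradiction with `z = v0 v1`
  have hz := F.E.mul_mem (F.VE hv0) (F.VE hv1V)
  have hz1 : v0 * v1 ≠ 1 := fun e => hne (by
    have := eq_inv_of_mul_eq_one_left e
    rwa [F.vinv hv1V] at this)
  have hzv0 : v0 * v1 ≠ v0 := fun e => hv11 (by simpa using e)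
  have hzv1 : v0 * v1 ≠ v1 := fun e => hv01 (by simpa using e)
  obtain ⟨gz, hgz, hgz'⟩ := hall _ hz hz1
  obtain ⟨g0, hg0, hg0'⟩ := hall _ (F.VE hv0) hv01
  obtain ⟨g1, hg1, hg1'⟩ := hall _ (F.VE hv1V) hv11
  have a1 : ¬ B F (v0 * v1) (v0 * v1) := B_self
  rw [B_mul H hgz hgz' (F.VE hv0) (F.VE hv1V),
    hsym _ hz hz1 _ (F.VE hv0) hv01 hzv0, hsym _ hz hz1 _ (F.VE hv1V) hv11 hzv1,
    B_mul H hg0 hg0' (F.VE hv0) (F.VE hv1V), B_mul H hg1 hg1' (F.VE hv0) (F.VE hv1V)] at a1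
  have b0 : ¬ B F v0 v0 := B_self
  have b1 : ¬ B F v1 v1 := B_self
  have b2 := hsym _ (F.VE hv0) hv01 _ (F.VE hv1V) hv11 hne
  tauto

theorem conj_ne_one {x g : G} (hx : x ≠ 1) : g * x * g⁻¹ ≠ 1 := fun e => hx (by
  have := congrArg (fun z => g⁻¹ * z * g) e
  simpa [mul_assoc] using this)

theorem orb_V (H : Tr F) {n : G} (hn : n ∈ normalizer (F.E : Set G)) (hnV : n * t * n⁻¹ ∈ V)
    {v : G} (hv : v ∈ V) (hv1 : v ≠ 1) :
    ∃ n' ∈ normalizer (F.E : Set G), n' * t * n'⁻¹ = v := by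
  obtain ⟨d, hdt, hd, hdV⟩ := H.tr (n * t * n⁻¹) hnV (conj_ne_one F.t1) v hv hv1
  refine ⟨d * n, (normalizer (F.E : Set G)).mul_mem (F.d_norm hdt hdV) hn, ?_⟩
  rw [← hd]; group

theorem orb_tV (H : Tr F) {n : G} (hn : n ∈ normalizer (F.E : Set G)) (hnV : n * t * n⁻¹ ∉ V)
    (hnt : n * t * n⁻¹ ≠ t) {v : G} (hv : v ∈ V) (hv1 : v ≠ 1) :
    ∃ n' ∈ normalizer (F.E : Set G), n' * t * n'⁻¹ = t * v := by
  have h1 : t * (n * t * n⁻¹) ∈ V := (norm_conj hn F.tE).resolve_left hnV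
  have h2 : t * (n * t * n⁻¹) ≠ 1 := by
    intro e
    have := eq_inv_of_mul_eq_one_right e
    rw [F.tinv] at this
    exact hnt this
  obtain ⟨d, hdt, hd, hdV⟩ := H.tr _ h1 h2 v hv hv1
  refine ⟨d * n, (normalizer (F.E : Set G)).mul_mem (F.d_norm hdt hdV) hn, ?_⟩
  rw [← hd]
  have e1 : d * n * t * (d * n)⁻¹ = (t * t) * (d * (n * t * n⁻¹) * d⁻¹) := by
    rw [F.t2, one_mul]; group
  have e2 : t * (d * (t * (n * t * n⁻¹)) * d⁻¹) = t * (d * t) * (n * t * n⁻¹) * d⁻¹ := by group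
  rw [e1, e2, hdt]; group

/-- the class of `t` under `N(E)` is `t V` as soon as `N(E)` moves `t` -/
theorem class_eq4 (H : Tr F) (hq : 4 ≤ Nat.card V) {w : G} (hw : w ∈ T) {v0 : G} (hv0 : v0 ∈ V)
    (hwv : w * v0 ≠ v0 * w) (hw2 : (w * w) * v0 = v0 * (w * w))
    (hmove : ∃ n ∈ normalizer (F.E : Set G), n * t * n⁻¹ ≠ t) :
    (∀ n ∈ normalizer (F.E : Set G), n * t * n⁻¹ ∉ V) ∧
      ∀ v ∈ V, ∃ n ∈ normalizer (F.E : Set G), n * t * n⁻¹ = t * v := by
  have h1 : ∀ n ∈ normalizer (F.E : Set G), n * t * n⁻¹ ∉ V := by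
    intro n1 hn1 hn1V
    by_cases hex : ∃ n2 ∈ normalizer (F.E : Set G), n2 * t * n2⁻¹ ∉ V ∧ n2 * t * n2⁻¹ ≠ t
    · obtain ⟨n2, hn2, hn2V, hn2t⟩ := hex
      refine not_all H hw hv0 hwv hw2 ?_
      rintro x (hx | hx) hx1
      · exact orb_V H hn1 hn1V hx hx1
      · by_cases hxt : t * x = 1
        · refine ⟨1, one_mem _, ?_⟩
          have := eq_inv_of_mul_eq_one_right hxt
          rw [F.tinv] at this
          rw [this]; group
        · obtain ⟨n', hn', e⟩ := orb_tV H hn2 hn2V hn2t hx hxt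
          exact ⟨n', hn', by rw [e, ← F.eq_tmul]⟩
    · push Not at hex
      set v1 := n1 * t * n1⁻¹ with hv1
      have hv11 : v1 ≠ 1 := conj_ne_one F.t1
      -- `v ∉ {1, v1}`
      obtain ⟨v, hv, hvv1, hvv2⟩ : ∃ v ∈ V, v ≠ 1 ∧ v ≠ v1 := by
        by_contra hcon
        push Not at hcon
        have hsub : (V : Set G) ⊆ ({1, v1} : Set G) := by
          intro v hv
          by_cases h : v = 1
          · exact Or.inl h
          · exact Or.inr (hcon v hv h)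
        have h2 := Set.ncard_le_ncard hsub (Set.toFinite _)
        have h3 : (V : Set G).ncard = Nat.card V := rfl
        have h4 := Set.ncard_insert_le (1 : G) {v1}
        rw [Set.ncard_singleton] at h4
        omega
      have key : ∀ u ∈ V, u ≠ 1 → u ≠ v1 → n1⁻¹ * u * n1 ∈ V := by
        intro u hu hu1 huv
        obtain ⟨m, hm, hmu⟩ := orb_V H hn1 hn1V hu hu1
        by_contra hcon
        have h2 : n1⁻¹ * u * n1 = (n1⁻¹ * m) * t * (n1⁻¹ * m)⁻¹ := by rw [← hmu]; group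
        have h3 := hex (n1⁻¹ * m) ((normalizer (F.E : Set G)).mul_mem
          ((normalizer (F.E : Set G)).inv_mem hn1) hm) (by rw [← h2]; exact hcon)
        rw [← h2] at h3
        apply huv
        rw [hv1, ← h3]; group
      have h2 := key v hv hvv1 hvv2
      have h3 := key (v1 * v) (V.mul_mem hn1V hv) (fun e => hvv2 (by
        have := eq_inv_of_mul_eq_one_right e
        rw [F.vinv hn1V] at this
        exact this)) (fun e => hvv1 (by simpa using e))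
      have h4 : n1⁻¹ * (v1 * v) * n1 = t * (n1⁻¹ * v * n1) := by rw [hv1]; group
      rw [h4, V.mul_mem_cancel_right h2] at h3
      exact F.tV h3
  refine ⟨h1, fun v hv => ?_⟩
  by_cases hv1 : v = 1
  · exact ⟨1, one_mem _, by rw [hv1]; group⟩
  obtain ⟨n, hn, hnt⟩ := hmove
  exact orb_tV H hn (h1 n hn) hnt hv hv1

/-- the class of `t` under `N(E)` is `t V` as soon as `N(E)` moves `t` -/
theorem class_eq (H : Tr F) (hq : 16 ≤ Nat.card V) {w : G} (hw : w ∈ T) {v0 : G} (hv0 : v0 ∈ V)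
    (hwv : w * v0 ≠ v0 * w) (hw2 : (w * w) * v0 = v0 * (w * w))
    (hmove : ∃ n ∈ normalizer (F.E : Set G), n * t * n⁻¹ ≠ t) :
    (∀ n ∈ normalizer (F.E : Set G), n * t * n⁻¹ ∉ V) ∧
      ∀ v ∈ V, ∃ n ∈ normalizer (F.E : Set G), n * t * n⁻¹ = t * v :=
  class_eq4 H (by omega) hw hv0 hwv hw2 hmove

/-- an element conjugating `E` into `T` normalises `E` -/
theorem norm_of_conj (F : Fld t V R T) (hq : 16 ≤ Nat.card V) {h : G}
    (hh : ∀ e ∈ F.E, h * e * h⁻¹ ∈ T) : h ∈ normalizer (F.E : Set G) := by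
  have h1 : F.E.map (MulAut.conj h).toMonoidHom = F.E := by
    apply F.eq_E hq
    · rintro _ ⟨x, hx, rfl⟩
      exact hh x hx
    · rintro _ ⟨x, hx, rfl⟩
      change h * x * h⁻¹ * (h * x * h⁻¹) = 1
      have : h * x * h⁻¹ * (h * x * h⁻¹) = h * (x * x) * h⁻¹ := by group
      rw [this, F.Esq hx]; group
    · rw [Nat.card_congr (F.E.equivMapOfInjective _ (MulAut.conj h).injective).symm.toEquiv]
  apply conj_mem_norm
  intro x hx
  have : (MulAut.conj h).toMonoidHom x ∈ F.E.map (MulAut.conj h).toMonoidHom :=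
    mem_map_of_mem _ hx
  rw [h1] at this
  exact this

/-- `[V, δ] = C_V(δ)` -/
theorem comm_surj (F : Fld t V R T) {δ : G} (hδ : δ ∈ T) (h1 : ∃ v ∈ V, δ * v ≠ v * δ)
    (h2 : δ * δ = 1) {u : G} (hu : u ∈ V) (huδ : δ * u = u * δ) :
    ∃ v ∈ V, v * δ * v⁻¹ = δ * u := by
  classical
  have hδi : δ⁻¹ = δ := inv_eq_of_mul_eq_one_left h2
  let φ : V →* G :=
    { toFun := fun v => δ * v * δ⁻¹ * v
      map_one' := by simp
      map_mul' := by
        rintro ⟨a, ha⟩ ⟨b, hb⟩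
        change δ * (a * b) * δ⁻¹ * (a * b) = δ * a * δ⁻¹ * a * (δ * b * δ⁻¹ * b)
        have e1 := F.vcomm ha (F.Vn δ hδ b hb)
        have e2 : δ * (a * b) * δ⁻¹ * (a * b) = (δ * a * δ⁻¹) * ((δ * b * δ⁻¹) * a) * b := by group
        have e3 : δ * a * δ⁻¹ * a * (δ * b * δ⁻¹ * b) =
          (δ * a * δ⁻¹) * (a * (δ * b * δ⁻¹)) * b := by group
        rw [e2, e3, e1] }
  have hker : Nat.card φ.ker = Nat.card (V ⊓ centralizer {δ} : Subgroup G) := by
    refine Nat.card_congr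
      { toFun := fun v => ⟨(v : V), (v : V).2, ?_⟩
        invFun := fun v => ⟨⟨v, v.2.1⟩, ?_⟩
        left_inv := fun v => rfl
        right_inv := fun v => rfl }
    · have h3 : δ * ((v : V) : G) * δ⁻¹ * ((v : V) : G) = 1 := v.2
      have h4 := eq_inv_of_mul_eq_one_left h3
      rw [F.vinv (v : V).2, mul_inv_eq_iff_eq_mul] at h4
      exact mem_centralizer_singleton_iff.2 h4.symm
    · rw [MonoidHom.mem_ker]
      change δ * (v : G) * δ⁻¹ * (v : G) = 1
      have h3 : (v : G) * δ = δ * v := mem_centralizer_singleton_iff.1 v.2.2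
      rw [← h3, mul_inv_cancel_right, F.vsq _ v.2.1]
  have hrange : φ.range ≤ V ⊓ centralizer {δ} := by
    rintro _ ⟨⟨v, hv⟩, rfl⟩
    have h3 := F.Vn δ hδ v hv
    refine ⟨V.mul_mem h3 hv, mem_centralizer_singleton_iff.2 ?_⟩
    change δ * v * δ⁻¹ * v * δ = δ * (δ * v * δ⁻¹ * v)
    have e1 := F.vcomm h3 hv
    have e2 : δ * (δ * v * δ⁻¹ * v) = (δ * δ) * v * (δ⁻¹ * v) := by group
    rw [e2, h2, one_mul, e1, hδi]
    calc v * (δ * v * δ) * δ = v * (δ * v) * (δ * δ) := by group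
      _ = v * (δ * v) := by rw [h2, mul_one]
  have h3 := F.fix δ hδ h1 (fun v _ => by rw [h2, one_mul, mul_one])
  have h4 := card_mul_index φ.ker
  rw [index_ker, hker] at h4
  have h5 : Nat.card (V ⊓ centralizer {δ} : Subgroup G) ≤ Nat.card φ.range := by
    rw [pow_two, ← h4] at h3
    exact (Nat.eq_of_mul_eq_mul_left Nat.card_pos h3).le
  have h6 : φ.range = V ⊓ centralizer {δ} := eq_of_le_of_card_ge hrange h5
  have h7 : u ∈ φ.range := by
    rw [h6]
    exact ⟨hu, mem_centralizer_singleton_iff.2 huδ.symm⟩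
  obtain ⟨⟨v, hv⟩, hvu⟩ := h7
  refine ⟨v, hv, ?_⟩
  have h8 : δ * v * δ⁻¹ * v = u := hvu
  rw [← h8, F.vinv hv, hδi]
  calc v * δ * v = (δ * δ) * v * δ * v := by rw [h2, one_mul]
    _ = δ * (δ * v * δ * v) := by group

theorem two_dvd_card_V (F : Fld t V R T) (hq : 16 ≤ Nat.card V) : 2 ∣ Nat.card V := by
  haveI : Fact (Nat.Prime 2) := ⟨Nat.prime_two⟩
  have hp : IsPGroup 2 V := F.T2.to_le F.VT
  obtain ⟨a, ha⟩ := IsPGroup.iff_card.1 hp
  rw [ha] at hq ⊢
  refine dvd_pow_self _ ?_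
  rintro rfl
  simp at hq

/-- `T` is not a Sylow 2-subgroup of `G` -/
theorem not_sylow (H : Tr F) (hq : 16 ≤ Nat.card V) {w : G} (hw : w ∈ T) {v0 : G} (hv0 : v0 ∈ V)
    (hwv : w * v0 ≠ v0 * w) (hw2 : (w * w) * v0 = v0 * (w * w))
    (hZ : ∃ g : G, g * t * g⁻¹ ≠ t ∧ (g * t * g⁻¹) * t = t * (g * t * g⁻¹)) :
    ¬ IsSyl ⊤ T := by
  classical
  haveI : Fact (Nat.Prime 2) := ⟨Nat.prime_two⟩
  intro hS
  set N := normalizer (F.E : Set G) with hNdef
  -- Step 1
  have hfix : ∀ n ∈ N, n * t * n⁻¹ = t := by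
    by_contra hcon
    push Not at hcon
    obtain ⟨hA, hB⟩ := class_eq H hq hw hv0 hwv hw2 hcon
    have hTN : T ≤ N := fun x hx => F.d_norm (F.Tt x hx) (F.Vn x hx)
    letI : MulAction N G := MulAction.compHom G (MulAut.conj.comp N.subtype)
    have hact : ∀ (n : N) (x : G), n • x = (n : G) * x * (n : G)⁻¹ := fun n x => rfl
    have h1 : (MulAction.stabilizer N t).index = Nat.card V := by
      rw [MulAction.index_stabilizer, ← Nat.card_coe_set_eq]
      refine Nat.card_congr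
        { toFun := fun x => ⟨t * x, ?_⟩
          invFun := fun v => ⟨t * v, ?_⟩
          left_inv := fun x => Subtype.ext (F.eq_tmul x).symm
          right_inv := fun v => Subtype.ext (F.eq_tmul v).symm }
      · obtain ⟨n, hn⟩ := x.2
        have h2 : (n : G) * t * (n : G)⁻¹ = x := hn
        rw [← h2]
        exact (norm_conj n.2 F.tE).resolve_left (hA n n.2)
      · obtain ⟨n, hn, hnv⟩ := hB v v.2
        exact ⟨⟨n, hn⟩, hnv⟩
    have h2 : T.subgroupOf N ≤ MulAction.stabilizer N t := by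
      intro x hx
      rw [MulAction.mem_stabilizer_iff, hact, F.Tt _ (mem_subgroupOf.1 hx), mul_inv_cancel_right]
    have h3 : 2 ∣ T.index := by
      have h4 : (MulAction.stabilizer N t).index ∣ (T.subgroupOf N).index := index_dvd_of_le h2
      have h5 : T.relIndex N ∣ T.index := relIndex_dvd_index_of_le hTN
      rw [h1] at h4
      exact (F.two_dvd_card_V hq).trans (h4.trans h5)
    let S : Sylow 2 G :=
      { toSubgroup := T
        isPGroup' := hS.1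
        is_maximal' := fun {Q} hQ hTQ => le_antisymm (hS.2.2 Q hQ hTQ le_top) hTQ }
    exact S.not_dvd_index h3
  -- Step 2
  have hcl : ∀ g : G, g * t * g⁻¹ ∈ F.E → g * t * g⁻¹ = t := by
    intro g hg
    set x := g * t * g⁻¹ with hx
    have hE2 : IsPGroup 2 F.E := F.T2.to_le F.ET
    obtain ⟨S1, hS1, hES1⟩ := exists_isSyl (centralizer {x}) F.E hE2 (fun e he =>
      mem_centralizer_singleton_iff.2 (F.Ecomm he hg))
    obtain ⟨c, hc, hcE⟩ := hS1.conj (P := F.E.map (MulAut.conj g).toMonoidHom)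
      (hE2.map _) (by
        rintro _ ⟨e, he, rfl⟩
        refine mem_centralizer_singleton_iff.2 ?_
        change g * e * g⁻¹ * x = x * (g * e * g⁻¹)
        have e1 : g * e * g⁻¹ * x = g * (e * t) * g⁻¹ := by rw [hx]; group
        have e2 : x * (g * e * g⁻¹) = g * (t * e) * g⁻¹ := by rw [hx]; group
        rw [e1, e2, F.tcomm he])
    obtain ⟨h, _, hh⟩ := hS.conj hS1.1 le_top
    have h1 : h ∈ N := F.norm_of_conj hq (fun e he => hh e (hES1 he))
    have h2 : h * c * g ∈ N := by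
      apply F.norm_of_conj hq
      intro e he
      have e1 : h * c * g * e * (h * c * g)⁻¹ = h * (c * (g * e * g⁻¹) * c⁻¹) * h⁻¹ := by group
      rw [e1]
      exact hh _ (hcE _ ⟨e, he, rfl⟩)
    have h3 := hfix _ h2
    have h4 := hfix _ (N.inv_mem h1)
    have h5 : c * x = x * c := mem_centralizer_singleton_iff.1 hc
    have h6 : h * c * g * t * (h * c * g)⁻¹ = h * x * h⁻¹ := by
      have : h * c * g * t * (h * c * g)⁻¹ = h * (c * x) * c⁻¹ * h⁻¹ := by rw [hx]; group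
      rw [this, h5]; group
    rw [h6] at h3
    calc x = h⁻¹ * (h * x * h⁻¹) * h⁻¹⁻¹ := by group
      _ = t := by rw [h3]; exact h4
  -- Step 3
  obtain ⟨g0, hg0, hg0'⟩ := hZ
  have hne : ({x : G | x ∈ T ∧ x ≠ t ∧ ∃ g, g * t * g⁻¹ = x} : Set G).Nonempty := by
    have hTC : IsSyl (centralizer {t}) T :=
      ⟨F.T2, fun x hx => mem_centralizer_singleton_iff.2 (F.Tt x hx), fun P hP hTP hPC =>
        F.Tmax P hP hTP (fun x hx => mem_centralizer_singleton_iff.1 (hPC hx))⟩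
    have h1 : IsPGroup 2 (zpowers (g0 * t * g0⁻¹)) := by
      have h2 : (zpowers t).map (MulAut.conj g0).toMonoidHom = zpowers (g0 * t * g0⁻¹) := by
        rw [MonoidHom.map_zpowers]; rfl
      rw [← h2]
      exact (F.T2.to_le (by rw [zpowers_le]; exact F.tT)).map _
    obtain ⟨c, hc, hcx⟩ := hTC.conj h1 (by
      rw [zpowers_le]; exact mem_centralizer_singleton_iff.2 hg0')
    refine ⟨c * (g0 * t * g0⁻¹) * c⁻¹, hcx _ (mem_zpowers _), ?_, c * g0, by group⟩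
    intro e
    apply hg0
    have hct : c * t = t * c := mem_centralizer_singleton_iff.1 hc
    have h3 : g0 * t * g0⁻¹ = c⁻¹ * (c * (g0 * t * g0⁻¹) * c⁻¹) * c := by group
    rw [h3, e]
    have : c⁻¹ * t * c = c⁻¹ * (t * c) := by group
    rw [this, ← hct]; group
  obtain ⟨x1, ⟨hx1T, hx1t, g1, hg1⟩, hmax⟩ := Set.exists_max_image
    ({x : G | x ∈ T ∧ x ≠ t ∧ ∃ g, g * t * g⁻¹ = x} : Set G)
    (fun x => Nat.card (T ⊓ centralizer {x} : Subgroup G)) (Set.toFinite _) hne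
  set P : Subgroup G := T ⊓ centralizer {x1} with hPdef
  have hx1sq : x1 * x1 = 1 := by
    rw [← hg1]
    have : g1 * t * g1⁻¹ * (g1 * t * g1⁻¹) = g1 * (t * t) * g1⁻¹ := by group
    rw [this, F.t2]; group
  have hx1P : x1 ∈ P := ⟨hx1T, mem_centralizer_singleton_iff.2 rfl⟩
  have hP2 : IsPGroup 2 P := F.T2.to_le inf_le_left
  have hPx : ∀ p ∈ P, p * x1 = x1 * p := fun p hp => mem_centralizer_singleton_iff.1 hp.2
  have hPmax : ∀ Q : Subgroup G, IsPGroup 2 Q → P ≤ Q → (∀ x ∈ Q, x * t = t * x) →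
      (∀ x ∈ Q, x * x1 = x1 * x) → Q ≤ P := by
    intro Q hQ hPQ hQt hQx
    have hTC : IsSyl (centralizer {t}) T :=
      ⟨F.T2, fun x hx => mem_centralizer_singleton_iff.2 (F.Tt x hx), fun P hP hTP hPC =>
        F.Tmax P hP hTP (fun x hx => mem_centralizer_singleton_iff.1 (hPC hx))⟩
    obtain ⟨c, hc, hcQ⟩ := hTC.conj hQ (fun x hx => mem_centralizer_singleton_iff.2 (hQt x hx))
    have hct : c * t = t * c := mem_centralizer_singleton_iff.1 hc
    have h1 := hmax (c * x1 * c⁻¹) ⟨hcQ _ (hPQ hx1P), (fun e => hx1t (by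
      have h3 : x1 = c⁻¹ * (c * x1 * c⁻¹) * c := by group
      rw [h3, e]
      have : c⁻¹ * t * c = c⁻¹ * (t * c) := by group
      rw [this, ← hct]; group)), c * g1, by rw [← hg1]; group⟩
    have h2 : Nat.card Q ≤ Nat.card (T ⊓ centralizer {c * x1 * c⁻¹} : Subgroup G) := by
      refine Nat.card_le_card_of_injective (fun x : Q => (⟨c * x * c⁻¹, hcQ x x.2,
        mem_centralizer_singleton_iff.2 ?_⟩ : (T ⊓ centralizer {c * x1 * c⁻¹} : Subgroup G))) ?_
      · have e1 : c * (x : G) * c⁻¹ * (c * x1 * c⁻¹) = c * (x * x1) * c⁻¹ := by group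
        have e2 : c * x1 * c⁻¹ * (c * (x : G) * c⁻¹) = c * (x1 * x) * c⁻¹ := by group
        rw [e1, e2, hQx x x.2]
      · intro x y hxy
        have : c * (x : G) * c⁻¹ = c * (y : G) * c⁻¹ :=
          congrArg (fun z : (T ⊓ centralizer {c * x1 * c⁻¹} : Subgroup G) => (z : G)) hxy
        exact Subtype.ext (mul_left_cancel (mul_right_cancel this))
    have h3 : P = Q := eq_of_le_of_card_ge hPQ (h2.trans h1)
    exact h3.ge
  have hx1E : x1 ∉ F.E := fun e => hx1t (by rw [← hg1] at e ⊢; exact hcl g1 e)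
  have hnotV : ∀ x ∈ T, x * x = 1 → x ∉ F.E → ∃ v ∈ V, x * v ≠ v * x := by
    intro x hx hx2 hxE
    by_contra hcon
    push Not at hcon
    exact hxE (F.mem_E_of_sq hx hx2 hcon)
  have hsq' : ∀ x : G, x * x = 1 → ∀ v ∈ V, (x * x) * v = v * (x * x) := by
    intro x hx v _
    rw [hx, one_mul, mul_one]
  obtain ⟨v1, hv1, hxv1⟩ := hnotV x1 hx1T hx1sq hx1E
  -- the Sylow 2-subgroup of `C(x1)`
  obtain ⟨T1, hT1, hPT1⟩ := exists_isSyl (centralizer {x1}) P hP2 inf_le_right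
  have hcardT1 : Nat.card T ≤ Nat.card T1 := by
    have h1 := hT1.card_le (P := T.map (MulAut.conj g1).toMonoidHom) (F.T2.map _) (by
      rintro _ ⟨x, hx, rfl⟩
      refine mem_centralizer_singleton_iff.2 ?_
      change g1 * x * g1⁻¹ * x1 = x1 * (g1 * x * g1⁻¹)
      rw [← hg1]
      have e1 : g1 * x * g1⁻¹ * (g1 * t * g1⁻¹) = g1 * (x * t) * g1⁻¹ := by group
      have e2 : g1 * t * g1⁻¹ * (g1 * x * g1⁻¹) = g1 * (t * x) * g1⁻¹ := by group
      rw [e1, e2, F.Tt x hx])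
    rwa [Nat.card_congr (T.equivMapOfInjective _ (MulAut.conj g1).injective).symm.toEquiv] at h1
  have hPT : Nat.card P < Nat.card T := by
    by_contra hcon
    push Not at hcon
    have h1 : P = T := eq_of_le_of_card_ge inf_le_left hcon
    apply hxv1
    have h2 : v1 ∈ P := by rw [h1]; exact F.VT hv1
    exact (hPx v1 h2).symm
  have hPlt : P < T1 := lt_of_le_of_ne hPT1 (fun e => by rw [e] at hPT; omega)
  obtain ⟨n, hnT1, hnP, hnN⟩ := exists_normalizer_gt hT1.1 hPlt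
  have hnx : n * x1 = x1 * n := mem_centralizer_singleton_iff.1 (hT1.2.1 hnT1)
  have hnt : n * t ≠ t * n := by
    intro e
    apply hnP
    have h1 : IsPGroup 2 (P ⊔ zpowers n : Subgroup G) :=
      isPGroup_sup hP2 (hT1.1.to_le (by rw [zpowers_le]; exact hnT1)) (by
        rw [zpowers_le]; exact hnN)
    have h2 : (P ⊔ zpowers n : Subgroup G) ≤ centralizer {t} := by
      rw [sup_le_iff, zpowers_le]
      exact ⟨fun x hx => mem_centralizer_singleton_iff.2 (F.Tt x hx.1),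
        mem_centralizer_singleton_iff.2 e⟩
    have h3 : (P ⊔ zpowers n : Subgroup G) ≤ centralizer {x1} := by
      rw [sup_le_iff, zpowers_le]
      exact ⟨inf_le_right, mem_centralizer_singleton_iff.2 hnx⟩
    exact hPmax _ h1 le_sup_left (fun x hx => mem_centralizer_singleton_iff.1 (h2 hx))
      (fun x hx => mem_centralizer_singleton_iff.1 (h3 hx))
      ((le_sup_right : zpowers n ≤ P ⊔ zpowers n) (mem_zpowers n))
  -- `δ`
  set δ := n * t * n⁻¹ with hδ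
  have htP : t ∈ P := ⟨F.tT, mem_centralizer_singleton_iff.2 (F.Tt x1 hx1T).symm⟩
  have hδP : δ ∈ P := norm_conj hnN htP
  have hδt : δ ≠ t := by
    intro e
    apply hnt
    rw [hδ, mul_inv_eq_iff_eq_mul] at e
    exact e
  have hδ2 : δ * δ = 1 := by
    have : δ * δ = n * (t * t) * n⁻¹ := by rw [hδ]; group
    rw [this, F.t2]; group
  have hδE : δ ∉ F.E := fun e => hδt (hcl n e)
  obtain ⟨vδ, hvδ, hδv⟩ := hnotV δ hδP.1 hδ2 hδE
  have hx1i : x1⁻¹ = x1 := inv_eq_of_mul_eq_one_left hx1sq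
  have hδx : ∀ v ∈ V, (x1⁻¹ * δ) * v = v * (x1⁻¹ * δ) :=
    F.uniq x1 hx1T δ hδP.1 (hsq' x1 hx1sq) (hsq' δ hδ2) ⟨v1, hv1, hxv1⟩ ⟨vδ, hvδ, hδv⟩
  have hδu : ∀ u ∈ V, u * x1 = x1 * u → δ * u = u * δ := by
    intro u hu hux
    have e1 : δ = x1 * (x1⁻¹ * δ) := by group
    calc δ * u = x1 * ((x1⁻¹ * δ) * u) := by group
      _ = (x1 * u) * (x1⁻¹ * δ) := by rw [hδx u hu]; group
      _ = u * δ := by rw [← hux]; group
  -- the elements `a u`
  have ha : ∀ u ∈ V, u * x1 = x1 * u → n⁻¹ * (δ * u) * n ∈ P ∧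
      (n⁻¹ * (δ * u) * n) * (n⁻¹ * (δ * u) * n) = 1 ∧
      (u ≠ 1 → ∃ v ∈ V, (n⁻¹ * (δ * u) * n) * v ≠ v * (n⁻¹ * (δ * u) * n)) := by
    intro u hu hux
    have huP : u ∈ P := ⟨F.VT hu, mem_centralizer_singleton_iff.2 hux⟩
    have h1 : n⁻¹ * (δ * u) * n ∈ P := norm_conj' hnN (P.mul_mem hδP huP)
    have h2 : (n⁻¹ * (δ * u) * n) * (n⁻¹ * (δ * u) * n) = 1 := by
      have e1 : (n⁻¹ * (δ * u) * n) * (n⁻¹ * (δ * u) * n) = n⁻¹ * (δ * (u * δ) * u) * n := by
        group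
      rw [e1, ← hδu u hu hux]
      have e2 : n⁻¹ * (δ * (δ * u) * u) * n = n⁻¹ * ((δ * δ) * (u * u)) * n := by group
      rw [e2, hδ2, F.vsq u hu]; group
    refine ⟨h1, h2, fun hu1 => ?_⟩
    apply hnotV _ h1.1 h2
    intro hE
    obtain ⟨v, hv, hvu⟩ := F.comm_surj hδP.1 ⟨vδ, hvδ, hδv⟩ hδ2 hu (hδu u hu hux)
    have e1 : n⁻¹ * (δ * u) * n = (n⁻¹ * v * n) * t * (n⁻¹ * v * n)⁻¹ := by
      rw [← hvu, hδ]; group
    have h3 := hcl (n⁻¹ * v * n) (by rw [← e1]; exact hE)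
    rw [← e1] at h3
    apply hu1
    have e2 : δ * u = δ := by
      have : δ * u = n * (n⁻¹ * (δ * u) * n) * n⁻¹ := by group
      rw [this, h3]
    simpa using e2
  -- two elements of `V0`
  have h4 := F.four_le hq hx1T ⟨v1, hv1, hxv1⟩ (hsq' x1 hx1sq)
  obtain ⟨u0, hu0, hu01⟩ : ∃ u ∈ (V ⊓ centralizer {x1} : Subgroup G), u ≠ 1 := by
    by_contra hcon
    push Not at hcon
    have : (V ⊓ centralizer {x1} : Subgroup G) = ⊥ := by
      rw [eq_bot_iff]; intro u hu; exact hcon u hu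
    rw [this, card_bot] at h4
    omega
  obtain ⟨u, hu, hu1, huu0⟩ : ∃ u ∈ (V ⊓ centralizer {x1} : Subgroup G), u ≠ 1 ∧ u ≠ u0 := by
    by_contra hcon
    push Not at hcon
    have hsub : ((V ⊓ centralizer {x1} : Subgroup G) : Set G) ⊆ ({1, u0} : Set G) := by
      intro v hv
      by_cases h : v = 1
      · exact Or.inl h
      · exact Or.inr (hcon v hv h)
    have h2 := Set.ncard_le_ncard hsub (Set.toFinite _)
    have h3 : ((V ⊓ centralizer {x1} : Subgroup G) : Set G).ncard =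
      Nat.card (V ⊓ centralizer {x1} : Subgroup G) := rfl
    have h5 := Set.ncard_insert_le (1 : G) {u0}
    rw [Set.ncard_singleton] at h5
    omega
  have hu0x : u0 * x1 = x1 * u0 := mem_centralizer_singleton_iff.1 hu0.2
  have hux : u * x1 = x1 * u := mem_centralizer_singleton_iff.1 hu.2
  obtain ⟨a1, a2, a3⟩ := ha u0 hu0.1 hu0x
  obtain ⟨b1, b2, b3⟩ := ha u hu.1 hux
  have huu : (u * u0) * x1 = x1 * (u * u0) := by
    rw [mul_assoc, hu0x, ← mul_assoc, hux, mul_assoc]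
  obtain ⟨c1, c2, c3⟩ := ha (u * u0) (V.mul_mem hu.1 hu0.1) huu
  have hcen := F.uniq _ b1.1 _ c1.1 (hsq' _ b2) (hsq' _ c2) (b3 hu1) (c3 (fun e => huu0 (by
    have := eq_inv_of_mul_eq_one_left e
    rwa [F.vinv hu0.1] at this)))
  obtain ⟨v, hv, hav⟩ := a3 hu01
  apply hav
  have e1 : (n⁻¹ * (δ * u) * n)⁻¹ * (n⁻¹ * (δ * (u * u0)) * n) = n⁻¹ * u0 * n := by group
  rw [e1] at hcen
  have e2 : n⁻¹ * (δ * u0) * n = t * (n⁻¹ * u0 * n) := by rw [hδ]; group
  rw [e2, mul_assoc, hcen v hv, ← mul_assoc, F.tv hv, mul_assoc]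

/-- **Start of the case of field automorphisms.** -/
theorem main (H : Tr F) (hq : 16 ≤ Nat.card V) {w : G} (hw : w ∈ T) {v0 : G} (hv0 : v0 ∈ V)
    (hwv : w * v0 ≠ v0 * w) (hw2 : (w * w) * v0 = v0 * (w * w))
    (hZ : ∃ g : G, g * t * g⁻¹ ≠ t ∧ (g * t * g⁻¹) * t = t * (g * t * g⁻¹)) :
    ¬ IsSyl ⊤ T ∧ R = zpowers t ∧
      (∀ n ∈ normalizer (F.E : Set G), n * t * n⁻¹ ∈ F.E ∧ n * t * n⁻¹ ∉ V) ∧
      (∀ v ∈ V, ∃ n ∈ normalizer (F.E : Set G), n * t * n⁻¹ = t * v) ∧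
      (∀ n ∈ normalizer (F.E : Set G), ∀ v ∈ V, n * v * n⁻¹ ∈ V) ∧
      (∃ n ∈ normalizer (T : Set G), n * t * n⁻¹ ≠ t ∧ n ∈ normalizer (F.E : Set G)) := by
  classical
  haveI : Fact (Nat.Prime 2) := ⟨Nat.prime_two⟩
  have hns := not_sylow H hq hw hv0 hwv hw2 hZ
  obtain ⟨S, hS, hTS⟩ := exists_isSyl ⊤ T F.T2 le_top
  have hlt : T < S := lt_of_le_of_ne hTS (fun e => hns (e ▸ hS))
  obtain ⟨n, hnS, hnT, hnN⟩ := exists_normalizer_gt hS.1 hlt
  have hnt : n * t * n⁻¹ ≠ t := by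
    intro e
    rw [mul_inv_eq_iff_eq_mul] at e
    apply hnT
    have h1 : IsPGroup 2 (T ⊔ zpowers n : Subgroup G) :=
      isPGroup_sup F.T2 (hS.1.to_le (by rw [zpowers_le]; exact hnS)) (by
        rw [zpowers_le]; exact hnN)
    have h2 : (T ⊔ zpowers n : Subgroup G) ≤ centralizer {t} := by
      rw [sup_le_iff, zpowers_le]
      exact ⟨fun x hx => mem_centralizer_singleton_iff.2 (F.Tt x hx),
        mem_centralizer_singleton_iff.2 e⟩
    exact F.Tmax _ h1 le_sup_left (fun x hx => mem_centralizer_singleton_iff.1 (h2 hx))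
      ((le_sup_right : zpowers n ≤ T ⊔ zpowers n) (mem_zpowers n))
  have hnE : n ∈ normalizer (F.E : Set G) :=
    F.norm_of_conj hq (fun e he => norm_conj hnN (F.ET he))
  obtain ⟨hA, hB⟩ := class_eq H hq hw hv0 hwv hw2 ⟨n, hnE, hnt⟩
  have hNV : ∀ n ∈ normalizer (F.E : Set G), ∀ v ∈ V, n * v * n⁻¹ ∈ V := by
    intro m hm v hv
    obtain ⟨m', hm', hmv⟩ := hB v hv
    have h1 : v = t * (m' * t * m'⁻¹) := by rw [hmv, ← F.eq_tmul]
    have h2 : m * v * m⁻¹ = (m * t * m⁻¹) * ((m * m') * t * (m * m')⁻¹) := by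
      rw [h1]; group
    rw [h2]
    have hmm := (normalizer (F.E : Set G)).mul_mem hm hm'
    exact F.mul_mem_V (norm_conj hm F.tE) (norm_conj hmm F.tE) (hA m hm) (hA _ hmm)
  refine ⟨hns, ?_, fun n hn => ⟨norm_conj hn F.tE, hA n hn⟩, hB, hNV, n, hnN, hnt, hnE⟩
  -- `|R| = 2`
  have hsq : ∀ s ∈ R, s * s ≠ t := by
    intro s hs hst
    have h1 : n * s * n⁻¹ ∈ T := norm_conj hnN (F.RT hs)
    have h2 : ∀ v ∈ V, (n * s * n⁻¹) * v = v * (n * s * n⁻¹) := by
      intro v hv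
      have h3 : n⁻¹ * v * n ∈ V := by
        have := hNV n⁻¹ ((normalizer (F.E : Set G)).inv_mem hnE) v hv
        rwa [inv_inv] at this
      have h4 := F.rv s hs _ h3
      have e1 : (n * s * n⁻¹) * v = n * (s * (n⁻¹ * v * n)) * n⁻¹ := by group
      have e2 : v * (n * s * n⁻¹) = n * ((n⁻¹ * v * n) * s) * n⁻¹ := by group
      rw [e1, e2, h4]
    obtain ⟨r, hr, v, hv, hrv⟩ := F.cent _ h1 h2
    have h3 : n * t * n⁻¹ = r * r := by
      have e1 : n * t * n⁻¹ = (n * s * n⁻¹) * (n * s * n⁻¹) := by rw [← hst]; group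
      rw [e1, hrv]
      calc r * v * (r * v) = r * (v * r) * v := by group
        _ = r * (r * v) * v := by rw [F.rv r hr v hv]
        _ = (r * r) * (v * v) := by group
        _ = r * r := by rw [F.vsq v hv, mul_one]
    have h4 : t * (n * t * n⁻¹) ∈ V := (norm_conj hnE F.tE).resolve_left (hA n hnE)
    have h5 : t * (n * t * n⁻¹) ∈ R := by rw [h3]; exact R.mul_mem F.tR (R.mul_mem hr hr)
    have h6 := eq_inv_of_mul_eq_one_right (F.disj _ h5 h4)
    rw [F.tinv] at h6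
    exact hnt h6
  refine le_antisymm ?_ (by rw [zpowers_le]; exact F.tR)
  intro r hr
  have hR2 : IsPGroup 2 R := F.T2.to_le F.RT
  obtain ⟨k, hk⟩ := hR2 ⟨r, hr⟩
  have hk' : r ^ 2 ^ k = 1 := congrArg Subtype.val hk
  -- minimal `k`
  have hex : ∃ k, r ^ 2 ^ k = 1 := ⟨k, hk'⟩
  have hspec := Nat.find_spec hex
  rcases Nat.lt_or_ge (Nat.find hex) 2 with h1 | h1
  · have h2 : r * r = 1 := by
      rcases Nat.find hex |>.eq_zero_or_pos with h3 | h3
      · rw [h3, pow_zero, pow_one] at hspec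
        rw [hspec, one_mul]
      · have h4 : Nat.find hex = 1 := by omega
        rw [h4, pow_one, pow_two] at hspec
        exact hspec
    rcases F.eq_of_sq hr h2 with h3 | h3
    · rw [h3]; exact one_mem _
    · rw [h3]; exact mem_zpowers t
  · exfalso
    obtain ⟨j, hj⟩ : ∃ j, Nat.find hex = j + 2 := ⟨Nat.find hex - 2, by omega⟩
    rw [hj] at hspec
    have h2 : r ^ 2 ^ (j + 1) ≠ 1 := Nat.find_min hex (m := j + 1) (by omega)
    have h3 : r ^ 2 ^ (j + 1) * r ^ 2 ^ (j + 1) = 1 := by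
      rw [← pow_add, ← two_mul, ← pow_succ']; exact hspec
    have h4 : r ^ 2 ^ j * r ^ 2 ^ j = r ^ 2 ^ (j + 1) := by
      rw [← pow_add, ← two_mul, ← pow_succ']
    rcases F.eq_of_sq (R.pow_mem hr _) h3 with h5 | h5
    · exact h2 h5
    · exact hsq _ (R.pow_mem hr (2 ^ j)) (h4.trans h5)

end Fld

end Cfsg.Agent.StdL2.FieldStart
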