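import Mathlib
import Cfsg.Agent.StdL2.FBase
import Cfsg.Agent.StdL2.FRel
import Cfsg.Agent.StdL2.FieldStart

/-!
# S1773, case (f), item (4): the Sylow 2-subgroup of `X` permutes two lines
-/

set_option autoImplicit false
set_option linter.unusedSectionVars false

open Subgroup

namespace Cfsg.Agent.StdL2.FFour

open Cfsg.Agent.StdL2.F Cfsg.Agent.StdL2.F.XC Cfsg.Agent.StdL2.FRel Cfsg.Agent.StdL2.FieldStart
open Cfsg.Agent.StdL2.FieldStart.Fld (conj_mem_norm norm_conj norm_conj')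

variable {X W F : Type*} [Group X] [Finite X] [AddCommGroup W] [DistribMulAction X W] [Field F]
  [Finite F] {κ : F →+* AddMonoid.End W} {d : Fˣ →* X} {σ : F ≃+* F} {t f : X} {w₁ : W}

/-! ### scalars -/

theorem kappa_inv_apply (κ : F →+* AddMonoid.End W) {a : F} (ha : a ≠ 0) (w : W) :
    κ a⁻¹ (κ a w) = w := by
  have h : κ a⁻¹ * κ a = 1 := by rw [← map_mul, inv_mul_cancel₀ ha, map_one]
  exact DFunLike.congr_fun h w

theorem kappa_eq_zero (κ : F →+* AddMonoid.End W) {a : F} {w : W} (hw : w ≠ 0)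
    (h : κ a w = 0) : a = 0 := by
  by_contra ha
  apply hw
  rw [← kappa_inv_apply κ ha w, h, map_zero]

theorem kappa_uniq (κ : F →+* AddMonoid.End W) {a b : F} {w : W} (hw : w ≠ 0)
    (h : κ a w = κ b w) : a = b := by
  have h1 : κ (a - b) w = 0 := by
    rw [map_sub]
    change κ a w - κ b w = 0
    rw [h, sub_self]
  exact sub_eq_zero.1 (kappa_eq_zero κ hw h1)

theorem kappa_mul_apply (κ : F →+* AddMonoid.End W) (a b : F) (w : W) :
    κ (a * b) w = κ a (κ b w) := by rw [map_mul]; rfl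

theorem kappa_add_apply (κ : F →+* AddMonoid.End W) (a b : F) (w : W) :
    κ (a + b) w = κ a w + κ b w := by rw [map_add]; rfl

theorem kappa_one_apply (κ : F →+* AddMonoid.End W) (w : W) : κ 1 w = w := by
  rw [map_one]; rfl

theorem kappa_neg_apply (κ : F →+* AddMonoid.End W) (a : F) (w : W) :
    κ (-a) w = -κ a w := by rw [map_neg]; rfl

theorem rho_mul_inv (x : X) : rho X W x * rho X W x⁻¹ = 1 := by
  rw [← map_mul, mul_inv_cancel, map_one]

theorem rho_inv_mul (x : X) : rho X W x⁻¹ * rho X W x = 1 := by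
  rw [← map_mul, inv_mul_cancel, map_one]

/-- squares in the unit group: an element of order dividing 2 is trivial -/
theorem unit_sq (C : XC κ d σ t f w₁) {a : F} (h : a * a = 1) : a = 1 := by
  have h1 : (a + 1) * (a + 1) = 0 := by
    have := C.add_self_F a
    have h2 := C.add_self_F (1 : F)
    linear_combination h + this + h2
  have h2 := mul_self_eq_zero.1 h1
  have h3 := eq_neg_of_add_eq_zero_left h2
  rwa [C.neg_F] at h3

/-! ### the field automorphism induced by an element of `C(t)` -/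

/-- `x` acts as the field automorphism `τ` -/
def IsTau (κ : F →+* AddMonoid.End W) (x : X) (τ : F ≃+* F) : Prop :=
  ∀ a, rho X W x * κ a = κ (τ a) * rho X W x

theorem exists_tau (C : XC κ d σ t f w₁) {x : X} (hx : x * t = t * x) :
    ∃ τ : F ≃+* F, IsTau κ x τ := by
  have hG : Good (fun a b => rho X W x * κ a = κ b * rho X W x) :=
    { add := fun a b a' b' h h' => by rw [map_add, mul_add, h, h', map_add, add_mul]
      mul := fun a b a' b' h h' => by
        rw [map_mul, ← mul_assoc, h, mul_assoc, h', ← mul_assoc, map_mul]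
      one := by rw [map_one, mul_one, one_mul]
      neg := fun a b h => by rw [map_neg, map_neg, mul_neg, neg_mul, h]
      uniq := fun a b b' h h' => by
        apply C.kappa_injective
        have h1 : κ b * rho X W x = κ b' * rho X W x := h.symm.trans h'
        calc κ b = κ b * rho X W x * rho X W x⁻¹ := by rw [mul_assoc, rho_mul_inv, mul_one]
          _ = κ b' * rho X W x * rho X W x⁻¹ := by rw [h1]
          _ = κ b' := by rw [mul_assoc, rho_mul_inv, mul_one]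
      inj := fun a h => by
        apply C.kappa_injective
        rw [map_zero, zero_mul] at h
        calc κ a = rho X W x⁻¹ * (rho X W x * κ a) := by rw [← mul_assoc, rho_inv_mul, one_mul]
          _ = κ 0 := by rw [h, mul_zero, map_zero] }
  refine hG.exists_aut fun a => ?_
  by_cases ha : a = 0
  · exact ⟨0, by rw [ha, map_zero, mul_zero, zero_mul]⟩
  · obtain ⟨b, hb⟩ := C.normD x hx (Units.mk0 a ha)
    refine ⟨b, ?_⟩
    have := congrArg (rho X W) hb
    rw [map_mul, map_mul, C.rho_d, C.rho_d] at this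
    exact this

theorem IsTau.mul {x y : X} {τ τ' : F ≃+* F} (h : IsTau κ x τ) (h' : IsTau κ y τ') :
    IsTau κ (x * y) (τ * τ') := by
  intro a
  rw [map_mul, mul_assoc, h' a, ← mul_assoc, h (τ' a), mul_assoc]
  rfl

theorem IsTau.uniq (C : XC κ d σ t f w₁) {x : X} {τ τ' : F ≃+* F} (h : IsTau κ x τ)
    (h' : IsTau κ x τ') : τ = τ' := by
  ext a
  apply C.kappa_injective
  have h1 : κ (τ a) * rho X W x = κ (τ' a) * rho X W x := (h a).symm.trans (h' a)
  calc κ (τ a) = κ (τ a) * rho X W x * rho X W x⁻¹ := by rw [mul_assoc, rho_mul_inv, mul_one]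
    _ = κ (τ' a) * rho X W x * rho X W x⁻¹ := by rw [h1]
    _ = κ (τ' a) := by rw [mul_assoc, rho_mul_inv, mul_one]

theorem IsTau.one : IsTau κ (1 : X) 1 := by
  intro a
  rw [map_one, one_mul, mul_one]; rfl

theorem isTau_f (C : XC κ d σ t f w₁) : IsTau κ f σ := fun a => C.f_kappa a

theorem isTau_t (C : XC κ d σ t f w₁) : IsTau κ t 1 := fun a => C.t_kappa a

theorem IsTau.pow {x : X} {τ : F ≃+* F} (h : IsTau κ x τ) (n : ℕ) : IsTau κ (x ^ n) (τ ^ n) := by
  induction n with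
  | zero => rw [pow_zero, pow_zero]; exact IsTau.one
  | succ n ih => rw [pow_succ, pow_succ]; exact ih.mul h

theorem IsTau.inv {x : X} {τ : F ≃+* F} (h : IsTau κ x τ) : IsTau κ x⁻¹ τ⁻¹ := by
  intro a
  have h1 := h (τ⁻¹ a)
  have h2 : τ (τ⁻¹ a) = a := by
    have : (τ * τ⁻¹) a = a := by rw [mul_inv_cancel]; rfl
    exact this
  rw [h2] at h1
  calc rho X W x⁻¹ * κ a = rho X W x⁻¹ * (κ a * rho X W x) * rho X W x⁻¹ := by
        rw [mul_assoc, mul_assoc, rho_mul_inv, mul_one]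
    _ = rho X W x⁻¹ * (rho X W x * κ (τ⁻¹ a)) * rho X W x⁻¹ := by rw [h1]
    _ = κ (τ⁻¹ a) * rho X W x⁻¹ := by rw [← mul_assoc, rho_inv_mul, one_mul]

theorem sigma_mul (C : XC κ d σ t f w₁) : σ * σ = 1 := by
  ext a; exact C.sig a

theorem sigma_ne (C : XC κ d σ t f w₁) : σ ≠ 1 := by
  obtain ⟨a, ha⟩ := C.sig1
  intro h
  apply ha
  rw [h]; rfl

/-- the automorphism group of `F` is commutative -/
theorem aut_comm (C : XC κ d σ t f w₁) (τ τ' : F ≃+* F) : τ * τ' = τ' * τ := by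
  haveI := isCyclic_aut (F := F) C.two
  letI : CommGroup (F ≃+* F) := IsCyclic.commGroup
  exact mul_comm τ τ'

theorem comm_d (C : XC κ d σ t f w₁) {x : X} (h : IsTau κ x 1) (a : Fˣ) :
    x * d a = d a * x := by
  apply C.rho_inj
  rw [map_mul, map_mul, C.rho_d]
  exact h a

/-- an involution of `d(Fˣ)` is trivial -/
theorem d_sq (C : XC κ d σ t f w₁) {a : Fˣ} (h : d a * d a = 1) : d a = 1 := by
  rw [← map_mul] at h
  have h1 : a * a = 1 := C.d_inj (h.trans (map_one d).symm)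
  have h2 : a = 1 := Units.ext (unit_sq C (by
    have := congrArg (fun u : Fˣ => (u : F)) h1
    simpa using this))
  rw [h2, map_one]

theorem t_ne_d (C : XC κ d σ t f w₁) (a : Fˣ) : t ≠ d a := by
  intro h
  have h1 : d a * d a = 1 := by rw [← h]; exact C.tt
  exact C.t_ne_one (h.trans (d_sq C h1))

/-- involutions of `C(t)` acting linearly -/
theorem lin_inv (C : XC κ d σ t f w₁) {u : X} (hut : u * t = t * u) (h1 : IsTau κ u 1)
    (huu : u * u = 1) : u = 1 ∨ u = t := by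
  obtain ⟨a, ha⟩ := C.centD u hut (comm_d C h1)
  have htd : t * d a = d a * t := C.td a
  rcases ha with rfl | rfl
  · exact Or.inl (d_sq C huu)
  · right
    have h2 : d a * d a = 1 := by
      calc d a * d a = (t * t) * (d a * d a) := by rw [C.tt, one_mul]
        _ = t * (t * d a) * d a := by group
        _ = t * (d a * t) * d a := by rw [htd]
        _ = t * d a * (t * d a) := by group
        _ = 1 := huu
    rw [d_sq C h2, mul_one]

/-- the involutions of `C(⟨t, f⟩)` -/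
theorem inv_cases (C : XC κ d σ t f w₁) {u : X} (hut : u * t = t * u) (huf : u * f = f * u)
    (huu : u * u = 1) : u = 1 ∨ u = t ∨ u = f ∨ u = t * f := by
  obtain ⟨τ, hτ⟩ := exists_tau C hut
  have h1 : τ * τ = 1 := by
    have h2 := hτ.mul hτ
    rw [huu] at h2
    exact h2.uniq C IsTau.one
  by_cases h3 : τ = 1
  · subst h3
    rcases lin_inv C hut hτ huu with h | h
    · exact Or.inl h
    · exact Or.inr (Or.inl h)
  · have h4 : τ = σ := inv_unique C.two h1 (sigma_mul C) h3 (sigma_ne C)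
    subst h4
    have h5 : IsTau κ (u * f) 1 := by
      have := hτ.mul (isTau_f C)
      rwa [sigma_mul C] at this
    have h6 : u * f * t = t * (u * f) := by
      rw [mul_assoc, ← C.tf, ← mul_assoc, hut, mul_assoc]
    have h7 : u * f * (u * f) = 1 := by
      calc u * f * (u * f) = u * (f * u) * f := by group
        _ = u * (u * f) * f := by rw [huf]
        _ = (u * u) * (f * f) := by group
        _ = 1 := by rw [huu, C.ff, one_mul]
    have h8 : u = u * f * f := by rw [mul_assoc, C.ff, mul_one]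
    rcases lin_inv C h6 h5 h7 with h | h
    · right; right; left
      rw [h8, h, one_mul]
    · right; right; right
      rw [h8, h]

/-- the elements of norm 1 -/
def N1 (σ : F ≃+* F) : Subgroup Fˣ :=
  (MonoidHom.mk' (fun a : Fˣ => a * Units.map (σ : F →* F) a) (fun a b => by
    simp only [map_mul]; exact mul_mul_mul_comm _ _ _ _)).ker

theorem mem_N1 {a : Fˣ} : a ∈ N1 σ ↔ (a : F) * σ a = 1 := by
  unfold N1
  rw [MonoidHom.mem_ker]
  constructor
  · intro h
    have := congrArg (fun u : Fˣ => (u : F)) h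
    simpa using this
  · intro h
    apply Units.ext
    simpa using h

theorem f_inv_d (C : XC κ d σ t f w₁) {a : Fˣ} (ha : a ∈ N1 σ) : f * d a * f⁻¹ = (d a)⁻¹ := by
  rw [C.fd, mul_inv_cancel_right, ← map_inv]
  congr 1
  rw [eq_inv_iff_mul_eq_one, mul_comm]
  apply Units.ext
  have := mem_N1.1 ha
  simpa using this

/-- an element of odd order of `C(t)` inverted by `f` lies in `D₁` -/
theorem four_odd (C : XC κ d σ t f w₁) {c : X} (hct : c * t = t * c)
    (hcf : f * c * f⁻¹ = c⁻¹) {n : ℕ} (hn : Odd n) (hcn : c ^ n = 1) :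
    ∃ a ∈ N1 σ, c = d a := by
  obtain ⟨τ, hτ⟩ := exists_tau C hct
  have h1 : τ * τ = 1 := by
    have h2 := ((isTau_f C).mul hτ).mul (isTau_f C).inv
    rw [hcf] at h2
    have h3 := h2.uniq C hτ.inv
    rw [aut_comm C σ τ, mul_assoc, mul_inv_cancel, mul_one] at h3
    calc τ * τ = τ * τ⁻¹ := by rw [← h3]
      _ = 1 := mul_inv_cancel _
  have h2 : τ = 1 := by
    have h3 := hτ.pow n
    rw [hcn] at h3
    have h4 := h3.uniq C IsTau.one
    obtain ⟨k, rfl⟩ := hn
    rw [pow_succ, pow_mul, pow_two, h1, one_pow, one_mul] at h4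
    exact h4
  subst h2
  obtain ⟨a, ha⟩ := C.centD c hct (comm_d C hτ)
  have hca : c = d a := by
    rcases ha with h | h
    · exact h
    · exfalso
      have h3 : (t * d a) ^ n = t * (d a) ^ n := by
        rw [(show Commute t (d a) from C.td a).mul_pow]
        obtain ⟨k, rfl⟩ := hn
        congr 1
        rw [pow_succ, pow_mul, pow_two, C.tt, one_pow, one_mul]
      rw [← h, hcn] at h3
      apply t_ne_d C ((a ^ n)⁻¹)
      rw [map_inv, map_pow]
      exact eq_inv_of_mul_eq_one_left h3.symm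
  refine ⟨a, ?_, hca⟩
  rw [hca, C.fd, mul_inv_cancel_right, ← map_inv] at hcf
  have h3 := C.d_inj hcf
  rw [mem_N1]
  have h4 := congrArg (fun u : Fˣ => (u : F)) (mul_eq_one_iff_eq_inv.2 h3)
  simp only [Units.val_mul, Units.coe_map, Units.val_one] at h4
  rw [mul_comm]
  exact h4

/-! ### the torus `B₀ = D₁ D₁ʸ` -/

/-- the element `y` and the idempotent `e` (output of (0)-(3)) -/
structure YC (κ : F →+* AddMonoid.End W) (t f y : X) (e : AddMonoid.End W) : Prop where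
  yt : y * t * y⁻¹ = t * f
  yf : y * f * y⁻¹ = f
  e2 : e * e = e
  ek : ∀ a, e * κ a = κ a * e
  ek' : ∀ a, e * (rho X W y * κ a * rho X W y⁻¹) = rho X W y * κ a * rho X W y⁻¹ * e
  kk' : ∀ a b, κ a * (rho X W y * κ b * rho X W y⁻¹) = rho X W y * κ b * rho X W y⁻¹ * κ a
  ef : e * rho X W f = rho X W f * e
  te : rho X W t * e = (e + 1) * rho X W t

variable {y : X} {e : AddMonoid.End W}

theorem YC.yf' (Y : YC κ t f y e) : y * f = f * y := by
  have := congrArg (· * y) Y.yf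
  simpa using this

theorem YC.comm (Y : YC κ t f y e) (C : XC κ d σ t f w₁) (a b : Fˣ) :
    d a * (y * d b * y⁻¹) = y * d b * y⁻¹ * d a := by
  apply C.rho_inj
  simp only [map_mul, C.rho_d]
  exact Y.kk' a b

/-- `y⁻¹ t y = t f` -/
theorem YC.yt' (Y : YC κ t f y e) (C : XC κ d σ t f w₁) : y⁻¹ * t * y = t * f := by
  have h1 : y * (t * f) * y⁻¹ = t := by
    calc y * (t * f) * y⁻¹ = (y * t * y⁻¹) * (y * f * y⁻¹) := by group
      _ = t * f * f := by rw [Y.yt, Y.yf]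
      _ = t := by rw [mul_assoc, C.ff, mul_one]
  calc y⁻¹ * t * y = y⁻¹ * (y * (t * f) * y⁻¹) * y := by rw [h1]
    _ = t * f := by group

/-- the torus -/
def B0 (Y : YC κ t f y e) (C : XC κ d σ t f w₁) : Subgroup X where
  carrier := {x | ∃ a ∈ N1 σ, ∃ b ∈ N1 σ, x = d a * (y * d b * y⁻¹)}
  one_mem' := ⟨1, one_mem _, 1, one_mem _, by simp⟩
  mul_mem' := by
    rintro _ _ ⟨a, ha, b, hb, rfl⟩ ⟨a', ha', b', hb', rfl⟩
    refine ⟨a * a', mul_mem ha ha', b * b', mul_mem hb hb', ?_⟩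
    rw [map_mul, map_mul]
    calc d a * (y * d b * y⁻¹) * (d a' * (y * d b' * y⁻¹)) =
        d a * ((y * d b * y⁻¹) * d a') * (y * d b' * y⁻¹) := by group
      _ = d a * (d a' * (y * d b * y⁻¹)) * (y * d b' * y⁻¹) := by rw [Y.comm C]
      _ = d a * d a' * (y * (d b * d b') * y⁻¹) := by group
  inv_mem' := by
    rintro _ ⟨a, ha, b, hb, rfl⟩
    refine ⟨a⁻¹, inv_mem ha, b⁻¹, inv_mem hb, ?_⟩
    rw [Y.comm C, map_inv, map_inv]
    group

variable {C : XC κ d σ t f w₁} {Y : YC κ t f y e}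

theorem mem_B0 {x : X} : x ∈ B0 Y C ↔ ∃ a ∈ N1 σ, ∃ b ∈ N1 σ, x = d a * (y * d b * y⁻¹) :=
  Iff.rfl

theorem d_mem {a : Fˣ} (ha : a ∈ N1 σ) : d a ∈ B0 Y C := ⟨a, ha, 1, one_mem _, by simp⟩

theorem yd_mem {a : Fˣ} (ha : a ∈ N1 σ) : y * d a * y⁻¹ ∈ B0 Y C :=
  ⟨1, one_mem _, a, ha, by simp⟩

theorem B0_comm {x z : X} (hx : x ∈ B0 Y C) (hz : z ∈ B0 Y C) : x * z = z * x := by
  obtain ⟨a, _, b, _, rfl⟩ := hx
  obtain ⟨a', _, b', _, rfl⟩ := hz
  have h1 : d a * d a' = d a' * d a := by rw [← map_mul, ← map_mul, mul_comm]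
  have h2 : d b * d b' = d b' * d b := by rw [← map_mul, ← map_mul, mul_comm]
  calc d a * (y * d b * y⁻¹) * (d a' * (y * d b' * y⁻¹)) =
        d a * ((y * d b * y⁻¹) * d a') * (y * d b' * y⁻¹) := by group
    _ = d a * (d a' * (y * d b * y⁻¹)) * (y * d b' * y⁻¹) := by rw [Y.comm C]
    _ = (d a * d a') * (y * (d b * d b') * y⁻¹) := by group
    _ = (d a' * d a) * (y * (d b' * d b) * y⁻¹) := by rw [h1, h2]
    _ = d a' * (d a * (y * d b' * y⁻¹)) * (y * d b * y⁻¹) := by group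
    _ = d a' * ((y * d b' * y⁻¹) * d a) * (y * d b * y⁻¹) := by rw [Y.comm C]
    _ = _ := by group

/-- the order of `Fˣ` is odd -/
theorem odd_units (C : XC κ d σ t f w₁) : Odd (Nat.card Fˣ) := by
  classical
  haveI : Fact (Nat.Prime 2) := ⟨Nat.prime_two⟩
  rw [← Nat.not_even_iff_odd, even_iff_two_dvd]
  intro h
  obtain ⟨u, hu⟩ := exists_prime_orderOf_dvd_card' (G := Fˣ) 2 h
  have h1 : u * u = 1 := by rw [← pow_two, ← hu]; exact pow_orderOf_eq_one u
  have h2 : (u : F) = 1 := unit_sq C (by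
    have := congrArg (fun u : Fˣ => (u : F)) h1
    simpa using this)
  have h3 : u = 1 := Units.ext h2
  rw [h3, orderOf_one] at hu
  omega

theorem B0_pow {x : X} (hx : x ∈ B0 Y C) : x ^ Nat.card Fˣ = 1 := by
  obtain ⟨a, _, b, _, rfl⟩ := hx
  rw [(show Commute (d a) (y * d b * y⁻¹) from Y.comm C a b).mul_pow, conj_pow, ← map_pow,
    ← map_pow, pow_card_eq_one', pow_card_eq_one', map_one]
  group

/-- every element of `B₀` is a square -/
theorem B0_sqrt {x : X} (hx : x ∈ B0 Y C) : ∃ z ∈ B0 Y C, x = z * z := by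
  obtain ⟨k, hk⟩ := odd_units C
  refine ⟨x ^ (k + 1), (B0 Y C).pow_mem hx _, ?_⟩
  rw [← pow_add]
  have h1 := B0_pow hx
  have : k + 1 + (k + 1) = Nat.card Fˣ + 1 := by omega
  rw [this, pow_succ, h1, one_mul]

theorem B0_f {x : X} (hx : x ∈ B0 Y C) : f * x * f⁻¹ = x⁻¹ := by
  obtain ⟨a, ha, b, hb, rfl⟩ := hx
  have h1 := f_inv_d C ha
  have h2 := f_inv_d C hb
  have h3 : f * y * f⁻¹ = y := by rw [← Y.yf']; group
  have h4 : f * y⁻¹ * f⁻¹ = y⁻¹ := by
    calc f * y⁻¹ * f⁻¹ = (f * y * f⁻¹)⁻¹ := by group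
      _ = y⁻¹ := by rw [h3]
  calc f * (d a * (y * d b * y⁻¹)) * f⁻¹ =
      (f * d a * f⁻¹) * ((f * y * f⁻¹) * (f * d b * f⁻¹) * (f * y⁻¹ * f⁻¹)) := by group
    _ = (d a)⁻¹ * (y * (d b)⁻¹ * y⁻¹) := by rw [h1, h2, h3, h4]
    _ = ((y * d b * y⁻¹) * d a)⁻¹ := by group
    _ = _ := by rw [Y.comm C]

theorem f_norm : f ∈ normalizer (B0 Y C : Set X) :=
  conj_mem_norm fun x hx => by rw [B0_f hx]; exact (B0 Y C).inv_mem hx

/-- elements of `B₀` commuting with `p t p⁻¹`, `p ∈ C(f)` -/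
theorem mem_of_comm {p : X} (hp : p * f = f * p) {c : X} (hc : c ∈ B0 Y C)
    (hct : c * (p * t * p⁻¹) = p * t * p⁻¹ * c) : ∃ a ∈ N1 σ, c = p * d a * p⁻¹ := by
  have hp' : p⁻¹ * f = f * p⁻¹ := by
    calc p⁻¹ * f = p⁻¹ * (f * p) * p⁻¹ := by group
      _ = p⁻¹ * (p * f) * p⁻¹ := by rw [hp]
      _ = f * p⁻¹ := by group
  have h1 : p⁻¹ * c * p * t = t * (p⁻¹ * c * p) := by
    calc p⁻¹ * c * p * t = p⁻¹ * (c * (p * t * p⁻¹)) * p := by group
      _ = p⁻¹ * (p * t * p⁻¹ * c) * p := by rw [hct]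
      _ = t * (p⁻¹ * c * p) := by group
  have h2 : f * (p⁻¹ * c * p) * f⁻¹ = (p⁻¹ * c * p)⁻¹ := by
    calc f * (p⁻¹ * c * p) * f⁻¹ = (f * p⁻¹) * c * (p * f⁻¹) := by group
      _ = p⁻¹ * (f * c * f⁻¹) * (f * p * f⁻¹) := by rw [← hp']; group
      _ = p⁻¹ * c⁻¹ * (p * f * f⁻¹) := by rw [B0_f hc, ← hp]
      _ = (p⁻¹ * c * p)⁻¹ := by group
  have h3 : (p⁻¹ * c * p) ^ Nat.card Fˣ = 1 := by
    have : p⁻¹ * c * p = p⁻¹ * c * p⁻¹⁻¹ := by group
    rw [this, conj_pow, B0_pow hc]; group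
  obtain ⟨a, ha, h⟩ := four_odd C h1 h2 (odd_units C) h3
  refine ⟨a, ha, ?_⟩
  rw [← h]; group

/-- KEY CLAIM -/
theorem norm_of {p : X} (hp : p * f = f * p)
    (ht : p * t * p⁻¹ ∈ normalizer (B0 Y C : Set X)) : p ∈ normalizer (B0 Y C : Set X) := by
  have hpy : p * y * f = f * (p * y) := by
    rw [mul_assoc, Y.yf', ← mul_assoc, hp, mul_assoc]
  have hpyt : p * y * t * (p * y)⁻¹ = p * t * p⁻¹ * f := by
    calc p * y * t * (p * y)⁻¹ = p * (y * t * y⁻¹) * p⁻¹ := by group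
      _ = p * t * (f * p⁻¹) := by rw [Y.yt]; group
      _ = p * t * (p⁻¹ * (p * f) * p⁻¹) := by group
      _ = p * t * (p⁻¹ * (f * p) * p⁻¹) := by rw [hp]
      _ = p * t * p⁻¹ * f := by group
  have hinv : ∀ b ∈ B0 Y C, p⁻¹ * b * p⁻¹⁻¹ ∈ B0 Y C := by
    intro b hb
    obtain ⟨z, hz, rfl⟩ := B0_sqrt hb
    have hu : p * t * p⁻¹ * (p * t * p⁻¹) = 1 := by
      calc p * t * p⁻¹ * (p * t * p⁻¹) = p * (t * t) * p⁻¹ := by group
        _ = 1 := by rw [C.tt]; group
    generalize hu1 : p * t * p⁻¹ = u at *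
    have hui : u⁻¹ = u := inv_eq_of_mul_eq_one_left hu
    have hz' : u * z * u⁻¹ ∈ B0 Y C := norm_conj ht hz
    have hcom := B0_comm hz hz'
    have hc1 : z * (u * z * u⁻¹) ∈ B0 Y C := mul_mem hz hz'
    have hc2 : z * (u * z * u⁻¹)⁻¹ ∈ B0 Y C := mul_mem hz (inv_mem hz')
    have hzz : z * z = z * (u * z * u⁻¹) * (z * (u * z * u⁻¹)⁻¹) := by
      calc z * z = z * (z * (u * z * u⁻¹)) * (u * z * u⁻¹)⁻¹ := by group
        _ = z * ((u * z * u⁻¹) * z) * (u * z * u⁻¹)⁻¹ := by rw [hcom]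
        _ = _ := by group
    have e1 : z * (u * z * u⁻¹) * (p * t * p⁻¹) = p * t * p⁻¹ * (z * (u * z * u⁻¹)) := by
      rw [hu1]
      calc z * (u * z * u⁻¹) * u = z * u * z := by group
        _ = u * (u * z * u⁻¹) * z := by
            calc z * u * z = (u * u) * z * u * z := by rw [hu, one_mul]
              _ = u * (u * z * u) * z := by group
              _ = u * (u * z * u⁻¹) * z := by rw [hui]
        _ = u * ((u * z * u⁻¹) * z) := by group
        _ = u * (z * (u * z * u⁻¹)) := by rw [hcom]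
    obtain ⟨a, ha, h1⟩ := mem_of_comm hp hc1 e1
    have e2 : z * (u * z * u⁻¹)⁻¹ * (p * y * t * (p * y)⁻¹) =
        p * y * t * (p * y)⁻¹ * (z * (u * z * u⁻¹)⁻¹) := by
      rw [hpyt]
      have h5 : f * (z * (u * z * u⁻¹)⁻¹) = (z * (u * z * u⁻¹)⁻¹)⁻¹ * f := by
        have := B0_f hc2
        rw [mul_inv_eq_iff_eq_mul] at this
        exact this
      have h6 : u * (z * (u * z * u⁻¹)⁻¹)⁻¹ = z * (u * z * u⁻¹)⁻¹ * u := by
        have h7 : u * (z * (u * z * u⁻¹)⁻¹)⁻¹ * u⁻¹ = z * (u * z * u⁻¹)⁻¹ := by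
          calc u * (z * (u * z * u⁻¹)⁻¹)⁻¹ * u⁻¹ =
              u * u * z * (u⁻¹ * z⁻¹ * u⁻¹) := by group
            _ = z * (u⁻¹ * z⁻¹ * u⁻¹) := by rw [hu, one_mul]
            _ = z * (u * z⁻¹ * u⁻¹) := by rw [hui]
            _ = z * (u * z * u⁻¹)⁻¹ := by group
        calc u * (z * (u * z * u⁻¹)⁻¹)⁻¹ = u * (z * (u * z * u⁻¹)⁻¹)⁻¹ * u⁻¹ * u := by group
          _ = _ := by rw [h7]
      calc z * (u * z * u⁻¹)⁻¹ * (u * f) = (z * (u * z * u⁻¹)⁻¹ * u) * f := by group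
        _ = u * (z * (u * z * u⁻¹)⁻¹)⁻¹ * f := by rw [h6]
        _ = u * ((z * (u * z * u⁻¹)⁻¹)⁻¹ * f) := by group
        _ = u * (f * (z * (u * z * u⁻¹)⁻¹)) := by rw [h5]
        _ = u * f * (z * (u * z * u⁻¹)⁻¹) := by group
    obtain ⟨b, hb, h2⟩ := mem_of_comm hpy hc2 e2
    refine ⟨a, ha, b, hb, ?_⟩
    rw [hzz, h1, h2]
    group
  have h := conj_mem_norm hinv
  have := inv_mem h
  rwa [inv_inv] at this

end Cfsg.Agent.StdL2.FFour
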