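import Cfsg.Agent.StdL2.FNorm
import Cfsg.Agent.StdL2.FFour

/-!
# S1773, case (f): the idempotent

`exists_norm` (P0), `exists_e` (P1), `yf` (P2), `exists_YC` (helper111's input `YC`).
-/

set_option autoImplicit false
set_option linter.unusedSectionVars false
set_option linter.style.haveILetI false

namespace Cfsg.Agent.StdL2.FIdem

open Cfsg.Agent.StdL2.F Cfsg.Agent.StdL2.F.XC Cfsg.Agent.StdL2.FRel
open Cfsg.Agent.StdL2.FFour (IsTau exists_tau isTau_f isTau_t sigma_mul sigma_ne comm_d d_sq t_ne_d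
  odd_units YC lin_inv)

variable {X W F : Type*} [Group X] [Finite X] [AddCommGroup W] [DistribMulAction X W] [Field F]
  [Finite F] {κ : F →+* AddMonoid.End W} {d : Fˣ →* X} {σ : F ≃+* F} {t f : X} {w₁ : W}

theorem tf_sq (C : XC κ d σ t f w₁) : t * f * (t * f) = 1 := by
  rw [mul_assoc, ← mul_assoc f, ← C.tf, mul_assoc t f, C.ff, mul_one, C.tt]

/-- (P0) -/
theorem exists_norm (C : XC κ d σ t f w₁) {y : X} (hyt : y * t * y⁻¹ = t * f) :
    ∃ y' : X, y' * t * y'⁻¹ = t * f ∧ (y' * f * y'⁻¹ = f ∨ y' * f * y'⁻¹ = t) ∧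
      ∃ c : Fˣ, y' = y * d c := by
  obtain ⟨f', hf'⟩ : ∃ f', f' = y⁻¹ * f * y := ⟨_, rfl⟩
  have hyf' : y * f' * y⁻¹ = f := by rw [hf']; group
  have hft : f' * t = t * f' := by
    have h1 : y * (f' * t) * y⁻¹ = y * (t * f') * y⁻¹ := by
      calc y * (f' * t) * y⁻¹ = (y * f' * y⁻¹) * (y * t * y⁻¹) := by group
        _ = f * (t * f) := by rw [hyf', hyt]
        _ = t := by rw [← mul_assoc, ← C.tf, mul_assoc, C.ff, mul_one]
        _ = (t * f) * f := by rw [mul_assoc, C.ff, mul_one]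
        _ = (y * t * y⁻¹) * (y * f' * y⁻¹) := by rw [hyf', hyt]
        _ = _ := by group
    exact mul_left_cancel (mul_right_cancel h1)
  have hff : f' * f' = 1 := by
    rw [hf']
    calc y⁻¹ * f * y * (y⁻¹ * f * y) = y⁻¹ * (f * f) * y := by group
      _ = 1 := by rw [C.ff]; group
  obtain ⟨τ, hτ⟩ := exists_tau C hft
  have hττ : τ * τ = 1 := by
    have h2 := hτ.mul hτ
    rw [hff] at h2
    exact h2.uniq C IsTau.one
  by_cases h1 : τ = 1
  · exfalso
    subst h1
    rcases lin_inv C hft hτ hff with h | h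
    · apply C.f_ne_one
      rw [← hyf', h]; group
    · apply C.t_ne_one
      have h2 : t * f = f := by rw [← hyt, ← h, hyf']
      have h3 : t * f = 1 * f := by rw [h2, one_mul]
      exact mul_right_cancel h3
  have h2 : τ = σ := inv_unique C.two hττ (sigma_mul C) h1 (sigma_ne C)
  subst h2
  have h3 : IsTau κ (f' * f) 1 := by
    have := hτ.mul (isTau_f C)
    rwa [sigma_mul C] at this
  obtain ⟨a, ha⟩ := C.centD (f' * f) (by rw [mul_assoc, ← C.tf, ← mul_assoc, hft, mul_assoc])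
    (comm_d C h3)
  -- `u = d a f`
  obtain ⟨u, hu, huu, huf⟩ : ∃ u : X, (u = f' ∨ u = t * f') ∧ u * u = 1 ∧ u = d a * f := by
    rcases ha with h | h
    · refine ⟨f', Or.inl rfl, hff, ?_⟩
      rw [← h, mul_assoc, C.ff, mul_one]
    · refine ⟨t * f', Or.inr rfl, ?_, ?_⟩
      · rw [mul_assoc, ← mul_assoc f', hft, mul_assoc t f', hff, mul_one, C.tt]
      · have h4 : t * (f' * f) = d a := by rw [h, ← mul_assoc, C.tt, one_mul]
        rw [← h4, mul_assoc, mul_assoc, C.ff, mul_one]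
  have ha1 : Units.map (τ : F →* F) a * a = 1 := by
    apply C.d_inj
    rw [map_one, ← huu, huf, map_mul]
    calc d (Units.map (τ : F →* F) a) * d a = d a * d (Units.map (τ : F →* F) a) := by
          rw [← map_mul, mul_comm, map_mul]
      _ = d a * (d (Units.map (τ : F →* F) a) * f) * f := by
          rw [mul_assoc, mul_assoc (d (Units.map (τ : F →* F) a)), C.ff, mul_one]
      _ = d a * f * (d a * f) := by rw [← C.fd]; simp only [mul_assoc]
  obtain ⟨n, hn⟩ := odd_units C
  obtain ⟨c, hc⟩ : ∃ c, c = a ^ (n + 1) := ⟨_, rfl⟩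
  have hcc : c * c = a := by
    rw [hc, ← pow_add, show n + 1 + (n + 1) = Nat.card Fˣ + 1 by omega, pow_succ,
      pow_card_eq_one', one_mul]
  have hσc : Units.map (τ : F →* F) c⁻¹ = c := by
    have h4 : Units.map (τ : F →* F) c * c = 1 := by
      rw [hc, map_pow, ← mul_pow, ha1, one_pow]
    rw [map_inv, inv_eq_iff_mul_eq_one, h4]
  have hconj : d c * f * (d c)⁻¹ = u := by
    rw [mul_assoc, ← map_inv, C.fd, hσc, ← mul_assoc, ← map_mul, hcc, huf]
  refine ⟨y * d c, ?_, ?_, c, rfl⟩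
  · have h4 : d c * t * (d c)⁻¹ = t := by rw [← C.td, mul_inv_cancel_right]
    calc y * d c * t * (y * d c)⁻¹ = y * (d c * t * (d c)⁻¹) * y⁻¹ := by group
      _ = t * f := by rw [h4, hyt]
  · have h4 : y * d c * f * (y * d c)⁻¹ = y * u * y⁻¹ := by rw [← hconj]; group
    rw [h4]
    rcases hu with h | h
    · left; rw [h, hyf']
    · right
      calc y * u * y⁻¹ = (y * t * y⁻¹) * (y * f' * y⁻¹) := by rw [h]; group
        _ = t := by rw [hyt, hyf', mul_assoc, C.ff, mul_one]

/-- Artin-Schreier: the image of `r ↦ r ^ 2 + r` on the fixed field has index 2 -/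
theorem exists_AS (C : XC κ d σ t f w₁) {c c' : F} (hc : σ c = c) (hc' : σ c' = c')
    (h : ∀ r, σ r = r → r * r + r ≠ c) (h' : ∀ r, σ r = r → r * r + r ≠ c') :
    ∃ r, σ r = r ∧ r * r + r = c + c' := by
  classical
  let A : AddSubgroup F :=
    { carrier := {a | σ a = a}
      add_mem' := fun {a b} ha hb => by
        change σ (a + b) = a + b
        rw [map_add, (show σ a = a from ha), (show σ b = b from hb)]
      zero_mem' := map_zero σ
      neg_mem' := fun {a} ha => by
        change σ (-a) = -a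
        rw [map_neg, (show σ a = a from ha)] }
  have hA : ∀ a, a ∈ A ↔ σ a = a := fun _ => Iff.rfl
  let P : A →+ A :=
    { toFun := fun r => ⟨r * r + r, by
        rw [hA, map_add, map_mul, (hA _).1 r.2]⟩
      map_zero' := Subtype.ext (by
        change (0 : F) * 0 + 0 = 0
        ring)
      map_add' := fun a b => Subtype.ext (by
        change ((a : F) + b) * (a + b) + (a + b) = (a * a + a) + (b * b + b)
        have := C.add_self_F ((a : F) * b)
        linear_combination this) }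
  have hP : ∀ r : A, ((P r : A) : F) = r * r + r := fun _ => rfl
  have hker : Nat.card P.ker = 2 := by
    rw [Nat.card_eq_two_iff]
    have h1A : (1 : F) ∈ A := map_one σ
    have h1 : (⟨1, h1A⟩ : A) ∈ P.ker := by
      rw [AddMonoidHom.mem_ker]
      apply Subtype.ext
      rw [hP]
      change (1 : F) * 1 + 1 = 0
      have := C.add_self_F (1 : F)
      linear_combination this
    refine ⟨⟨0, P.ker.zero_mem⟩, ⟨⟨1, h1A⟩, h1⟩, ?_, ?_⟩
    · intro e
      have e1 : (0 : F) = 1 := congrArg (fun z : P.ker => ((z : A) : F)) e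
      exact zero_ne_one e1
    · ext x
      simp only [Set.mem_insert_iff, Set.mem_singleton_iff, Set.mem_univ, iff_true]
      have hx : P (x : A) = 0 := x.2
      have hx2 : ((x : A) : F) * ((x : A) : F) + ((x : A) : F) = 0 :=
        congrArg (fun z : A => (z : F)) hx
      have hx3 : ((x : A) : F) * (((x : A) : F) + 1) = 0 := by linear_combination hx2
      rcases mul_eq_zero.1 hx3 with h0 | h0
      · left; exact Subtype.ext (Subtype.ext h0)
      · right
        apply Subtype.ext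
        apply Subtype.ext
        have := eq_neg_of_add_eq_zero_left h0
        rw [C.neg_F] at this
        exact this
  have hidx : P.range.index = 2 := by
    have e1 := P.ker.card_mul_index
    rw [AddSubgroup.index_ker] at e1
    have e2 := P.range.index_mul_card
    rw [← e1] at e2
    rw [← hker]
    exact Nat.eq_of_mul_eq_mul_right Nat.card_pos e2
  have h1 : (⟨c, hc⟩ : A) ∉ P.range := by
    rintro ⟨r, hr⟩
    exact h r r.2 (congrArg (fun z : A => (z : F)) hr)
  have h2 : (⟨c', hc'⟩ : A) ∉ P.range := by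
    rintro ⟨r, hr⟩
    exact h' r r.2 (congrArg (fun z : A => (z : F)) hr)
  obtain ⟨r, hr⟩ := (AddSubgroup.add_mem_iff_of_index_two hidx (a := ⟨c, hc⟩) (b := ⟨c', hc'⟩)).2
    (iff_of_false h1 h2)
  exact ⟨r, r.2, congrArg (fun z : A => (z : F)) hr⟩

/-- conjugation by `y` on the fixed field -/
theorem conj_K0 (C : XC κ d σ t f w₁) {y : X}
    (hyt : y * t * y⁻¹ = t ∨ y * t * y⁻¹ = f ∨ y * t * y⁻¹ = t * f)
    (hyf : y * f * y⁻¹ = t ∨ y * f * y⁻¹ = f ∨ y * f * y⁻¹ = t * f) {a : F} (ha : σ a = a) :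
    ∃ b, σ b = b ∧ rho X W y * κ a * rho X W y⁻¹ = κ b := by
  by_cases h0 : a = 0
  · exact ⟨0, map_zero σ, by rw [h0, map_zero, mul_zero, zero_mul]⟩
  obtain ⟨b, hb, h⟩ := C.norm_K0 hyt hyf (Units.mk0 a h0) ha
  refine ⟨b, hb, ?_⟩
  have h1 := congrArg (rho X W) h
  rw [map_mul, map_mul, C.rho_d, C.rho_d] at h1
  have h2 : rho X W y * κ a = κ (b : F) * rho X W y := h1
  rw [h2, mul_assoc, XC.rho_mul_inv, mul_one]

/-- (P1), with the form of `e` -/
theorem exists_e' (C : XC κ d σ t f w₁) {y : X} (hyt : y * t * y⁻¹ = t * f)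
    (hyf : y * f * y⁻¹ = f ∨ y * f * y⁻¹ = t)
    (kk' : ∀ a b, κ a * (rho X W y * κ b * rho X W y⁻¹) = rho X W y * κ b * rho X W y⁻¹ * κ a)
    {ω : F} (hω : σ ω = ω + 1) :
    ∃ r : F, σ r = r ∧ ∃ e : AddMonoid.End W,
      e = κ ω + rho X W y * κ ω * rho X W y⁻¹ + κ r ∧ e * e = e ∧ (∀ a, e * κ a = κ a * e) ∧
      (∀ a, e * (rho X W y * κ a * rho X W y⁻¹) = rho X W y * κ a * rho X W y⁻¹ * e) ∧
      e * rho X W f = rho X W f * e ∧ rho X W t * e = (e + 1) * rho X W t := by
  have h2 : ∀ x : AddMonoid.End W, x + x = 0 := C.add_self_R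
  have hyf3 : y * f * y⁻¹ = t ∨ y * f * y⁻¹ = f ∨ y * f * y⁻¹ = t * f := by
    rcases hyf with h | h
    · exact Or.inr (Or.inl h)
    · exact Or.inl h
  have hyt3 : y * t * y⁻¹ = t ∨ y * t * y⁻¹ = f ∨ y * t * y⁻¹ = t * f := Or.inr (Or.inr hyt)
  obtain ⟨O', hO'⟩ : ∃ O', O' = rho X W y * κ ω * rho X W y⁻¹ := ⟨_, rfl⟩
  -- multiplicativity of conjugation
  have hcm : ∀ x z : AddMonoid.End W, rho X W y * (x * z) * rho X W y⁻¹ =
      (rho X W y * x * rho X W y⁻¹) * (rho X W y * z * rho X W y⁻¹) := by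
    intro x z
    calc rho X W y * (x * z) * rho X W y⁻¹ =
        rho X W y * x * 1 * (z * rho X W y⁻¹) := by rw [mul_one]; simp only [mul_assoc]
      _ = rho X W y * x * (rho X W y⁻¹ * rho X W y) * (z * rho X W y⁻¹) := by
        rw [XC.rho_inv_mul]
      _ = _ := by simp only [mul_assoc]
  have hca : ∀ x z : AddMonoid.End W, rho X W y * (x + z) * rho X W y⁻¹ =
      (rho X W y * x * rho X W y⁻¹) + (rho X W y * z * rho X W y⁻¹) := by
    intro x z; rw [mul_add, add_mul]
  obtain ⟨c, hcdef⟩ : ∃ c, c = ω * ω + ω := ⟨_, rfl⟩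
  have hcσ : σ c = c := by rw [hcdef]; exact C.omega_sq hω
  obtain ⟨c', hc'σ, hc'⟩ := conj_K0 C hyt3 hyf3 hcσ
  have hO'2 : O' * O' = O' + κ c' := by
    have e1 : O' * O' + O' = κ c' := by
      rw [← hc', hcdef, map_add, map_mul, hca, hcm, ← hO']
    calc O' * O' = (O' * O' + O') + O' := by rw [add_assoc, h2, add_zero]
      _ = O' + κ c' := by rw [e1, add_comm]
  have hO2 : κ ω * κ ω = κ ω + κ c := by
    rw [hcdef, map_add, map_mul, ← add_assoc, add_comm (κ ω) (κ ω * κ ω), add_assoc, h2, add_zero]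
  -- `c` and `c'` are not of the form `r ^ 2 + r`
  have hcne : ∀ r, σ r = r → r * r + r ≠ c := by
    intro r hr e
    have e1 : (ω - r) * (ω - r - 1) = 0 := by
      have e2 := C.add_self_F r
      have e3 := C.add_self_F (r * ω)
      rw [hcdef] at e
      have e4 := C.add_self_F ω
      linear_combination -e + (r + 1) * e2 - e3 - ω * C.two + ω * C.two - e4
    rcases mul_eq_zero.1 e1 with h | h
    · have : ω = r := sub_eq_zero.1 h
      rw [this, hr] at hω
      have h3 : (1 : F) = 0 := by linear_combination -hω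
      exact one_ne_zero h3
    · have h3 : ω = r + 1 := by linear_combination h
      rw [h3, map_add, map_one, hr] at hω
      have h4 : (1 : F) = 0 := by linear_combination -hω
      exact one_ne_zero h4
  have hc'ne : ∀ r, σ r = r → r * r + r ≠ c' := by
    intro r hr e
    -- the automorphism of the fixed field is onto
    obtain ⟨s, hsσ, hs⟩ : ∃ s, σ s = s ∧ rho X W y * κ s * rho X W y⁻¹ = κ r := by
      let A := {a : F // σ a = a}
      have hex : ∀ a : A, ∃ b : A, rho X W y * κ (a : F) * rho X W y⁻¹ = κ (b : F) := by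
        intro a
        obtain ⟨b, hb, h⟩ := conj_K0 C hyt3 hyf3 a.2
        exact ⟨⟨b, hb⟩, h⟩
      choose g hg using hex
      have hinj : Function.Injective g := by
        intro a b hab
        have e1 : rho X W y * κ (a : F) * rho X W y⁻¹ = rho X W y * κ (b : F) * rho X W y⁻¹ := by
          rw [hg, hg, hab]
        have e2 : κ (a : F) = κ (b : F) := by
          calc κ (a : F) = (rho X W y⁻¹ * rho X W y) * κ (a : F) * (rho X W y⁻¹ * rho X W y) := by
                rw [XC.rho_inv_mul, one_mul, mul_one]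
            _ = rho X W y⁻¹ * (rho X W y * κ (a : F) * rho X W y⁻¹) * rho X W y := by
                simp only [mul_assoc]
            _ = rho X W y⁻¹ * (rho X W y * κ (b : F) * rho X W y⁻¹) * rho X W y := by rw [e1]
            _ = (rho X W y⁻¹ * rho X W y) * κ (b : F) * (rho X W y⁻¹ * rho X W y) := by
                simp only [mul_assoc]
            _ = κ (b : F) := by rw [XC.rho_inv_mul, one_mul, mul_one]
        exact Subtype.ext (C.kappa_injective e2)
      obtain ⟨s, hs⟩ := Finite.injective_iff_surjective.1 hinj ⟨r, hr⟩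
      exact ⟨s, s.2, by rw [hg, hs]⟩
    apply hcne s hsσ
    apply C.kappa_injective
    have e1 : rho X W y * κ (s * s + s) * rho X W y⁻¹ = rho X W y * κ c * rho X W y⁻¹ := by
      rw [map_add, map_mul, hca, hcm, hs, hc', ← e, map_add, map_mul]
    calc κ (s * s + s) = (rho X W y⁻¹ * rho X W y) * κ (s * s + s) *
          (rho X W y⁻¹ * rho X W y) := by rw [XC.rho_inv_mul, one_mul, mul_one]
      _ = rho X W y⁻¹ * (rho X W y * κ (s * s + s) * rho X W y⁻¹) * rho X W y := by
          simp only [mul_assoc]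
      _ = rho X W y⁻¹ * (rho X W y * κ c * rho X W y⁻¹) * rho X W y := by rw [e1]
      _ = (rho X W y⁻¹ * rho X W y) * κ c * (rho X W y⁻¹ * rho X W y) := by
          simp only [mul_assoc]
      _ = κ c := by rw [XC.rho_inv_mul, one_mul, mul_one]
  obtain ⟨r, hr, hrr⟩ := exists_AS C hcσ hc'σ hcne hc'ne
  have hkO' : ∀ a, κ a * O' = O' * κ a := by
    intro a; rw [hO']; exact kk' a ω
  -- conjugation by `f` and `t` of `O'`
  have hshift : ∀ g g' : X, g * y = y * g' → rho X W g' * κ ω = κ (ω + 1) * rho X W g' →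
      rho X W g * O' = (O' + 1) * rho X W g := by
    intro g g' hgg hg'
    have e1 : rho X W g * rho X W y = rho X W y * rho X W g' := by
      rw [← map_mul, ← map_mul, hgg]
    have e2 : rho X W g' * rho X W y⁻¹ = rho X W y⁻¹ * rho X W g := by
      rw [← map_mul, ← map_mul]
      congr 1
      calc g' * y⁻¹ = y⁻¹ * (y * g') * y⁻¹ := by group
        _ = y⁻¹ * (g * y) * y⁻¹ := by rw [hgg]
        _ = y⁻¹ * g := by group
    rw [hO']
    calc rho X W g * (rho X W y * κ ω * rho X W y⁻¹)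
        = (rho X W g * rho X W y) * κ ω * rho X W y⁻¹ := by simp only [mul_assoc]
      _ = rho X W y * (rho X W g' * κ ω) * rho X W y⁻¹ := by rw [e1]; simp only [mul_assoc]
      _ = rho X W y * κ (ω + 1) * (rho X W g' * rho X W y⁻¹) := by
          rw [hg']; simp only [mul_assoc]
      _ = (rho X W y * κ (ω + 1) * rho X W y⁻¹) * rho X W g := by
          rw [e2]; simp only [mul_assoc]
      _ = _ := by
          rw [map_add, map_one, hca, mul_one, XC.rho_mul_inv]
  have hfω : rho X W f * κ ω = κ (ω + 1) * rho X W f := by rw [C.f_kappa, hω]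
  have htfω : rho X W (t * f) * κ ω = κ (ω + 1) * rho X W (t * f) := by
    rw [map_mul, mul_assoc, hfω, ← mul_assoc, C.t_kappa, mul_assoc]
  have hO'f : rho X W f * O' = (O' + 1) * rho X W f := by
    rcases hyf with h | h
    · refine hshift f f ?_ hfω
      calc f * y = (y * f * y⁻¹) * y := by rw [h]
        _ = y * f := by group
    · refine hshift f (t * f) ?_ htfω
      have e1 : y * (t * f) * y⁻¹ = f := by
        calc y * (t * f) * y⁻¹ = (y * t * y⁻¹) * (y * f * y⁻¹) := by group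
          _ = f := by rw [hyt, h, C.tf, mul_assoc, C.tt, mul_one]
      calc f * y = (y * (t * f) * y⁻¹) * y := by rw [e1]
        _ = y * (t * f) := by group
  have hO't : rho X W t * O' = (O' + 1) * rho X W t := by
    rcases hyf with h | h
    · refine hshift t (t * f) ?_ htfω
      have e1 : y * (t * f) * y⁻¹ = t := by
        calc y * (t * f) * y⁻¹ = (y * t * y⁻¹) * (y * f * y⁻¹) := by group
          _ = t := by rw [hyt, h, mul_assoc, C.ff, mul_one]
      calc t * y = (y * (t * f) * y⁻¹) * y := by rw [e1]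
        _ = y * (t * f) := by group
    · refine hshift t f ?_ hfω
      calc t * y = (y * f * y⁻¹) * y := by rw [h]
        _ = y * f := by group
  refine ⟨r, hr, κ ω + O' + κ r, by rw [hO'], ?_, ?_, ?_, ?_, ?_⟩
  · -- idempotent
    have e1 : (κ ω + O' + κ r) * (κ ω + O' + κ r) =
        κ ω * κ ω + O' * O' + κ r * κ r + (κ ω * O' + κ ω * O') + (κ ω * κ r + κ ω * κ r) +
          (O' * κ r + O' * κ r) := by
      have a1 : O' * κ ω = κ ω * O' := (hkO' ω).symm
      have a2 : κ r * κ ω = κ ω * κ r := by rw [← map_mul, mul_comm, map_mul]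
      have a3 : κ r * O' = O' * κ r := hkO' r
      simp only [mul_add, add_mul, a1, a2, a3]
      abel
    rw [e1, h2, h2, h2, add_zero, add_zero, add_zero, hO2, hO'2, ← map_mul]
    have e2 : r * r = r + (c + c') := by
      have := C.add_self_F r
      linear_combination hrr - this
    rw [e2, map_add, map_add]
    have a4 := h2 (κ c)
    have a5 := h2 (κ c')
    calc κ ω + κ c + (O' + κ c') + (κ r + (κ c + κ c')) =
        κ ω + O' + κ r + (κ c + κ c) + (κ c' + κ c') := by abel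
      _ = κ ω + O' + κ r := by rw [a4, a5, add_zero, add_zero]
  · intro a
    have a2 : ∀ b, κ b * κ a = κ a * κ b := fun b => by rw [← map_mul, mul_comm, map_mul]
    rw [add_mul, add_mul, mul_add, mul_add, a2 ω, a2 r, hkO' a]
  · intro a
    have a1 : O' * (rho X W y * κ a * rho X W y⁻¹) = rho X W y * κ a * rho X W y⁻¹ * O' := by
      rw [hO', ← hcm, ← hcm, ← map_mul, ← map_mul, mul_comm]
    rw [add_mul, add_mul, mul_add, mul_add, kk' ω a, kk' r a, a1]
  · have a1 : κ ω * rho X W f = rho X W f * κ ω + rho X W f := by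
      rw [hfω, map_add, map_one, add_mul, one_mul, add_assoc, h2, add_zero]
    have a2 : O' * rho X W f = rho X W f * O' + rho X W f := by
      rw [hO'f, add_mul, one_mul, add_assoc, h2, add_zero]
    have a3 : κ r * rho X W f = rho X W f * κ r := by rw [C.f_kappa, hr]
    rw [add_mul, add_mul, mul_add, mul_add, a1, a2, a3]
    have a4 := h2 (rho X W f)
    calc rho X W f * κ ω + rho X W f + (rho X W f * O' + rho X W f) + rho X W f * κ r =
        rho X W f * κ ω + rho X W f * O' + rho X W f * κ r + (rho X W f + rho X W f) := by abel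
      _ = _ := by rw [a4, add_zero]
  · rw [mul_add, mul_add, C.t_kappa, C.t_kappa, hO't, add_mul, add_mul, add_mul, add_mul,
      one_mul]
    abel

/-- (P1) -/
theorem exists_e (C : XC κ d σ t f w₁) {y : X} (hyt : y * t * y⁻¹ = t * f)
    (hyf : y * f * y⁻¹ = f ∨ y * f * y⁻¹ = t)
    (kk' : ∀ a b, κ a * (rho X W y * κ b * rho X W y⁻¹) =
      rho X W y * κ b * rho X W y⁻¹ * κ a) :
    ∃ e : AddMonoid.End W, e * e = e ∧ (∀ a, e * κ a = κ a * e) ∧
      (∀ a, e * (rho X W y * κ a * rho X W y⁻¹) = rho X W y * κ a * rho X W y⁻¹ * e) ∧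
      e * rho X W f = rho X W f * e ∧ rho X W t * e = (e + 1) * rho X W t := by
  obtain ⟨ω, hω⟩ := C.exists_omega
  obtain ⟨r, _, e, _, h⟩ := exists_e' C hyt hyf kk' hω
  exact ⟨e, h⟩

/-- the structure with `t f` in place of `f` -/
theorem swap (C : XC κ d σ t f w₁) {ω : F} (hω : σ ω = ω + 1) :
    XC κ d σ t (t * f) (w₁ + κ ω (t • w₁ + w₁)) := by
  have htw : t • (w₁ + κ ω (t • w₁ + w₁)) + (w₁ + κ ω (t • w₁ + w₁)) = t • w₁ + w₁ := by
    rw [smul_add, C.t_smul_kappa, C.t_v]
    have h1 := C.add_self_W (κ ω (t • w₁ + w₁))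
    calc t • w₁ + κ ω (t • w₁ + w₁) + (w₁ + κ ω (t • w₁ + w₁)) =
        (t • w₁ + w₁) + (κ ω (t • w₁ + w₁) + κ ω (t • w₁ + w₁)) := by abel
      _ = t • w₁ + w₁ := by rw [h1, add_zero]
  refine ⟨C.faithful, C.two, C.sig, C.sig1, C.four, C.act, C.tt, tf_sq C, ?_, C.td, ?_, ?_, ?_, ?_,
    C.normD, C.centD⟩
  · rw [← mul_assoc, C.tt, one_mul, mul_assoc, ← C.tf, ← mul_assoc, C.tt, one_mul]
  · intro a
    rw [mul_assoc, C.fd, ← mul_assoc, C.td, mul_assoc]
  · rw [mul_smul, smul_add, C.fw, C.f_smul_kappa, C.f_v, smul_add, C.t_smul_kappa, C.t_v, hω]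
    rw [XC.k_add, XC.k_one]
    have h1 := C.add_self_W w₁
    calc t • w₁ + (κ ω (t • w₁ + w₁) + (t • w₁ + w₁)) =
        (t • w₁ + t • w₁) + (w₁ + κ ω (t • w₁ + w₁)) := by abel
      _ = w₁ + κ ω (t • w₁ + w₁) := by rw [C.add_self_W, zero_add]
  · intro w
    obtain ⟨a, b, rfl⟩ := C.span w
    refine ⟨a, b + a * ω, ?_⟩
    rw [htw, XC.k_add, XC.k_vadd a w₁ (κ ω (t • w₁ + w₁)), XC.k_mul]
    have h1 := C.add_self_W (κ a (κ ω (t • w₁ + w₁)))
    calc κ a w₁ + κ b (t • w₁ + w₁) = κ a w₁ + κ b (t • w₁ + w₁) +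
        (κ a (κ ω (t • w₁ + w₁)) + κ a (κ ω (t • w₁ + w₁))) := by rw [h1, add_zero]
      _ = _ := by abel
  · intro a b h
    rw [htw, XC.k_vadd, ← XC.k_mul, add_assoc, ← XC.k_add] at h
    obtain ⟨h1, h3⟩ := C.indep a (a * ω + b) h
    refine ⟨h1, ?_⟩
    rwa [h1, zero_mul, zero_add] at h3

/-- the square of the order of `F` is the order of `W` -/
theorem card_W (C : XC κ d σ t f w₁) : Nat.card W = Nat.card F * Nat.card F := by
  rw [← Nat.card_prod]
  refine (Nat.card_congr (Equiv.ofBijective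
    (fun p : F × F => κ p.1 w₁ + κ p.2 (t • w₁ + w₁)) ⟨?_, ?_⟩)).symm
  · rintro ⟨a, b⟩ ⟨a', b'⟩ h
    have h1 : κ (a - a') w₁ + κ (b - b') (t • w₁ + w₁) = 0 := by
      rw [map_sub, map_sub]
      change (κ a w₁ - κ a' w₁) + (κ b (t • w₁ + w₁) - κ b' (t • w₁ + w₁)) = 0
      have h' : κ a w₁ + κ b (t • w₁ + w₁) = κ a' w₁ + κ b' (t • w₁ + w₁) := h
      calc (κ a w₁ - κ a' w₁) + (κ b (t • w₁ + w₁) - κ b' (t • w₁ + w₁)) =
          (κ a w₁ + κ b (t • w₁ + w₁)) - (κ a' w₁ + κ b' (t • w₁ + w₁)) := by abel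
        _ = 0 := by rw [h', sub_self]
    obtain ⟨h2, h3⟩ := C.indep _ _ h1
    exact Prod.ext (sub_eq_zero.1 h2) (sub_eq_zero.1 h3)
  · intro w
    obtain ⟨a, b, h⟩ := C.span w
    exact ⟨(a, b), h.symm⟩

/-- the line `e W` -/
theorem line (C : XC κ d σ t f w₁) {e : AddMonoid.End W} (e2 : e * e = e)
    (ek : ∀ a, e * κ a = κ a * e) (te : rho X W t * e = (e + 1) * rho X W t) :
    ∃ l : W, l ≠ 0 ∧ e l = l ∧ ∀ x, e x = x → ∃ a, x = κ a l := by
  have he : ∀ w, e (e w) = e w := fun w => DFunLike.congr_fun e2 w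
  have hek : ∀ a w, e (κ a w) = κ a (e w) := fun a w => DFunLike.congr_fun (ek a) w
  have hte : ∀ w, t • e w = e (t • w) + t • w := fun w => DFunLike.congr_fun te w
  obtain ⟨l, hl0, hl⟩ : ∃ l : W, l ≠ 0 ∧ e l = l := by
    by_contra hcon
    push Not at hcon
    have h0 : ∀ w, e w = 0 := by
      intro w
      by_contra h
      exact hcon (e w) h (he w)
    have h1 := hte w₁
    rw [h0, h0, smul_zero, zero_add] at h1
    have h2 : w₁ = 0 := by
      have := congrArg (t • ·) h1
      simp only [smul_zero, smul_smul, C.tt, one_smul] at this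
      exact this.symm
    have h3 := C.indep 1 0 (by rw [h2]; simp)
    exact one_ne_zero h3.1
  refine ⟨l, hl0, hl, ?_⟩
  have hetl : e (t • l) = 0 := by
    have h1 := hte l
    rw [hl] at h1
    have h2 : e (t • l) + t • l = 0 + t • l := by rw [← h1, zero_add]
    exact add_right_cancel h2
  have hinj : Function.Injective (fun p : F × F => κ p.1 l + κ p.2 (t • l)) := by
    rintro ⟨a, b⟩ ⟨a', b'⟩ h
    have h' : κ a l + κ b (t • l) = κ a' l + κ b' (t • l) := h
    have h1 := congrArg e h'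
    rw [map_add, map_add, hek, hek, hek, hek, hl, hetl, map_zero, map_zero, add_zero,
      add_zero] at h1
    have h2 : a = a' := FFour.kappa_uniq κ hl0 h1
    subst h2
    have h3 := add_left_cancel h'
    have h4 : t • l ≠ 0 := by
      intro h
      rw [smul_eq_zero_iff_eq] at h
      exact hl0 h
    rw [FFour.kappa_uniq κ h4 h3]
  haveI : Finite W := Nat.finite_of_card_ne_zero (by
    rw [card_W C]
    exact (Nat.mul_pos Nat.card_pos Nat.card_pos).ne')
  have hbij : Function.Bijective (fun p : F × F => κ p.1 l + κ p.2 (t • l)) := by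
    rw [Nat.bijective_iff_injective_and_card]
    exact ⟨hinj, by rw [Nat.card_prod, card_W C]⟩
  intro x hx
  obtain ⟨⟨a, b⟩, h⟩ := hbij.2 x
  have h' : κ a l + κ b (t • l) = x := h
  have h1 := congrArg e h'
  rw [map_add, hek, hek, hl, hetl, map_zero, add_zero, hx] at h1
  exact ⟨a, h1.symm⟩

/-- (P2) -/
theorem yf (C : XC κ d σ t f w₁) {y : X} (hyt : y * t * y⁻¹ = t * f)
    (kk' : ∀ a b, κ a * (rho X W y * κ b * rho X W y⁻¹) =
      rho X W y * κ b * rho X W y⁻¹ * κ a) (h : y * f * y⁻¹ = t) : False := by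
  obtain ⟨ω, hω⟩ := C.exists_omega
  have hytf : y * (t * f) * y⁻¹ = f := by
    calc y * (t * f) * y⁻¹ = (y * t * y⁻¹) * (y * f * y⁻¹) := by group
      _ = f := by rw [hyt, h, C.tf, mul_assoc, C.tt, mul_one]
  -- `z = y⁻¹`
  have hzt : y⁻¹ * t * y⁻¹⁻¹ = f := by rw [← h]; group
  have hzf : y⁻¹ * f * y⁻¹⁻¹ = t * f := by
    calc y⁻¹ * f * y⁻¹⁻¹ = y⁻¹ * (y * (t * f) * y⁻¹) * y := by rw [hytf]; group
      _ = t * f := by group
  have hztf : y⁻¹ * (t * f) * y⁻¹⁻¹ = t := by
    calc y⁻¹ * (t * f) * y⁻¹⁻¹ = y⁻¹ * (y * t * y⁻¹) * y := by rw [hyt]; group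
      _ = t := by group
  -- `y ^ 3` commutes with `t`
  have hy3 : (y * y * y) * t = t * (y * y * y) := by
    have e1 : y * t = t * f * y := by rw [← hyt]; group
    have e2 : y * f = t * y := by rw [← h]; group
    have e3 : y * (t * f) = f * y := by
      calc y * (t * f) = (y * (t * f) * y⁻¹) * y := by group
        _ = f * y := by rw [hytf]
    calc y * y * y * t = y * y * (y * t) := by group
      _ = y * (y * (t * f)) * y := by rw [e1]; group
      _ = (y * f) * y * y := by rw [e3]; group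
      _ = t * (y * y * y) := by rw [e2]; group
  have hcm : ∀ (g : X) (x z : AddMonoid.End W), rho X W g * (x * z) * rho X W g⁻¹ =
      (rho X W g * x * rho X W g⁻¹) * (rho X W g * z * rho X W g⁻¹) := by
    intro g x z
    calc rho X W g * (x * z) * rho X W g⁻¹ =
        rho X W g * x * 1 * (z * rho X W g⁻¹) := by rw [mul_one]; simp only [mul_assoc]
      _ = rho X W g * x * (rho X W g⁻¹ * rho X W g) * (z * rho X W g⁻¹) := by
        rw [XC.rho_inv_mul]
      _ = _ := by simp only [mul_assoc]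
  -- `κ(F) ^ (y⁻¹)` commutes with `κ(F)`
  have kz : ∀ a b, κ a * (rho X W y⁻¹ * κ b * rho X W y⁻¹⁻¹) =
      rho X W y⁻¹ * κ b * rho X W y⁻¹⁻¹ * κ a := by
    intro a b
    rw [inv_inv]
    calc κ a * (rho X W y⁻¹ * κ b * rho X W y) =
        (rho X W y⁻¹ * rho X W y) * (κ a * (rho X W y⁻¹ * κ b * rho X W y)) := by
          rw [XC.rho_inv_mul, one_mul]
      _ = rho X W y⁻¹ * ((rho X W y * κ a * rho X W y⁻¹) * κ b) * rho X W y := by
          simp only [mul_assoc]
      _ = rho X W y⁻¹ * (κ b * (rho X W y * κ a * rho X W y⁻¹)) * rho X W y := by rw [kk' b a]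
      _ = (rho X W y⁻¹ * κ b * rho X W y) * κ a * (rho X W y⁻¹ * rho X W y) := by
          simp only [mul_assoc]
      _ = _ := by rw [XC.rho_inv_mul, mul_one]
  -- `κ(F) ^ y` commutes with `κ(F) ^ (y⁻¹)`
  have kyz : ∀ a b, (rho X W y * κ a * rho X W y⁻¹) * (rho X W y⁻¹ * κ b * rho X W y⁻¹⁻¹) =
      (rho X W y⁻¹ * κ b * rho X W y⁻¹⁻¹) * (rho X W y * κ a * rho X W y⁻¹) := by
    intro a b
    -- `y⁻¹ κ b y = y y κ b' y⁻¹ y⁻¹`
    obtain ⟨τ, hτ⟩ := exists_tau C (x := (y * y * y)⁻¹)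
      ((show Commute (y * y * y) t from hy3).inv_left)
    have h1 : rho X W y⁻¹ * κ b * rho X W y⁻¹⁻¹ =
        rho X W (y * y) * κ (τ b) * rho X W (y * y)⁻¹ := by
      have h2 := hτ b
      have e1 : y⁻¹ = (y * y) * (y * y * y)⁻¹ := by group
      have e2 : y⁻¹⁻¹ = (y * y * y) * (y * y)⁻¹ := by group
      rw [e2, map_mul (rho X W) (y * y * y)]
      rw [show rho X W y⁻¹ = rho X W (y * y) * rho X W (y * y * y)⁻¹ by
        rw [← map_mul, ← e1]]
      calc rho X W (y * y) * rho X W (y * y * y)⁻¹ * κ b *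
            (rho X W (y * y * y) * rho X W (y * y)⁻¹)
          = rho X W (y * y) * (rho X W (y * y * y)⁻¹ * κ b) *
            (rho X W (y * y * y) * rho X W (y * y)⁻¹) := by simp only [mul_assoc]
        _ = rho X W (y * y) * κ (τ b) * (rho X W (y * y * y)⁻¹ * rho X W (y * y * y)) *
            rho X W (y * y)⁻¹ := by rw [h2]; simp only [mul_assoc]
        _ = _ := by rw [XC.rho_inv_mul, mul_one]
    have h3 : rho X W (y * y) * κ (τ b) * rho X W (y * y)⁻¹ =
        rho X W y * (rho X W y * κ (τ b) * rho X W y⁻¹) * rho X W y⁻¹ := by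
      rw [mul_inv_rev, map_mul, map_mul]; simp only [mul_assoc]
    rw [h1, h3, ← hcm, ← hcm, kk' a (τ b)]
  obtain ⟨r, hr, e, hee, e2, ek, ek', ef, te⟩ := exists_e' C hyt (Or.inr h) kk' hω
  obtain ⟨r', hr', e', hee', e2', ek2, ek2', ef', te'⟩ := exists_e' (swap C hω) (y := y⁻¹)
    (by rw [hzt, ← mul_assoc, C.tt, one_mul]) (Or.inr hztf) kz hω
  -- `e` and `e'` commute
  have hcomm : e * e' = e' * e := by
    rw [hee']
    have a1 : e * (rho X W y⁻¹ * κ ω * rho X W y⁻¹⁻¹) =
        (rho X W y⁻¹ * κ ω * rho X W y⁻¹⁻¹) * e := by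
      rw [hee, add_mul, add_mul, mul_add, mul_add, kz, kz, kyz]
    rw [mul_add, mul_add, add_mul, add_mul, ek, ek, a1]
  -- `f e' = (e' + 1) f`
  have hfe' : rho X W f * e' = (e' + 1) * rho X W f := by
    have a1 : rho X W f = rho X W t * rho X W (t * f) := by
      rw [← map_mul, ← mul_assoc, C.tt, one_mul]
    rw [a1, mul_assoc, ← ef', ← mul_assoc, te', mul_assoc]
  obtain ⟨l, hl0, hl, hline⟩ := line C e2 ek te
  have hE : ∀ w, e (e' w) = e' (e w) := fun w => DFunLike.congr_fun hcomm w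
  obtain ⟨a, ha⟩ := hline (e' l) (by rw [hE, hl])
  have hE2 : ∀ w, e' (e' w) = e' w := fun w => DFunLike.congr_fun e2' w
  have hEk : ∀ b w, e' (κ b w) = κ b (e' w) := fun b w => DFunLike.congr_fun (ek2 b) w
  have haa : a * a = a := by
    have h1 := hE2 l
    rw [ha, hEk, ha, ← XC.k_mul] at h1
    exact FFour.kappa_uniq κ hl0 h1
  have hσa : σ a = a := by
    have h1 : a * (a - 1) = 0 := by linear_combination haa
    rcases mul_eq_zero.1 h1 with h0 | h0
    · rw [h0, map_zero]
    · rw [sub_eq_zero.1 h0, map_one]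
  have hfl : e (f • l) = f • l := by
    have h1 : e (f • l) = f • e l := DFunLike.congr_fun ef l
    rw [h1, hl]
  obtain ⟨b, hb⟩ := hline (f • l) hfl
  have h1 : f • e' l = e' (f • l) + f • l := DFunLike.congr_fun hfe' l
  rw [ha, C.f_smul_kappa, hσa, hb, hEk, ha, ← XC.k_mul, ← XC.k_mul, mul_comm a b] at h1
  have h2 : κ b l = 0 := by
    have h3 : κ (b * a) l + 0 = κ (b * a) l + κ b l := by rw [add_zero]; exact h1
    exact (add_left_cancel h3).symm
  rw [← hb, smul_eq_zero_iff_eq] at h2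
  exact hl0 h2

/-- **MAIN**: helper111's input -/
theorem exists_YC (C : XC κ d σ t f w₁) {y : X} (hyt : y * t * y⁻¹ = t * f)
    (tori : ∀ y : X, y * t * y⁻¹ = t * f → (y * f * y⁻¹ = f ∨ y * f * y⁻¹ = t) →
      ∀ a b, κ a * (rho X W y * κ b * rho X W y⁻¹) = rho X W y * κ b * rho X W y⁻¹ * κ a) :
    ∃ (y' : X) (e : AddMonoid.End W), YC κ t f y' e := by
  obtain ⟨y', h1, h2, _⟩ := exists_norm C hyt
  have kk' := tori y' h1 h2
  have h3 : y' * f * y'⁻¹ = f := by
    rcases h2 with h | h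
    · exact h
    · exact (yf C h1 kk' h).elim
  obtain ⟨e, e2, ek, ek', ef, te⟩ := exists_e C h1 h2 kk'
  exact ⟨y', e, h1, h3, e2, ek, ek', kk', ef, te⟩

end Cfsg.Agent.StdL2.FIdem
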