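import Cfsg.Agent.StdL2.FToriMain

/-!
# S1773, case (f): the two tori commute

The theorem `Cfsg.Agent.StdL2.F.XC.commute_tori` is in `FToriMain.lean`; this file only
re-exports it.
-/
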