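import Cfsg.Agent.StdL2.FWreath
import Cfsg.Agent.StdL2.FEndSC
import Cfsg.Agent.StdL2.FIdem
import Cfsg.Agent.StdL2.FrameAll
import Cfsg.Agent.StdL2.FTorus

/-!
# S1773, case (f): the field case

`fieldStmt : Gold → FieldStmt`.
-/

set_option autoImplicit false

open Subgroup

namespace Cfsg.Agent.StdL2.FieldMain

open Cfsg.Agent.StdL2.FieldStart Cfsg.Agent.StdL2.FT Cfsg.Agent.StdL2.FWreath
open Cfsg.Agent.StdL2.F Cfsg.Agent.StdL2.FFour

universe u v

/-- the tori commute (helper806) -/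
def Tori : Prop :=
  ∀ (X W F : Type u) [Group X] [Finite X] [AddCommGroup W]
    [DistribMulAction X W] [Field F] [Finite F] (κ : F →+* AddMonoid.End W)
    (δ : Fˣ →* X) (σ : F ≃+* F) (t f : X) (w₁ : W), XC κ δ σ t f w₁ →
    ∀ y : X, y * t * y⁻¹ = t * f → (y * f * y⁻¹ = f ∨ y * f * y⁻¹ = t) →
      ∀ a b, κ a * (XC.rho X W y * κ b * XC.rho X W y⁻¹) =
        XC.rho X W y * κ b * XC.rho X W y⁻¹ * κ a

theorem xside (h : Tori.{u}) : XSide.{u} := by
  intro X W' F' i1 i2 i3 i4 i5 i6 κ δ σ t f w₁ C hy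
  obtain ⟨y, hyt⟩ := hy
  exact FIdem.exists_YC C hyt (h X W' F' κ δ σ t f w₁ C)

/-- **Case (f)**: `Conf`, `FTD`, `Tor`, `FOut` give a contradiction. -/
theorem false_of_fout {G : Type u} [Group G] [Finite G] (gold : StdSz.EndClosed.Gold.{u})
    (hT : Tori.{u}) {L A : Subgroup G} {t d : G} {V T C₀ U : Subgroup G}
    (C : Setup.Conf L A t) (H : FTD t V T C₀) (T0 : Cfsg.Agent.StdL2.Tor t V d)
    (O : FOut t V T d U) : False := by
  obtain ⟨S, V1, V2, W, hTS, hS⟩ := wreath (xside hT) H T0 O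
  exact FEnd.false_of_wr gold C H O W hTS hS

/-- the tori commute -/
theorem tori : Tori.{u} := by
  intro X W F _ _ _ _ _ _ κ δ σ t f w₁ C y hyt hyf
  exact C.commute_tori hyt hyf

/-- **The field case of S1773.** -/
theorem fieldStmt (gold : StdSz.EndClosed.Gold.{u}) : FrameFT.FieldStmt.{u, v} := by
  intro F _ _ _ G _ _ L A T U t d π C B _ H _ T0 O
  exact false_of_fout gold tori C H T0 O

end Cfsg.Agent.StdL2.FieldMain
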