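import Cfsg.Agent.StdL2.FrameDouble

/-!
# S1773 from its inputs
-/

set_option autoImplicit false

namespace Cfsg.Agent.StdL2.Main

open Cfsg Subgroup

universe u v

/-- S1773 from S0506, S0507, S0516, S0523, S1170, S1740 and the three local cases. -/
theorem result_of (h0506 : Ends.S0506Stmt.{u}) (h1170 : Cfsg.Agent.StdSz.Out.S1170Stmt.{u})
    (h1740 : EndOne.S1740Stmt.{u}) (h0516 : SLFiveId.S0516Stmt.{u}) (h0507 : SLFiveId.S0507Stmt.{u})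
    (h0523 : SLFiveId.S0523Stmt.{u}) (hf : FrameFT.FieldStmt.{u, v}) (hE : FrameFT.ExcStmt.{u, v})
    (h5 : FrameFT.FiveStmt.{u, v})
    {G : Type u} [Group G] [Finite G] (hO : Cfsg.oddCore G = ⊥)
    (A : Subgroup G) (hA : Cfsg.IsStandardSubgroup A) (hnA : ¬ A.Normal)
    (hR : ∀ R : Sylow 2 ↥(Subgroup.centralizer (A : Set G)), IsCyclic ↥(R : Subgroup ↥(Subgroup.centralizer (A : Set G))))
    (t : G) (ht : orderOf t = 2) (htA : t ∈ Subgroup.centralizer (A : Set G))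
    {F : Type v} [Field F] [Fintype F] (a : ℕ) (ha : 2 ≤ a) (hF : Fintype.card F = 2 ^ a)
    (hAX : Nonempty (↥A ⧸ Subgroup.center ↥A ≃* Matrix.ProjectiveSpecialLinearGroup (Fin 2) F)) :
    Nonempty (↥(Cfsg.layer G) ≃* ↥A × ↥A) ∨ ((Cfsg.IsLieTypeChar 2 ↥(Cfsg.layer G) ∨ Cfsg.Lie.IsoTits ↥(Cfsg.layer G)) ∧ ¬ (∃ e : G, e ∈ Cfsg.layer G ∧ ∀ x ∈ Cfsg.layer G, t * x * t⁻¹ = e * x * e⁻¹)) ∨
      (a = 2 ∧ (Cfsg.Spor.IsoM12 ↥(Cfsg.layer G) ∨ Nonempty (↥(Cfsg.layer G) ≃* ↥(alternatingGroup (Fin 9))) ∨ Cfsg.Spor.IsoJ1 ↥(Cfsg.layer G) ∨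
        Cfsg.Spor.IsoJ2 ↥(Cfsg.layer G) ∨ Nonempty (↥(Cfsg.layer G) ≃* ↥(alternatingGroup (Fin 7))) ∨
        (∃ (E : Type) (_ : Field E) (_ : Fintype E), Fintype.card E = 25 ∧ (Nonempty (↥(Cfsg.layer G) ≃* Matrix.ProjectiveSpecialLinearGroup (Fin 2) E) ∨ Nonempty (↥(Cfsg.layer G) ≃* Cfsg.PSU 3 E 5))) ∨
        (∃ (E : Type) (_ : Field E) (_ : Fintype E), Fintype.card E = 5 ∧ (Nonempty (↥(Cfsg.layer G) ≃* Matrix.ProjectiveSpecialLinearGroup (Fin 3) E) ∨ Nonempty (↥(Cfsg.layer G) ≃* ↥(Cfsg.Lie.chevG2.group E)))) ∨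
        (∃ (K : Type) (_ : Field K) (_ : Fintype K), Fintype.card K = 125 ∧ Nonempty (↥(Cfsg.layer G) ≃* ↥(Cfsg.Lie.twistedD4 K 5))))) ∨
      (Nonempty (↥A ≃* Matrix.ProjectiveSpecialLinearGroup (Fin 2) F) ∧ Fintype.card F = 8 ∧
        ∃ (E : Type) (_ : Field E) (_ : Fintype E), Fintype.card E = 3 ∧ Nonempty (↥(Cfsg.layer G) ≃* ↥(Cfsg.Lie.chevG2.group E))) :=
  Assemble.of_core
    (fun H _ _ L A t C F _ _ a ha hF he =>
      FrameFT.core h0506 h1170 h1740 hf hE h5 (FrameFT.doubleStmt h0516 h0507 h0523) H L A t C F a ha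
        hF he)
    hO A hA hnA hR t ht htA a ha hF hAX

end Cfsg.Agent.StdL2.Main
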