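import Mathlib
import Cfsg.Prelude.Def_CaseTheorems
import Cfsg.Prelude.Def_Sz
import Cfsg.Prelude.Def_LieTwisted
import Cfsg.Prelude.Def_Spor_J1
import Cfsg.Agent.S1152
import Cfsg.Agent.S1114
import Cfsg.Agent.S0243
import Cfsg.Agent.S0280
import Cfsg.Agent.TypeSpFour.Model
import Cfsg.Agent.S1163
import Cfsg.Agent.Classification.PSLTwoEvenSylow

/-!
# The end of the case `q = 4`, `⟨t⟩ × V` Sylow: the group `J₁`

A simple group with elementary abelian Sylow 2-subgroups of order 8, one class of involutions and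
an involution whose centraliser contains a normal simple subgroup of order 60 is `J₁`
(from the statement S1740).
-/

set_option autoImplicit false

namespace Cfsg.Agent.StdL2.JOne

open Subgroup

universe u

/-- The statement S1740 for the group `G`. -/
def Stmt1740 (G : Type u) [Group G] [Finite G] [IsSimpleGroup G] : Prop :=
  ∀ (_ : ¬ IsMulCommutative G) (_ : ¬ Cfsg.PRankLE 2 2 G) (S : Sylow 2 G) (n : ℕ)
    (_ : (∃ (F : Type) (_ : Field F) (_ : Fintype F), Fintype.card F = 2 ^ n ∧ ((∃ P : Sylow 2 (Matrix.ProjectiveSpecialLinearGroup (Fin 2) F), Nonempty (↥(S : Subgroup G) ≃* ↥(P : Subgroup (Matrix.ProjectiveSpecialLinearGroup (Fin 2) F)))) ∨ (∃ P : Sylow 2 (Matrix.ProjectiveSpecialLinearGroup (Fin 3) F), Nonempty (↥(S : Subgroup G) ≃* ↥(P : Subgroup (Matrix.ProjectiveSpecialLinearGroup (Fin 3) F)))) ∨ (2 ≤ n ∧ (∃ P : Sylow 2 (Cfsg.PSp 2 F), Nonempty (↥(S : Subgroup G) ≃* ↥(P : Subgroup (Cfsg.PSp 2 F))))))) ∨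
      (∃ (F : Type) (_ : Field F) (_ : Fintype F), Fintype.card F = 4 ^ n ∧ (∃ P : Sylow 2 (Cfsg.PSU 3 F (2 ^ n)), Nonempty (↥(S : Subgroup G) ≃* ↥(P : Subgroup (Cfsg.PSU 3 F (2 ^ n)))))) ∨
      (∃ m : ℕ, 1 ≤ m ∧ n = 2 * m + 1 ∧ ∃ (F : Type) (_ : Field F) (_ : Fintype F), Fintype.card F = 2 ^ n ∧ (∃ P : Sylow 2 ↥(Cfsg.Lie.Sz F (2 ^ (m + 1))), Nonempty (↥(S : Subgroup G) ≃* ↥(P : Subgroup ↥(Cfsg.Lie.Sz F (2 ^ (m + 1)))))))),
    (∃ (F : Type) (_ : Field F) (_ : Fintype F), Fintype.card F = 2 ^ n ∧ (Nonempty (G ≃* Matrix.ProjectiveSpecialLinearGroup (Fin 2) F) ∨ Nonempty (G ≃* Matrix.ProjectiveSpecialLinearGroup (Fin 3) F) ∨ Nonempty (G ≃* Cfsg.PSp 2 F))) ∨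
      (∃ (F : Type) (_ : Field F) (_ : Fintype F), Fintype.card F = 4 ^ n ∧ Nonempty (G ≃* Cfsg.PSU 3 F (2 ^ n))) ∨
      (∃ m : ℕ, 1 ≤ m ∧ n = 2 * m + 1 ∧ ∃ (F : Type) (_ : Field F) (_ : Fintype F), Fintype.card F = 2 ^ n ∧ Nonempty (G ≃* ↥(Cfsg.Lie.Sz F (2 ^ (m + 1))))) ∨
      Cfsg.Lie.IsoRee G ∨ Cfsg.Spor.IsoJ1 G

theorem comm_of_sq {V : Type*} [Group V] (hV : ∀ x : V, x * x = 1) (x y : V) : x * y = y * x := by
  have h1 : x⁻¹ = x := inv_eq_of_mul_eq_one_left (hV x)
  have h2 : y⁻¹ = y := inv_eq_of_mul_eq_one_left (hV y)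
  have h3 : (x * y)⁻¹ = x * y := inv_eq_of_mul_eq_one_left (hV (x * y))
  rw [← h3, mul_inv_rev, h1, h2]

/-- Elementary abelian 2-groups of the same order are isomorphic. -/
theorem nonempty_mulEquiv_of_elem {V W : Type*} [Group V] [Finite V] [Group W] [Finite W]
    (hV : ∀ x : V, x * x = 1) (hW : ∀ x : W, x * x = 1) (hc : Nat.card V = Nat.card W) :
    Nonempty (V ≃* W) := by
  let : CommGroup V := { (inferInstance : Group V) with mul_comm := comm_of_sq hV }
  let : CommGroup W := { (inferInstance : Group W) with mul_comm := comm_of_sq hW }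
  let : Module (ZMod 2) (Additive V) := AddCommGroup.zmodModule (n := 2) (fun x => by
    rw [two_nsmul]; exact hV x.toMul)
  let : Module (ZMod 2) (Additive W) := AddCommGroup.zmodModule (n := 2) (fun x => by
    rw [two_nsmul]; exact hW x.toMul)
  have e1 := Module.natCard_eq_pow_finrank (K := ZMod 2) (V := Additive V)
  have e2 := Module.natCard_eq_pow_finrank (K := ZMod 2) (V := Additive W)
  have hVc : Nat.card (Additive V) = Nat.card V := rfl
  have hWc : Nat.card (Additive W) = Nat.card W := rfl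
  rw [hVc, Nat.card_zmod] at e1
  rw [hWc, Nat.card_zmod] at e2
  have h3 : Module.finrank (ZMod 2) (Additive V) = Module.finrank (ZMod 2) (Additive W) := by
    rw [e1, e2] at hc
    exact Nat.pow_right_injective le_rfl hc
  obtain ⟨e⟩ := FiniteDimensional.nonempty_linearEquiv_of_finrank_eq h3
  exact ⟨(e.toAddEquiv).toMultiplicative⟩

/-- There is a Sylow 2-subgroup of `PSL(2,8)` isomorphic to a given elementary abelian group of order 8. -/
theorem exists_sylow_psl {V : Type*} [Group V] [Finite V] (hV : ∀ x : V, x * x = 1) (hc : Nat.card V = 8) :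
    ∃ (F : Type) (_ : Field F) (_ : Fintype F), Fintype.card F = 2 ^ 3 ∧
      ∃ P : Sylow 2 (Matrix.ProjectiveSpecialLinearGroup (Fin 2) F),
        Nonempty (V ≃* ↥(P : Subgroup (Matrix.ProjectiveSpecialLinearGroup (Fin 2) F))) := by
  have : Fact (Nat.Prime 2) := ⟨Nat.prime_two⟩
  let F := GaloisField 2 3
  let : Fintype F := Fintype.ofFinite F
  have hF : Fintype.card F = 2 ^ 3 := by
    rw [← Nat.card_eq_fintype_card]
    exact GaloisField.card 2 3 (by norm_num)
  refine ⟨F, inferInstance, inferInstance, hF, ?_⟩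
  have hcard := Cfsg.Agent.Classification.PSLTwoEvenSylow.card_psl (F := F)
  let U := (Cfsg.Agent.Classification.PSLTwoEvenSylow.uniP (F := F)).range
  have hinj := Cfsg.Agent.Classification.PSLTwoEvenSylow.uniP_injective (F := F)
  have hU : Nat.card U = 8 := by
    rw [Nat.card_congr (MonoidHom.ofInjective hinj).toEquiv.symm]
    change Nat.card F = 8
    rw [Nat.card_eq_fintype_card, hF]; norm_num
  have hp : IsPGroup 2 U := IsPGroup.of_card (n := 3) (by rw [hU]; norm_num)
  obtain ⟨P, hP⟩ := hp.exists_le_sylow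
  have hPc : Nat.card (P : Subgroup (Matrix.ProjectiveSpecialLinearGroup (Fin 2) F)) = 8 := by
    rw [P.card_eq_multiplicity, hcard, hF]
    have : (2 ^ 3 * ((2 ^ 3) ^ 2 - 1)).factorization 2 = 3 := by
      have e : 2 ^ 3 * ((2 ^ 3) ^ 2 - 1) = 2 ^ 3 * 63 := by norm_num
      rw [e, Nat.factorization_mul (by norm_num) (by norm_num), Nat.prime_two.factorization_pow]
      simp [Nat.factorization_eq_zero_of_not_dvd (show ¬ 2 ∣ 63 by norm_num)]
    rw [this]; norm_num
  have hUP : U = (P : Subgroup (Matrix.ProjectiveSpecialLinearGroup (Fin 2) F)) :=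
    Subgroup.eq_of_le_of_card_ge hP (by rw [hU, hPc])
  refine ⟨P, nonempty_mulEquiv_of_elem hV ?_ (by rw [hc, hPc])⟩
  intro x
  have hx : (x : Matrix.ProjectiveSpecialLinearGroup (Fin 2) F) ∈ U := by rw [hUP]; exact x.2
  obtain ⟨b, hb⟩ := hx
  apply Subtype.ext
  rw [Subgroup.coe_mul, ← hb, ← map_mul]
  have hb2 : b * b = 1 := by
    change Multiplicative.ofAdd (b.toAdd + b.toAdd) = 1
    rw [CharTwo.add_self_eq_zero]; rfl
  rw [hb2, map_one]; rfl

section

variable {G : Type u} [Group G] [Finite G]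

/-- In a group isomorphic to `ℤ₂ × PSL(2,K)`, `|K| = 3^(2m+1) ≥ 27`, there is no normal simple subgroup of order
60. -/
theorem not_two_times_psl {C : Type*} [Group C] [Finite C] {K : Type*} [Field K] [Fintype K] {m : ℕ} (hm : 1 ≤ m)
    (hK : Fintype.card K = 3 ^ (2 * m + 1))
    (e : C ≃* Multiplicative (ZMod 2) × Matrix.ProjectiveSpecialLinearGroup (Fin 2) K) (A : Subgroup C) [A.Normal]
    [IsSimpleGroup A] (hA : Nat.card A = 60) : False := by
  have hq : 27 ≤ Fintype.card K := by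
    rw [hK]
    calc 27 = 3 ^ 3 := by norm_num
      _ ≤ 3 ^ (2 * m + 1) := Nat.pow_le_pow_right (by norm_num) (by omega)
  have hs : IsSimpleGroup (Matrix.ProjectiveSpecialLinearGroup (Fin 2) K) :=
    Matrix.ProjectiveSpecialLinearGroup.rank_two_simple (by rw [Nat.card_eq_fintype_card]; omega)
  let p : C →* Matrix.ProjectiveSpecialLinearGroup (Fin 2) K := (MonoidHom.snd _ _).comp e.toMonoidHom
  have hp : Function.Surjective p := by
    intro x
    exact ⟨e.symm (1, x), by simp [p]⟩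
  let f : A →* Matrix.ProjectiveSpecialLinearGroup (Fin 2) K := p.comp A.subtype
  have hrange : f.range = A.map p := by
    rw [MonoidHom.range_eq_map, ← Subgroup.map_map, ← MonoidHom.range_eq_map, Subgroup.range_subtype]
  have hnorm : (A.map p).Normal := Subgroup.Normal.map inferInstance p hp
  rcases IsSimpleGroup.eq_bot_or_eq_top_of_normal f.ker inferInstance with hk | hk
  · have hinj : Function.Injective f := (MonoidHom.ker_eq_bot_iff f).1 hk
    have hcr : Nat.card (A.map p) = 60 := by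
      rw [← hrange, ← hA]
      exact (Nat.card_congr (MonoidHom.ofInjective hinj).toEquiv).symm
    rcases IsSimpleGroup.eq_bot_or_eq_top_of_normal (A.map p) hnorm with h1 | h1
    · rw [h1, Subgroup.card_bot] at hcr
      omega
    · rw [h1, Subgroup.card_top] at hcr
      have hc := Cfsg.Agent.S0243.result (F := K) rfl 2 le_rfl
      rw [hcr, Fin.prod_univ_two] at hc
      simp only [Fin.val_zero, pow_zero, Fin.val_one, pow_one] at hc
      obtain ⟨k, hk2⟩ := Nat.exists_eq_add_of_le hq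
      rw [hk2] at hc
      have h2 : Nat.gcd 2 (27 + k - 1) ≤ 2 := Nat.gcd_le_left _ (by norm_num)
      have h3 : (27 + k) ^ 2 - 1 = (26 + k) * (28 + k) := by
        have : (27 + k) ^ 2 = (26 + k) * (28 + k) + 1 := by ring
        rw [this]; simp
      have h4 : (27 + k) ^ 2 - (27 + k) = (26 + k) * (27 + k) := by
        have : (27 + k) ^ 2 = (26 + k) * (27 + k) + (27 + k) := by ring
        rw [this]; simp
      have h5 : 27 + k - 1 = 26 + k := by omega
      rw [h3, h4, h5] at hc
      have h6 : Nat.gcd 2 (26 + k) * ((26 + k) * 60) ≤ 2 * ((26 + k) * 60) := Nat.mul_le_mul_right _ (h5 ▸ h2)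
      rw [hc] at h6
      nlinarith
  · have h1 : ∀ a : A, (e (a : C)).2 = 1 := by
      intro a
      have : a ∈ f.ker := by rw [hk]; exact Subgroup.mem_top a
      exact this
    let g : A →* Multiplicative (ZMod 2) := (MonoidHom.fst _ _).comp (e.toMonoidHom.comp A.subtype)
    have hg : Function.Injective g := by
      intro a b hab
      apply Subtype.ext
      apply e.injective
      exact Prod.ext hab ((h1 a).trans (h1 b).symm)
    have h2 := Nat.card_le_card_of_injective g hg
    have h3 : Nat.card (Multiplicative (ZMod 2)) = 2 := by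
      rw [Nat.card_eq_fintype_card]; rfl
    rw [hA, h3] at h2
    omega

theorem isoJ1_of [IsSimpleGroup G] (h1740 : Stmt1740 G) (S : Sylow 2 G) (h8 : Nat.card (S : Subgroup G) = 8)
    (hel : ∀ x ∈ (S : Subgroup G), x * x = 1) {t : G} (_ht : orderOf t = 2)
    (hone : ∀ u : G, orderOf u = 2 → ∃ g, g * t * g⁻¹ = u)
    (A : Subgroup G) [IsSimpleGroup A] (hA : Nat.card A = 60) (hAC : ∀ a ∈ A, a * t = t * a)
    (hAn : ∀ g : G, g * t = t * g → ∀ a ∈ A, g * a * g⁻¹ ∈ A) : Cfsg.Spor.IsoJ1 G := by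
  have hp2 : Fact (Nat.Prime 2) := ⟨Nat.prime_two⟩
  have h60 : 60 ∣ Nat.card G := hA ▸ Subgroup.card_subgroup_dvd_card A
  have h16 : ¬ 16 ∣ Nat.card G := by
    intro h
    have h1 := S.card_eq_multiplicity
    rw [h8] at h1
    have h2 : (Nat.card G).factorization 2 = 3 := by
      have : 2 ^ 3 = 2 ^ (Nat.card G).factorization 2 := by rw [← h1]; norm_num
      exact (Nat.pow_right_injective le_rfl this).symm
    have h3 : 2 ^ 4 ∣ Nat.card G := by norm_num; exact h
    rw [hp2.out.pow_dvd_iff_le_factorization Nat.card_pos.ne'] at h3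
    omega
  have hna : ¬ IsMulCommutative G := by
    intro hc
    have hc' : ∀ a b : G, a * b = b * a := fun a b => hc.is_comm.comm a b
    let : CommGroup A := { (inferInstance : Group A) with mul_comm := fun a b => Subtype.ext (hc' a b) }
    have := IsSimpleGroup.prime_card (α := A)
    rw [hA] at this
    exact absurd this (by norm_num)
  have hrk : ¬ Cfsg.PRankLE 2 2 G := by
    intro h
    have := h (S : Subgroup G) ⟨⟨fun a b => by
      apply Subtype.ext
      have h1 : (a : G)⁻¹ = a := inv_eq_of_mul_eq_one_left (hel a a.2)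
      have h2 : (b : G)⁻¹ = b := inv_eq_of_mul_eq_one_left (hel b b.2)
      have h3 : ((a : G) * b)⁻¹ = a * b := inv_eq_of_mul_eq_one_left (hel _ (mul_mem a.2 b.2))
      change (a : G) * b = b * a
      rw [← h3, mul_inv_rev, h1, h2]⟩⟩ (fun a ha => by rw [pow_two]; exact hel a ha)
    rw [h8] at this
    omega
  obtain ⟨F, i1, i2, hF, P, hP⟩ := exists_sylow_psl (V := (S : Subgroup G)) (fun x => Subtype.ext (hel x x.2)) h8
  rcases h1740 hna hrk S 3 (Or.inl ⟨F, i1, i2, hF, Or.inl ⟨P, hP⟩⟩) with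
    ⟨F', j1, j2, hF', h⟩ | ⟨F', j1, j2, hF', ⟨e⟩⟩ | ⟨m, hm, hn, F', j1, j2, hF', ⟨e⟩⟩ | h | h
  · have hch : CharP F' 2 := charP_of_card_eq_prime_pow (by rw [hF'])
    rcases h with ⟨⟨e⟩⟩ | ⟨⟨e⟩⟩ | ⟨⟨e⟩⟩
    · exfalso
      have hc := Cfsg.Agent.Classification.PSLTwoEvenSylow.card_psl (F := F')
      rw [Nat.card_congr e.toEquiv, hc, hF'] at h60
      omega
    · exfalso
      have hc := Cfsg.Agent.S0243.result (F := F') hF' 3 (by norm_num)
      apply h16
      rw [Nat.card_congr e.toEquiv]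
      rw [Fin.prod_univ_three] at hc
      norm_num at hc
      omega
    · exfalso
      have hc := Cfsg.Agent.TypeSpFour.Model.card_PSp (F := F') (by rw [hF']; decide)
      apply h16
      rw [Nat.card_congr e.toEquiv, hc, hF']
      norm_num
  · exfalso
    have hc := Cfsg.Agent.S0280.result (F := F') (q := 8) (by rw [hF']; norm_num) 3 (by norm_num)
    apply h16
    rw [Nat.card_congr e.toEquiv]
    norm_num [Finset.prod_range_succ] at hc ⊢
    omega
  · exfalso
    have hm1 : m = 1 := by omega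
    subst hm1
    have hc := (Cfsg.Agent.S1163.result (F := F') (m := 1) le_rfl (by rw [hF'])).1
    apply h16
    rw [Nat.card_congr e.toEquiv, hc]
    norm_num
  · exfalso
    obtain ⟨K, k1, k2, m, hm, hK, ⟨e⟩⟩ := h
    -- an involution of `H¹`
    have hH := Cfsg.Agent.S1114.result (K := K) (m := m) hK
    have h2 : 2 ∣ Nat.card ↥(Cfsg.Lie.chevG2.diagonalSubgroup K ⊓ Cfsg.Lie.twistedG2 K (3 ^ m)) := by
      rw [hH]
      have : Odd (3 ^ (2 * m + 1)) := Odd.pow (by decide)
      obtain ⟨c, hc⟩ := this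
      rw [hc]
      exact ⟨c, by omega⟩
    obtain ⟨⟨x, hx⟩, hx2⟩ := exists_prime_orderOf_dvd_card' 2 h2
    have hxx : x ≠ 1 ∧ x * x = 1 := by
      rw [← Subgroup.orderOf_coe] at hx2
      constructor
      · intro h; rw [show ((⟨x, hx⟩ : ↥(Cfsg.Lie.chevG2.diagonalSubgroup K ⊓ Cfsg.Lie.twistedG2 K (3 ^ m))) : GL Cfsg.Lie.chevG2.Idx K) = x from rfl, h, orderOf_one] at hx2
        omega
      · have := pow_orderOf_eq_one x
        rw [show orderOf x = 2 from hx2, pow_two] at this
        exact this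
    let a : ↥(Cfsg.Lie.twistedG2 K (3 ^ m)) := ⟨x, hx.2⟩
    have ha1 : a ≠ 1 := fun h => hxx.1 (congrArg Subtype.val h)
    have ha2 : a * a = 1 := Subtype.ext hxx.2
    obtain ⟨⟨f⟩, -⟩ := Cfsg.Agent.S1152.result hK a hx.1 ha1 ha2
    -- transport to `G`
    have hoa : orderOf a = 2 := orderOf_eq_prime (by rw [pow_two]; exact ha2) ha1
    have hou : orderOf (e.symm a) = 2 := by rw [MulEquiv.orderOf_eq]; exact hoa
    obtain ⟨g, hg⟩ := hone _ hou
    have hga : e (g * t * g⁻¹) = a := by rw [hg, MulEquiv.apply_symm_apply]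
    -- the isomorphism `C_G(t) ≃ C(a)`
    let φ : G ≃* ↥(Cfsg.Lie.twistedG2 K (3 ^ m)) := (MulAut.conj g).trans e
    have hφ : φ t = a := hga
    have hmap : ∀ y : G, y ∈ centralizer ({t} : Set G) ↔ φ y ∈ centralizer ({a} : Set ↥(Cfsg.Lie.twistedG2 K (3 ^ m))) := by
      intro y
      rw [mem_centralizer_singleton_iff, mem_centralizer_singleton_iff, ← hφ, ← map_mul, ← map_mul]
      exact φ.injective.eq_iff.symm
    let ψ : ↥(centralizer ({t} : Set G)) ≃* ↥(centralizer ({a} : Set ↥(Cfsg.Lie.twistedG2 K (3 ^ m)))) :=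
      { toFun := fun y => ⟨φ y, (hmap y).1 y.2⟩
        invFun := fun z => ⟨φ.symm z, (hmap _).2 (by rw [MulEquiv.apply_symm_apply]; exact z.2)⟩
        left_inv := fun y => Subtype.ext (φ.symm_apply_apply y)
        right_inv := fun z => Subtype.ext (φ.apply_symm_apply z)
        map_mul' := fun y z => Subtype.ext (map_mul φ _ _) }
    have hAle : A ≤ centralizer ({t} : Set G) := fun y hy => mem_centralizer_singleton_iff.2 (hAC y hy)
    have hAnorm : (A.subgroupOf (centralizer ({t} : Set G))).Normal := by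
      constructor
      intro y hy c
      rw [mem_subgroupOf] at hy ⊢
      exact hAn c (mem_centralizer_singleton_iff.1 c.2) _ hy
    have hsim : IsSimpleGroup (A.subgroupOf (centralizer ({t} : Set G))) :=
      (subgroupOfEquivOfLe hAle).isSimpleGroup
    refine not_two_times_psl hm hK (ψ.trans f) (A.subgroupOf (centralizer ({t} : Set G))) ?_
    rw [Nat.card_congr (subgroupOfEquivOfLe hAle).toEquiv, hA]
  · exact h

end

end Cfsg.Agent.StdL2.JOne
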