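import Cfsg.Agent.StdL2.Ends
import Cfsg.Agent.StdL2.JOne
import Cfsg.Agent.S0215
import Cfsg.Agent.TwoFusion.IndexTwo

/-!
# The end (i) of the tower: `E = ⟨t⟩ × V` is a Sylow 2-subgroup of `G`

Only possible for `q = 4`, `G = L ≃ J₁`.
-/

set_option autoImplicit false
set_option linter.unusedSectionVars false

namespace Cfsg.Agent.StdL2.EndOne

open Cfsg Subgroup Cfsg.Agent.StdL2.Setup Cfsg.Agent.StdL2.Ends

universe u

/-- The statement S1740 (all groups). -/
def S1740Stmt : Prop :=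
  ∀ (G : Type u) [Group G] [Finite G] [IsSimpleGroup G], Cfsg.Agent.StdL2.JOne.Stmt1740 G

variable {G : Type u} [Group G] [Finite G] {L A : Subgroup G} {t : G}

/-- `t` is conjugate to another element of every Sylow 2-subgroup containing it (`Z*`-theorem). -/
theorem exists_conj (C : Conf L A t) (hev : 2 ∣ Nat.card L) (S : Sylow 2 G) (tS : t ∈ (S : Subgroup G)) :
    ∃ g : G, g * t * g⁻¹ ∈ (S : Subgroup G) ∧ g * t * g⁻¹ ≠ t := by
  by_contra hcon
  push Not at hcon
  obtain ⟨N, hN, hodd, hcom⟩ := Cfsg.Agent.S0215.result S t C.ht tS hcon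
  have hs := C.simple
  have hn := C.normal
  rcases IsSimpleGroup.eq_bot_or_eq_top_of_normal (N.subgroupOf L) inferInstance with h | h
  · -- `t` centralises `L`
    have h1 : t ∈ centralizer (L : Set G) := by
      rw [mem_centralizer_iff]
      intro l hl
      have h2 := hcom l
      have h3 : t * l * t⁻¹ * l⁻¹ ∈ L := mul_mem (hn.conj_mem l hl t) (inv_mem hl)
      have h4 : (⟨t * l * t⁻¹ * l⁻¹, h3⟩ : L) ∈ N.subgroupOf L := by
        rw [mem_subgroupOf]
        exact h2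
      rw [h, mem_bot] at h4
      have h5 : t * l * t⁻¹ * l⁻¹ = 1 := congrArg Subtype.val h4
      have h6 : t * l = l * t := by
        have : t * l = (t * l * t⁻¹ * l⁻¹) * (l * t) := by group
        rw [this, h5, one_mul]
      exact h6.symm
    rw [C.cent, mem_bot] at h1
    exact ne_one C h1
  · have h1 : L ≤ N := subgroupOf_eq_top.1 h
    have h2 : 2 ∣ Nat.card N := hev.trans (Subgroup.card_dvd_of_le h1)
    exact (Nat.not_even_iff_odd.2 hodd) (even_iff_two_dvd.2 h2)

/-- The number of conjugates of `t` in a commutative Sylow 2-subgroup is odd. -/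
theorem odd_card_conj (S : Sylow 2 G) (hS : ∀ x ∈ (S : Subgroup G), ∀ y ∈ (S : Subgroup G), x * y = y * x)
    {t : G} (tS : t ∈ (S : Subgroup G)) : Odd (Nat.card {x : G | x ∈ (S : Subgroup G) ∧ ∃ g : G, g * t * g⁻¹ = x}) := by
  classical
  have : Fact (Nat.Prime 2) := ⟨Nat.prime_two⟩
  let N := normalizer ((S : Subgroup G) : Set G)
  -- the conjugacy action of `N`
  let act : MulAction N G := MulAction.compHom G ((MulAut.conj : G →* MulAut G).comp N.subtype)
  have hsm : ∀ (n : N) (x : G), n • x = n * x * (n : G)⁻¹ := fun n x => rfl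
  have horb : (MulAction.orbit N t) = {x : G | x ∈ (S : Subgroup G) ∧ ∃ g : G, g * t * g⁻¹ = x} := by
    ext x
    constructor
    · rintro ⟨n, rfl⟩
      refine ⟨?_, n, rfl⟩
      change (n : G) * t * (n : G)⁻¹ ∈ (S : Subgroup G)
      exact (mem_normalizer_iff.1 n.2 t).1 tS
    · rintro ⟨hx, g, rfl⟩
      have hcomm : IsMulCommutative (S : Subgroup G) := ⟨⟨fun a b => Subtype.ext (hS a a.2 b b.2)⟩⟩
      obtain ⟨n, hn, h⟩ := S.conj_eq_normalizer_conj_of_mem t g⁻¹ tS (by
        rw [inv_inv]; exact hx)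
      refine ⟨⟨n⁻¹, inv_mem hn⟩, ?_⟩
      change n⁻¹ * t * n⁻¹⁻¹ = g * t * g⁻¹
      have h2 : n⁻¹ * t * n = g⁻¹⁻¹ * t * g⁻¹ := h.symm
      rw [inv_inv, h2, inv_inv]
  rw [← horb]
  have h1 : Nat.card (MulAction.orbit N t) = (MulAction.stabilizer N t).index := by
    rw [Subgroup.index]
    exact Nat.card_congr (MulAction.orbitEquivQuotientStabilizer N t)
  change Odd (Nat.card (MulAction.orbit N t))
  rw [h1]
  have h2 : (S : Subgroup G).subgroupOf N ≤ MulAction.stabilizer N t := by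
    intro s hs
    rw [MulAction.mem_stabilizer_iff, hsm, hS _ (mem_subgroupOf.1 hs) _ tS, mul_inv_cancel_right]
  have h3 : (MulAction.stabilizer N t).index ∣ ((S : Subgroup G).subgroupOf N).index := index_dvd_of_le h2
  have h4 : ((S : Subgroup G).subgroupOf N).index ∣ (S : Subgroup G).index := by
    have := relIndex_mul_index (le_normalizer (H := (S : Subgroup G)))
    exact Dvd.intro _ this
  have h5 : Odd (S : Subgroup G).index := Cfsg.Agent.TwoFusion.IndexTwo.odd_index_sylow S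
  exact Odd.of_dvd_nat h5 (h3.trans h4)

/-- **End (i)**: if `E = ⟨t⟩ × V` is a Sylow 2-subgroup of `G` then `q = 4`, `t ∈ L`, and all involutions of `G`
are conjugate to `t`. -/
theorem one_class (C : Conf L A t) {q : ℕ} (hq : Even q) (S : Sylow 2 G)
    (hel : ∀ x ∈ (S : Subgroup G), x * x = 1)
    (tS : t ∈ (S : Subgroup G)) (V : Subgroup G) (hVS : V ≤ (S : Subgroup G)) (hVL : V ≤ L) (htV : t ∉ V)
    (hV : Nat.card V = q) (hq1 : 1 < q) (hi : V.relIndex (S : Subgroup G) = 2)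
    (hd : ∀ v ∈ V, v ≠ 1 → ∀ w ∈ V, w ≠ 1 → ∃ d : G, d * t = t * d ∧ d * v * d⁻¹ = w) :
    t ∈ L ∧ ∀ u : G, orderOf u = 2 → ∃ g, g * t * g⁻¹ = u := by
  classical
  have : Fact (Nat.Prime 2) := ⟨Nat.prime_two⟩
  have hn := C.normal
  have hcomm : ∀ x ∈ (S : Subgroup G), ∀ y ∈ (S : Subgroup G), x * y = y * x := by
    intro x hx y hy
    have h1 : x⁻¹ = x := inv_eq_of_mul_eq_one_left (hel x hx)
    have h2 : y⁻¹ = y := inv_eq_of_mul_eq_one_left (hel y hy)
    have h3 : (x * y)⁻¹ = x * y := inv_eq_of_mul_eq_one_left (hel _ (mul_mem hx hy))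
    rw [← h3, mul_inv_rev, h1, h2]
  have htt := sq_eq_one C
  have hsplit : ∀ x ∈ (S : Subgroup G), x ∉ V → ∃ v ∈ V, x = t * v := by
    intro x hx hxV
    have hidx : (V.subgroupOf (S : Subgroup G)).index = 2 := hi
    have h2 := Subgroup.mul_mem_iff_of_index_two hidx (a := ⟨t, tS⟩) (b := ⟨x, hx⟩)
    rw [mem_subgroupOf, mem_subgroupOf, mem_subgroupOf] at h2
    refine ⟨t * x, h2.2 ⟨fun h => absurd h htV, fun h => absurd h hxV⟩, ?_⟩
    rw [← mul_assoc, htt, one_mul]
  obtain ⟨v0, hv0, hv01⟩ : ∃ v ∈ V, v ≠ 1 := by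
    by_contra hcon
    push Not at hcon
    have : V = ⊥ := by rw [eq_bot_iff]; intro x hx; exact mem_bot.2 (hcon x hx)
    rw [this, card_bot] at hV
    omega
  -- the conjugates of `t` in `S`
  let D : Set G := {x : G | x ∈ (S : Subgroup G) ∧ ∃ g : G, g * t * g⁻¹ = x}
  have hDodd : Odd (Nat.card D) := odd_card_conj S hcomm tS
  have hDconj : ∀ d : G, ∀ x ∈ D, d * x * d⁻¹ ∈ (S : Subgroup G) → d * x * d⁻¹ ∈ D := by
    rintro d x ⟨-, g, rfl⟩ h
    exact ⟨h, d * g, by group⟩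
  have hVne : ∀ v ∈ V, v ∈ D → ∀ w ∈ V, w ≠ 1 → w ∈ D := by
    intro v hv hvD w hw hw1
    have hv1 : v ≠ 1 := by
      rintro rfl
      obtain ⟨-, g, hg⟩ := hvD
      rw [mul_inv_eq_one, mul_eq_left] at hg
      exact ne_one C hg
    obtain ⟨d, -, hd2⟩ := hd v hv hv1 w hw hw1
    rw [← hd2]
    exact hDconj d v hvD (by rw [hd2]; exact hVS hw)
  have htVne : ∀ v ∈ V, v ≠ 1 → t * v ∈ D → ∀ w ∈ V, w ≠ 1 → t * w ∈ D := by
    intro v hv hv1 hvD w hw hw1
    obtain ⟨d, hd1, hd2⟩ := hd v hv hv1 w hw hw1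
    have e : d * (t * v) * d⁻¹ = t * w := by
      rw [← hd2, ← mul_assoc, hd1]; group
    rw [← e]
    exact hDconj d _ hvD (by rw [e]; exact mul_mem tS (hVS hw))
  have htD : t ∈ D := ⟨tS, 1, by group⟩
  have hcardV : Nat.card (V : Set G) = q := hV
  -- the two kinds of fusion
  have hA : ∃ v ∈ V, v ∈ D := by
    by_contra hcon
    push Not at hcon
    -- then `D = tV`
    obtain ⟨g, hg1, hg2⟩ := exists_conj C (by
      have h1 : 2 ∣ Nat.card V := hV ▸ hq.two_dvd
      exact h1.trans (Subgroup.card_dvd_of_le hVL)) S tS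
    have hgD : g * t * g⁻¹ ∈ D := ⟨hg1, g, rfl⟩
    obtain ⟨v, hv, hgv⟩ := hsplit _ hg1 (fun h => hcon _ h hgD)
    have hv1 : v ≠ 1 := by
      rintro rfl
      rw [mul_one] at hgv
      exact hg2 hgv
    rw [hgv] at hgD
    have hDeq : D = (fun v => t * v) '' (V : Set G) := by
      ext x
      constructor
      · intro hx
        obtain ⟨w, hw, rfl⟩ := hsplit x hx.1 (fun h => hcon x h hx)
        exact ⟨w, hw, rfl⟩
      · rintro ⟨w, hw, rfl⟩
        by_cases hw1 : w = 1
        · rw [hw1]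
          change t * 1 ∈ D
          rw [mul_one]; exact htD
        · exact htVne v hv hv1 hgD w hw hw1
    rw [hDeq, Nat.card_image_of_injective (mul_right_injective t), hcardV] at hDodd
    exact (Nat.not_odd_iff_even.2 hq) hDodd
  obtain ⟨v, hv, hvD⟩ := hA
  have htL : t ∈ L := by
    obtain ⟨-, g, hg⟩ := hvD
    have h1 : g * t * g⁻¹ ∈ L := by rw [hg]; exact hVL hv
    have h2 := hn.conj_mem _ h1 g⁻¹
    have e : g⁻¹ * (g * t * g⁻¹) * g⁻¹⁻¹ = t := by group
    rwa [e] at h2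
  refine ⟨htL, ?_⟩
  -- some `t v`, `v ≠ 1`, belongs to `D`
  have hB : ∃ w ∈ V, w ≠ 1 ∧ t * w ∈ D := by
    by_contra hcon
    push Not at hcon
    have hDeq : D = insert t ((V : Set G) \ {1}) := by
      ext x
      constructor
      · intro hx
        by_cases hxV : x ∈ V
        · right
          refine ⟨hxV, ?_⟩
          rintro rfl
          obtain ⟨-, g, hg⟩ := hx
          rw [mul_inv_eq_one, mul_eq_left] at hg
          exact ne_one C hg
        · left
          obtain ⟨w, hw, rfl⟩ := hsplit x hx.1 hxV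
          by_contra hne
          apply hcon w hw _ hx
          rintro rfl
          exact hne (mul_one t)
      · rintro (rfl | ⟨hx, hx1⟩)
        · exact htD
        · exact hVne v hv hvD x hx hx1
    have hc : Nat.card D = q := by
      rw [hDeq]
      rw [Nat.card_coe_set_eq, Set.ncard_insert_of_notMem (fun h => htV h.1) (Set.toFinite _),
        Set.ncard_sdiff_singleton_of_mem (one_mem V), ← Nat.card_coe_set_eq, hcardV]
      omega
    rw [hc] at hDodd
    exact (Nat.not_odd_iff_even.2 hq) hDodd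
  obtain ⟨w, hw, hw1, hwD⟩ := hB
  intro u hu
  -- `u` is conjugate into `S`
  have hup : IsPGroup 2 (zpowers u) := by
    rw [IsPGroup.iff_card]
    exact ⟨1, by rw [Nat.card_zpowers, hu, pow_one]⟩
  obtain ⟨T, hT⟩ := hup.exists_le_sylow
  obtain ⟨c, hc⟩ := MulAction.exists_smul_eq G T S
  have h1 : c * u * c⁻¹ ∈ (S : Subgroup G) := by
    rw [← hc]
    exact ⟨u, hT (mem_zpowers u), rfl⟩
  have hu1 : u ≠ 1 := by
    rintro rfl
    rw [orderOf_one] at hu; omega
  have h2 : c * u * c⁻¹ ∈ D := by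
    by_cases hV' : c * u * c⁻¹ ∈ V
    · refine hVne v hv hvD _ hV' ?_
      intro h
      rw [mul_inv_eq_one, mul_eq_left] at h
      exact hu1 h
    · obtain ⟨x, hx, hcx⟩ := hsplit _ h1 hV'
      rw [hcx]
      by_cases hx1 : x = 1
      · rw [hx1, mul_one]; exact htD
      · exact htVne w hw hw1 hwD x hx hx1
  obtain ⟨-, g, hg⟩ := h2
  refine ⟨c⁻¹ * g, ?_⟩
  have e : c⁻¹ * g * t * (c⁻¹ * g)⁻¹ = c⁻¹ * (g * t * g⁻¹) * c := by group
  rw [e, hg]; group

/-- **End (i)** of the tower: `q = 4` and `L ≃ J₁`. -/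
theorem isoJ1_of_end (h0506 : S0506Stmt.{u}) (h1740 : S1740Stmt.{u}) (C : Conf L A t) {a : ℕ} (ha : 2 ≤ a)
    (hAs : IsSimpleGroup A) (hAc : Nat.card A = 2 ^ a * ((2 ^ a) ^ 2 - 1)) (S : Sylow 2 G)
    (hel : ∀ x ∈ (S : Subgroup G), x * x = 1)
    (tS : t ∈ (S : Subgroup G)) (V : Subgroup G) (hVS : V ≤ (S : Subgroup G)) (hVL : V ≤ L) (htV : t ∉ V)
    (hV : Nat.card V = 2 ^ a) (hi : V.relIndex (S : Subgroup G) = 2)
    (hd : ∀ v ∈ V, v ≠ 1 → ∀ w ∈ V, w ≠ 1 → ∃ d : G, d * t = t * d ∧ d * v * d⁻¹ = w) :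
    a = 2 ∧ Cfsg.Spor.IsoJ1 ↥L := by
  have : Fact (Nat.Prime 2) := ⟨Nat.prime_two⟩
  have hq2 : 4 ≤ 2 ^ a := by
    calc 4 = 2 ^ 2 := by norm_num
      _ ≤ 2 ^ a := Nat.pow_le_pow_right (by norm_num) ha
  obtain ⟨htL, hone⟩ := one_class C (q := 2 ^ a) (Nat.even_pow.2 ⟨by norm_num, by omega⟩) S hel tS V hVS hVL htV hV
    (by omega) hi hd
  -- `L = G`
  have hLtop : L = ⊤ := by
    rw [← C.gen]
    exact (sup_eq_left.2 (zpowers_le.2 htL)).symm
  have hs : IsSimpleGroup G := by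
    have := C.simple
    rw [hLtop] at this
    exact Subgroup.topEquiv.symm.isSimpleGroup
  have hcomm : ∀ x ∈ (S : Subgroup G), ∀ y ∈ (S : Subgroup G), x * y = y * x := by
    intro x hx y hy
    have h1 : x⁻¹ = x := inv_eq_of_mul_eq_one_left (hel x hx)
    have h2 : y⁻¹ = y := inv_eq_of_mul_eq_one_left (hel y hy)
    have h3 : (x * y)⁻¹ = x * y := inv_eq_of_mul_eq_one_left (hel _ (mul_mem hx hy))
    rw [← h3, mul_inv_rev, h1, h2]
  have hna : ¬ IsMulCommutative G := by
    intro hc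
    apply C.not_comm
    exact ⟨⟨fun x y => Subtype.ext (hc.is_comm.comm (x : G) y)⟩⟩
  have hScard : Nat.card (S : Subgroup G) = 2 ^ (a + 1) := by
    have h1 := Cfsg.Agent.Lib.SylowNormalInf.card_mul_relIndex V (S : Subgroup G) hVS
    rw [hi, hV] at h1
    rw [← h1, pow_succ]
  have hAdvd : Nat.card A ∣ Nat.card G := Subgroup.card_subgroup_dvd_card A
  have hSdvd : 2 ^ (a + 1) ∣ Nat.card G := hScard ▸ Subgroup.card_subgroup_dvd_card _
  have hSnot : ¬ 2 ^ (a + 2) ∣ Nat.card G := by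
    intro h
    have h1 := S.card_eq_multiplicity
    have h2 : 2 ^ (a + 1) = 2 ^ (Nat.card G).factorization 2 := by rw [← h1]; exact hScard.symm
    have h3 := Nat.pow_right_injective le_rfl h2
    rw [Nat.prime_two.pow_dvd_iff_le_factorization Nat.card_pos.ne'] at h
    omega
  have ha2 : a = 2 := by
    by_contra hne
    have ha3 : 3 ≤ a := by omega
    have h16 : 16 ∣ Nat.card G := by
      refine Dvd.dvd.trans ?_ hSdvd
      have : (16 : ℕ) = 2 ^ 4 := by norm_num
      rw [this]; exact pow_dvd_pow 2 (by omega)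
    rcases h0506 G hna S ⟨⟨fun x y => Subtype.ext (hcomm x x.2 y y.2)⟩⟩ with
      ⟨n, hn, K, i1, i2, hK, ⟨e⟩⟩ | ⟨K, i1, i2, hK, ⟨e⟩⟩ | h | h
    · have hch : CharP K 2 := charP_of_card_eq_prime_pow (by rw [hK])
      have hc := Cfsg.Agent.Classification.PSLTwoEvenSylow.card_psl (F := K)
      rw [← Nat.card_congr e.toEquiv, hK] at hc
      -- `n = a + 1`
      have hna1 : n = a + 1 := by
        have hodd : ¬ 2 ∣ (2 ^ n) ^ 2 - 1 := by
          have h1 : 1 ≤ (2 ^ n) ^ 2 := Nat.one_le_pow _ _ (by positivity)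
          have h2 : 2 ∣ (2 ^ n) ^ 2 := by
            rw [← pow_mul]; exact dvd_pow_self 2 (by omega)
          omega
        apply le_antisymm
        · by_contra hcon
          apply hSnot
          rw [hc]
          exact (pow_dvd_pow 2 (by omega)).mul_right _
        · rw [hc] at hSdvd
          have h1 : Nat.Coprime (2 ^ (a + 1)) ((2 ^ n) ^ 2 - 1) :=
            (Nat.Coprime.pow_left _ ((Nat.Prime.coprime_iff_not_dvd Nat.prime_two).2 hodd))
          have h2 := h1.dvd_of_dvd_mul_right hSdvd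
          exact (Nat.pow_dvd_pow_iff_le_right (by norm_num)).1 h2
      rw [hc, hAc, hna1] at hAdvd
      -- `q² - 1 ∣ 2 (4 q² - 1)`
      have h1 : (2 ^ (a + 1)) = 2 * 2 ^ a := by rw [pow_succ]; ring
      rw [h1] at hAdvd
      generalize 2 ^ a = q at hAdvd hq2
      obtain ⟨k, hk⟩ : ∃ k, q ^ 2 = k + 1 := ⟨q ^ 2 - 1, by have : 1 ≤ q ^ 2 := Nat.one_le_pow _ _ (by omega); omega⟩
      have h2 : q ^ 2 - 1 = k := by omega
      have h3 : (2 * q) ^ 2 - 1 = 4 * k + 3 := by
        have : (2 * q) ^ 2 = 4 * q ^ 2 := by ring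
        omega
      rw [h2, h3] at hAdvd
      have h4 : q * k ∣ q * (2 * (4 * k + 3)) := by
        have : 2 * q * (4 * k + 3) = q * (2 * (4 * k + 3)) := by ring
        rwa [this] at hAdvd
      have h5 : k ∣ 2 * (4 * k + 3) := Nat.dvd_of_mul_dvd_mul_left (by omega) h4
      have h6 : k ∣ 6 := by
        have e : 2 * (4 * k + 3) = k * 8 + 6 := by ring
        rw [e] at h5
        exact (Nat.dvd_add_right (Dvd.intro _ rfl)).1 h5
      have h7 := Nat.le_of_dvd (by norm_num) h6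
      have h8 : 16 ≤ q ^ 2 := by nlinarith
      omega
    · apply not_eight_dvd_psl hK
      rw [← Nat.card_congr e.toEquiv]
      exact (by norm_num : 8 ∣ 16).trans h16
    · obtain ⟨-, m, -, hm⟩ := h
      rw [hm] at h16
      exact not_sixteen_dvd_ree m h16
    · rw [h.2] at h16
      omega
  refine ⟨ha2, ?_⟩
  subst ha2
  have hJ : Cfsg.Spor.IsoJ1 G := by
    refine Cfsg.Agent.StdL2.JOne.isoJ1_of (h1740 G) S (by rw [hScard]; norm_num) hel C.ht hone A
      (by rw [hAc]; norm_num) ?_ ?_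
    · intro a ha
      exact (mem_centralizer_iff.1 C.htA a ha)
    · intro g hg a ha
      have h1 : g ∈ normalizer (A : Set G) := by
        apply Cfsg.Agent.SignalizersComponents.StandardTools.centralizer_le_of_even C.std
          (M := zpowers t) (zpowers_le.2 C.htA)
        · rw [Nat.card_zpowers, C.ht]; decide
        · rw [mem_centralizer_iff]
          rintro _ ⟨n, rfl⟩
          exact ((show Commute g t from hg).zpow_right n).eq.symm
      exact (mem_normalizer_iff.1 h1 a).1 ha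
  obtain ⟨e⟩ := hJ
  rw [hLtop]
  exact ⟨Subgroup.topEquiv.trans e⟩

end Cfsg.Agent.StdL2.EndOne
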