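import Cfsg.Agent.StdL2.FrameMain
import Cfsg.Agent.StdL2.EndOne

/-!
# S1773: from the reduced configuration to the local data
-/

set_option autoImplicit false
set_option linter.unusedSectionVars false
set_option linter.style.haveILetI false
set_option Elab.async false

namespace Cfsg.Agent.StdL2.FrameFT

open scoped commutatorElement

open Cfsg Subgroup Cfsg.Agent.StdL2 Cfsg.Agent.StdL2.Setup Cfsg.Agent.StdL2.Frame
  Cfsg.Agent.StdL2.Field Cfsg.Agent.StdL2.FieldStart Cfsg.Agent.StdL2.FT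
open Cfsg.Agent.Lib.SL2Mat Cfsg.Agent.Lib.AutSL2
open Cfsg.Agent.Lib.GoldschmidtFusion (lt_inf_normalizer)

local notation "SL2" => Matrix.SpecialLinearGroup (Fin 2)

universe u

variable {F : Type*} [Field F] [Finite F] [CharP F 2] {G : Type u} [Group G] [Finite G]
  {L A T : Subgroup G} {t : G} {π : SL2 F →* G}

/-- The Sylow 2-subgroup `T` of `C(t)`. -/
theorem exists_base (C : Conf L A t) (P : IsPar A π) :
    ∃ T, Base A t T π ∧ IsSyl (centralizer ({t} : Set G)) T := by
  have hVt : VV π ≤ centralizer ({t} : Set G) := fun v hv =>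
    mem_centralizer_singleton_iff.2 (mem_centralizer_iff.1 C.htA v (VV_le P hv))
  have hV2 : IsPGroup 2 (VV π) := by
    intro x
    refine ⟨1, Subtype.ext ?_⟩
    show (x : G) ^ (2 ^ 1) = 1
    rw [pow_one, pow_two]
    exact VV_sq (x : G) x.2
  obtain ⟨T, hT, hVT⟩ := exists_isSyl (centralizer ({t} : Set G)) (VV π) hV2 hVt
  refine ⟨T, ⟨P, tt C, t_ne_one C, C.htA, cent_le C, C.cyc, hT.1,
    fun x hx => mem_centralizer_singleton_iff.1 (hT.2.1 hx), ?_, hVT⟩, hT⟩
  intro Q hQ hTQ hQt
  exact hT.2.2 Q hQ hTQ (fun x hx => mem_centralizer_singleton_iff.2 (hQt x hx))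

/-- `L ≤ G'` -/
theorem le_commutator (C : Conf L A t) : L ≤ commutator G := by
  have hs := C.simple
  have hp : commutator ↥L = ⊤ := by
    rcases IsSimpleGroup.eq_bot_or_eq_top_of_normal (commutator ↥L) inferInstance with h | h
    · exfalso
      apply C.not_comm
      refine ⟨⟨fun a b => ?_⟩⟩
      have h1 : ⁅a, b⁆ ∈ commutator ↥L :=
        commutator_mem_commutator (mem_top _) (mem_top _)
      rw [h, mem_bot] at h1
      exact commutatorElement_eq_one_iff_mul_comm.1 h1
    · exact h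
  have h1 : (commutator ↥L).map L.subtype ≤ commutator G := by
    rw [_root_.commutator_def, map_commutator]
    exact commutator_mono le_top le_top
  rw [hp] at h1
  intro x hx
  exact h1 ⟨⟨x, hx⟩, mem_top _, rfl⟩

theorem gen (C : Conf L A t) : commutator G ⊔ zpowers t = ⊤ := by
  rw [eq_top_iff, ← C.gen]
  exact sup_le_sup_right (le_commutator C) _

theorem even_L (C : Conf L A t) (P : IsPar A π) : 2 ∣ Nat.card L := by
  have h1 : π (up 1) ∈ L := C.le (P.mem _)
  have h2 : orderOf (⟨π (up 1), h1⟩ : L) = 2 := by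
    apply orderOf_eq_prime
    · apply Subtype.ext
      show π (up 1) ^ 2 = 1
      rw [pow_two]
      exact VV_sq _ (up_mem_VV 1)
    · intro h
      have h3 : π (up (1 : F)) = 1 := congrArg Subtype.val h
      have h4 : (up (1 : F)) = up 0 := P.inj (by rw [h3, up_zero, map_one])
      exact one_ne_zero (up_inj h4)
  rw [← h2]
  exact orderOf_dvd_natCard _

/-- `t` commutes with another conjugate of itself (`Z*`-theorem). -/
theorem exists_comm_conj (C : Conf L A t) (hev : 2 ∣ Nat.card L) :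
    ∃ g : G, g * t * g⁻¹ ≠ t ∧ (g * t * g⁻¹) * t = t * (g * t * g⁻¹) := by
  have h1 : IsPGroup 2 (zpowers t) := by
    intro x
    obtain ⟨z, hz⟩ := mem_zpowers_iff.1 x.2
    refine ⟨1, Subtype.ext ?_⟩
    show (x : G) ^ (2 ^ 1) = 1
    rw [← hz, pow_one, pow_two, ← (Commute.refl t).mul_zpow z, tt C, one_zpow]
  obtain ⟨S, hS⟩ := h1.exists_le_sylow
  have htS : t ∈ (S : Subgroup G) := hS (mem_zpowers t)
  set D := (S : Subgroup G) ⊓ centralizer ({t} : Set G) with hD
  by_cases hDS : D = (S : Subgroup G)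
  · obtain ⟨g, hg1, hg2⟩ := EndOne.exists_conj C hev S htS
    refine ⟨g, hg2, ?_⟩
    have h2 : g * t * g⁻¹ ∈ D := by rw [hDS]; exact hg1
    exact mem_centralizer_singleton_iff.1 h2.2
  · have hlt : D < (S : Subgroup G) := lt_of_le_of_ne inf_le_left hDS
    obtain ⟨y, hy, hyD⟩ := SetLike.exists_of_lt (lt_inf_normalizer S.isPGroup' hlt)
    have htD : t ∈ D := ⟨htS, mem_centralizer_singleton_iff.2 rfl⟩
    have h2 : y * t * y⁻¹ ∈ D := (mem_normalizer_iff.1 hy.2 t).1 htD
    refine ⟨y, ?_, mem_centralizer_singleton_iff.1 h2.2⟩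
    intro h
    apply hyD
    rw [mul_inv_eq_iff_eq_mul] at h
    exact ⟨hy.1, mem_centralizer_singleton_iff.2 h⟩

/-- **The case of field automorphisms**, from the reduced configuration. -/
theorem field_case (C : Conf L A t) (B : Base A t T π) (h16 : 16 ≤ Nat.card F)
    (hw : ∃ w ∈ T, ∃ v ∈ VV π, w * v ≠ v * w) :
    (∀ x ∈ T, x ∈ centralizer (A : Set G) → x = 1 ∨ x = t) ∧
      FTD t (VV π) T (C0 B.P) ∧ ∃ d ∈ A, Tor t (VV π) d ∧ ∃ U, FOut t (VV π) T d U :=
  B.field_case h16 hw (exists_comm_conj C (even_L C B.P)) (gen C)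

end Cfsg.Agent.StdL2.FrameFT
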