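import Cfsg.Agent.Lib.PSL2Mult
import Cfsg.Agent.ClassicalGeometry.PSLTorus
import Cfsg.Agent.WeakTI.PslTwo
import Cfsg.Agent.Lib.SL2Mat
import Cfsg.Agent.Lib.AutSL2

/-!
# Perfect central extensions of `L₂(q)`, `q` even, with a centre containing at most one involution

`A` perfect, `A / Z(A) ≅ SL₂(F)`, `|F| = 2 ^ a`, `2 ≤ a`.  If `Z(A)` has at most one involution then
`Z(A) = 1`, or `a = 2`, `|Z(A)| = 2` and the 2-elements outside `Z(A)` have order 4.
-/

set_option autoImplicit false
set_option linter.unusedSectionVars false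
set_option linter.style.haveILetI false

namespace Cfsg.Agent.StdL2.Cover

open Subgroup Cfsg.Agent.Lib.SL2Mat
open scoped commutatorElement

section odd

variable {F : Type*} [Field F] [Fintype F]

/-- odd Sylow subgroups of `PSL(2,q)`, `q` even, are cyclic -/
theorem isCyclic_sylow_even [CharP F 2] {a : ℕ} (ha : 1 ≤ a) (hF : Fintype.card F = 2 ^ a) {p : ℕ}
    [Fact p.Prime] (hp2 : p ≠ 2) (P : Sylow p (Matrix.ProjectiveSpecialLinearGroup (Fin 2) F)) :
    IsCyclic P := by
  have hpp : p.Prime := Fact.out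
  have heven : Even (Fintype.card F) := by
    rw [hF]; exact (even_two).pow_of_ne_zero (by omega)
  have hcard := Cfsg.Agent.SmallSimple.PSLTwoPart.card_psl_two_even heven
  have hq1 : 1 < Fintype.card F := Fintype.one_lt_card
  have hpq : ¬ p ∣ Fintype.card F := by
    intro h
    rw [hF] at h
    exact hp2 ((Nat.prime_dvd_prime_iff_eq hpp Nat.prime_two).1 (hpp.dvd_of_dvd_pow h))
  have hg : Nat.gcd 2 (Fintype.card F - 1) = 1 := by
    have : ¬ 2 ∣ Fintype.card F - 1 := by
      intro h2
      have := heven.two_dvd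
      omega
    exact (Nat.Prime.coprime_iff_not_dvd Nat.prime_two).2 this
  have hsq : Fintype.card F ^ 2 - 1 = (Fintype.card F + 1) * (Fintype.card F - 1) := by
    have := Nat.sq_sub_sq (Fintype.card F) 1
    rw [one_pow] at this
    exact this
  by_cases h1 : p ∣ Fintype.card F + 1
  · obtain ⟨C, H, -, -, hC, hCc, -, -⟩ := ClassicalGeometry.PSLTorus.exists_psl_torus F
    rw [hg, Nat.div_one] at hCc
    refine Cfsg.Agent.Lib.PSL2Mult.isCyclic_sylow C ?_ P
    intro hdvd
    have h3 := C.card_mul_index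
    have h4 : C.index = Fintype.card F * (Fintype.card F - 1) := by
      have h5 : (Fintype.card F + 1) * C.index =
          (Fintype.card F + 1) * (Fintype.card F * (Fintype.card F - 1)) := by
        rw [← hCc, h3, hcard, hsq, hCc]; ring
      exact Nat.eq_of_mul_eq_mul_left (by omega) h5
    rw [h4] at hdvd
    rcases hpp.dvd_mul.1 hdvd with h5 | h5
    · exact hpq h5
    · have h6 : p ∣ 2 := by
        have h7 : p ∣ (Fintype.card F + 1) - (Fintype.card F - 1) := Nat.dvd_sub h1 h5
        have h8 : (Fintype.card F + 1) - (Fintype.card F - 1) = 2 := by omega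
        rwa [h8] at h7
      exact hp2 ((Nat.prime_dvd_prime_iff_eq hpp Nat.prime_two).1 h6)
  · let D : Fˣ →* Matrix.SpecialLinearGroup (Fin 2) F :=
      { toFun := fun c => dg (c : F) c.ne_zero
        map_one' := by refine ext_ent ?_ ?_ ?_ ?_ <;> simp
        map_mul' := fun x y => by
          refine ext_ent ?_ ?_ ?_ ?_ <;> simp [ent_mul, mul_comm] }
    have hD : Function.Injective D := by
      intro x y h
      have h0 : ent (dg (x : F) x.ne_zero) 0 0 = ent (dg (y : F) y.ne_zero) 0 0 :=
        congrArg (fun z => ent z 0 0) h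
      rw [dg_00, dg_00] at h0
      exact Units.ext h0
    obtain ⟨f⟩ := WeakTI.PslTwo.nonempty_equiv (F := F)
    let D' : Fˣ →* Matrix.ProjectiveSpecialLinearGroup (Fin 2) F := f.toMonoidHom.comp D
    have hD' : Function.Injective D' := f.injective.comp hD
    have hcy : IsCyclic D'.range :=
      isCyclic_of_surjective D'.rangeRestrict D'.rangeRestrict_surjective
    have hcr : Nat.card D'.range = Fintype.card F - 1 := by
      rw [← Nat.card_congr (MonoidHom.ofInjective hD').toEquiv, Nat.card_units,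
        Nat.card_eq_fintype_card]
    refine Cfsg.Agent.Lib.PSL2Mult.isCyclic_sylow D'.range ?_ P
    intro hdvd
    have h3 := D'.range.card_mul_index
    have h4 : D'.range.index = Fintype.card F * (Fintype.card F + 1) := by
      have h5 : (Fintype.card F - 1) * D'.range.index =
          (Fintype.card F - 1) * (Fintype.card F * (Fintype.card F + 1)) := by
        rw [← hcr, h3, hcard, hsq, hcr]; ring
      exact Nat.eq_of_mul_eq_mul_left (by omega) h5
    rw [h4] at hdvd
    rcases hpp.dvd_mul.1 hdvd with h5 | h5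
    · exact hpq h5
    · exact h1 h5

end odd

/-- transfer: a central 2-element in the commutator subgroup lies in `⁅P, P⁆`. -/
theorem mem_commutator_of_central {G : Type*} [Group G] [Finite G] (P : Subgroup G)
    (hodd : Odd P.index) (z : G) (hz : z ∈ P) (hc : ∀ g : G, z * g = g * z) {n : ℕ}
    (hz2 : z ^ 2 ^ n = 1) (hcom : z ∈ commutator G) : (⟨z, hz⟩ : P) ∈ commutator P := by
  let V : G →* Abelianization P := MonoidHom.transfer (Abelianization.of)
  have h1 : V z = 1 := by
    have : commutator G ≤ V.ker := Abelianization.commutator_subset_ker V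
    exact this hcom
  have h2 : V z = Abelianization.of ⟨z ^ P.index, Subgroup.pow_mem _ hz _⟩ := by
    have key : ∀ (k : ℕ) (g₀ : G), g₀⁻¹ * z ^ k * g₀ ∈ P → g₀⁻¹ * z ^ k * g₀ = z ^ k := by
      intro k g₀ _
      have : Commute (z ^ k) g₀ := (Commute.pow_left (hc g₀) k)
      rw [mul_assoc, this.eq, inv_mul_cancel_left]
    exact MonoidHom.transfer_eq_pow _ z key
  rw [h1] at h2
  have h4 : (⟨z, hz⟩ : P) ^ P.index ∈ commutator P := by
    rw [← Abelianization.ker_of, MonoidHom.mem_ker]
    have : (⟨z, hz⟩ : P) ^ P.index = ⟨z ^ P.index, Subgroup.pow_mem _ hz _⟩ := Subtype.ext rfl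
    rw [this]; exact h2.symm
  have hcop : Nat.Coprime (Nat.card (zpowers (⟨z, hz⟩ : P))) P.index := by
    rw [Nat.card_zpowers]
    have h5 : orderOf (⟨z, hz⟩ : P) ∣ 2 ^ n :=
      orderOf_dvd_of_pow_eq_one (Subtype.ext (by simpa using hz2))
    exact Nat.Coprime.coprime_dvd_left h5 (Nat.Coprime.pow_left n (Nat.coprime_two_left.mpr hodd))
  obtain ⟨⟨y, hy⟩, hyz⟩ := (powCoprime hcop).surjective ⟨⟨z, hz⟩, mem_zpowers _⟩
  have h6 : y ^ P.index = (⟨z, hz⟩ : P) := congrArg Subtype.val hyz
  obtain ⟨k, hk⟩ := mem_zpowers_iff.mp hy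
  rw [← h6, ← hk, ← zpow_natCast, ← zpow_mul, mul_comm, zpow_mul, zpow_natCast]
  exact zpow_mem h4 k

section two

variable {A : Type*} [Group A] {x y w : A}

theorem comm_mul_right (h : ⁅x, w⁆ ∈ center A) : ⁅x, y * w⁆ = ⁅x, y⁆ * ⁅x, w⁆ := by
  have h1 := mem_center_iff.mp h y
  calc ⁅x, y * w⁆ = ⁅x, y⁆ * (y * ⁅x, w⁆ * y⁻¹) := by simp only [commutatorElement_def]; group
    _ = _ := by rw [h1, mul_inv_cancel_right]

theorem mul_mul_self (h : ⁅y, x⁆ ∈ center A) : (x * y) * (x * y) = ⁅y, x⁆ * (x * x) * (y * y) := by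
  have h1 := mem_center_iff.mp h x
  calc (x * y) * (x * y) = x * ⁅y, x⁆ * x * (y * y) := by simp only [commutatorElement_def]; group
    _ = _ := by rw [h1, mul_assoc ⁅y, x⁆]

/-- the square of a commutator. -/
theorem comm_mul_self (h : ⁅x, y⁆ ∈ center A) (hy : y * y ∈ center A) : ⁅x, y⁆ * ⁅x, y⁆ = 1 := by
  rw [← comm_mul_right h, commutatorElement_eq_one_iff_mul_comm]
  exact mem_center_iff.mp hy x

variable [Finite A] {F : Type*} [Field F] [Fintype F] [CharP F 2]

theorem card_upG : Nat.card (Lib.AutSL2.upG F) = Fintype.card F := by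
  have h : Function.Bijective (fun b : F => (⟨up b, Lib.AutSL2.up_mem b⟩ : Lib.AutSL2.upG F)) := by
    constructor
    · intro b c hbc
      exact up_inj (congrArg Subtype.val hbc)
    · rintro ⟨x, b, rfl⟩
      exact ⟨b, rfl⟩
  rw [← Nat.card_congr (Equiv.ofBijective _ h), Nat.card_eq_fintype_card]

theorem odd_index_upG {a : ℕ} (ha : 1 ≤ a) (hF : Fintype.card F = 2 ^ a) :
    Odd (Lib.AutSL2.upG F).index := by
  have heven : Even (Fintype.card F) := by
    rw [hF]; exact (even_two).pow_of_ne_zero (by omega)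
  obtain ⟨f⟩ := WeakTI.PslTwo.nonempty_equiv (F := F)
  have hcard := Cfsg.Agent.SmallSimple.PSLTwoPart.card_psl_two_even heven
  rw [← Nat.card_congr f.toEquiv] at hcard
  have h3 := (Lib.AutSL2.upG F).card_mul_index
  rw [card_upG, hcard] at h3
  have h4 := Nat.eq_of_mul_eq_mul_left Fintype.card_pos h3
  rw [h4]
  have h5 : Even (Fintype.card F ^ 2) := heven.pow_of_ne_zero (by norm_num)
  have h6 : 0 < Fintype.card F ^ 2 := pow_pos Fintype.card_pos 2
  exact Nat.Even.sub_odd (by omega) h5 odd_one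

/-- **Centres of perfect central extensions of `L₂(2^a)`.** -/
theorem main (hp : commutator A = ⊤) {a : ℕ} (ha : 2 ≤ a) (hF : Fintype.card F = 2 ^ a)
    (f : A →* Matrix.SpecialLinearGroup (Fin 2) F) (hf : Function.Surjective f)
    (hk : f.ker = center A)
    (hu : ∀ x ∈ center A, ∀ y ∈ center A, x * x = 1 → y * y = 1 → x ≠ 1 → y ≠ 1 → x = y) :
    center A = ⊥ ∨ (a = 2 ∧ ∃ z : A, z ≠ 1 ∧ z * z = 1 ∧ (∀ x, x ∈ center A ↔ x = 1 ∨ x = z) ∧
      ∀ x, f x ≠ 1 → f x * f x = 1 → x * x = z) := by
  classical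
  have h2F : (2 : F) = 0 := CharTwo.two_eq_zero
  -- the centre is a 2-group
  have htwo : ∀ z ∈ center A, ∃ n : ℕ, z ^ 2 ^ n = 1 := by
    have hc : ∃ n, Nat.card (center A) = 2 ^ n := by
      rcases Nat.eq_two_pow_or_exists_odd_prime_and_dvd (Nat.card (center A)) with h | ⟨p, hpp, hpd, hpo⟩
      · exact h
      · exfalso
        have : Fact p.Prime := ⟨hpp⟩
        obtain ⟨g⟩ := WeakTI.PslTwo.nonempty_equiv (F := F)
        let f' : A →* Matrix.ProjectiveSpecialLinearGroup (Fin 2) F := g.toMonoidHom.comp f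
        have hf' : Function.Surjective f' := g.surjective.comp hf
        have hk' : f'.ker = center A := by
          rw [← hk]
          ext x
          simp only [MonoidHom.mem_ker]
          constructor
          · intro h
            exact g.injective (by rw [map_one]; exact h)
          · intro h
            show g (f x) = 1
            rw [h, map_one]
        have hpG : commutator (Matrix.ProjectiveSpecialLinearGroup (Fin 2) F) = ⊤ := by
          rw [eq_top_iff, _root_.commutator_def]
          intro x _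
          obtain ⟨y, rfl⟩ := hf' x
          have hy : y ∈ commutator A := by rw [hp]; trivial
          have h1 : (commutator A).map f' ≤
              ⁅(⊤ : Subgroup (Matrix.ProjectiveSpecialLinearGroup (Fin 2) F)), ⊤⁆ := by
            rw [_root_.commutator_def, map_commutator]
            exact commutator_mono le_top le_top
          exact h1 ⟨y, hy, rfl⟩
        have h3 := Cfsg.Agent.S0102.result hpG (p := p)
          (fun P => isCyclic_sylow_even (by omega) hF (by rintro rfl; exact absurd hpo (by decide)) P)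
          f' hf' hk'.le hp
        rw [hk'] at h3
        exact h3 hpd
    obtain ⟨n, hn⟩ := hc
    intro z hz
    refine ⟨n, ?_⟩
    have h1 : (⟨z, hz⟩ : center A) ^ Nat.card (center A) = 1 := pow_card_eq_one'
    rw [hn] at h1
    exact congrArg Subtype.val h1
  by_cases hZ : center A = ⊥
  · exact Or.inl hZ
  right
  -- preimage of the root group
  obtain ⟨P, hP⟩ : ∃ P : Subgroup A, P = (Lib.AutSL2.upG F).comap f := ⟨_, rfl⟩
  have hPodd : Odd P.index := by
    rw [hP, index_comap_of_surjective _ hf]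
    exact odd_index_upG (by omega) hF
  have hPm : ∀ x, x ∈ P ↔ ∃ b, up b = f x := by
    intro x; rw [hP, mem_comap]; exact Lib.AutSL2.mem_upG
  have hup2 : ∀ b : F, up b * up b = 1 := by
    intro b; rw [up_mul, CharTwo.add_self_eq_zero, up_zero]
  have hsqc : ∀ x, f x * f x = 1 → x * x ∈ center A := by
    intro x hx
    rw [← hk, MonoidHom.mem_ker, map_mul, hx]
  have hcomc : ∀ x y, f x * f y = f y * f x → ⁅x, y⁆ ∈ center A := by
    intro x y hxy
    rw [← hk, MonoidHom.mem_ker, map_commutatorElement, commutatorElement_eq_one_iff_mul_comm, hxy]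
  have hPcomm : ∀ x ∈ P, ∀ y ∈ P, f x * f y = f y * f x := by
    intro x hx y hy
    obtain ⟨b, hb⟩ := (hPm x).mp hx
    obtain ⟨c, hc⟩ := (hPm y).mp hy
    rw [← hb, ← hc, up_mul, up_mul, add_comm]
  have hPsq : ∀ x ∈ P, f x * f x = 1 := by
    intro x hx
    obtain ⟨b, hb⟩ := (hPm x).mp hx
    rw [← hb, hup2]
  -- the centre is elementary
  have hZ2 : ∀ z ∈ center A, z * z = 1 := by
    intro z hz
    obtain ⟨n, hn⟩ := htwo z hz
    have hzP : z ∈ P := by
      rw [hPm]
      refine ⟨0, ?_⟩
      rw [← hk, MonoidHom.mem_ker] at hz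
      rw [hz, up_zero]
    have h1 := mem_commutator_of_central P hPodd z hzP (fun g => (mem_center_iff.mp hz g).symm) hn
      (by rw [hp]; trivial)
    let K : Subgroup P :=
      { carrier := {c | (c : A) ∈ center A ∧ (c : A) * c = 1}
        mul_mem' := by
          rintro c d ⟨hc, hc1⟩ ⟨hd, hd1⟩
          refine ⟨mul_mem hc hd, ?_⟩
          have := mem_center_iff.mp hc (d : A)
          calc ((c * d : P) : A) * ((c * d : P) : A) = c * ((d : A) * c) * d := by
                rw [coe_mul]; group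
            _ = ((c : A) * c) * ((d : A) * d) := by rw [this]; group
            _ = 1 := by rw [hc1, hd1, one_mul]
        one_mem' := ⟨one_mem _, by simp⟩
        inv_mem' := by
          rintro c ⟨hc, hc1⟩
          refine ⟨inv_mem hc, ?_⟩
          rw [coe_inv, ← mul_inv_rev, hc1, inv_one] }
    have h2 : commutator P ≤ K := by
      rw [_root_.commutator_def, Subgroup.commutator_le]
      rintro ⟨x, hx⟩ - ⟨y, hy⟩ -
      have h3 := hcomc x y (hPcomm x hx y hy)
      exact ⟨h3, comm_mul_self h3 (hsqc y (hPsq y hy))⟩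
    exact (h2 h1).2
  -- the involution
  obtain ⟨z, hz, hz1⟩ : ∃ z ∈ center A, z ≠ 1 := by
    by_contra hne
    push Not at hne
    exact hZ ((eq_bot_iff_forall _).mpr hne)
  have hZz : ∀ x, x ∈ center A ↔ x = 1 ∨ x = z := by
    intro x
    constructor
    · intro hx
      by_cases hx1 : x = 1
      · exact Or.inl hx1
      · exact Or.inr (hu x hx z hz (hZ2 x hx) (hZ2 z hz) hx1 hz1)
    · rintro (rfl | rfl)
      · exact one_mem _
      · exact hz
  -- squares are constant
  have hconj : ∀ x y, f x ≠ 1 → f x * f x = 1 → f y ≠ 1 → f y * f y = 1 → y * y = x * x := by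
    intro x y hx hx1 hy hy1
    obtain ⟨g0, hg0⟩ := WeakTI.PslTwo.exists_conj_up hx1 hx
    obtain ⟨g1, hg1⟩ := WeakTI.PslTwo.exists_conj_up hy1 hy
    obtain ⟨k, hkk⟩ := hf (g1 * g0⁻¹)
    have h1 : f (k * x * k⁻¹) = f y := by
      rw [map_mul, map_mul, map_inv, hkk]
      have e1 : f x = g0 * up 1 * g0⁻¹ := by rw [← hg0]; group
      have e2 : f y = g1 * up 1 * g1⁻¹ := by rw [← hg1]; group
      rw [e1, e2]; group
    have h2 : (k * x * k⁻¹)⁻¹ * y ∈ center A := by
      rw [← hk, MonoidHom.mem_ker, map_mul, map_inv, h1, inv_mul_cancel]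
    obtain ⟨c, hc⟩ : ∃ c, c = (k * x * k⁻¹)⁻¹ * y := ⟨_, rfl⟩
    rw [← hc] at h2
    have h3 : y = (k * x * k⁻¹) * c := by rw [hc]; group
    have h4 := mem_center_iff.mp h2 (k * x * k⁻¹)
    have h5 := mem_center_iff.mp (hsqc x hx1) k
    calc y * y = (k * x * k⁻¹) * (c * (k * x * k⁻¹)) * c := by rw [h3]; group
      _ = (k * (x * x)) * k⁻¹ * (c * c) := by rw [← h4]; group
      _ = x * x := by rw [h5, hZ2 c h2]; group
  have hxx : ∀ x, f x ≠ 1 → f x * f x = 1 → x * x = z := by
    intro x hx hx1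
    by_contra hne
    have h1 : x * x = 1 := by
      rcases (hZz _).mp (hsqc x hx1) with h | h
      · exact h
      · exact absurd h hne
    have hall : ∀ y ∈ P, y * y = 1 := by
      intro y hy
      by_cases hy1 : f y = 1
      · exact hZ2 y (by rw [← hk]; exact hy1)
      · rw [hconj x y hx hx1 hy1 (hPsq y hy), h1]
    have hzP : z ∈ P := by
      rw [hPm]
      refine ⟨0, ?_⟩
      have := hz
      rw [← hk, MonoidHom.mem_ker] at this
      rw [this, up_zero]
    have h2 := mem_commutator_of_central P hPodd z hzP (fun g => (mem_center_iff.mp hz g).symm)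
      (n := 1) (by rw [pow_one, pow_two]; exact hZ2 z hz) (by rw [hp]; trivial)
    have h3 : commutator P = ⊥ := by
      rw [eq_bot_iff, _root_.commutator_def, Subgroup.commutator_le]
      rintro ⟨u, hu'⟩ - ⟨v, hv⟩ -
      rw [mem_bot, commutatorElement_eq_one_iff_mul_comm]
      apply Subtype.ext
      show u * v = v * u
      have e1 := hall u hu'
      have e2 := hall v hv
      have e3 := hall (u * v) (mul_mem hu' hv)
      calc u * v = u * (u * v * (u * v)) * v := by rw [e3]; group
        _ = (u * u) * v * u * (v * v) := by group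
        _ = v * u := by rw [e1, e2]; group
    rw [h3, mem_bot] at h2
    exact hz1 (congrArg Subtype.val h2)
  refine ⟨?_, z, hz1, hZ2 z hz, hZz, hxx⟩
  -- `a = 2`
  by_contra ha2
  have ha3 : 3 ≤ a := by omega
  have hcomm : ∀ b c : F, b ≠ 0 → c ≠ 0 → b + c ≠ 0 → ∀ x y, f x = up b → f y = up c → ⁅y, x⁆ = z := by
    intro b c hb hc hbc x y hx hy
    have hne : ∀ d : F, d ≠ 0 → up d ≠ 1 := by
      intro d hd h
      rw [← up_zero] at h
      exact hd (up_inj h)
    have e1 : x * x = z := hxx x (by rw [hx]; exact hne b hb) (by rw [hx]; exact hup2 b)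
    have e2 : y * y = z := hxx y (by rw [hy]; exact hne c hc) (by rw [hy]; exact hup2 c)
    have e3 : x * y * (x * y) = z := by
      apply hxx
      · rw [map_mul, hx, hy, up_mul]; exact hne _ hbc
      · rw [map_mul, hx, hy, up_mul]; exact hup2 _
    have e4 : ⁅y, x⁆ ∈ center A := hcomc y x (by rw [hx, hy, up_mul, up_mul, add_comm])
    rw [mul_mul_self e4, e1, e2, mul_assoc, hZ2 z hz, mul_one] at e3
    exact e3
  -- three independent elements
  obtain ⟨α, hα⟩ : ∃ α : F, α ∉ ({0, 1} : Finset F) := by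
    by_contra hne
    push Not at hne
    have h1 : Finset.univ ⊆ ({0, 1} : Finset F) := fun x _ => hne x
    have h2 := Finset.card_le_card h1
    have h3 : ({0, 1} : Finset F).card ≤ 2 := Finset.card_le_two
    rw [Finset.card_univ, hF] at h2
    have h4 : 2 ^ 3 ≤ 2 ^ a := Nat.pow_le_pow_right (by norm_num) ha3
    omega
  obtain ⟨β, hβ⟩ : ∃ β : F, β ∉ ({0, 1, α, 1 + α} : Finset F) := by
    by_contra hne
    push Not at hne
    have h1 : Finset.univ ⊆ ({0, 1, α, 1 + α} : Finset F) := fun x _ => hne x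
    have h2 := Finset.card_le_card h1
    have h3 : ({0, 1, α, 1 + α} : Finset F).card ≤ 4 := Finset.card_le_four
    rw [Finset.card_univ, hF] at h2
    have h4 : 2 ^ 3 ≤ 2 ^ a := Nat.pow_le_pow_right (by norm_num) ha3
    omega
  simp only [Finset.mem_insert, Finset.mem_singleton, not_or] at hα hβ
  obtain ⟨x, hx⟩ := hf (up 1)
  obtain ⟨y, hy⟩ := hf (up α)
  obtain ⟨w, hw⟩ := hf (up β)
  have hadd : ∀ b c : F, b + c = 0 → b = c := by
    intro b c h
    linear_combination h - c * h2F
  have e1 : ⁅x, y⁆ = z := hcomm α 1 hα.1 one_ne_zero (fun h => hα.2 (hadd _ _ h)) y x hy hx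
  have e2 : ⁅x, w⁆ = z := hcomm β 1 hβ.1 one_ne_zero (fun h => hβ.2.1 (hadd _ _ h)) w x hw hx
  have e3 : ⁅x, y * w⁆ = z := by
    apply hcomm (α + β) 1 _ one_ne_zero _ (y * w) x (by rw [map_mul, hy, hw, up_mul]) hx
    · intro h; exact hβ.2.2.1 (hadd _ _ h).symm
    · intro h
      apply hβ.2.2.2
      linear_combination h - (1 + α) * h2F
  have e4 : ⁅x, w⁆ ∈ center A := by rw [e2]; exact hz
  rw [comm_mul_right e4, e1, e2] at e3
  exact hz1 (mul_eq_left.mp e3)

end two

end Cfsg.Agent.StdL2.Cover
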