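import Cfsg.Agent.StdL2.Setup
import Cfsg.Agent.StdL2.Cover
import Cfsg.Agent.Lib.AutSL2

/-!
# S1773: coordinates on `A`

`IsPar A π`: `π : SL₂(F) →* G` is injective with range `A`.  For a reduced configuration `Conf L A t` with
`A / Z(A) ≅ L₂(F)`, `|F| = 2 ^ a`, either `A` is parametrised in this way or `a = 2` and `A` is a double
cover with quaternion Sylow 2-subgroups (`par_or_double`).

`exists_semilinear`: the action of `N_G(A)` on `A`.
-/

set_option autoImplicit false
set_option linter.unusedSectionVars false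
set_option linter.style.haveILetI false

namespace Cfsg.Agent.StdL2.Frame

open Cfsg Subgroup Cfsg.Agent.StdL2.Setup Cfsg.Agent.Lib.SL2Mat

universe u

section general

theorem eq_of_isCyclic {C : Type*} [Group C] [Finite C] [IsCyclic C] {x y : C} (hx : x * x = 1)
    (hx1 : x ≠ 1) (hy : y * y = 1) (hy1 : y ≠ 1) : x = y := by
  classical
  have : Fintype C := Fintype.ofFinite C
  by_contra hne
  have hc := IsCyclic.card_pow_eq_one_le (α := C) (n := 2) (by norm_num)
  have hsub : ({1, x, y} : Finset C) ⊆ Finset.univ.filter (fun a => a ^ 2 = 1) := by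
    intro a ha
    simp only [Finset.mem_insert, Finset.mem_singleton] at ha
    simp only [Finset.mem_filter, Finset.mem_univ, true_and, pow_two]
    rcases ha with rfl | rfl | rfl
    · simp
    · exact hx
    · exact hy
  have h3 : ({1, x, y} : Finset C).card = 3 := by
    rw [Finset.card_insert_of_notMem, Finset.card_insert_of_notMem, Finset.card_singleton]
    · simpa using hne
    · simp only [Finset.mem_insert, Finset.mem_singleton, not_or]
      exact ⟨fun h => hx1 h.symm, fun h => hy1 h.symm⟩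
  have := Finset.card_le_card hsub
  omega

/-- commuting involutions of a group with cyclic Sylow 2-subgroups coincide. -/
theorem eq_of_cyclic_sylow {K : Type*} [Group K] [Finite K]
    (hR : ∀ R : Sylow 2 K, IsCyclic ↥(R : Subgroup K)) {x y : K} (hxy : x * y = y * x)
    (hx : x * x = 1) (hx1 : x ≠ 1) (hy : y * y = 1) (hy1 : y ≠ 1) : x = y := by
  have hcomm : ∀ a ∈ ({x, y} : Set K), ∀ b ∈ ({x, y} : Set K), a * b = b * a := by
    rintro a (rfl | rfl) b (rfl | rfl)
    · rfl
    · exact hxy
    · exact hxy.symm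
    · rfl
  have hc := Subgroup.isMulCommutative_closure hcomm
  have hWc : ∀ a ∈ closure ({x, y} : Set K), ∀ b ∈ closure ({x, y} : Set K), a * b = b * a := by
    intro a ha b hb
    exact congrArg Subtype.val (hc.is_comm.comm ⟨a, ha⟩ ⟨b, hb⟩)
  have hW2 : ∀ a ∈ closure ({x, y} : Set K), a * a = 1 := by
    intro a ha
    induction ha using Subgroup.closure_induction with
    | mem a ha =>
      rcases ha with rfl | rfl
      · exact hx
      · exact hy
    | one => simp
    | mul a b ha hb iha ihb =>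
      have := hWc b hb a ha
      calc a * b * (a * b) = a * (b * a) * b := by group
        _ = (a * a) * (b * b) := by rw [this]; group
        _ = 1 := by rw [iha, ihb, one_mul]
    | inv a ha iha => rw [← mul_inv_rev, iha, inv_one]
  have hWp : IsPGroup 2 (closure ({x, y} : Set K)) := by
    rintro ⟨a, ha⟩
    exact ⟨1, Subtype.ext (by simpa [pow_two] using hW2 a ha)⟩
  obtain ⟨S, hS⟩ := hWp.exists_le_sylow
  have hSc := hR S
  have hxS : x ∈ (S : Subgroup K) := hS (subset_closure (by simp))
  have hyS : y ∈ (S : Subgroup K) := hS (subset_closure (by simp))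
  have h := eq_of_isCyclic (x := (⟨x, hxS⟩ : (S : Subgroup K))) (y := ⟨y, hyS⟩)
    (Subtype.ext hx) (fun h => hx1 (congrArg Subtype.val h)) (Subtype.ext hy)
    (fun h => hy1 (congrArg Subtype.val h))
  exact congrArg Subtype.val h

end general

variable {G : Type u} [Group G] {A L : Subgroup G} {t : G}

section par

variable {F : Type*} [Field F]

/-- `π` identifies `SL₂(F)` with `A` -/
structure IsPar (A : Subgroup G) (π : Matrix.SpecialLinearGroup (Fin 2) F →* G) : Prop where
  inj : Function.Injective π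
  range : π.range = A

/-- every element of `GL(2,F)` acts as an element of `SL(2,F)`, `F` finite of characteristic two -/
theorem exists_conj_eq [Finite F] [CharP F 2] (g : GL (Fin 2) F) :
    ∃ y : Matrix.SpecialLinearGroup (Fin 2) F, ∀ x, conjGL g x = y * x * y⁻¹ := by
  obtain ⟨c, hc⟩ := FiniteField.isSquare_of_char_two (ringChar.eq F 2 ▸ rfl : ringChar F = 2)
    (g.1.det)
  have hdet : g.1.det ≠ 0 := by
    have := Matrix.GeneralLinearGroup.det g
    exact (Matrix.isUnit_iff_isUnit_det g.1).mp g.isUnit |>.ne_zero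
  have hc0 : c ≠ 0 := by
    rintro rfl
    rw [mul_zero] at hc
    exact hdet hc
  have h1 : (c⁻¹ • g.1).det = 1 := by
    rw [Matrix.det_smul, Fintype.card_fin, hc]
    field_simp
  obtain ⟨y, hy⟩ : ∃ y : Matrix.SpecialLinearGroup (Fin 2) F, y.1 = c⁻¹ • g.1 :=
    ⟨⟨c⁻¹ • g.1, h1⟩, rfl⟩
  refine ⟨y, fun x => ?_⟩
  rw [eq_mul_inv_iff_mul_eq]
  apply Subtype.ext
  show (conjGL g x).1 * y.1 = y.1 * x.1
  rw [conjGL_val, hy, Matrix.mul_smul, Matrix.smul_mul, Matrix.mul_assoc (g.1 * x.1),
    inv_val_mul_val, Matrix.mul_one]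

variable {π : Matrix.SpecialLinearGroup (Fin 2) F →* G}

theorem IsPar.mem (P : IsPar A π) (x : Matrix.SpecialLinearGroup (Fin 2) F) : π x ∈ A := by
  rw [← P.range]; exact ⟨x, rfl⟩

theorem IsPar.exists_eq (P : IsPar A π) {x : G} (hx : x ∈ A) : ∃ y, π y = x := by
  rw [← P.range] at hx; exact hx

/-- The action of `N_G(A)` on `A`. -/
theorem exists_semilinear [Finite F] [CharP F 2] (P : IsPar A π) {g : G}
    (hg : g ∈ normalizer (A : Set G)) :
    ∃ (y : Matrix.SpecialLinearGroup (Fin 2) F) (σ : F ≃+* F),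
      ∀ x, g * π x * g⁻¹ = π (y * fieldAut σ x * y⁻¹) := by
  let f : Matrix.SpecialLinearGroup (Fin 2) F →* ↥A :=
    { toFun := fun x => ⟨π x, P.mem x⟩
      map_one' := Subtype.ext (map_one π)
      map_mul' := fun x y => Subtype.ext (map_mul π x y) }
  have hfs : Function.Surjective f := by
    rintro ⟨x, hx⟩
    obtain ⟨y, hy⟩ := P.exists_eq hx
    exact ⟨y, Subtype.ext hy⟩
  have hfk : f.ker ≤ center _ := by
    intro x hx
    have h1 : π x = 1 := congrArg Subtype.val (MonoidHom.mem_ker.mp hx)
    have h2 : x = 1 := P.inj (by rw [h1, map_one])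
    rw [h2]; exact one_mem _
  let α : MulAut ↥A :=
    { toFun := fun x => ⟨g * x * g⁻¹, (mem_normalizer_iff.mp hg x).mp x.2⟩
      invFun := fun x => ⟨g⁻¹ * x * g, by
        have := (mem_normalizer_iff.mp hg (g⁻¹ * x * g)).mpr (by
          have e : g * (g⁻¹ * (x : G) * g) * g⁻¹ = x := by group
          rw [e]; exact x.2)
        exact this⟩
      left_inv := fun x => Subtype.ext (by
        show g⁻¹ * (g * x * g⁻¹) * g = x
        group)
      right_inv := fun x => Subtype.ext (by
        show g * (g⁻¹ * x * g) * g⁻¹ = x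
        group)
      map_mul' := fun x y => Subtype.ext (by
        show g * (x * y) * g⁻¹ = (g * x * g⁻¹) * (g * y * g⁻¹)
        group) }
  obtain ⟨gl, σ, h⟩ := Lib.AutSL2.exists_gl_ringEquiv f hfs hfk α
  obtain ⟨y, hy⟩ := exists_conj_eq gl
  refine ⟨y, σ, fun x => ?_⟩
  have h1 := congrArg Subtype.val (h x)
  rw [hy] at h1
  exact h1

end par

section conf

variable [Finite G]

theorem tt (C : Conf L A t) : t * t = 1 := by
  rw [← pow_two, ← C.ht, pow_orderOf_eq_one]

theorem t_ne_one (C : Conf L A t) : t ≠ 1 := by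
  intro h
  have := C.ht
  rw [h, orderOf_one] at this
  omega

/-- `t` is the only involution of `C_G(A)` commuting with `t`. -/
theorem involution_eq (C : Conf L A t) {z : G} (hz : z ∈ centralizer (A : Set G))
    (hzt : z * t = t * z) (hz2 : z * z = 1) (hz1 : z ≠ 1) : z = t := by
  have h := eq_of_cyclic_sylow C.cyc (x := (⟨z, hz⟩ : centralizer (A : Set G)))
    (y := ⟨t, C.htA⟩) (Subtype.ext hzt) (Subtype.ext hz2) (fun h => hz1 (congrArg Subtype.val h))
    (Subtype.ext (tt C)) (fun h => t_ne_one C (congrArg Subtype.val h))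
  exact congrArg Subtype.val h

theorem perfect (C : Conf L A t) : commutator ↥A = ⊤ := C.std.1.1.commutator_eq_top

/-- `C_G(t) ≤ N_G(A)` -/
theorem cent_le (C : Conf L A t) : centralizer ({t} : Set G) ≤ normalizer (A : Set G) :=
  Cfsg.Agent.SignalizersComponents.StandardTrichotomy.centralizer_involution_le C.std C.ht C.htA

variable {F : Type*} [Field F] [Fintype F]

/-- **The two possibilities for `A`.** -/
theorem par_or_double (C : Conf L A t) {a : ℕ} (ha : 2 ≤ a) (hF : Fintype.card F = 2 ^ a)
    (he : Nonempty (↥A ⧸ Subgroup.center ↥A ≃* Matrix.ProjectiveSpecialLinearGroup (Fin 2) F)) :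
    (∃ π : Matrix.SpecialLinearGroup (Fin 2) F →* G, IsPar A π) ∨
      (a = 2 ∧ t ∈ A ∧ ∃ f : ↥A →* Matrix.SpecialLinearGroup (Fin 2) F,
        Function.Surjective f ∧ f.ker = center ↥A ∧
        (∀ x : ↥A, x ∈ center ↥A ↔ x = 1 ∨ (x : G) = t) ∧
        ∀ x : ↥A, f x ≠ 1 → f x * f x = 1 → (x : G) * x = t) := by
  obtain ⟨e⟩ := he
  have hch : CharP F 2 := by
    obtain ⟨p, hp⟩ := CharP.exists F
    have := hp
    obtain ⟨k, hpp, hk⟩ := FiniteField.card F p
    have h5 : 2 ∣ p ^ (k : ℕ) := by
      rw [← hk, hF]; exact dvd_pow_self 2 (by omega)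
    have h6 : 2 ∣ p := Nat.Prime.dvd_of_dvd_pow Nat.prime_two h5
    have h7 : 2 = p := (Nat.prime_dvd_prime_iff_eq Nat.prime_two hpp).mp h6
    exact h7 ▸ hp
  obtain ⟨g⟩ := WeakTI.PslTwo.nonempty_equiv (F := F)
  obtain ⟨f, hfs, hfk⟩ : ∃ f : ↥A →* Matrix.SpecialLinearGroup (Fin 2) F,
      Function.Surjective f ∧ f.ker = center ↥A := by
    refine ⟨(g.symm.toMonoidHom.comp e.toMonoidHom).comp (QuotientGroup.mk' (center ↥A)), ?_, ?_⟩
    · exact (g.symm.surjective.comp e.surjective).comp (QuotientGroup.mk'_surjective _)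
    · ext x
      rw [MonoidHom.mem_ker]
      constructor
      · intro h
        have h1 : QuotientGroup.mk' (center ↥A) x = 1 :=
          e.injective (g.symm.injective (by rw [map_one, map_one]; exact h))
        rwa [← MonoidHom.mem_ker, QuotientGroup.ker_mk'] at h1
      · intro h
        rw [← QuotientGroup.ker_mk' (center ↥A), MonoidHom.mem_ker] at h
        show g.symm (e (QuotientGroup.mk' (center ↥A) x)) = 1
        rw [h, map_one, map_one]
  have hzt : ∀ x ∈ center ↥A, x * x = 1 → x ≠ 1 → (x : G) = t := by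
    intro x hx hx2 hx1
    apply involution_eq C
    · rw [mem_centralizer_iff]
      intro y hy
      exact congrArg Subtype.val (mem_center_iff.mp hx ⟨y, hy⟩)
    · exact mem_centralizer_iff.mp C.htA x x.2
    · exact congrArg Subtype.val hx2
    · intro h; exact hx1 (Subtype.ext h)
  rcases Cover.main (perfect C) ha hF f hfs hfk
    (fun x hx y hy hx2 hy2 hx1 hy1 => Subtype.ext ((hzt x hx hx2 hx1).trans (hzt y hy hy2 hy1).symm))
    with h | ⟨h2, z, hz1, hz2, hzc, hsq⟩
  · left
    have hinj : Function.Injective f := by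
      rw [← MonoidHom.ker_eq_bot_iff, hfk, h]
    let E : ↥A ≃* Matrix.SpecialLinearGroup (Fin 2) F := MulEquiv.ofBijective f ⟨hinj, hfs⟩
    refine ⟨A.subtype.comp E.symm.toMonoidHom, ⟨A.subtype_injective.comp E.symm.injective, ?_⟩⟩
    ext x
    constructor
    · rintro ⟨y, rfl⟩
      exact (E.symm y).2
    · intro hx
      exact ⟨E ⟨x, hx⟩, by simp⟩
  · right
    have hzc' : z ∈ center ↥A := (hzc z).mpr (Or.inr rfl)
    have hz : (z : G) = t := hzt z hzc' hz2 hz1
    refine ⟨h2, hz ▸ z.2, f, hfs, hfk, ?_, ?_⟩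
    · intro x
      rw [hzc x]
      constructor
      · rintro (rfl | rfl)
        · exact Or.inl rfl
        · exact Or.inr hz
      · rintro (h | h)
        · exact Or.inl h
        · exact Or.inr (Subtype.ext (h.trans hz.symm))
    · intro x hx hx2
      rw [← hz, ← hsq x hx hx2]
      rfl

end conf

end Cfsg.Agent.StdL2.Frame
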