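import Mathlib
import Cfsg.Agent.StdL2.FieldStart
import Cfsg.Agent.GH.ELevelOne

/-!
# S1773, case `e ≥ 1`: fusion of `t` in `N(W)`, `W` elementary of order `q²`

`EOne F W`: `W` is elementary abelian of order `q²`, normalised by `t`, `C_W(t) = V`.
`EOne.fusion`: a conjugate of `t` which normalises `W` is conjugate to `t` in `N(W)`.
-/

set_option autoImplicit false
set_option linter.unusedSectionVars false
set_option linter.style.haveILetI false

open Subgroup

namespace Cfsg.Agent.StdL2.EOneFusion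

open Cfsg.Agent.StdL2.FieldStart
open Cfsg.Agent.StdL2.FieldStart.Fld (conj_mem_norm norm_conj)
open Cfsg.Agent.GH.E (rr mem_rr le_rr self_mem_rr)

variable {G : Type*} [Group G] [Finite G] {t : G} {V R T W : Subgroup G}

/-- `W` is elementary abelian of order `q²`, normalised by `t`, `C_W(t) = V`, `T` is small. -/
structure EOne (F : Fld t V R T) (W : Subgroup G) : Prop where
  Rt : ∀ r ∈ R, r = 1 ∨ r = t
  wsq : ∀ w ∈ W, w * w = 1
  VW : V ≤ W
  tW : ∀ w ∈ W, t * w * t⁻¹ ∈ W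
  cW : ∀ w ∈ W, w * t = t * w → w ∈ V
  card : Nat.card W = Nat.card V ^ 2
  small : Nat.card T < Nat.card V ^ 2

/-- an involution acting on an elementary abelian group: `|W| ≤ |C_W(t)|²` -/
theorem card_le_cent_sq {t : G} (t2 : t * t = 1) {W : Subgroup G} (wsq : ∀ w ∈ W, w * w = 1)
    (tW : ∀ w ∈ W, t * w * t⁻¹ ∈ W) :
    Nat.card W ≤ Nat.card (W ⊓ centralizer {t} : Subgroup G) ^ 2 := by
  have winv : ∀ w ∈ W, w⁻¹ = w := fun w hw => inv_eq_of_mul_eq_one_left (wsq w hw)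
  have wcomm : ∀ v ∈ W, ∀ w ∈ W, v * w = w * v := fun v hv w hw => by
    have h1 := winv _ (W.mul_mem hv hw)
    rw [← h1, mul_inv_rev, winv v hv, winv w hw]
  have ti : t⁻¹ = t := inv_eq_of_mul_eq_one_left t2
  let φ : W →* G :=
    { toFun := fun w => t * w * t⁻¹ * w
      map_one' := by simp
      map_mul' := by
        rintro ⟨a, ha⟩ ⟨b, hb⟩
        change t * (a * b) * t⁻¹ * (a * b) = t * a * t⁻¹ * a * (t * b * t⁻¹ * b)
        have h1 := wcomm _ (tW b hb) _ ha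
        calc t * (a * b) * t⁻¹ * (a * b) = t * a * t⁻¹ * ((t * b * t⁻¹) * a) * b := by group
          _ = t * a * t⁻¹ * (a * (t * b * t⁻¹)) * b := by rw [h1]
          _ = t * a * t⁻¹ * a * (t * b * t⁻¹ * b) := by group }
  have hφ : ∀ w : W, φ w = t * w * t⁻¹ * w := fun _ => rfl
  have hran : φ.range ≤ W ⊓ centralizer {t} := by
    rintro _ ⟨w, rfl⟩
    rw [hφ]
    refine ⟨W.mul_mem (tW w w.2) w.2, mem_centralizer_singleton_iff.2 ?_⟩
    have h1 := wcomm _ (tW w w.2) _ w.2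
    calc t * w * t⁻¹ * w * t = w * (t * w * t⁻¹) * t := by rw [h1]
      _ = (t * t) * w * (t * w) := by rw [t2]; group
      _ = t * (t * w * t⁻¹ * w) := by rw [ti]; group
  have hker : φ.ker.map W.subtype ≤ W ⊓ centralizer {t} := by
    rintro _ ⟨w, hw, rfl⟩
    refine ⟨w.2, mem_centralizer_singleton_iff.2 ?_⟩
    have h1 : t * w * t⁻¹ * w = 1 := hw
    have h2 : t * w * t⁻¹ = w := by
      have := eq_inv_of_mul_eq_one_left h1
      rw [this, winv w w.2]
    rw [mul_inv_eq_iff_eq_mul] at h2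
    exact h2.symm
  have h1 := φ.ker.card_mul_index
  rw [Subgroup.index_ker, ← Subgroup.card_map_of_injective W.subtype_injective] at h1
  rw [← h1, pow_two]
  exact Nat.mul_le_mul (Subgroup.card_le_of_le hker) (Subgroup.card_le_of_le hran)

namespace EOne

variable {F : Fld t V R T}

theorem winv (H : EOne F W) {w : G} (hw : w ∈ W) : w⁻¹ = w := inv_eq_of_mul_eq_one_left (H.wsq w hw)

theorem wcomm (H : EOne F W) {v w : G} (hv : v ∈ W) (hw : w ∈ W) : v * w = w * v := by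
  have h1 := H.winv (W.mul_mem hv hw)
  rw [← h1, mul_inv_rev, H.winv hv, H.winv hw]

theorem isSyl (F : Fld t V R T) : IsSyl (centralizer {t}) T := by
  refine ⟨F.T2, fun x hx => mem_centralizer_singleton_iff.2 (F.Tt x hx), fun P hP hTP hPC => ?_⟩
  exact F.Tmax P hP hTP (fun x hx => mem_centralizer_singleton_iff.1 (hPC hx))

theorem W2 (H : EOne F W) : IsPGroup 2 W := by
  rintro ⟨w, hw⟩
  exact ⟨1, Subtype.ext (by
    change w ^ (2 ^ 1) = 1
    rw [pow_one, pow_two, H.wsq w hw])⟩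

/-- no element of `W` is conjugate to `t` -/
theorem noW (H : EOne F W) (g : G) : g * t * g⁻¹ ∉ W := by
  intro hg
  have h1 : IsPGroup 2 (W.map (MulAut.conj g⁻¹).toMonoidHom) := H.W2.map _
  have h2 : W.map (MulAut.conj g⁻¹).toMonoidHom ≤ centralizer {t} := by
    rintro _ ⟨w, hw, rfl⟩
    rw [mem_centralizer_singleton_iff]
    have h3 := H.wcomm hw hg
    change g⁻¹ * w * g⁻¹⁻¹ * t = t * (g⁻¹ * w * g⁻¹⁻¹)
    calc g⁻¹ * w * g⁻¹⁻¹ * t = g⁻¹ * (w * (g * t * g⁻¹)) * g := by group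
      _ = g⁻¹ * (g * t * g⁻¹ * w) * g := by rw [h3]
      _ = t * (g⁻¹ * w * g⁻¹⁻¹) := by group
  have h3 := (isSyl F).card_le h1 h2
  rw [Subgroup.card_map_of_injective (MulAut.conj g⁻¹).injective, H.card] at h3
  have := H.small
  omega

/-- the commutator map `W → V` is onto -/
theorem surj (H : EOne F W) {v : G} (hv : v ∈ V) : ∃ w ∈ W, w * t * w⁻¹ = t * v := by
  classical
  let φ : W →* G :=
    { toFun := fun w => t * w * t⁻¹ * w
      map_one' := by simp
      map_mul' := by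
        rintro ⟨a, ha⟩ ⟨b, hb⟩
        change t * (a * b) * t⁻¹ * (a * b) = t * a * t⁻¹ * a * (t * b * t⁻¹ * b)
        have h1 := H.wcomm (H.tW b hb) ha
        calc t * (a * b) * t⁻¹ * (a * b) = t * a * t⁻¹ * ((t * b * t⁻¹) * a) * b := by group
          _ = t * a * t⁻¹ * (a * (t * b * t⁻¹)) * b := by rw [h1]
          _ = t * a * t⁻¹ * a * (t * b * t⁻¹ * b) := by group }
  have hφ : ∀ w : W, φ w = t * w * t⁻¹ * w := fun _ => rfl
  have hran : φ.range ≤ V := by
    rintro _ ⟨w, rfl⟩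
    rw [hφ]
    refine H.cW _ (W.mul_mem (H.tW w w.2) w.2) ?_
    have h1 := H.wcomm (H.tW w w.2) w.2
    have h2 : t * t = 1 := F.t2
    calc t * w * t⁻¹ * w * t = w * (t * w * t⁻¹) * t := by rw [h1]
      _ = (t * t) * w * (t * w) := by rw [h2]; group
      _ = t * (t * w * t⁻¹ * w) := by rw [F.tinv]; group
  have hker : φ.ker.map W.subtype = V := by
    ext w
    constructor
    · rintro ⟨w, hw, rfl⟩
      refine H.cW _ w.2 ?_
      have h1 : t * w * t⁻¹ * w = 1 := hw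
      have h2 : t * w * t⁻¹ = w := by
        have := eq_inv_of_mul_eq_one_left h1
        rw [this, H.winv w.2]
      rw [mul_inv_eq_iff_eq_mul] at h2
      exact h2.symm
    · intro hw
      refine ⟨⟨w, H.VW hw⟩, ?_, rfl⟩
      change t * w * t⁻¹ * w = 1
      rw [F.tv hw, mul_inv_cancel_right, F.vsq w hw]
  have hkc : Nat.card φ.ker = Nat.card V := by
    rw [← hker, Subgroup.card_map_of_injective W.subtype_injective]
  have h1 := φ.ker.card_mul_index
  rw [Subgroup.index_ker, hkc, H.card, pow_two] at h1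
  have h2 : Nat.card φ.range = Nat.card V := Nat.eq_of_mul_eq_mul_left Nat.card_pos h1
  have h3 : φ.range = V := Subgroup.eq_of_le_of_card_ge hran h2.ge
  rw [← h3] at hv
  obtain ⟨w, hw⟩ := hv
  refine ⟨w, w.2, ?_⟩
  rw [hφ] at hw
  rw [← hw, H.winv w.2]
  have h4 : t * w * t⁻¹ * w ∈ V := hran ⟨w, rfl⟩
  calc (w : G) * t * w = w * (t * w * t⁻¹) * t := by group
    _ = (t * w * t⁻¹ * w) * t := by rw [H.wcomm w.2 (H.tW w w.2)]
    _ = t * (t * w * t⁻¹ * w) := (F.tv h4).symm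

/-- `tV ⊆ t^W` -/
theorem conj_of_mem (H : EOne F W) {e : G} (he : e ∈ F.E) (heV : e ∉ V) :
    ∃ w ∈ W, w * t * w⁻¹ = e := by
  obtain ⟨w, hw, h⟩ := H.surj (he.resolve_left heV)
  exact ⟨w, hw, by rw [h]; exact (F.eq_tmul e).symm⟩

/-- an element of `E` which is not conjugate to `t` lies in `V` -/
theorem mem_V (H : EOne F W) {e : G} (he : e ∈ F.E) (hne : ∀ g : G, g * t * g⁻¹ ≠ e) : e ∈ V := by
  by_contra h
  obtain ⟨w, _, hw⟩ := H.conj_of_mem he h
  exact hne w hw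

theorem V_not (H : EOne F W) {v : G} (hv : v ∈ V) (g : G) : g * t * g⁻¹ ≠ v := fun h =>
  H.noW g (by rw [h]; exact H.VW hv)

/-- an element normalising `E` normalises `V` -/
theorem norm_V (H : EOne F W) {n : G} (hn : n ∈ normalizer (F.E : Set G)) {v : G} (hv : v ∈ V) :
    n * v * n⁻¹ ∈ V := by
  refine H.mem_V (norm_conj hn (F.VE hv)) fun g hg => ?_
  refine H.V_not hv (n⁻¹ * g) ?_
  calc n⁻¹ * g * t * (n⁻¹ * g)⁻¹ = n⁻¹ * (g * t * g⁻¹) * n := by group
    _ = v := by rw [hg]; group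

/-- `W ∪ tW` -/
def Q (_H : EOne F W) : Subgroup G := rr t W

theorem mem_Q (H : EOne F W) {x : G} : x ∈ H.Q ↔ x ∈ W ∨ t * x ∈ W := mem_rr F.t2 H.tW

theorem WQ (H : EOne F W) : W ≤ H.Q := le_rr t W

theorem tQ (H : EOne F W) : t ∈ H.Q := self_mem_rr t W

theorem EQ (H : EOne F W) : F.E ≤ H.Q := by
  rintro x (hx | hx)
  · exact H.WQ (H.VW hx)
  · exact H.mem_Q.2 (Or.inr (H.VW hx))

theorem tnW (H : EOne F W) : t ∉ W := fun h => H.noW 1 (by simpa using h)

theorem card_Q (H : EOne F W) : Nat.card H.Q = 2 * Nat.card V ^ 2 := by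
  rw [← H.card]
  have h1 : W.relIndex H.Q = 2 := by
    rw [relIndex_eq_two_iff]
    refine ⟨t, H.tQ, fun b hb => ?_⟩
    rcases H.mem_Q.1 hb with hb | hb
    · right
      refine ⟨hb, fun h => H.tnW ?_⟩
      have := W.mul_mem (W.inv_mem hb) h
      rwa [inv_mul_cancel_left] at this
    · left
      constructor
      · have h2 := H.tW _ hb
        have h3 : t * (t * b) * t⁻¹ = b * t := by rw [F.tinv, ← mul_assoc, F.t2, one_mul]
        rwa [h3] at h2
      · intro h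
        apply H.tnW
        have := W.mul_mem hb (W.inv_mem h)
        rwa [mul_inv_cancel_right] at this
  have h2 := relIndex_mul_relIndex ⊥ W H.Q bot_le H.WQ
  rw [h1, relIndex_bot_left, relIndex_bot_left] at h2
  omega

theorem Q2 (H : EOne F W) : IsPGroup 2 H.Q := by
  obtain ⟨n, hn⟩ := IsPGroup.iff_card.1 H.W2
  refine IsPGroup.of_card (n := n + 1) ?_
  rw [H.card_Q, ← H.card, hn, pow_succ, mul_comm]

/-- `Γ = N(E) ∩ C(V)` -/
def Γ (F : Fld t V R T) : Subgroup G := normalizer (F.E : Set G) ⊓ centralizer (V : Set G)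

theorem Q_le (H : EOne F W) : H.Q ≤ Γ F := by
  have hW : W ≤ Γ F := by
    intro w hw
    refine ⟨conj_mem_norm ?_, ?_⟩
    · rintro x (hx | hx)
      · have h1 := H.wcomm hw (H.VW hx)
        rw [h1, mul_inv_cancel_right]
        exact F.VE hx
      · right
        have hx' : x ∈ H.Q := H.EQ (Or.inr hx)
        have h2 : t * (w * x * w⁻¹) ∈ W := by
          have h3 : t * (w * x * w⁻¹) = (t * w * t⁻¹) * (t * x) * w⁻¹ := by group
          rw [h3]
          exact W.mul_mem (W.mul_mem (H.tW w hw) (H.VW hx)) (W.inv_mem hw)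
        refine H.cW _ h2 ?_
        have h4 : x = t * (t * x) := F.eq_tmul x
        -- `w x w⁻¹ = (w t w⁻¹) v`
        have h5 : t * (w * x * w⁻¹) = (t * w * t⁻¹ * w) * (t * x) := by
          have h6 := H.wcomm (H.VW hx) (W.inv_mem hw)
          calc t * (w * x * w⁻¹) = t * w * t⁻¹ * ((t * x) * w⁻¹) := by group
            _ = t * w * t⁻¹ * (w⁻¹ * (t * x)) := by rw [h6]
            _ = t * w * t⁻¹ * (w * (t * x)) := by rw [H.winv hw]
            _ = (t * w * t⁻¹ * w) * (t * x) := by group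
        have h7 : t * w * t⁻¹ * w * t = t * (t * w * t⁻¹ * w) := by
          have h1 := H.wcomm (H.tW w hw) hw
          calc t * w * t⁻¹ * w * t = w * (t * w * t⁻¹) * t := by rw [h1]
            _ = (t * t) * w * (t * w) := by rw [F.t2]; group
            _ = t * (t * w * t⁻¹ * w) := by rw [F.tinv]; group
        rw [h5, mul_assoc, ← F.tv hx, ← mul_assoc, h7]
        group
    · exact mem_centralizer_iff.2 fun v hv => H.wcomm (H.VW hv) hw
  refine sup_le hW ?_
  rw [zpowers_le]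
  refine ⟨conj_mem_norm fun x hx => ?_, ?_⟩
  · rw [← F.tcomm hx, mul_inv_cancel_right]; exact hx
  · exact mem_centralizer_iff.2 fun v hv => (F.tv hv).symm

/-- a 2-group which centralises `t` and `V` and contains `E` has order at most `2q` -/
theorem card_cent (H : EOne F W) (hq : 16 ≤ Nat.card V) {P : Subgroup G} (hP : IsPGroup 2 P)
    (hPt : P ≤ centralizer {t}) (hPV : P ≤ centralizer (V : Set G)) (hE : F.E ≤ P) :
    Nat.card P ≤ 2 * Nat.card V := by
  obtain ⟨c, hc, hcP⟩ := (isSyl F).conj hP hPt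
  have hcE : c ∈ normalizer (F.E : Set G) := F.norm_of_conj hq (fun e he => hcP e (hE he))
  refine le_trans ?_ F.card_E.1
  refine Nat.card_le_card_of_injective (fun x : P => (⟨c * x * c⁻¹, ?_⟩ : F.E)) ?_
  · have h1 : ∀ v ∈ V, (c * x * c⁻¹) * v = v * (c * x * c⁻¹) := by
      intro v hv
      have h2 : c⁻¹ * v * c ∈ V := by
        have := H.norm_V ((normalizer (F.E : Set G)).inv_mem hcE) hv
        rwa [inv_inv] at this
      have h3 := mem_centralizer_iff.1 (hPV x.2) _ h2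
      calc (c * x * c⁻¹) * v = c * (x * (c⁻¹ * v * c)) * c⁻¹ := by group
        _ = c * ((c⁻¹ * v * c) * x) * c⁻¹ := by rw [← h3]
        _ = v * (c * x * c⁻¹) := by group
    obtain ⟨r, hr, v, hv, hrv⟩ := F.cent _ (hcP x x.2) h1
    rw [hrv]
    rcases H.Rt r hr with h | h
    · rw [h, one_mul]; exact F.VE hv
    · rw [h]; exact F.E.mul_mem F.tE (F.VE hv)
  · intro x y hxy
    have : c * (x : G) * c⁻¹ = c * (y : G) * c⁻¹ := congrArg (fun z : F.E => (z : G)) hxy
    exact Subtype.ext (mul_left_cancel (mul_right_cancel this))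

/-- `W ∪ tW` is a Sylow subgroup of `N(E) ∩ C(V)` -/
theorem isSyl_Q (H : EOne F W) (hq : 16 ≤ Nat.card V) : IsSyl (Γ F) H.Q := by
  refine ⟨H.Q2, H.Q_le, fun P hP hQP hPΓ => ?_⟩
  have h1 := Cfsg.Agent.GH.ELevelOne.card_conj_mul P t
  have h2 : Nat.card {z : G // ∃ n ∈ P, n * t * n⁻¹ = z} ≤ Nat.card V := by
    refine Nat.card_le_card_of_injective (fun z => (⟨t * z.1, ?_⟩ : V)) ?_
    · obtain ⟨n, hn, hz⟩ := z.2
      have h3 : z.1 ∈ F.E := by rw [← hz]; exact norm_conj (hPΓ hn).1 F.tE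
      refine h3.resolve_left fun h4 => ?_
      exact H.V_not h4 n hz
    · intro a b hab
      have : t * a.1 = t * b.1 := congrArg (fun z : V => (z : G)) hab
      exact Subtype.ext (mul_left_cancel this)
  have h3 : Nat.card (P ⊓ centralizer {t} : Subgroup G) ≤ 2 * Nat.card V :=
    H.card_cent hq (hP.to_le inf_le_left) inf_le_right (inf_le_left.trans (hPΓ.trans inf_le_right))
      (le_inf (H.EQ.trans hQP) (fun e he => mem_centralizer_singleton_iff.2 (F.tcomm he)))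
  have h4 : Nat.card P ≤ Nat.card H.Q := by
    rw [← h1, H.card_Q]
    calc _ ≤ Nat.card V * (2 * Nat.card V) := Nat.mul_le_mul h2 h3
      _ = 2 * Nat.card V ^ 2 := by ring
  exact (Subgroup.eq_of_le_of_card_ge hQP h4).ge

/-- the image of `W` under conjugation -/
theorem exists_conj_W (H : EOne F W) (hq : 16 ≤ Nat.card V) {W' : Subgroup G} (H' : EOne F W') :
    ∃ γ : G, γ * t = t * γ ∧ ∀ w ∈ W', γ * w * γ⁻¹ ∈ W := by
  obtain ⟨γ, hγ, hγQ⟩ := (H.isSyl_Q hq).conj H'.Q2 H'.Q_le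
  have h1 : ∀ w ∈ W', γ * w * γ⁻¹ ∈ W := by
    by_contra hcon
    push Not at hcon
    obtain ⟨w0, hw0, hw0'⟩ := hcon
    have h2 := (H.mem_Q.1 (hγQ w0 (H'.WQ hw0))).resolve_left hw0'
    -- `Z = γ W' γ⁻¹`
    let Z := W'.map (MulAut.conj γ).toMonoidHom
    have hZc : Nat.card Z = Nat.card V ^ 2 := by
      have h3 : Nat.card Z = Nat.card W' := Subgroup.card_map_of_injective (MulAut.conj γ).injective
      rw [h3, H'.card]
    have hZQ : ∀ z ∈ Z, z ∈ W ∨ t * z ∈ W := by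
      rintro _ ⟨w, hw, rfl⟩
      exact H.mem_Q.1 (hγQ w (H'.WQ hw))
    have hZcomm : ∀ x ∈ Z, ∀ y ∈ Z, x * y = y * x := by
      rintro _ ⟨a, ha, rfl⟩ _ ⟨b, hb, rfl⟩
      rw [← map_mul, ← map_mul]
      exact congrArg _ (H'.wcomm ha hb)
    have hz0 : γ * w0 * γ⁻¹ ∈ Z := ⟨w0, hw0, rfl⟩
    have h3 := card_le_two_mul Z W (fun x hx y hy hxW hyW => by
      have hx' := (hZQ x hx).resolve_left hxW
      have hy' := (hZQ y hy).resolve_left hyW
      have : x⁻¹ * y = (t * x)⁻¹ * (t * y) := by group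
      rw [this]
      exact W.mul_mem (W.inv_mem hx') hy')
    have h4 : (Z ⊓ W : Subgroup G) ≤ V := by
      rintro x ⟨hxZ, hxW⟩
      refine H.cW x hxW ?_
      have h5 := hZcomm x hxZ _ hz0
      set z0 := γ * w0 * γ⁻¹ with hz0'
      have h6 : z0 = t * (t * z0) := F.eq_tmul z0
      have h7 := H.wcomm hxW h2
      rw [h6] at h5
      have h8 : x * t * (t * z0) = t * x * (t * z0) := by
        calc x * t * (t * z0) = x * (t * (t * z0)) := by group
          _ = t * ((t * z0) * x) := by rw [h5]; group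
          _ = t * x * (t * z0) := by rw [← h7]; group
      exact mul_right_cancel h8
    have h5 : Nat.card (Z ⊓ W : Subgroup G) ≤ Nat.card V := Subgroup.card_le_of_le h4
    rw [hZc, pow_two] at h3
    nlinarith
  -- correct the action on `t`
  have h2 : γ * t * γ⁻¹ ∈ F.E := norm_conj hγ.1 F.tE
  obtain ⟨w, hw, hwt⟩ := H.conj_of_mem h2 (fun h => H.V_not h γ rfl)
  refine ⟨w⁻¹ * γ, ?_, fun u hu => ?_⟩
  · calc w⁻¹ * γ * t = w⁻¹ * (γ * t * γ⁻¹) * γ := by group
      _ = w⁻¹ * (w * t * w⁻¹) * γ := by rw [hwt]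
      _ = t * (w⁻¹ * γ) := by group
  · have h3 : w⁻¹ * γ * u * (w⁻¹ * γ)⁻¹ = w⁻¹ * (γ * u * γ⁻¹) * w := by group
    rw [h3]
    exact W.mul_mem (W.mul_mem (W.inv_mem hw) (h1 u hu)) hw

/-- **Fusion.**  A conjugate of `t` normalising `W` is conjugate to `t` in `N(W)`. -/
theorem fusion (H : EOne F W) (hq : 16 ≤ Nat.card V) (g : G)
    (hg : ∀ w ∈ W, (g * t * g⁻¹) * w * (g * t * g⁻¹)⁻¹ ∈ W) :
    ∃ n ∈ normalizer (W : Set G), n * t * n⁻¹ = g * t * g⁻¹ := by
  classical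
  let W1 := W.map (MulAut.conj g⁻¹).toMonoidHom
  have hW1t : ∀ w ∈ W1, t * w * t⁻¹ ∈ W1 := by
    rintro _ ⟨w, hw, rfl⟩
    refine ⟨_, hg w hw, ?_⟩
    change g⁻¹ * (g * t * g⁻¹ * w * (g * t * g⁻¹)⁻¹) * g⁻¹⁻¹ = t * (g⁻¹ * w * g⁻¹⁻¹) * t⁻¹
    group
  have hW1sq : ∀ w ∈ W1, w * w = 1 := by
    rintro _ ⟨w, hw, rfl⟩
    rw [← map_mul, H.wsq w hw, map_one]
  have hW1c : Nat.card W1 = Nat.card V ^ 2 := by
    have h3 : Nat.card W1 = Nat.card W := Subgroup.card_map_of_injective (MulAut.conj g⁻¹).injective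
    rw [h3, H.card]
  have hW1no : ∀ k : G, k * t * k⁻¹ ∉ W1 := by
    rintro k ⟨w, hw, hwk⟩
    have hwk' : g⁻¹ * w * g⁻¹⁻¹ = k * t * k⁻¹ := hwk
    refine H.noW (g * k) ?_
    have : g * k * t * (g * k)⁻¹ = w := by
      calc g * k * t * (g * k)⁻¹ = g * (k * t * k⁻¹) * g⁻¹ := by group
        _ = w := by rw [← hwk']; group
    rw [this]; exact hw
  -- `V1 = C_{W1}(t)`
  set V1 := W1 ⊓ centralizer {t} with hV1
  have hV1card : Nat.card V ≤ Nat.card V1 := by
    have h1 := card_le_cent_sq F.t2 hW1sq hW1t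
    rw [hW1c] at h1
    exact (Nat.pow_le_pow_iff_left (by norm_num)).1 h1
  -- `E1 = V1 ∪ t V1`
  have hV1t : ∀ v ∈ V1, t * v * t⁻¹ ∈ V1 := by
    rintro v ⟨h1, h2⟩
    rw [← mem_centralizer_singleton_iff.1 h2, mul_inv_cancel_right]
    exact ⟨h1, h2⟩
  set E1 := rr t V1 with hE1
  have hmemE1 : ∀ x, x ∈ E1 ↔ x ∈ V1 ∨ t * x ∈ V1 := fun x => mem_rr F.t2 hV1t
  have hE1C : E1 ≤ centralizer {t} := by
    refine sup_le inf_le_right ?_
    rw [zpowers_le]
    exact mem_centralizer_singleton_iff.2 rfl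
  have hE1sq : ∀ x ∈ E1, x * x = 1 := by
    intro x hx
    rcases (hmemE1 x).1 hx with h | h
    · exact hW1sq x h.1
    · have h1 := hW1sq _ h.1
      have h2 : x * t = t * x := mem_centralizer_singleton_iff.1 (hE1C hx)
      have h3 : t * x * (t * x) = t * (x * t) * x := by group
      rw [h3, h2, ← mul_assoc, F.t2, one_mul] at h1
      exact h1
  have hE1p : IsPGroup 2 E1 := by
    rintro ⟨x, hx⟩
    exact ⟨1, Subtype.ext (by
      change x ^ (2 ^ 1) = 1
      rw [pow_one, pow_two, hE1sq x hx])⟩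
  have htV1 : t ∉ V1 := fun h => hW1no 1 (by simpa using h.1)
  have hE1c : Nat.card F.E ≤ Nat.card E1 := by
    refine F.card_E.1.trans ?_
    have h1 : Nat.card V1 ∣ Nat.card E1 := card_dvd_of_le (le_rr t V1)
    obtain ⟨k, hk⟩ := h1
    have h2 : k ≠ 0 := by rintro rfl; exact Nat.card_pos.ne' (hk.trans (mul_zero _))
    have h3 : k ≠ 1 := by
      rintro rfl
      rw [mul_one] at hk
      have := Subgroup.eq_of_le_of_card_ge (le_rr t V1) hk.le
      exact htV1 (this ▸ self_mem_rr t V1)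
    have h4 : 2 ≤ k := by omega
    calc 2 * Nat.card V ≤ k * Nat.card V1 := Nat.mul_le_mul h4 hV1card
      _ = Nat.card E1 := by rw [hk, mul_comm]
  obtain ⟨c, hc, hcE⟩ := (isSyl F).conj hE1p hE1C
  have hct : c * t = t * c := mem_centralizer_singleton_iff.1 hc
  have hceq : E1.map (MulAut.conj c).toMonoidHom = F.E := by
    apply F.eq_E hq
    · rintro _ ⟨x, hx, rfl⟩
      exact hcE x hx
    · rintro _ ⟨x, hx, rfl⟩
      rw [← map_mul, hE1sq x hx, map_one]
    · rw [Subgroup.card_map_of_injective (MulAut.conj c).injective]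
      exact hE1c
  -- `W2 = c W1 c⁻¹`
  let W2 := W1.map (MulAut.conj c).toMonoidHom
  have hV2 : V1.map (MulAut.conj c).toMonoidHom = V := by
    refine Subgroup.eq_of_le_of_card_ge ?_ ?_
    · rintro _ ⟨v, hv, rfl⟩
      refine H.mem_V ?_ ?_
      · rw [← hceq]
        exact ⟨v, le_rr t V1 hv, rfl⟩
      · intro k hk
        have hk' : k * t * k⁻¹ = c * v * c⁻¹ := hk
        refine hW1no (c⁻¹ * k) ?_
        have : c⁻¹ * k * t * (c⁻¹ * k)⁻¹ = v := by
          calc c⁻¹ * k * t * (c⁻¹ * k)⁻¹ = c⁻¹ * (k * t * k⁻¹) * c := by group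
            _ = v := by rw [hk']; group
        rw [this]; exact hv.1
    · rw [Subgroup.card_map_of_injective (MulAut.conj c).injective]
      exact hV1card
  have H2 : EOne F W2 := by
    refine ⟨H.Rt, ?_, ?_, ?_, ?_, ?_, H.small⟩
    · rintro _ ⟨w, hw, rfl⟩
      rw [← map_mul, hW1sq w hw, map_one]
    · rw [← hV2]
      exact Subgroup.map_mono inf_le_left
    · rintro _ ⟨w, hw, rfl⟩
      refine ⟨t * w * t⁻¹, hW1t w hw, ?_⟩
      change c * (t * w * t⁻¹) * c⁻¹ = t * (c * w * c⁻¹) * t⁻¹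
      calc c * (t * w * t⁻¹) * c⁻¹ = (c * t) * w * (c * t)⁻¹ := by group
        _ = (t * c) * w * (t * c)⁻¹ := by rw [hct]
        _ = t * (c * w * c⁻¹) * t⁻¹ := by group
    · rintro _ ⟨w, hw, rfl⟩ hwt
      rw [← hV2]
      refine ⟨w, ⟨hw, mem_centralizer_singleton_iff.2 ?_⟩, rfl⟩
      have hwt' : c * w * c⁻¹ * t = t * (c * w * c⁻¹) := hwt
      have hct' : c⁻¹ * t = t * c⁻¹ := by
        calc c⁻¹ * t = c⁻¹ * (t * c) * c⁻¹ := by group
          _ = c⁻¹ * (c * t) * c⁻¹ := by rw [hct]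
          _ = t * c⁻¹ := by group
      calc w * t = c⁻¹ * (c * w * c⁻¹ * t) * c * (c⁻¹ * t⁻¹ * c * t) := by group
        _ = t * w := by
          have h1 : c⁻¹ * t⁻¹ * c * t = 1 := by
            have : t⁻¹ * c * t = c := by rw [mul_assoc, hct]; group
            calc c⁻¹ * t⁻¹ * c * t = c⁻¹ * (t⁻¹ * c * t) := by group
              _ = 1 := by rw [this]; group
          rw [h1, hwt']
          calc c⁻¹ * (t * (c * w * c⁻¹)) * c * 1 = (c⁻¹ * t) * c * w := by group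
            _ = t * w := by rw [hct']; group
    · have h3 : Nat.card W2 = Nat.card W1 := Subgroup.card_map_of_injective (MulAut.conj c).injective
      rw [h3, hW1c]
  obtain ⟨γ, hγt, hγW⟩ := H.exists_conj_W hq H2
  -- `n⁻¹ = γ c g⁻¹`
  have hn : γ * c * g⁻¹ ∈ normalizer (W : Set G) := by
    refine conj_mem_norm fun w hw => ?_
    have h1 := hγW (c * (g⁻¹ * w * g⁻¹⁻¹) * c⁻¹) ⟨_, ⟨w, hw, rfl⟩, rfl⟩
    have h2 : γ * c * g⁻¹ * w * (γ * c * g⁻¹)⁻¹ = γ * (c * (g⁻¹ * w * g⁻¹⁻¹) * c⁻¹) * γ⁻¹ := by group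
    rw [h2]; exact h1
  refine ⟨(γ * c * g⁻¹)⁻¹, (normalizer (W : Set G)).inv_mem hn, ?_⟩
  have h1 : γ * c * t = t * (γ * c) := by rw [mul_assoc, hct, ← mul_assoc, hγt, mul_assoc]
  calc (γ * c * g⁻¹)⁻¹ * t * (γ * c * g⁻¹)⁻¹⁻¹ = g * ((γ * c)⁻¹ * (t * (γ * c))) * g⁻¹ := by group
    _ = g * ((γ * c)⁻¹ * (γ * c * t)) * g⁻¹ := by rw [h1]
    _ = g * t * g⁻¹ := by group

end EOne

end Cfsg.Agent.StdL2.EOneFusion
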