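import Mathlib
import Cfsg.Agent.StdL2.EOneFusion

/-!
# S1773, case `e ≥ 1`: Sylow 2-subgroups containing `W T` normalise `W`

`EOne.norm_of_le`: every 2-subgroup of `G` which contains `W` and `T` normalises `W`.
`EOne.no_field`: if `W` is weakly closed in the 2-groups containing it, then no element of `W` is
conjugate to an element `f ∈ C(t)` for which `C(t) ∩ C(f)` has a perfect subgroup of even order.
-/

set_option autoImplicit false
set_option linter.unusedSectionVars false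
set_option linter.style.haveILetI false

open Subgroup

namespace Cfsg.Agent.StdL2.EOneWeak

open Cfsg.Agent.StdL2.FieldStart
open Cfsg.Agent.StdL2.FieldStart.Fld (conj_mem_norm norm_conj norm_conj')
open Cfsg.Agent.StdL2.EOneFusion
open Cfsg.Agent.StdL2.EOneFusion.EOne (isSyl Γ)

variable {G : Type*} [Group G] [Finite G] {t : G} {V R T W : Subgroup G} {F : Fld t V R T}

/-- a commutative subgroup of order `q²` of `W ∪ tW` is contained in `W` -/
theorem le_W_of_le_Q (H : EOne F W) (hq : 16 ≤ Nat.card V) {Z : Subgroup G} (hZQ : Z ≤ H.Q)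
    (hZcomm : ∀ x ∈ Z, ∀ y ∈ Z, x * y = y * x) (hZc : Nat.card Z = Nat.card V ^ 2) : Z ≤ W := by
  by_contra hcon
  obtain ⟨z0, hz0, hz0W⟩ := Set.not_subset.1 hcon
  have h2 := (H.mem_Q.1 (hZQ hz0)).resolve_left hz0W
  have h3 := card_le_two_mul Z W (fun x hx y hy hxW hyW => by
    have hx' := (H.mem_Q.1 (hZQ hx)).resolve_left hxW
    have hy' := (H.mem_Q.1 (hZQ hy)).resolve_left hyW
    have : x⁻¹ * y = (t * x)⁻¹ * (t * y) := by group
    rw [this]
    exact W.mul_mem (W.inv_mem hx') hy')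
  have h4 : (Z ⊓ W : Subgroup G) ≤ V := by
    rintro x ⟨hxZ, hxW⟩
    refine H.cW x hxW ?_
    have h5 := hZcomm x hxZ _ hz0
    have h6 : z0 = t * (t * z0) := F.eq_tmul z0
    have h7 := H.wcomm hxW h2
    rw [h6] at h5
    have h8 : x * t * (t * z0) = t * x * (t * z0) := by
      calc x * t * (t * z0) = x * (t * (t * z0)) := by group
        _ = t * ((t * z0) * x) := by rw [h5]; group
        _ = t * x * (t * z0) := by rw [← h7]; group
    exact mul_right_cancel h8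
  have h5 : Nat.card (Z ⊓ W : Subgroup G) ≤ Nat.card V := Subgroup.card_le_of_le h4
  rw [hZc, pow_two] at h3
  nlinarith

/-- `T = C_P(t)` for a 2-group `P ≥ T` -/
theorem mem_T_of_comm (F : Fld t V R T) {P : Subgroup G} (hP : IsPGroup 2 P) (hTP : T ≤ P) {x : G}
    (hx : x ∈ P) (hxt : x * t = t * x) : x ∈ T := by
  refine F.Tmax (P ⊓ centralizer {t}) (hP.to_le inf_le_left)
    (le_inf hTP fun y hy => mem_centralizer_singleton_iff.2 (F.Tt y hy)) ?_
    ⟨hx, mem_centralizer_singleton_iff.2 hxt⟩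
  rintro y ⟨_, hy⟩
  exact mem_centralizer_singleton_iff.1 hy

/-- if `t` normalises the conjugate `y W y⁻¹`, this conjugate is `c W c⁻¹` with `c ∈ C(t)` -/
theorem exists_cent (H : EOne F W) (hq : 16 ≤ Nat.card V) {y : G}
    (hy : ∀ w ∈ W, (y⁻¹ * t * y) * w * (y⁻¹ * t * y)⁻¹ ∈ W) :
    ∃ n ∈ normalizer (W : Set G), (y * n) * t = t * (y * n) := by
  have h1 : y⁻¹ * t * y⁻¹⁻¹ = y⁻¹ * t * y := by rw [inv_inv]
  obtain ⟨n, hn, h⟩ := H.fusion hq y⁻¹ (by rw [h1]; exact hy)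
  refine ⟨n, hn, ?_⟩
  calc y * n * t = y * (n * t * n⁻¹) * n := by group
    _ = t * (y * n) := by rw [h]; group

/-- **(B1)** every 2-subgroup containing `W` and `T` normalises `W` -/
theorem norm_of_le (H : EOne F W) (hq : 16 ≤ Nat.card V)
    (TW : ∀ s ∈ T, ∀ w ∈ W, s * w * s⁻¹ ∈ W) {P : Subgroup G} (hP : IsPGroup 2 P) (hWP : W ≤ P)
    (hTP : T ≤ P) : P ≤ normalizer (W : Set G) := by
  by_contra hcon
  have hTW : T ≤ normalizer (W : Set G) := fun s hs => conj_mem_norm (TW s hs)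
  set P1 := P ⊓ normalizer (W : Set G) with hP1
  have hlt : P1 < P := lt_of_le_of_ne inf_le_left fun e => hcon (by
    rw [← e]; exact inf_le_right)
  obtain ⟨y, hyP, hyP1, hyn⟩ := exists_normalizer_gt hP hlt
  apply hyP1
  refine ⟨hyP, ?_⟩
  have hWP1 : W ≤ P1 := le_inf hWP le_normalizer
  have hTP1 : T ≤ P1 := le_inf hTP hTW
  have hP1p : IsPGroup 2 P1 := hP.to_le inf_le_left
  have htP1 : t ∈ P1 := hTP1 F.tT
  have hty : y⁻¹ * t * y ∈ P1 := norm_conj' hyn htP1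
  obtain ⟨n, hn, hct⟩ := exists_cent H hq (y := y) (fun w hw => norm_conj hty.2 hw)
  set c := y * n with hc
  -- `c w c⁻¹ ∈ P1`
  have hcW : ∀ w ∈ W, c * w * c⁻¹ ∈ P1 := by
    intro w hw
    have h1 : c * w * c⁻¹ = y * (n * w * n⁻¹) * y⁻¹ := by rw [hc]; group
    rw [h1]
    exact norm_conj hyn (hWP1 (norm_conj hn hw))
  -- `c` normalises `E` and `V`
  have hcE : c ∈ normalizer (F.E : Set G) := by
    refine F.norm_of_conj hq fun e he => ?_
    have h1 : c * e * c⁻¹ ∈ P := by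
      rcases he with he | he
      · exact (hcW e (H.VW he)).1
      · have h2 : c * e * c⁻¹ = t * (c * (t * e) * c⁻¹) := by
          calc c * e * c⁻¹ = c * (t * (t * e)) * c⁻¹ := by rw [← F.eq_tmul e]
            _ = (c * t) * (t * e) * c⁻¹ := by group
            _ = (t * c) * (t * e) * c⁻¹ := by rw [hct]
            _ = t * (c * (t * e) * c⁻¹) := by group
        rw [h2]
        exact P.mul_mem htP1.1 (hcW _ (H.VW he)).1
    refine mem_T_of_comm F hP hTP h1 ?_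
    have h2 := F.tcomm he
    calc c * e * c⁻¹ * t = c * e * (c⁻¹ * t * c) * c⁻¹ := by group
      _ = c * e * t * c⁻¹ := by
        have : c⁻¹ * t * c = t := by rw [mul_assoc, ← hct]; group
        rw [this]
      _ = c * t * e * c⁻¹ := by rw [mul_assoc c e t, h2]; group
      _ = t * (c * e * c⁻¹) := by rw [hct]; group
  have hcV : ∀ v ∈ V, c⁻¹ * v * c ∈ V := by
    intro v hv
    have := H.norm_V ((normalizer (F.E : Set G)).inv_mem hcE) hv
    rwa [inv_inv] at this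
  -- `Z = c W c⁻¹ ≤ Γ`
  let Z := W.map (MulAut.conj c).toMonoidHom
  have hZP1 : Z ≤ P1 := by
    rintro _ ⟨w, hw, rfl⟩
    exact hcW w hw
  have hZΓ : Z ≤ Γ F := by
    rintro _ ⟨w, hw, rfl⟩
    have h1 : w ∈ Γ F := H.Q_le (H.WQ hw)
    refine ⟨?_, ?_⟩
    · change c * w * c⁻¹ ∈ _
      exact (normalizer (F.E : Set G)).mul_mem ((normalizer (F.E : Set G)).mul_mem hcE h1.1)
        ((normalizer (F.E : Set G)).inv_mem hcE)
    · change c * w * c⁻¹ ∈ centralizer (V : Set G)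
      rw [mem_centralizer_iff]
      intro v hv
      have h2 := mem_centralizer_iff.1 h1.2 _ (hcV v hv)
      calc v * (c * w * c⁻¹) = c * ((c⁻¹ * v * c) * w) * c⁻¹ := by group
        _ = c * (w * (c⁻¹ * v * c)) * c⁻¹ := by rw [h2]
        _ = c * w * c⁻¹ * v := by group
  -- `P1 ∩ Γ = Q`
  have hQP1 : H.Q ≤ P1 := by
    intro x hx
    rcases H.mem_Q.1 hx with h | h
    · exact hWP1 h
    · have : x = t⁻¹ * (t * x) := by group
      rw [this]
      exact P1.mul_mem (P1.inv_mem htP1) (hWP1 h)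
  have hΓP : P1 ⊓ Γ F ≤ H.Q := (H.isSyl_Q hq).2.2 _ (hP1p.to_le inf_le_left)
    (le_inf hQP1 H.Q_le) inf_le_right
  have hZW : Z ≤ W := by
    refine le_W_of_le_Q H hq ((le_inf hZP1 hZΓ).trans hΓP) ?_ ?_
    · rintro _ ⟨a, ha, rfl⟩ _ ⟨b, hb, rfl⟩
      rw [← map_mul, ← map_mul]
      exact congrArg _ (H.wcomm ha hb)
    · have h3 : Nat.card Z = Nat.card W := Subgroup.card_map_of_injective (MulAut.conj c).injective
      rw [h3, H.card]
  have hcn : c ∈ normalizer (W : Set G) := conj_mem_norm fun w hw => hZW ⟨w, hw, rfl⟩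
  have hyc : y = c * n⁻¹ := by rw [hc]; group
  rw [hyc]
  exact (normalizer (W : Set G)).mul_mem hcn ((normalizer (W : Set G)).inv_mem hn)

/-- `W` is weakly closed: every 2-subgroup containing `W` normalises `W` -/
def WC (W : Subgroup G) : Prop :=
  ∀ P : Subgroup G, IsPGroup 2 P → W ≤ P → P ≤ normalizer (W : Set G)

/-- weak closure in one Sylow 2-subgroup -/
theorem wc_of_sylow {P : Subgroup G} (hP : IsSyl ⊤ P) (hWP : P ≤ normalizer (W : Set G))
    (h : ∀ g : G, (∀ w ∈ W, g * w * g⁻¹ ∈ P) → ∀ w ∈ W, g * w * g⁻¹ ∈ W) : WC W := by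
  intro Q hQ hWQ
  obtain ⟨c, _, hc⟩ := hP.conj hQ le_top
  have h1 := h c (fun w hw => hc w (hWQ hw))
  have hcn : c ∈ normalizer (W : Set G) := conj_mem_norm h1
  intro x hx
  have h2 := hWP (hc x hx)
  have h3 : x = c⁻¹ * (c * x * c⁻¹) * c := by group
  rw [h3]
  exact (normalizer (W : Set G)).mul_mem ((normalizer (W : Set G)).mul_mem
    ((normalizer (W : Set G)).inv_mem hcn) h2) hcn

/-- **(3)** no element of `W` is conjugate to a field type involution `f` of `C(t)` -/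
theorem no_field (H : EOne F W) (hq : 16 ≤ Nat.card V) (hWC : WC W)
    (hS : ∀ v ∈ V, v ≠ 1 → ∀ B : Subgroup G, (∀ b ∈ B, b * t = t * b) → (∀ b ∈ B, b * v = v * b) →
      ⁅B, B⁆ = B → ¬ 2 ∣ Nat.card B)
    {f : G} (hf1 : f ≠ 1) (hft : f * t = t * f)
    (hN : ∃ B : Subgroup G, (∀ b ∈ B, b * t = t * b) ∧ (∀ b ∈ B, b * f = f * b) ∧
      ⁅B, B⁆ = B ∧ 2 ∣ Nat.card B) (g : G) : g * f * g⁻¹ ∉ W := by
  intro hw
  obtain ⟨w, hw0⟩ : ∃ w, w = g * f * g⁻¹ := ⟨_, rfl⟩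
  rw [← hw0] at hw
  have hWC' : W ≤ centralizer {w} := fun x hx =>
    mem_centralizer_singleton_iff.2 (H.wcomm hx hw)
  obtain ⟨P1, hP1, hWP1⟩ := exists_isSyl (centralizer {w}) W H.W2 hWC'
  -- `t' = g t g⁻¹`
  have htw : (g * t * g⁻¹) * w = w * (g * t * g⁻¹) := by
    rw [hw0]
    calc g * t * g⁻¹ * (g * f * g⁻¹) = g * (t * f) * g⁻¹ := by group
      _ = g * (f * t) * g⁻¹ := by rw [hft]
      _ = g * f * g⁻¹ * (g * t * g⁻¹) := by group
  have hz2 : IsPGroup 2 (zpowers (g * t * g⁻¹)) := by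
    have h1 : (g * t * g⁻¹) * (g * t * g⁻¹) = 1 := by
      calc (g * t * g⁻¹) * (g * t * g⁻¹) = g * (t * t) * g⁻¹ := by group
        _ = 1 := by rw [F.t2]; group
    rintro ⟨x, hx⟩
    obtain ⟨k, rfl⟩ := mem_zpowers_iff.1 hx
    refine ⟨1, Subtype.ext ?_⟩
    change ((g * t * g⁻¹) ^ k) ^ (2 ^ 1) = 1
    rw [pow_one, pow_two, ← zpow_add, ← two_mul, zpow_mul, zpow_ofNat, pow_two, h1, one_zpow]
  obtain ⟨c, hc, hcP⟩ := hP1.conj hz2 (by
    rw [zpowers_le]; exact mem_centralizer_singleton_iff.2 htw)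
  have h1 := hcP _ (mem_zpowers _)
  have h2 : c * (g * t * g⁻¹) * c⁻¹ ∈ normalizer (W : Set G) := hWC P1 hP1.1 hWP1 h1
  have h3 : (c * g) * t * (c * g)⁻¹ = c * (g * t * g⁻¹) * c⁻¹ := by group
  obtain ⟨n, hn, hnt⟩ := H.fusion hq (c * g) (fun w hw => by
    rw [h3]; exact norm_conj h2 hw)
  have hcw : c * w = w * c := mem_centralizer_singleton_iff.1 hc
  obtain ⟨k, hk⟩ : ∃ k, k = n⁻¹ * (c * g) := ⟨_, rfl⟩
  have hkt : k * t * k⁻¹ = t := by
    rw [hk]
    calc n⁻¹ * (c * g) * t * (n⁻¹ * (c * g))⁻¹ = n⁻¹ * ((c * g) * t * (c * g)⁻¹) * n := by group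
      _ = t := by rw [← hnt]; group
  have hkf : k * f * k⁻¹ = n⁻¹ * w * n := by
    rw [hk]
    calc n⁻¹ * (c * g) * f * (n⁻¹ * (c * g))⁻¹ = n⁻¹ * (c * (g * f * g⁻¹) * c⁻¹) * n := by group
      _ = n⁻¹ * w * n := by rw [← hw0, hcw]; group
  have hkW : k * f * k⁻¹ ∈ W := by rw [hkf]; exact norm_conj' hn hw
  have hkV : k * f * k⁻¹ ∈ V := by
    refine H.cW _ hkW ?_
    have h4 : k * f * k⁻¹ * (k * t * k⁻¹) = k * t * k⁻¹ * (k * f * k⁻¹) := by
      calc k * f * k⁻¹ * (k * t * k⁻¹) = k * (f * t) * k⁻¹ := by group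
        _ = k * (t * f) * k⁻¹ := by rw [hft]
        _ = k * t * k⁻¹ * (k * f * k⁻¹) := by group
    rwa [hkt] at h4
  have hk1 : k * f * k⁻¹ ≠ 1 := fun e => hf1 (by
    have : f = k⁻¹ * (k * f * k⁻¹) * k := by group
    rw [this, e]; group)
  obtain ⟨B, hBt, hBf, hBB, hB2⟩ := hN
  refine hS _ hkV hk1 (B.map (MulAut.conj k).toMonoidHom) ?_ ?_ ?_ ?_
  · rintro _ ⟨b, hb, rfl⟩
    change k * b * k⁻¹ * t = t * (k * b * k⁻¹)
    calc k * b * k⁻¹ * t = k * b * k⁻¹ * (k * t * k⁻¹) := by rw [hkt]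
      _ = k * (b * t) * k⁻¹ := by group
      _ = k * (t * b) * k⁻¹ := by rw [hBt b hb]
      _ = (k * t * k⁻¹) * (k * b * k⁻¹) := by group
      _ = t * (k * b * k⁻¹) := by rw [hkt]
  · rintro _ ⟨b, hb, rfl⟩
    change k * b * k⁻¹ * (k * f * k⁻¹) = k * f * k⁻¹ * (k * b * k⁻¹)
    calc k * b * k⁻¹ * (k * f * k⁻¹) = k * (b * f) * k⁻¹ := by group
      _ = k * (f * b) * k⁻¹ := by rw [hBf b hb]
      _ = k * f * k⁻¹ * (k * b * k⁻¹) := by group
  · rw [← Subgroup.map_commutator, hBB]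
  · rw [Subgroup.card_map_of_injective (MulAut.conj k).injective]
    exact hB2

end Cfsg.Agent.StdL2.EOneWeak
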