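import Mathlib
import Cfsg.Agent.StdL2.EOneWeak

/-!
# S1773, case `e ≥ 1`: the action of `N(W) ∩ C(t)` on `W`

* `isSyl_W`: `W` is a Sylow 2-subgroup of `C(W)`.
* `frattini`: an element of `N(W)` commuting with `t` on `W` is in `C(W) C(t)`.
* `kernel`: an element of `N(W)` commuting with `t` on `W`, trivial on `V`, acts on `W` as `1` or `t`.
-/

set_option autoImplicit false
set_option linter.unusedSectionVars false
set_option linter.style.haveILetI false

open Subgroup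

namespace Cfsg.Agent.StdL2.EOneX

open Cfsg.Agent.StdL2.FieldStart
open Cfsg.Agent.StdL2.FieldStart.Fld (conj_mem_norm norm_conj norm_conj' conj_ne_one)
open Cfsg.Agent.StdL2.EOneFusion
open Cfsg.Agent.StdL2.EOneFusion.EOne (isSyl Γ)
open Cfsg.Agent.StdL2.EOneWeak
open Cfsg.Agent.GH.E (rr mem_rr le_rr self_mem_rr)

variable {G : Type*} [Group G] [Finite G] {t : G} {V R T W : Subgroup G} {F : Fld t V R T}

/-- `x` and `y` act in the same way on `W` -/
def Same (W : Subgroup G) (x y : G) : Prop := ∀ w ∈ W, x * w * x⁻¹ = y * w * y⁻¹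

theorem Same.symm {x y : G} (h : Same W x y) : Same W y x := fun w hw => (h w hw).symm

theorem Same.trans {x y z : G} (h : Same W x y) (h' : Same W y z) : Same W x z :=
  fun w hw => (h w hw).trans (h' w hw)

theorem Same.refl (x : G) : Same W x x := fun _ _ => rfl

theorem Same.mul {x y x' y' : G} (h : Same W x y) (h' : Same W x' y')
    (hx' : ∀ w ∈ W, x' * w * x'⁻¹ ∈ W) : Same W (x * x') (y * y') := by
  intro w hw
  calc x * x' * w * (x * x')⁻¹ = x * (x' * w * x'⁻¹) * x⁻¹ := by group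
    _ = y * (x' * w * x'⁻¹) * y⁻¹ := h _ (hx' w hw)
    _ = y * (y' * w * y'⁻¹) * y⁻¹ := by rw [h' w hw]
    _ = y * y' * w * (y * y')⁻¹ := by group

theorem same_iff {x y : G} : Same W x y ↔ y⁻¹ * x ∈ centralizer (W : Set G) := by
  rw [mem_centralizer_iff]
  constructor
  · intro h w hw
    have h1 := h w hw
    calc w * (y⁻¹ * x) = y⁻¹ * (y * w * y⁻¹) * x := by group
      _ = y⁻¹ * (x * w * x⁻¹) * x := by rw [h1]
      _ = y⁻¹ * x * w := by group
  · intro h w hw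
    have h1 := h w hw
    calc x * w * x⁻¹ = y * ((y⁻¹ * x) * w) * x⁻¹ := by group
      _ = y * (w * (y⁻¹ * x)) * x⁻¹ := by rw [h1]
      _ = y * w * y⁻¹ := by group

theorem cent_norm {n : G} (hn : n ∈ normalizer (W : Set G)) {c : G}
    (hc : c ∈ centralizer (W : Set G)) : n * c * n⁻¹ ∈ centralizer (W : Set G) := by
  rw [mem_centralizer_iff] at hc ⊢
  intro w hw
  have h1 := hc _ (norm_conj' hn hw)
  calc w * (n * c * n⁻¹) = n * ((n⁻¹ * w * n) * c) * n⁻¹ := by group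
    _ = n * (c * (n⁻¹ * w * n)) * n⁻¹ := by rw [h1]
    _ = n * c * n⁻¹ * w := by group

theorem cent_le_norm : centralizer (W : Set G) ≤ normalizer (W : Set G) := by
  intro c hc
  refine conj_mem_norm fun w hw => ?_
  rw [← mem_centralizer_iff.1 hc w hw, mul_inv_cancel_right]
  exact hw

/-- `K = C(W) ∪ C(W) t` -/
def K (_H : EOne F W) : Subgroup G := rr t (centralizer (W : Set G))

theorem tnorm (H : EOne F W) : t ∈ normalizer (W : Set G) := conj_mem_norm H.tW

theorem mem_K (H : EOne F W) {x : G} :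
    x ∈ K H ↔ x ∈ centralizer (W : Set G) ∨ t * x ∈ centralizer (W : Set G) :=
  mem_rr F.t2 (fun _ hx => cent_norm (tnorm H) hx)

theorem WC' (H : EOne F W) : W ≤ centralizer (W : Set G) := fun _ hx =>
  mem_centralizer_iff.2 fun _ hy => H.wcomm hy hx

theorem tnC (H : EOne F W) (hq : 16 ≤ Nat.card V) : t ∉ centralizer (W : Set G) := by
  intro h
  have h1 : W ≤ V := fun w hw => H.cW w hw (mem_centralizer_iff.1 h w hw)
  have h2 := Subgroup.card_le_of_le h1
  rw [H.card, pow_two] at h2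
  nlinarith

theorem QK (H : EOne F W) : H.Q ≤ K H := by
  intro x hx
  rcases H.mem_Q.1 hx with h | h
  · exact (mem_K H).2 (Or.inl (WC' H h))
  · exact (mem_K H).2 (Or.inr (WC' H h))

/-- elements of `Q ∖ W` which are involutions lie in `tV` -/
theorem tmul_mem_V (H : EOne F W) {x : G} (hx : x ∈ H.Q) (hxW : x ∉ W) (h2 : x * x = 1) :
    t * x ∈ V := by
  have h1 := (H.mem_Q.1 hx).resolve_left hxW
  refine H.cW _ h1 ?_
  have h3 := H.wsq _ h1
  have h4 : x⁻¹ = x := inv_eq_of_mul_eq_one_left h2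
  have h5 : t * x * t = x := by
    have : t * x * t * x = 1 := by
      calc t * x * t * x = (t * x) * (t * x) := by group
        _ = 1 := h3
    have := eq_inv_of_mul_eq_one_left this
    rw [this, h4]
  rw [h5, ← mul_assoc, F.t2, one_mul]

theorem conj_sq {x g : G} (h : x * x = 1) : (g * x * g⁻¹) * (g * x * g⁻¹) = 1 := by
  calc g * x * g⁻¹ * (g * x * g⁻¹) = g * (x * x) * g⁻¹ := by group
    _ = 1 := by rw [h]; group

/-- `W ∪ tW` is a Sylow subgroup of `K` -/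
theorem isSyl_K (H : EOne F W) (hq : 16 ≤ Nat.card V) : IsSyl (K H) H.Q := by
  obtain ⟨S, hS, hQS⟩ := exists_isSyl (K H) H.Q H.Q2 (QK H)
  have hSQ : S = H.Q := by
    by_contra hne
    have hlt : H.Q < S := lt_of_le_of_ne hQS (Ne.symm hne)
    obtain ⟨n, hnS, hnQ, hnn⟩ := exists_normalizer_gt hS.1 hlt
    -- reduce to `n ∈ C(W)`
    obtain ⟨m, hmS, hmQ, hmn, hmC⟩ : ∃ m ∈ S, m ∉ H.Q ∧ m ∈ normalizer (H.Q : Set G) ∧
        m ∈ centralizer (W : Set G) := by
      rcases (mem_K H).1 (hS.2.1 hnS) with h | h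
      · exact ⟨n, hnS, hnQ, hnn, h⟩
      · refine ⟨t * n, S.mul_mem (hQS H.tQ) hnS, fun e => hnQ ?_,
          (normalizer (H.Q : Set G)).mul_mem (le_normalizer H.tQ) hnn, h⟩
        have : n = t⁻¹ * (t * n) := by group
        rw [this]
        exact H.Q.mul_mem (H.Q.inv_mem H.tQ) e
    have h1 : m * t * m⁻¹ ∈ H.Q := norm_conj hmn H.tQ
    have h2 : t * (m * t * m⁻¹) ∈ V := tmul_mem_V H h1 (H.noW m) (conj_sq F.t2)
    have hmV : ∀ v ∈ V, m * v * m⁻¹ = v := fun v hv => by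
      rw [← mem_centralizer_iff.1 hmC v (H.VW hv), mul_inv_cancel_right]
    have hmE : m ∈ normalizer (F.E : Set G) := by
      refine conj_mem_norm ?_
      rintro e (he | he)
      · rw [hmV e he]; exact F.VE he
      · have h3 : m * e * m⁻¹ = (m * t * m⁻¹) * (m * (t * e) * m⁻¹) := by
          have : m * t * m⁻¹ * (m * (t * e) * m⁻¹) = m * ((t * t) * e) * m⁻¹ := by group
          rw [this, F.t2, one_mul]
        rw [h3, hmV _ he]
        exact F.E.mul_mem (Or.inr h2) (F.VE he)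
    have hmΓ : m ∈ Γ F := ⟨hmE, mem_centralizer_iff.2 fun v hv =>
      mem_centralizer_iff.1 hmC v (H.VW hv)⟩
    have h4 : H.Q ⊔ zpowers m ≤ S := sup_le hQS (by rw [zpowers_le]; exact hmS)
    have h5 := (H.isSyl_Q hq).2.2 (H.Q ⊔ zpowers m) (hS.1.to_le h4) le_sup_left
      (sup_le H.Q_le (by rw [zpowers_le]; exact hmΓ))
    exact hmQ (h5 (mem_sup_right (mem_zpowers m)))
  rw [← hSQ]
  exact hS

/-- a 2-subgroup of `K` is conjugate into `W ∪ tW` by an element of `C(W)` -/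
theorem conj_into_Q (H : EOne F W) (hq : 16 ≤ Nat.card V) {P : Subgroup G} (hP : IsPGroup 2 P)
    (hPK : P ≤ K H) : ∃ c ∈ centralizer (W : Set G), ∀ x ∈ P, c * x * c⁻¹ ∈ H.Q := by
  obtain ⟨k, hk, hkP⟩ := (isSyl_K H hq).conj hP hPK
  rcases (mem_K H).1 hk with h | h
  · exact ⟨k, h, hkP⟩
  · refine ⟨t * k, h, fun x hx => ?_⟩
    have h1 : t * k * x * (t * k)⁻¹ = t * (k * x * k⁻¹) * t⁻¹ := by group
    rw [h1]
    exact H.Q.mul_mem (H.Q.mul_mem H.tQ (hkP x hx)) (H.Q.inv_mem H.tQ)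

/-- `W` is a Sylow 2-subgroup of `C(W)` -/
theorem isSyl_W (H : EOne F W) (hq : 16 ≤ Nat.card V) : IsSyl (centralizer (W : Set G)) W := by
  refine ⟨H.W2, WC' H, fun P hP hWP hPC => ?_⟩
  obtain ⟨c, hc, hcP⟩ := conj_into_Q H hq hP (fun x hx => (mem_K H).2 (Or.inl (hPC hx)))
  have h1 : ∀ x ∈ P, c * x * c⁻¹ ∈ W := by
    intro x hx
    rcases H.mem_Q.1 (hcP x hx) with h | h
    · exact h
    · exfalso
      apply tnC H hq
      have h2 : c * x * c⁻¹ ∈ centralizer (W : Set G) :=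
        (centralizer (W : Set G)).mul_mem ((centralizer (W : Set G)).mul_mem hc (hPC hx))
          ((centralizer (W : Set G)).inv_mem hc)
      have h3 : t = (t * (c * x * c⁻¹)) * (c * x * c⁻¹)⁻¹ := by group
      rw [h3]
      exact (centralizer (W : Set G)).mul_mem (WC' H h) ((centralizer (W : Set G)).inv_mem h2)
  intro x hx
  have h2 := mem_centralizer_iff.1 ((centralizer (W : Set G)).inv_mem hc) _ (h1 x hx)
  have h3 : x = c⁻¹ * (c * x * c⁻¹) * c⁻¹⁻¹ := by group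
  rw [h3, ← h2, mul_inv_cancel_right]
  exact h1 x hx

/-- an element which commutes with `t` on `W` is in `C(W) C(t)` -/
theorem frattini (H : EOne F W) (hq : 16 ≤ Nat.card V) {n : G}
    (hn : Same W (n * t * n⁻¹) t) :
    ∃ c ∈ centralizer (W : Set G), (c * n) * t = t * (c * n) := by
  have h1 : n * t * n⁻¹ ∈ K H := by
    refine (mem_K H).2 (Or.inr ?_)
    have := same_iff.1 hn
    rwa [F.tinv] at this
  have hz2 : IsPGroup 2 (zpowers (n * t * n⁻¹)) := by
    rintro ⟨x, hx⟩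
    obtain ⟨k, rfl⟩ := mem_zpowers_iff.1 hx
    refine ⟨1, Subtype.ext ?_⟩
    change ((n * t * n⁻¹) ^ k) ^ (2 ^ 1) = 1
    rw [pow_one, pow_two, ← zpow_add, ← two_mul, zpow_mul, zpow_ofNat, pow_two, conj_sq F.t2,
      one_zpow]
  obtain ⟨c, hc, hcP⟩ := conj_into_Q H hq hz2 (by rw [zpowers_le]; exact h1)
  have h2 : (c * n) * t * (c * n)⁻¹ ∈ H.Q := by
    have := hcP _ (mem_zpowers _)
    have h3 : (c * n) * t * (c * n)⁻¹ = c * (n * t * n⁻¹) * c⁻¹ := by group
    rwa [h3]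
  have h3 := tmul_mem_V H h2 (H.noW _) (conj_sq F.t2)
  obtain ⟨w, hw, hwt⟩ := H.conj_of_mem (Or.inr h3) (fun h => H.noW _ (H.VW h))
  refine ⟨w⁻¹ * c, (centralizer (W : Set G)).mul_mem (WC' H (W.inv_mem hw)) hc, ?_⟩
  calc w⁻¹ * c * n * t = w⁻¹ * ((c * n) * t * (c * n)⁻¹) * (c * n) := by group
    _ = w⁻¹ * (w * t * w⁻¹) * (c * n) := by rw [hwt]
    _ = t * (w⁻¹ * c * n) := by group

theorem same_one_of_mem (H : EOne F W) {x : G} (hx : x ∈ W) : Same W x 1 := by
  intro w hw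
  rw [H.wcomm hx hw]; group

theorem same_t_of_mem (H : EOne F W) {x : G} (hx : t * x ∈ W) : Same W x t := by
  intro w hw
  have h1 := H.wcomm hx hw
  have h2 : x = t⁻¹ * (t * x) := by group
  have h3 : x * w * x⁻¹ = t⁻¹ * ((t * x) * w) * (t * x)⁻¹ * t := by group
  rw [h3, h1, F.tinv]; group

/-- an element of `C(t) ∩ N(W)` which is trivial on `V` has square trivial on `W` -/
theorem sq_triv (H : EOne F W) {n : G} (hnW : n ∈ normalizer (W : Set G)) (hnt : n * t = t * n)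
    (hnV : ∀ v ∈ V, n * v * n⁻¹ = v) : Same W (n * n) 1 := by
  intro w hw
  have ht : ∀ w ∈ W, t * w * t⁻¹ * w ∈ V := by
    intro w hw
    refine H.cW _ (W.mul_mem (H.tW w hw) hw) ?_
    have h1 := H.wcomm (H.tW w hw) hw
    calc t * w * t⁻¹ * w * t = w * (t * w * t⁻¹) * t := by rw [h1]
      _ = (t * t) * w * (t * w) := by rw [F.t2]; group
      _ = t * (t * w * t⁻¹ * w) := by rw [F.tinv]; group
  set v := t * w * t⁻¹ * w with hv
  have hvV : v ∈ V := ht w hw
  have htw : t * w * t⁻¹ = v * w := by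
    rw [hv, mul_assoc (t * w * t⁻¹), H.wsq w hw, mul_one]
  set c := n * w * n⁻¹ * w with hc
  have hnw : n * w * n⁻¹ ∈ W := norm_conj hnW hw
  have hcW : c ∈ W := W.mul_mem hnw hw
  have hcw : n * w * n⁻¹ = c * w := by rw [hc, mul_assoc (n * w * n⁻¹), H.wsq w hw, mul_one]
  have htn : t * (n * w * n⁻¹) * t⁻¹ = v * (n * w * n⁻¹) := by
    calc t * (n * w * n⁻¹) * t⁻¹ = (t * n) * w * (t * n)⁻¹ := by group
      _ = (n * t) * w * (n * t)⁻¹ := by rw [hnt]
      _ = n * (t * w * t⁻¹) * n⁻¹ := by group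
      _ = (n * v * n⁻¹) * (n * w * n⁻¹) := by rw [htw]; group
      _ = v * (n * w * n⁻¹) := by rw [hnV v hvV]
  have hcV : c ∈ V := by
    refine H.cW _ hcW ?_
    have h1 : t * c * t⁻¹ = c := by
      calc t * c * t⁻¹ = (t * (n * w * n⁻¹) * t⁻¹) * (t * w * t⁻¹) := by rw [hc]; group
        _ = v * (n * w * n⁻¹) * (v * w) := by rw [htn, htw]
        _ = v * ((n * w * n⁻¹) * v) * w := by group
        _ = v * (v * (n * w * n⁻¹)) * w := by rw [H.wcomm hnw (H.VW hvV)]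
        _ = (v * v) * c := by rw [hc]; group
        _ = c := by rw [F.vsq v hvV, one_mul]
    rw [mul_inv_eq_iff_eq_mul] at h1
    exact h1.symm
  calc n * n * w * (n * n)⁻¹ = n * (n * w * n⁻¹) * n⁻¹ := by group
    _ = n * (c * w) * n⁻¹ := by rw [hcw]
    _ = (n * c * n⁻¹) * (n * w * n⁻¹) := by group
    _ = c * (c * w) := by rw [hnV c hcV, hcw]
    _ = 1 * w * 1⁻¹ := by rw [← mul_assoc, F.vsq c hcV]; group

theorem pow_norm {n : G} (hnW : n ∈ normalizer (W : Set G)) (k : ℕ) :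
    n ^ k ∈ normalizer (W : Set G) := (normalizer (W : Set G)).pow_mem hnW k

theorem Same.pow {x y : G} (h : Same W x y) (hx : x ∈ normalizer (W : Set G)) (k : ℕ) :
    Same W (x ^ k) (y ^ k) := by
  induction k with
  | zero => rw [pow_zero, pow_zero]; exact Same.refl 1
  | succ k ih =>
    rw [pow_succ, pow_succ]
    exact ih.mul h (fun w hw => norm_conj hx hw)

/-- **kernel**: an element of `C(t) ∩ N(W)` which is trivial on `V` acts on `W` as `1` or `t` -/
theorem kernel (H : EOne F W) (hq : 16 ≤ Nat.card V) {n : G} (hnW : n ∈ normalizer (W : Set G))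
    (hnt : n * t = t * n) (hnV : ∀ v ∈ V, n * v * n⁻¹ = v) : Same W n 1 ∨ Same W n t := by
  have h0 : orderOf n ≠ 0 := (orderOf_pos n).ne'
  obtain ⟨k, m, hm, hkm⟩ := Nat.exists_eq_two_pow_mul_odd h0
  obtain ⟨r, hr⟩ := hm
  -- `a = n ^ m` is a 2-element
  have ha2 : (n ^ m) ^ (2 ^ k) = 1 := by
    rw [← pow_mul, mul_comm, ← hkm, pow_orderOf_eq_one]
  have haE : ∀ e ∈ F.E, n ^ m * e = e * n ^ m := by
    have h1 : ∀ v ∈ V, Commute n v := fun v hv => by
      have := hnV v hv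
      rwa [mul_inv_eq_iff_eq_mul] at this
    rintro e (he | he)
    · exact (h1 e he).pow_left m
    · have h2 : Commute (n ^ m) (t * e) := (h1 _ he).pow_left m
      have h3 : Commute (n ^ m) t := (show Commute n t from hnt).pow_left m
      have h4 : Commute (n ^ m) (t * (t * e)) := h3.mul_right h2
      rw [← F.eq_tmul] at h4
      exact h4
  have hz : IsPGroup 2 (zpowers (n ^ m)) := by
    rintro ⟨x, hx⟩
    obtain ⟨j, rfl⟩ := mem_zpowers_iff.1 hx
    refine ⟨k, Subtype.ext ?_⟩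
    change ((n ^ m) ^ j) ^ (2 ^ k) = 1
    rw [← zpow_natCast, ← zpow_mul, mul_comm, zpow_mul, zpow_natCast, ha2, one_zpow]
  have hE2 : IsPGroup 2 F.E := F.T2.to_le F.ET
  have hP : IsPGroup 2 (F.E ⊔ zpowers (n ^ m) : Subgroup G) := by
    refine isPGroup_sup hE2 hz ?_
    rw [zpowers_le]
    refine conj_mem_norm fun e he => ?_
    rw [haE e he, mul_inv_cancel_right]; exact he
  have hPt : F.E ⊔ zpowers (n ^ m) ≤ centralizer {t} := by
    refine sup_le (fun e he => mem_centralizer_singleton_iff.2 (F.tcomm he)) ?_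
    rw [zpowers_le]
    exact mem_centralizer_singleton_iff.2 (haE t F.tE)
  have hPV : F.E ⊔ zpowers (n ^ m) ≤ centralizer (V : Set G) := by
    refine sup_le (fun e he => mem_centralizer_iff.2 fun v hv => F.Ecomm (F.VE hv) he) ?_
    rw [zpowers_le]
    exact mem_centralizer_iff.2 fun v hv => (haE v (F.VE hv)).symm
  have h1 := H.card_cent hq hP hPt hPV le_sup_left
  have h2 : F.E = F.E ⊔ zpowers (n ^ m) :=
    Subgroup.eq_of_le_of_card_ge le_sup_left (h1.trans F.card_E.2)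
  have h3 : n ^ m ∈ F.E := by
    rw [h2]; exact mem_sup_right (mem_zpowers _)
  -- `n` acts as `n ^ m`
  have h4 : Same W (n ^ m) n := by
    have h5 := (sq_triv H hnW hnt hnV).pow ((normalizer (W : Set G)).mul_mem hnW hnW) r
    have h6 := h5.mul (Same.refl n) (fun w hw => norm_conj hnW hw)
    rw [one_pow, one_mul] at h6
    have h7 : (n * n) ^ r * n = n ^ m := by
      rw [← pow_two, ← pow_mul, hr, pow_succ]
    rwa [h7] at h6
  rcases h3 with h | h
  · exact Or.inl (h4.symm.trans (same_one_of_mem H (H.VW h)))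
  · exact Or.inr (h4.symm.trans (same_t_of_mem H (H.VW h)))

/-- `d` acts on `W` as a cyclic group of order `q - 1`, regularly on `V#`, and `⟨d⟩` is normal in
the centraliser of `t` in `N(W)/C(W)` -/
structure Tor (F : Fld t V R T) (W : Subgroup G) (d : G) : Prop where
  dt : d * t = t * d
  dW : d ∈ normalizer (W : Set G)
  ord : Same W (d ^ (Nat.card V - 1)) 1
  reg : ∀ v ∈ V, v ≠ 1 → ∀ u ∈ V, u ≠ 1 → ∃ j : ℕ, d ^ j * v * (d ^ j)⁻¹ = u
  norm : ∀ n ∈ normalizer (W : Set G), Same W (n * t * n⁻¹) t → ∃ j : ℕ,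
    Same W (n * d * n⁻¹) (d ^ j)

theorem norm_V (H : EOne F W) {n : G} (hnW : n ∈ normalizer (W : Set G)) (hnt : n * t = t * n)
    {v : G} (hv : v ∈ V) : n * v * n⁻¹ ∈ V := by
  refine H.cW _ (norm_conj hnW (H.VW hv)) ?_
  calc n * v * n⁻¹ * t = n * v * (n⁻¹ * t * n) * n⁻¹ := by group
    _ = n * (v * t) * n⁻¹ := by
      have : n⁻¹ * t * n = t := by rw [mul_assoc, ← hnt]; group
      rw [this]; group
    _ = n * (t * v) * n⁻¹ := by rw [F.tv hv]
    _ = (n * t) * v * n⁻¹ := by group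
    _ = t * (n * v * n⁻¹) := by rw [hnt]; group

theorem commute_pow {n : G} (hnt : n * t = t * n) (k : ℕ) : n ^ k * t = t * n ^ k :=
  ((show Commute n t from hnt).pow_left k)

theorem one_le_card (F : Fld t V R T) (hq : 16 ≤ Nat.card V) :
    ∃ r, Nat.card V - 1 = 2 * r + 1 := by
  obtain ⟨k, hk⟩ := F.two_dvd_card_V hq
  exact ⟨k - 1, by omega⟩

/-- correction of the torus element -/
theorem torus (H : EOne F W) (hq : 16 ≤ Nat.card V) {d : G} (hdt : d * t = t * d)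
    (hdW : ∀ w ∈ W, d * w * d⁻¹ ∈ W)
    (hdq : ∀ v ∈ V, d ^ (Nat.card V - 1) * v * (d ^ (Nat.card V - 1))⁻¹ = v)
    (reg : ∀ v ∈ V, v ≠ 1 → ∀ u ∈ V, u ≠ 1 → ∃ j : ℕ, d ^ j * v * (d ^ j)⁻¹ = u)
    (hD : ∀ n : G, n * t = t * n → (∀ v ∈ V, n * v * n⁻¹ ∈ V) → ∃ j : ℕ, ∀ v ∈ V,
      (n * d * n⁻¹) * v * (n * d * n⁻¹)⁻¹ = d ^ j * v * (d ^ j)⁻¹) :
    ∃ d1 : G, Tor F W d1 ∧ ∀ v ∈ V, d1 * v * d1⁻¹ = d * v * d⁻¹ := by
  set q := Nat.card V with hqdef
  have hdWn : d ∈ normalizer (W : Set G) := conj_mem_norm hdW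
  have hdV : ∀ v ∈ V, d * v * d⁻¹ ∈ V := fun v hv => norm_V H hdWn hdt hv
  have hdVn : d ∈ normalizer (V : Set G) := conj_mem_norm hdV
  -- `e = d ^ (q - 1)` acts as `1` or `t`
  have he : Same W (d ^ (q - 1)) 1 ∨ Same W (d ^ (q - 1)) t :=
    kernel H hq (pow_norm hdWn _) (commute_pow hdt _) hdq
  have he2 : Same W (d ^ (q - 1) * d ^ (q - 1)) 1 :=
    sq_triv H (pow_norm hdWn _) (commute_pow hdt _) hdq
  -- `d1 = d ^ q`
  have hd1V : ∀ v ∈ V, d ^ q * v * (d ^ q)⁻¹ = d * v * d⁻¹ := by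
    intro v hv
    have h1 : d ^ q = d * d ^ (q - 1) := by
      rw [← pow_succ']; congr 1; omega
    rw [h1]
    calc d * d ^ (q - 1) * v * (d * d ^ (q - 1))⁻¹
        = d * (d ^ (q - 1) * v * (d ^ (q - 1))⁻¹) * d⁻¹ := by group
      _ = d * v * d⁻¹ := by rw [hdq v hv]
  have hd1j : ∀ j : ℕ, ∀ v ∈ V, (d ^ q) ^ j * v * ((d ^ q) ^ j)⁻¹ = d ^ j * v * (d ^ j)⁻¹ := by
    intro j
    exact Same.pow (W := V) (x := d ^ q) (y := d) hd1V (pow_norm hdVn q) j
  have hord : Same W ((d ^ q) ^ (q - 1)) 1 := by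
    obtain ⟨r, hr⟩ : 2 ∣ q := F.two_dvd_card_V hq
    have h1 : (d ^ q) ^ (q - 1) = (d ^ (q - 1) * d ^ (q - 1)) ^ r := by
      rw [← pow_mul, ← pow_two, ← pow_mul, ← pow_mul]
      congr 1
      rw [mul_comm q, ← hr]
    rw [h1]
    have h2 := he2.pow ((normalizer (W : Set G)).mul_mem (pow_norm hdWn _) (pow_norm hdWn _)) r
    rwa [one_pow] at h2
  refine ⟨d ^ q, ⟨commute_pow hdt q, pow_norm hdWn q, hord, ?_, ?_⟩, hd1V⟩
  · intro v hv hv1 u hu hu1
    obtain ⟨j, hj⟩ := reg v hv hv1 u hu hu1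
    exact ⟨j, by rw [hd1j j v hv]; exact hj⟩
  · intro n hn hnt
    obtain ⟨c, hc, hct⟩ := frattini H hq hnt
    have hcn : c ∈ normalizer (W : Set G) := cent_le_norm hc
    set m := c * n with hm
    have hmn : m ∈ normalizer (W : Set G) := (normalizer (W : Set G)).mul_mem hcn hn
    obtain ⟨j, hj⟩ := hD m hct (fun v hv => norm_V H hmn hct hv)
    refine ⟨j, ?_⟩
    -- `x = d1^{-j} m d1 m⁻¹`
    have hmV : m ∈ normalizer (V : Set G) := conj_mem_norm fun v hv => norm_V H hmn hct hv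
    have hA : ∀ v ∈ V, (m * d ^ q * m⁻¹) * v * (m * d ^ q * m⁻¹)⁻¹ =
        (d ^ q) ^ j * v * ((d ^ q) ^ j)⁻¹ := by
      intro v hv
      rw [hd1j j v hv, ← hj v hv]
      have h1 := hd1V _ (norm_conj' hmV hv)
      calc m * d ^ q * m⁻¹ * v * (m * d ^ q * m⁻¹)⁻¹
          = m * (d ^ q * (m⁻¹ * v * m) * (d ^ q)⁻¹) * m⁻¹ := by group
        _ = m * (d * (m⁻¹ * v * m) * d⁻¹) * m⁻¹ := by rw [h1]
        _ = m * d * m⁻¹ * v * (m * d * m⁻¹)⁻¹ := by group
    set x := ((d ^ q) ^ j)⁻¹ * (m * d ^ q * m⁻¹) with hx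
    have hd1t := commute_pow hdt q
    have hd1jt : Commute ((d ^ q) ^ j) t := (show Commute (d ^ q) t from hd1t).pow_left j
    have hxt : x * t = t * x := by
      have h1 : Commute m t := hct
      have h2 : Commute x t := by
        rw [hx]
        exact (hd1jt.inv_left).mul_left ((h1.mul_left (show Commute (d ^ q) t from hd1t)).mul_left
          h1.inv_left)
      exact h2
    have hdqn : d ^ q ∈ normalizer (W : Set G) := pow_norm hdWn q
    have hmd : m * d ^ q * m⁻¹ ∈ normalizer (W : Set G) :=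
      (normalizer (W : Set G)).mul_mem ((normalizer (W : Set G)).mul_mem hmn hdqn)
        ((normalizer (W : Set G)).inv_mem hmn)
    have hdj : (d ^ q) ^ j ∈ normalizer (W : Set G) := pow_norm hdqn j
    have hxW : x ∈ normalizer (W : Set G) :=
      (normalizer (W : Set G)).mul_mem ((normalizer (W : Set G)).inv_mem hdj) hmd
    have hxV : ∀ v ∈ V, x * v * x⁻¹ = v := by
      intro v hv
      have h1 := hA v hv
      calc x * v * x⁻¹ = ((d ^ q) ^ j)⁻¹ * ((m * d ^ q * m⁻¹) * v * (m * d ^ q * m⁻¹)⁻¹) *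
            (d ^ q) ^ j := by rw [hx]; group
        _ = v := by rw [h1]; group
    have hmain : Same W (m * d ^ q * m⁻¹) ((d ^ q) ^ j) := by
      have hmx : m * d ^ q * m⁻¹ = (d ^ q) ^ j * x := by rw [hx]; group
      rcases kernel H hq hxW hxt hxV with h | h
      · have h1 := (Same.refl (W := W) ((d ^ q) ^ j)).mul h (fun w hw => norm_conj hxW hw)
        rwa [← hmx, mul_one] at h1
      · exfalso
        -- `m d1 m⁻¹ ~ d1^j t`, take the `(q - 1)`-th power
        have h1 := (Same.refl (W := W) ((d ^ q) ^ j)).mul h (fun w hw => norm_conj hxW hw)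
        rw [← hmx] at h1
        have h2 := h1.pow hmd (q - 1)
        have h3 : Same W ((m * d ^ q * m⁻¹) ^ (q - 1)) 1 := by
          rw [conj_pow]
          intro w hw
          have h4 := hord _ (norm_conj' hmn hw)
          calc m * (d ^ q) ^ (q - 1) * m⁻¹ * w * (m * (d ^ q) ^ (q - 1) * m⁻¹)⁻¹
              = m * ((d ^ q) ^ (q - 1) * (m⁻¹ * w * m) * ((d ^ q) ^ (q - 1))⁻¹) * m⁻¹ := by group
            _ = 1 * w * 1⁻¹ := by rw [h4]; group
        have h4 : Same W (((d ^ q) ^ j * t) ^ (q - 1)) t := by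
          obtain ⟨r, hr⟩ := one_le_card F hq
          have h5 : ((d ^ q) ^ j * t) ^ (q - 1) = ((d ^ q) ^ (q - 1)) ^ j * t := by
            rw [hd1jt.mul_pow]
            congr 1
            · rw [← pow_mul, ← pow_mul, ← pow_mul, ← pow_mul]
              congr 1
              ring
            · rw [← hqdef] at hr
              change t ^ (Nat.card V - 1) = t
              rw [hr, pow_succ, pow_mul, pow_two, F.t2, one_pow, one_mul]
          rw [h5]
          have h6 := (hord.pow (pow_norm hdqn _) j).mul (Same.refl (W := W) t) H.tW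
          rwa [one_pow, one_mul] at h6
        have h5 : Same W 1 t := h3.symm.trans (h2.trans h4)
        have h6 := same_iff.1 h5.symm
        rw [inv_one, one_mul] at h6
        exact tnC H hq h6
    -- back to `n = c⁻¹ m`
    have hnm : n = c⁻¹ * m := by rw [hm]; group
    intro w hw
    have h1 := hmain w hw
    have hc' := mem_centralizer_iff.1 hc
    have h2 : ∀ w ∈ W, c * w * c⁻¹ = w := fun w hw => by rw [← hc' w hw, mul_inv_cancel_right]
    have h2' : ∀ w ∈ W, c⁻¹ * w * c = w := fun w hw => by rw [mul_assoc, hc' w hw]; group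
    calc n * d ^ q * n⁻¹ * w * (n * d ^ q * n⁻¹)⁻¹
        = c⁻¹ * ((m * d ^ q * m⁻¹) * (c * w * c⁻¹) * (m * d ^ q * m⁻¹)⁻¹) * c := by
          rw [hnm]; group
      _ = c⁻¹ * ((m * d ^ q * m⁻¹) * w * (m * d ^ q * m⁻¹)⁻¹) * c := by rw [h2 w hw]
      _ = (m * d ^ q * m⁻¹) * w * (m * d ^ q * m⁻¹)⁻¹ := h2' _ (norm_conj hmd hw)
      _ = (d ^ q) ^ j * w * ((d ^ q) ^ j)⁻¹ := h1

/-- the centraliser of `t` and `d` in `N(W)/C(W)` is `⟨t, d⟩` -/
theorem Tor.cent (H : EOne F W) (hq : 16 ≤ Nat.card V) {d : G} (D : Tor F W d) {n : G}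
    (hn : n ∈ normalizer (W : Set G)) (hnt : Same W (n * t * n⁻¹) t)
    (hnd : Same W (n * d * n⁻¹) d) : ∃ j : ℕ, Same W n (d ^ j) ∨ Same W n (d ^ j * t) := by
  obtain ⟨c, hc, hct⟩ := frattini H hq hnt
  have hcn : c ∈ normalizer (W : Set G) := cent_le_norm hc
  set m := c * n with hm
  have hmn : m ∈ normalizer (W : Set G) := (normalizer (W : Set G)).mul_mem hcn hn
  have hc' := mem_centralizer_iff.1 hc
  have h2 : ∀ w ∈ W, c * w * c⁻¹ = w := fun w hw => by rw [← hc' w hw, mul_inv_cancel_right]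
  have hsame : Same W m n := by
    intro w hw
    calc m * w * m⁻¹ = c * (n * w * n⁻¹) * c⁻¹ := by rw [hm]; group
      _ = n * w * n⁻¹ := h2 _ (norm_conj hn hw)
  have hmd : Same W (m * d * m⁻¹) d := by
    intro w hw
    have h3 : c⁻¹ * w * c = w := by rw [mul_assoc, hc' w hw]; group
    have h4 : (n * d * n⁻¹) * w * (n * d * n⁻¹)⁻¹ ∈ W := by
      rw [hnd w hw]; exact norm_conj D.dW hw
    calc m * d * m⁻¹ * w * (m * d * m⁻¹)⁻¹
        = c * ((n * d * n⁻¹) * (c⁻¹ * w * c) * (n * d * n⁻¹)⁻¹) * c⁻¹ := by rw [hm]; group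
      _ = c * ((n * d * n⁻¹) * w * (n * d * n⁻¹)⁻¹) * c⁻¹ := by rw [h3]
      _ = (n * d * n⁻¹) * w * (n * d * n⁻¹)⁻¹ := h2 _ h4
      _ = d * w * d⁻¹ := hnd w hw
  -- an element `v0 ≠ 1`
  obtain ⟨v0, hv0, hv01⟩ : ∃ v ∈ V, v ≠ 1 := by
    by_contra hcon
    push Not at hcon
    have : V = ⊥ := (Subgroup.eq_bot_iff_forall V).2 hcon
    rw [this, Subgroup.card_bot] at hq
    omega
  have hmv : m * v0 * m⁻¹ ∈ V := norm_V H hmn hct hv0
  obtain ⟨j, hj⟩ := D.reg v0 hv0 hv01 _ hmv (conj_ne_one hv01)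
  refine ⟨j, ?_⟩
  have hdVn : ∀ v ∈ V, d * v * d⁻¹ ∈ V := fun v hv => norm_V H D.dW D.dt hv
  -- `m` acts on `V` as `d ^ j`
  have hmV : ∀ v ∈ V, m * v * m⁻¹ = d ^ j * v * (d ^ j)⁻¹ := by
    intro v hv
    by_cases hv1 : v = 1
    · rw [hv1]; group
    obtain ⟨i, hi⟩ := D.reg v0 hv0 hv01 v hv hv1
    have h3 : Same W (m * d ^ i * m⁻¹) (d ^ i) := by
      rw [← conj_pow]
      exact hmd.pow ((normalizer (W : Set G)).mul_mem ((normalizer (W : Set G)).mul_mem hmn D.dW)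
        ((normalizer (W : Set G)).inv_mem hmn)) i
    calc m * v * m⁻¹ = (m * d ^ i * m⁻¹) * (m * v0 * m⁻¹) * (m * d ^ i * m⁻¹)⁻¹ := by
          rw [← hi]; group
      _ = d ^ i * (m * v0 * m⁻¹) * (d ^ i)⁻¹ := h3 _ (H.VW hmv)
      _ = d ^ i * (d ^ j * v0 * (d ^ j)⁻¹) * (d ^ i)⁻¹ := by rw [hj]
      _ = (d ^ i * d ^ j) * v0 * (d ^ i * d ^ j)⁻¹ := by group
      _ = (d ^ j * d ^ i) * v0 * (d ^ j * d ^ i)⁻¹ := by rw [← pow_add, add_comm, pow_add]
      _ = d ^ j * (d ^ i * v0 * (d ^ i)⁻¹) * (d ^ j)⁻¹ := by group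
      _ = d ^ j * v * (d ^ j)⁻¹ := by rw [hi]
  have hdjn : d ^ j ∈ normalizer (W : Set G) := pow_norm D.dW j
  have hdjt : Commute (d ^ j) t := (show Commute d t from D.dt).pow_left j
  have hx := kernel H hq (n := (d ^ j)⁻¹ * m)
    ((normalizer (W : Set G)).mul_mem ((normalizer (W : Set G)).inv_mem hdjn) hmn)
    (hdjt.inv_left.mul_left (show Commute m t from hct))
    (fun v hv => by
      calc (d ^ j)⁻¹ * m * v * ((d ^ j)⁻¹ * m)⁻¹ = (d ^ j)⁻¹ * (m * v * m⁻¹) * d ^ j := by group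
        _ = v := by rw [hmV v hv]; group)
  have hmx : m = d ^ j * ((d ^ j)⁻¹ * m) := by group
  rcases hx with h | h
  · left
    have h3 := (Same.refl (W := W) (d ^ j)).mul h (fun w hw => norm_conj
      ((normalizer (W : Set G)).mul_mem ((normalizer (W : Set G)).inv_mem hdjn) hmn) hw)
    rw [← hmx, mul_one] at h3
    exact hsame.symm.trans h3
  · right
    have h3 := (Same.refl (W := W) (d ^ j)).mul h (fun w hw => norm_conj
      ((normalizer (W : Set G)).mul_mem ((normalizer (W : Set G)).inv_mem hdjn) hmn) hw)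
    rw [← hmx] at h3
    exact hsame.symm.trans h3

end Cfsg.Agent.StdL2.EOneX
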