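import Cfsg.Agent.StdL2.FTData
import Cfsg.Agent.StdL3.OneParity

/-!
# The tower with field automorphisms: the transfer at the end

`P = U T`, `t ^ G ∩ P = t ^ P`, `U ≤ G'`, `G = G' ⟨t⟩`: contradiction.
-/

set_option autoImplicit false
set_option Elab.async false
set_option linter.style.haveILetI false

namespace Cfsg.Agent.StdL2.FT

open scoped commutatorElement

open Cfsg.Agent.Lib.GoldschmidtFusion (exists_conj_le_in lt_inf_normalizer exists_sylow_in)
open Cfsg.Agent.StdL2 Cfsg.Agent.StdL2.Lv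

/-- a fixed point free involution on a finite set. -/
theorem even_of_free {α : Type*} (S : Finset α) (σ : α → α) (h1 : ∀ x ∈ S, σ x ∈ S)
    (h2 : ∀ x ∈ S, σ (σ x) = x) (h3 : ∀ x ∈ S, σ x ≠ x) : Even S.card := by
  have h4 : ∏ x ∈ S, (-1 : ℤˣ) = 1 := by
    apply Finset.prod_involution (fun x _ => σ x)
    · intro a _
      norm_num
    · intro a ha _
      exact h3 a ha
    · intro a ha
      exact h1 a ha
    · intro a ha
      exact h2 a ha
  rw [Finset.prod_const] at h4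
  exact (neg_one_pow_eq_one_iff_even (by decide)).1 h4

/-- **Transfer of an involution**, with a second involution acting on the cosets. -/
theorem transfer_val {G A : Type*} [Group G] [Finite G] [CommGroup A] (P : Sylow 2 G)
    (φ : (P : Subgroup G) →* A) {f t : G} (hf : f * f = 1) (ht : t * t = 1)
    (hft : f * t = t * f) (a : A) (ha : a * a = 1)
    (h1 : ∀ g : G, ∀ hg : g⁻¹ * f * g ∈ (P : Subgroup G), φ ⟨g⁻¹ * f * g, hg⟩ = a ∨
      φ ⟨g⁻¹ * f * g, hg⟩ = 1)
    (h2 : ∀ g : G, ∀ hg : g⁻¹ * f * g ∈ (P : Subgroup G), g⁻¹ * t * g ∈ (P : Subgroup G) →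
      φ ⟨g⁻¹ * f * g, hg⟩ = a) :
    MonoidHom.transfer φ f = a := by
  classical
  have hfi : f⁻¹ = f := inv_eq_of_mul_eq_one_right hf
  have hti : t⁻¹ = t := inv_eq_of_mul_eq_one_right ht
  have := Fintype.ofFinite (G ⧸ (P : Subgroup G))
  obtain ⟨F, hF, hprod⟩ := Cfsg.Agent.StdL3.OneParity.transfer_eq_prod_fixed
    (P : Subgroup G) φ f hf
  have hfix : ∀ x : G, x * x = 1 → ∀ g : G,
      (x • ((g : G) : G ⧸ (P : Subgroup G)) = g ↔ g⁻¹ * x * g ∈ (P : Subgroup G)) := by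
    intro x hx g
    have hxi : x⁻¹ = x := inv_eq_of_mul_eq_one_right hx
    rw [MulAction.Quotient.smul_mk, smul_eq_mul, QuotientGroup.eq]
    have : (x * g)⁻¹ * g = g⁻¹ * x * g := by rw [mul_inv_rev, hxi]
    rw [this]
  set X := Finset.univ.filter (fun q : G ⧸ (P : Subgroup G) => f • q = q) with hX
  -- the number of fixed cosets is odd
  have hodd : ¬ Even X.card := by
    intro he
    have h3 : Even (Finset.univ.filter (fun q : G ⧸ (P : Subgroup G) => ¬ f • q = q)).card := by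
      apply even_of_free _ (fun q => f • q)
      · intro q hq
        rw [Finset.mem_filter] at hq ⊢
        refine ⟨Finset.mem_univ _, fun h => hq.2 (MulAction.injective f h)⟩
      · intro q _
        rw [← mul_smul, hf, one_smul]
      · intro q hq
        rw [Finset.mem_filter] at hq
        exact hq.2
    have h4 := Finset.card_filter_add_card_filter_not (s := Finset.univ)
      (fun q : G ⧸ (P : Subgroup G) => f • q = q)
    have h5 : Even (Finset.univ : Finset (G ⧸ (P : Subgroup G))).card := by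
      rw [← h4]
      exact he.add h3
    rw [Finset.card_univ, ← Nat.card_eq_fintype_card, ← Subgroup.index_eq_card] at h5
    exact P.not_dvd_index (even_iff_two_dvd.1 h5)
  by_cases ha1 : a = 1
  · rw [hprod, ha1]
    apply Finset.prod_eq_one
    intro q hq
    rw [Finset.mem_filter] at hq
    obtain ⟨g, rfl⟩ := QuotientGroup.mk_surjective q
    have hg := (hfix f hf g).1 hq.2
    rw [hF _ g rfl hg]
    rcases h1 g hg with h | h
    · rw [h, ha1]
    · exact h
  -- the values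
  have hval : ∀ q ∈ X, F q = a ∨ F q = 1 := by
    intro q hq
    rw [hX, Finset.mem_filter] at hq
    obtain ⟨g, rfl⟩ := QuotientGroup.mk_surjective q
    have hg := (hfix f hf g).1 hq.2
    rw [hF _ g rfl hg]
    exact h1 g hg
  have hsplit := Finset.prod_filter_mul_prod_filter_not X (fun q => F q = 1) F
  have hev : Even (X.filter (fun q => F q = 1)).card := by
    apply even_of_free _ (fun q => t • q)
    · intro q hq
      rw [Finset.mem_filter, hX, Finset.mem_filter] at hq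
      obtain ⟨⟨_, hq1⟩, hq2⟩ := hq
      obtain ⟨g, rfl⟩ := QuotientGroup.mk_surjective q
      have hg := (hfix f hf g).1 hq1
      rw [hF _ g rfl hg] at hq2
      have e : (t * g)⁻¹ * f * (t * g) = g⁻¹ * f * g := by
        have e1 : (t * g)⁻¹ * f * (t * g) = g⁻¹ * (t⁻¹ * (f * t)) * g := by group
        rw [e1, hft, inv_mul_cancel_left]
      have hg' : (t * g)⁻¹ * f * (t * g) ∈ (P : Subgroup G) := by rw [e]; exact hg
      have e2 : t • ((g : G) : G ⧸ (P : Subgroup G)) = ((t * g : G) : G ⧸ (P : Subgroup G)) := rfl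
      rw [Finset.mem_filter, hX, Finset.mem_filter]
      refine ⟨⟨Finset.mem_univ _, ?_⟩, ?_⟩
      · rw [e2]
        exact (hfix f hf (t * g)).2 hg'
      · rw [e2, hF _ (t * g) rfl hg', ← hq2]
        congr 1
        exact Subtype.ext e
    · intro q _
      rw [← mul_smul, ht, one_smul]
    · intro q hq hcon
      rw [Finset.mem_filter, hX, Finset.mem_filter] at hq
      obtain ⟨⟨_, hq1⟩, hq2⟩ := hq
      obtain ⟨g, rfl⟩ := QuotientGroup.mk_surjective q
      have hg := (hfix f hf g).1 hq1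
      rw [hF _ g rfl hg] at hq2
      have h5 := h2 g hg ((hfix t ht g).1 hcon)
      exact ha1 (h5.symm.trans hq2)
  have hYodd : Odd (X.filter (fun q => ¬ F q = 1)).card := by
    rw [← Nat.not_even_iff_odd]
    intro h
    apply hodd
    rw [← Finset.card_filter_add_card_filter_not (s := X) (fun q => F q = 1)]
    exact hev.add h
  rw [hprod, ← hsplit, Finset.prod_eq_one (s := X.filter (fun q => F q = 1)) (by
    intro q hq
    exact (Finset.mem_filter.1 hq).2), one_mul]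
  rw [Finset.prod_congr rfl (g := fun _ => a) (by
    intro q hq
    rw [Finset.mem_filter] at hq
    exact (hval q hq.1).resolve_right hq.2), Finset.prod_const]
  obtain ⟨m, hm⟩ := hYodd
  rw [hm, pow_succ, pow_mul, pow_two, ha, one_pow, one_mul]

variable {G : Type*} [Group G] [Finite G] {t : G} {V T C₀ : Subgroup G}

namespace FTD

/-- `T / E` has at most one involution. -/
theorem uniq (H : FTD t V T C₀) {x s : G} (hx : x ∈ T) (hs : s ∈ T) (hxE : x ∉ H.E)
    (hsE : s ∉ H.E) (hx2 : x * x ∈ H.E) (hs2 : s * s ∈ H.E) : x * s ∈ H.E := by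
  classical
  obtain ⟨φ, hφ, hcyc⟩ := H.cyc'
  have hEn : (H.E.subgroupOf T).Normal := by
    constructor
    intro x hx y
    rw [Subgroup.mem_subgroupOf] at hx ⊢
    exact H.E_norm y.2 hx
  let π : T →* T ⧸ (H.E.subgroupOf T) := QuotientGroup.mk' _
  have hπ : ∀ x : T, π x = 1 ↔ (x : G) ∈ H.E := by
    intro x
    rw [show π x = (x : T ⧸ (H.E.subgroupOf T)) from rfl, QuotientGroup.eq_one_iff,
      Subgroup.mem_subgroupOf]
  have hcy : IsCyclic (T ⧸ (H.E.subgroupOf T)) := by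
    refine ⟨⟨π ⟨φ, hφ⟩, fun z => ?_⟩⟩
    obtain ⟨x, rfl⟩ := QuotientGroup.mk'_surjective _ z
    obtain ⟨n, hn⟩ := hcyc x x.2
    refine ⟨n, ?_⟩
    show π ⟨φ, hφ⟩ ^ (n : ℤ) = π x
    rw [zpow_natCast, ← map_pow, ← inv_mul_eq_one, ← map_inv, ← map_mul, hπ]
    exact hn
  have h1 : π ⟨x, hx⟩ ≠ 1 := fun h => hxE ((hπ _).1 h)
  have h2 : π ⟨s, hs⟩ ≠ 1 := fun h => hsE ((hπ _).1 h)
  have h3 : π ⟨x, hx⟩ ^ 2 = 1 := by
    rw [← map_pow, hπ]
    show x ^ 2 ∈ H.E
    rw [pow_two]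
    exact hx2
  have h4 : π ⟨s, hs⟩ ^ 2 = 1 := by
    rw [← map_pow, hπ]
    show s ^ 2 ∈ H.E
    rw [pow_two]
    exact hs2
  have h5 : orderOf (π ⟨x, hx⟩) = 2 := orderOf_eq_prime h3 h1
  have h6 : orderOf (π ⟨s, hs⟩) = 2 := orderOf_eq_prime h4 h2
  have h7 : π ⟨x, hx⟩ = π ⟨s, hs⟩ := by
    have : Fintype (T ⧸ (H.E.subgroupOf T)) := Fintype.ofFinite _
    have h8 := IsCyclic.card_orderOf_eq_totient (α := T ⧸ (H.E.subgroupOf T)) (d := 2) (by
      rw [← h5]
      exact orderOf_dvd_card)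
    rw [Nat.totient_two, Finset.card_eq_one] at h8
    obtain ⟨z, hz⟩ := h8
    have h9 : π ⟨x, hx⟩ ∈ ({z} : Finset _) := by
      rw [← hz, Finset.mem_filter]
      exact ⟨Finset.mem_univ _, h5⟩
    have h10 : π ⟨s, hs⟩ ∈ ({z} : Finset _) := by
      rw [← hz, Finset.mem_filter]
      exact ⟨Finset.mem_univ _, h6⟩
    rw [Finset.mem_singleton] at h9 h10
    rw [h9, h10]
  have h8 : π (⟨x, hx⟩ * ⟨s, hs⟩) = 1 := by
    rw [map_mul, h7, ← pow_two, h4]
  exact (hπ _).1 h8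

/-- `T / V` is abelian. -/
theorem comm_V (H : FTD t V T C₀) {x y : G} (hx : x ∈ T) (hy : y ∈ T) : ⁅x, y⁆ ∈ V := by
  obtain ⟨φ, hφ, hcyc⟩ := H.cyc'
  have hVn : (V.subgroupOf T).Normal := by
    constructor
    intro x hx y
    rw [Subgroup.mem_subgroupOf] at hx ⊢
    exact H.TV y y.2 x hx
  let π : T →* T ⧸ (V.subgroupOf T) := QuotientGroup.mk' _
  have hπ : ∀ x : T, π x = 1 ↔ (x : G) ∈ V := by
    intro x
    rw [show π x = (x : T ⧸ (V.subgroupOf T)) from rfl, QuotientGroup.eq_one_iff,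
      Subgroup.mem_subgroupOf]
  -- the image of `E`
  have hE : ∀ z : T, (z : G) ∈ H.E → ∀ y : T, Commute (π z) (π y) := by
    intro z hz y
    have ht : Commute (π ⟨t, H.tT⟩) (π y) := by
      show π ⟨t, H.tT⟩ * π y = π y * π ⟨t, H.tT⟩
      rw [← map_mul, ← map_mul]
      congr 1
      exact Subtype.ext (H.Tt y y.2).symm
    rcases hz with h | h
    · rw [(hπ z).2 h]
      exact Commute.one_left _
    · have h1 : π z = π ⟨t, H.tT⟩ := by
        have h2 : π (⟨t, H.tT⟩ * z) = 1 := (hπ _).2 h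
        rw [map_mul] at h2
        have h3 : π ⟨t, H.tT⟩ * π ⟨t, H.tT⟩ = 1 := by
          rw [← map_mul]
          have h4 : (⟨t, H.tT⟩ * ⟨t, H.tT⟩ : T) = 1 := Subtype.ext H.t2
          rw [h4, map_one]
        exact mul_left_cancel (h2.trans h3.symm)
      rw [h1]
      exact ht
  have hgen : ∀ z : T, ∃ n : ℕ, ∃ e : T, (e : G) ∈ H.E ∧ π z = π ⟨φ, hφ⟩ ^ n * π e := by
    intro z
    obtain ⟨n, hn⟩ := hcyc z z.2
    refine ⟨n, (⟨φ, hφ⟩ ^ n)⁻¹ * z, hn, ?_⟩
    rw [← map_pow, ← map_mul, mul_inv_cancel_left]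
  obtain ⟨n, e, he, h1⟩ := hgen ⟨x, hx⟩
  obtain ⟨m, e', he', h2⟩ := hgen ⟨y, hy⟩
  have h3 : Commute (π ⟨x, hx⟩) (π ⟨y, hy⟩) := by
    rw [h1, h2]
    have hc1 : Commute (π e) (π ⟨φ, hφ⟩ ^ m) := (hE e he _).pow_right m
    have hc2 : Commute (π e) (π e') := hE e he _
    have hc3 : Commute (π ⟨φ, hφ⟩ ^ n) (π e') := ((hE e' he' _).pow_right n).symm
    have hc4 : Commute (π ⟨φ, hφ⟩ ^ n) (π ⟨φ, hφ⟩ ^ m) :=
      (Commute.refl (π ⟨φ, hφ⟩)).pow_pow n m
    exact (hc4.mul_right hc3).mul_left (hc1.mul_right hc2)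
  have h4 : π ⁅(⟨x, hx⟩ : T), (⟨y, hy⟩ : T)⁆ = 1 := by
    rw [map_commutatorElement, commutatorElement_eq_one_iff_mul_comm]
    exact h3
  exact (hπ _).1 h4

end FTD

/-- **The end.** -/
theorem end_false (H : FTD t V T C₀) {U : Subgroup G} (hU2 : IsPGroup 2 U)
    (hTU : ∀ s ∈ T, ∀ u ∈ U, s * u * s⁻¹ ∈ U) (hVU : V ≤ U) (hUT : ∀ s ∈ T, s ∈ U → s ∈ V)
    (hgU : U ≤ commutator G)
    (hcl : ∀ g : G, g * t * g⁻¹ ∈ U ⊔ T → ∃ p ∈ U ⊔ T, g * t * g⁻¹ = p * t * p⁻¹)
    (gen : commutator G ⊔ Subgroup.zpowers t = ⊤) (hTE : ¬ T ≤ H.E) : False := by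
  classical
  have hTn : T ≤ Subgroup.normalizer (U : Set G) := fun s hs => mem_norm_of_le (hTU s hs)
  set P := U ⊔ T with hPdef
  have hP2 : IsPGroup 2 P := IsPGroup.to_sup_of_normal_left' hU2 H.T2 hTn
  have hUP : U ≤ P := le_sup_left
  have hTP : T ≤ P := le_sup_right
  have htP : t ∈ P := hTP H.tT
  have hmem : ∀ x ∈ P, ∃ u ∈ U, ∃ s ∈ T, x = u * s := by
    intro x hx
    have h1 : x ∈ ((U ⊔ T : Subgroup G) : Set G) := hx
    rw [Subgroup.coe_mul_of_right_le_normalizer_left _ _ hTn] at h1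
    obtain ⟨u, hu, s, hs, h2⟩ := Set.mem_mul.1 h1
    exact ⟨u, hu, s, hs, h2.symm⟩
  -- `C_P(t) = T` in any 2-group above
  have hcent : ∀ R : Subgroup G, IsPGroup 2 R → T ≤ R → ∀ z ∈ R, z * t = t * z → z ∈ T := by
    intro R hR hTR z hz hzt
    have h1 := H.card_le (P := R ⊓ Subgroup.centralizer ({t} : Set G)) (hR.to_le inf_le_left)
      (fun x hx => (Subgroup.mem_centralizer_singleton_iff.1 hx.2).symm)
    have h2 : T ≤ R ⊓ Subgroup.centralizer ({t} : Set G) := fun s hs =>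
      ⟨hTR hs, Subgroup.mem_centralizer_singleton_iff.2 (H.Tt s hs)⟩
    have h3 := Subgroup.eq_of_le_of_card_ge h2 h1
    rw [h3]
    exact ⟨hz, Subgroup.mem_centralizer_singleton_iff.2 hzt⟩
  -- Sylow
  obtain ⟨R, hR⟩ := hP2.exists_le_sylow
  have hRP : (R : Subgroup G) = P := by
    by_contra hne
    have hlt : P < (R : Subgroup G) := lt_of_le_of_ne hR (fun h => hne h.symm)
    obtain ⟨y, hy, hyP⟩ := SetLike.exists_of_lt (lt_inf_normalizer R.isPGroup' hlt)
    have h1 : y * t * y⁻¹ ∈ P := (Subgroup.mem_normalizer_iff.1 hy.2 t).1 htP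
    obtain ⟨p, hp, h2⟩ := hcl y h1
    apply hyP
    have h3 : (p⁻¹ * y) * t = t * (p⁻¹ * y) := by
      have h4 : (p⁻¹ * y) * t = p⁻¹ * (y * t * y⁻¹) * y := by group
      rw [h4, h2]
      group
    have h5 := hcent (R : Subgroup G) R.isPGroup' (hTP.trans hR) (p⁻¹ * y)
      (mul_mem (inv_mem (hR hp)) hy.1) h3
    have h6 : y = p * (p⁻¹ * y) := by group
    rw [h6]
    exact mul_mem hp (hTP h5)
  have hRmem : ∀ x, x ∈ (R : Subgroup G) ↔ x ∈ P := fun x => by rw [hRP]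
  have hRmem' : ∀ x, x ∈ R ↔ x ∈ P := hRmem
  -- the quotient `R / U`
  have hUPn : ∀ p ∈ P, ∀ u ∈ U, p * u * p⁻¹ ∈ U := by
    intro p hp u hu
    obtain ⟨a, ha, s, hs, rfl⟩ := hmem p hp
    have h1 : a * s * u * (a * s)⁻¹ = a * (s * u * s⁻¹) * a⁻¹ := by group
    rw [h1]
    exact mul_mem (mul_mem ha (hTU s hs u hu)) (inv_mem ha)
  have hUn : (U.subgroupOf (R : Subgroup G)).Normal := by
    constructor
    intro x hx y
    rw [Subgroup.mem_subgroupOf] at hx ⊢
    exact hUPn y ((hRmem y).1 y.2) x hx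
  let π : (R : Subgroup G) →* (R : Subgroup G) ⧸ (U.subgroupOf (R : Subgroup G)) :=
    QuotientGroup.mk' _
  have hπ : ∀ x : (R : Subgroup G), π x = 1 ↔ (x : G) ∈ U := by
    intro x
    rw [show π x = (x : (R : Subgroup G) ⧸ (U.subgroupOf (R : Subgroup G))) from rfl,
      QuotientGroup.eq_one_iff, Subgroup.mem_subgroupOf]
  have hπT : ∀ x : (R : Subgroup G), ∃ s, ∃ hs : s ∈ T, (∃ u ∈ U, (x : G) = u * s) ∧
      π x = π ⟨s, (hRmem s).2 (hTP hs)⟩ := by
    intro x
    obtain ⟨u, hu, s, hs, h⟩ := hmem x ((hRmem x).1 x.2)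
    refine ⟨s, hs, ⟨u, hu, h⟩, ?_⟩
    have h1 : x = ⟨u, (hRmem u).2 (hUP hu)⟩ * ⟨s, (hRmem s).2 (hTP hs)⟩ := Subtype.ext h
    rw [h1, map_mul, (hπ _).2 hu, one_mul]
  have hcomm : ∀ a b : (R : Subgroup G) ⧸ (U.subgroupOf (R : Subgroup G)), a * b = b * a := by
    intro a b
    obtain ⟨x, rfl⟩ := QuotientGroup.mk'_surjective _ a
    obtain ⟨y, rfl⟩ := QuotientGroup.mk'_surjective _ b
    obtain ⟨s, hs, -, h1⟩ := hπT x
    obtain ⟨s', hs', -, h2⟩ := hπT y
    show π x * π y = π y * π x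
    rw [h1, h2, ← commutatorElement_eq_one_iff_mul_comm, ← map_commutatorElement, hπ]
    exact hVU (H.comm_V hs hs')
  letI cg : CommGroup ((R : Subgroup G) ⧸ (U.subgroupOf (R : Subgroup G))) :=
    { (inferInstance : Group ((R : Subgroup G) ⧸ (U.subgroupOf (R : Subgroup G)))) with
      mul_comm := hcomm }
  have htU : t ∉ U := fun h => H.tV (hUT t H.tT h)
  have htR : t ∈ (R : Subgroup G) := (hRmem t).2 htP
  -- the conjugates of `t`
  have hclt : ∀ g : G, ∀ hg : g⁻¹ * t * g ∈ (R : Subgroup G),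
      ∃ p, ∃ _ : p ∈ (R : Subgroup G), g⁻¹ * t * g = p * t * p⁻¹ := by
    intro g hg
    have h1 : g⁻¹ * t * g⁻¹⁻¹ ∈ P := by
      rw [inv_inv]
      exact (hRmem _).1 hg
    obtain ⟨p, hp, h2⟩ := hcl g⁻¹ h1
    rw [inv_inv] at h2
    exact ⟨p, (hRmem p).2 hp, h2⟩
  have hvalt : ∀ g : G, ∀ hg : g⁻¹ * t * g ∈ (R : Subgroup G),
      π ⟨g⁻¹ * t * g, hg⟩ = π ⟨t, htR⟩ := by
    intro g hg
    obtain ⟨p, hp, h2⟩ := hclt g hg
    have h3 : (⟨g⁻¹ * t * g, hg⟩ : (R : Subgroup G)) = ⟨p, hp⟩ * ⟨t, htR⟩ * ⟨p, hp⟩⁻¹ :=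
      Subtype.ext h2
    rw [h3, map_mul, map_mul, map_inv, mul_comm (π ⟨p, hp⟩), mul_inv_cancel_right]
  have ha2 : π ⟨t, htR⟩ * π ⟨t, htR⟩ = 1 := by
    rw [← map_mul]
    have h4 : (⟨t, htR⟩ * ⟨t, htR⟩ : (R : Subgroup G)) = 1 := Subtype.ext H.t2
    rw [h4, map_one]
  have htr : MonoidHom.transfer π t = π ⟨t, htR⟩ :=
    transfer_val R π H.t2 H.t2 rfl _ ha2 (fun g hg => Or.inl (hvalt g hg))
      (fun g hg _ => hvalt g hg)
  have hker : ∀ {A : Type _} [CommGroup A] (τ : G →* A), ∀ x ∈ commutator G, τ x = 1 := by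
    intro A _ τ x hx
    exact Abelianization.commutator_subset_ker τ hx
  have htG : t ∉ commutator G := by
    intro h
    have h1 := hker (MonoidHom.transfer π) t h
    rw [htr, hπ] at h1
    exact htU h1
  -- squares
  have hsqG : ∀ x : G, x * x ∈ commutator G := by
    intro x
    have hx : x ∈ commutator G ⊔ Subgroup.zpowers t := by
      rw [gen]
      exact Subgroup.mem_top x
    have h1 : x ∈ ((commutator G ⊔ Subgroup.zpowers t : Subgroup G) : Set G) := hx
    rw [Subgroup.normal_mul] at h1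
    obtain ⟨c, hc, z, hz, h2⟩ := Set.mem_mul.1 h1
    obtain ⟨n, hn⟩ := Subgroup.mem_zpowers_iff.1 hz
    have hz2 : z * z = 1 := by
      rw [← hn, ← (Commute.refl t).mul_zpow n, H.t2, one_zpow]
    have h3 : x * x = c * (z * c * z⁻¹) * (z * z) := by
      rw [← h2]
      group
    rw [h3, hz2, mul_one]
    exact mul_mem hc ((inferInstance : (commutator G).Normal).conj_mem c hc z)
  -- the element `s`
  obtain ⟨s, hsT, hsE, hs2⟩ : ∃ s ∈ T, s ∉ H.E ∧ s * s ∈ H.E := by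
    obtain ⟨x, hx, hxE⟩ := SetLike.not_le_iff_exists.1 hTE
    have h1 : ∃ n : ℕ, x ^ (2 ^ n) ∈ H.E := by
      obtain ⟨n, hn⟩ := H.T2 ⟨x, hx⟩
      refine ⟨n, ?_⟩
      have h2 : x ^ (2 ^ n) = 1 := congrArg Subtype.val hn
      rw [h2]
      exact one_mem _
    have h3 := Nat.find_spec h1
    have h4 : Nat.find h1 ≠ 0 := by
      intro h
      rw [h, pow_zero, pow_one] at h3
      exact hxE h3
    obtain ⟨m, hm⟩ : ∃ m, Nat.find h1 = m + 1 := ⟨Nat.find h1 - 1, by omega⟩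
    refine ⟨x ^ (2 ^ m), pow_mem hx _, Nat.find_min h1 (by omega), ?_⟩
    rw [hm, pow_succ, pow_mul, pow_two] at h3
    exact h3
  have hVG : V ≤ commutator G := hVU.trans hgU
  have hsV : s * s ∈ V := by
    rcases hs2 with h | h
    · exact h
    · exfalso
      apply htG
      have h1 : t = (t * (s * s)) * (s * s)⁻¹ := by group
      rw [h1]
      exact mul_mem (hVG h) (inv_mem (hsqG s))
  -- the involution `f`
  obtain ⟨y, hy, hyv⟩ := H.fr s hsT (fun h => hsE (Or.inl h)) (fun h => hsE (Or.inr h))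
    (Or.inl hsV) (s * s) hsV (by group)
  set f := y * s with hf
  have hfT : f ∈ T := mul_mem (H.VT hy) hsT
  have hfE : f ∉ H.E := by
    intro h
    apply hsE
    have h1 : s = y⁻¹ * f := by rw [hf]; group
    rw [h1]
    exact H.E.mul_mem (H.E.inv_mem (Or.inl hy)) h
  have hf2 : f * f = 1 := by
    have h1 : f * f = (y * (s * y * s⁻¹)) * (s * s) := by rw [hf]; group
    rw [h1, ← hyv]
    exact H.vsq _ hsV
  have hft : f * t = t * f := H.Tt f hfT
  have hfR : f ∈ (R : Subgroup G) := (hRmem f).2 (hTP hfT)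
  -- the second quotient
  let N := Subgroup.zpowers (π ⟨t, htR⟩)
  let π2 : (R : Subgroup G) →* ((R : Subgroup G) ⧸ (U.subgroupOf (R : Subgroup G))) ⧸ N :=
    (QuotientGroup.mk' N).comp π
  have hN : ∀ a, a ∈ N → a = 1 ∨ a = π ⟨t, htR⟩ := by
    intro a ha
    obtain ⟨n, hn⟩ := Subgroup.mem_zpowers_iff.1 ha
    rcases Int.even_or_odd' n with ⟨m, hm | hm⟩
    · left
      rw [← hn, hm, zpow_mul, zpow_two, ha2, one_zpow]
    · right
      rw [← hn, hm, zpow_add, zpow_mul, zpow_two, ha2, one_zpow, one_mul, zpow_one]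
  have hπ2 : ∀ x : (R : Subgroup G), π2 x = 1 ↔ (x : G) ∈ U ∨ t * (x : G) ∈ U := by
    intro x
    have h1 : π2 x = 1 ↔ π x ∈ N := QuotientGroup.eq_one_iff _
    rw [h1]
    have h2 : t * (x : G) ∈ U ↔ π x = π ⟨t, htR⟩ := by
      have h3 : t * (x : G) ∈ U ↔ π (⟨t, htR⟩ * x) = 1 := (hπ (⟨t, htR⟩ * x)).symm
      rw [h3, map_mul]
      constructor
      · intro h
        exact mul_left_cancel (h.trans ha2.symm)
      · intro h
        rw [h, ha2]
    rw [h2, ← hπ x]
    constructor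
    · exact hN _
    · rintro (h | h)
      · rw [h]
        exact N.one_mem
      · rw [h]
        exact Subgroup.mem_zpowers _
  -- elements of `T`
  have hTUt : ∀ s ∈ T, s ∈ U ∨ t * s ∈ U → s ∈ H.E := by
    rintro s hs (h | h)
    · exact Or.inl (hUT s hs h)
    · exact Or.inr (hUT _ (mul_mem H.tT hs) h)
  -- values of order at most 2
  have hval2 : ∀ x : (R : Subgroup G), (x : G) * x = 1 → π2 x = π2 ⟨f, hfR⟩ ∨ π2 x = 1 := by
    intro x hx
    obtain ⟨s', hs', ⟨u, hu, hxs⟩, h1⟩ := hπT x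
    have h1' : π2 x = π2 ⟨s', (hRmem s').2 (hTP hs')⟩ := by
      show QuotientGroup.mk' N (π x) = QuotientGroup.mk' N (π _)
      rw [h1]
    by_cases hE : s' ∈ H.E
    · right
      rw [h1', hπ2]
      rcases hE with h | h
      · exact Or.inl (hVU h)
      · exact Or.inr (hVU h)
    · left
      have h2 : s' * s' ∈ H.E := by
        have h3 : π2 (⟨s', (hRmem s').2 (hTP hs')⟩ * ⟨s', (hRmem s').2 (hTP hs')⟩) = 1 := by
          rw [map_mul, ← h1', ← map_mul]
          have h4 : x * x = 1 := Subtype.ext hx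
          rw [h4, map_one]
        rw [hπ2] at h3
        exact hTUt _ (mul_mem hs' hs') h3
      have h5 := H.uniq hs' hfT hE hfE h2 (by rw [hf2]; exact H.E.one_mem)
      have h6 : π2 (⟨s', (hRmem s').2 (hTP hs')⟩ * ⟨f, hfR⟩) = 1 := by
        rw [hπ2]
        rcases h5 with h | h
        · exact Or.inl (hVU h)
        · exact Or.inr (hVU h)
      have h7 : π2 ⟨f, hfR⟩ * π2 ⟨f, hfR⟩ = 1 := by
        rw [← map_mul]
        have h8 : (⟨f, hfR⟩ * ⟨f, hfR⟩ : (R : Subgroup G)) = 1 := Subtype.ext hf2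
        rw [h8, map_one]
      rw [h1']
      rw [map_mul] at h6
      exact mul_right_cancel (h6.trans h7.symm)
  have hfval : π2 ⟨f, hfR⟩ ≠ 1 := by
    intro h
    rw [hπ2] at h
    exact hfE (hTUt f hfT h)
  have htr2 : MonoidHom.transfer π2 f = π2 ⟨f, hfR⟩ := by
    apply transfer_val R π2 hf2 H.t2 hft
    · rw [← map_mul]
      have h8 : (⟨f, hfR⟩ * ⟨f, hfR⟩ : (R : Subgroup G)) = 1 := Subtype.ext hf2
      rw [h8, map_one]
    · intro g hg
      apply hval2
      show g⁻¹ * f * g * (g⁻¹ * f * g) = 1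
      have h1 : g⁻¹ * f * g * (g⁻¹ * f * g) = g⁻¹ * (f * f) * g := by group
      rw [h1, hf2]
      group
    · intro g hg htg
      rcases hval2 ⟨g⁻¹ * f * g, hg⟩ (by
        show g⁻¹ * f * g * (g⁻¹ * f * g) = 1
        have h1 : g⁻¹ * f * g * (g⁻¹ * f * g) = g⁻¹ * (f * f) * g := by group
        rw [h1, hf2]
        group) with h | h
      · exact h
      exfalso
      obtain ⟨p, hp, h2⟩ := hclt g htg
      -- `c = g p` commutes with `t`
      have hc : (g * p) * t = t * (g * p) := by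
        have h3 : (g * p) * t = g * (p * t * p⁻¹) * p := by group
        rw [h3, ← h2]
        group
      have hc' : (g * p)⁻¹ * t = t * (g * p)⁻¹ := by
        have h4 : Commute (g * p) t := hc
        exact h4.inv_left.eq
      have hx : (g * p)⁻¹ * f * (g * p) ∈ (R : Subgroup G) := by
        have h3 : (g * p)⁻¹ * f * (g * p) = p⁻¹ * (g⁻¹ * f * g) * p := by group
        rw [h3]
        exact mul_mem (mul_mem (inv_mem hp) hg) hp
      have hval : π2 ⟨(g * p)⁻¹ * f * (g * p), hx⟩ = 1 := by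
        have h3 : (⟨(g * p)⁻¹ * f * (g * p), hx⟩ : (R : Subgroup G)) =
            ⟨p, hp⟩⁻¹ * ⟨g⁻¹ * f * g, hg⟩ * ⟨p, hp⟩ := by
          apply Subtype.ext
          show (g * p)⁻¹ * f * (g * p) = p⁻¹ * (g⁻¹ * f * g) * p
          group
        rw [h3, map_mul, map_mul, h, mul_one, ← map_mul, inv_mul_cancel, map_one]
      have hxT : (g * p)⁻¹ * f * (g * p) ∈ T := by
        apply hcent (R : Subgroup G) R.isPGroup' (hTP.trans hR) _ hx
        have h3 : Commute (g * p) t := hc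
        have h4 : Commute f t := hft
        exact ((h3.inv_left.mul_left h4).mul_left h3).eq
      have hxE : (g * p)⁻¹ * f * (g * p) ∈ H.E := by
        rw [hπ2] at hval
        exact hTUt _ hxT hval
      have hxC : (g * p)⁻¹ * f * (g * p) ∈ C₀ := H.C0E _ hxE
      have hfC : f ∈ C₀ := by
        have h3 := H.C0n (g * p) hc _ hxC
        have h4 : g * p * ((g * p)⁻¹ * f * (g * p)) * (g * p)⁻¹ = f := by group
        rwa [h4] at h3
      exact hfE (H.C0T f hfT hfC)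
  -- the contradiction
  apply hfval
  rw [← htr2]
  have hx : f ∈ commutator G ⊔ Subgroup.zpowers t := by
    rw [gen]
    exact Subgroup.mem_top f
  have h1 : f ∈ ((commutator G ⊔ Subgroup.zpowers t : Subgroup G) : Set G) := hx
  rw [Subgroup.normal_mul] at h1
  obtain ⟨c, hc, z, hz, h2⟩ := Set.mem_mul.1 h1
  obtain ⟨n, hn⟩ := Subgroup.mem_zpowers_iff.1 hz
  have htr3 : MonoidHom.transfer π2 t = 1 := by
    have h3 : ∀ g : G, ∀ hg : g⁻¹ * t * g ∈ (R : Subgroup G),
        π2 ⟨g⁻¹ * t * g, hg⟩ = 1 := by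
      intro g hg
      have h4 : π2 ⟨g⁻¹ * t * g, hg⟩ = π2 ⟨t, htR⟩ := by
        show QuotientGroup.mk' N (π _) = QuotientGroup.mk' N (π _)
        rw [hvalt g hg]
      rw [h4, hπ2]
      right
      show t * t ∈ U
      rw [H.t2]
      exact one_mem _
    exact transfer_val R π2 H.t2 H.t2 rfl 1 (one_mul 1) (fun g hg => Or.inl (h3 g hg))
      (fun g hg _ => h3 g hg)
  rw [← h2, map_mul, hker (MonoidHom.transfer π2) c hc, ← hn, map_zpow, htr3, one_zpow, one_mul]

end Cfsg.Agent.StdL2.FT
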