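import Cfsg.Agent.StdL2.FTTop
import Cfsg.Agent.StdL2.FTEnd

/-!
# S1773, `e ≥ 1`: the tower

From the Sylow 2-subgroup `T` of `C(t)` (`FTD`), the torus (`Tor`), the translations of level `0`
and `G = G' ⟨t⟩`: there is an elementary abelian `U`, invariant under `T`, of order `q ^ 2`, and a
conjugate of `t` in `U T` outside `⟨t⟩ U`.
-/

set_option autoImplicit false
set_option Elab.async false
set_option linter.style.haveILetI false

namespace Cfsg.Agent.StdL2.FT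

open scoped commutatorElement

open Cfsg.Agent.Lib.GoldschmidtFusion (exists_conj_le_in lt_inf_normalizer exists_sylow_in)
open Cfsg.Agent.StdL2 Cfsg.Agent.StdL2.Lv

variable {G : Type*} [Group G] {t d : G} {V W T C₀ U : Subgroup G} {k : ℕ}

/-- The output of the tower. -/
structure FOut (t : G) (V T : Subgroup G) (d : G) (U : Subgroup G) : Prop where
  usq : ∀ x ∈ U, x * x = 1
  card : Nat.card U = Nat.card V ^ 2
  VU : V ≤ U
  tU : t ∉ U
  TU : ∀ s ∈ T, ∀ u ∈ U, s * u * s⁻¹ ∈ U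
  com : ∀ u ∈ U, ⁅t, u⁆ ∈ V
  fix : ∀ u ∈ U, t * u = u * t → u ∈ V
  sur : ∀ v ∈ V, ∃ u ∈ U, ⁅t, u⁆ = v
  gU : U ≤ commutator G
  dd : ∃ d' : G, d' * t = t * d' ∧ (∀ v ∈ V, d' * v * d'⁻¹ = d * v * d⁻¹) ∧
    (∀ u ∈ U, d' * u * d'⁻¹ ∈ U)
  bad : ∃ u ∈ U, ∃ s ∈ T, s ∉ V ∧ t * s ∉ V ∧ (u * s) * (u * s) = 1 ∧ ∃ g : G, g * t * g⁻¹ = u * s

section

variable [Finite G]

omit [Finite G] in
theorem W_eq_V (L : Lv t d V W 0) : W = V := by
  apply le_antisymm _ L.VW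
  intro w hw
  have h2 := L.pw w hw
  rwa [pow_zero, pow_one] at h2

/-- `U` at the level `0`. -/
theorem case_zero {S : Subgroup G} (L : Lv t d V W 0) (Z : Stg t d V W S 0) (E : Ex t d V W U 0)
    (hUS : U ≤ S) (T1 : Tor t V d) (hc : ∀ x ∈ U, ∀ y ∈ U, x * y = y * x) :
    (∀ x ∈ U, x * x = 1) ∨
      ((∀ u ∈ U, u * u = 1 → u ∈ V) ∧ ∀ v ∈ V, ∃ u ∈ U, u * u = v) := by
  by_cases h : ∀ x ∈ U, x * x = 1
  · exact Or.inl h
  right
  push Not at h
  obtain ⟨x0, hx0, hx01⟩ := h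
  have hWV := W_eq_V L
  have hdU : ∀ n : ℕ, ∀ u ∈ U, d ^ n * u * (d ^ n)⁻¹ ∈ U := fun n u hu =>
    (Subgroup.mem_normalizer_iff.1 (pow_mem (mem_norm_of_le E.dU) n) u).1 hu
  have hVU : V ≤ U := L.VW.trans E.WU
  constructor
  · intro u hu hu2
    by_contra huV
    have h1 : ⁅t, u⁆ ^ (2 ^ 0) ≠ 1 := by
      intro h
      apply huV
      rw [← hWV]
      exact E.ker u hu h
    have h2 : ⁅t, x0⁆ ^ (2 ^ 0) ≠ 1 := by
      intro h
      apply hx01
      apply L.vsq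
      rw [← hWV]
      exact E.ker x0 hx0 h
    obtain ⟨n, hn⟩ := T1.reg _ (L.pw _ (E.tU u hu)) _ (L.pw _ (E.tU x0 hx0)) h1 h2
    have h3 := comm_conj' (d ^ n) t u
    rw [pow_dt' T1.dt] at h3
    have h4 : ⁅t, d ^ n * u * (d ^ n)⁻¹⁆ ^ (2 ^ 0) = ⁅t, x0⁆ ^ (2 ^ 0) := by
      rw [h3, conj_pow, hn]
    have h5 : ⁅t, (d ^ n * u * (d ^ n)⁻¹)⁻¹ * x0⁆ ^ (2 ^ 0) = 1 := by
      rw [Z.e_mul L (inv_mem (hUS (hdU n u hu))) (hUS hx0), Z.e_inv L (hUS (hdU n u hu)), h4,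
        inv_mul_cancel]
    have h6 : (d ^ n * u * (d ^ n)⁻¹)⁻¹ * x0 ∈ V := by
      rw [← hWV]
      exact E.ker _ (mul_mem (inv_mem (hdU n u hu)) hx0) h5
    apply hx01
    have h7 : d ^ n * u * (d ^ n)⁻¹ * (d ^ n * u * (d ^ n)⁻¹) = 1 := by
      have h8 : d ^ n * u * (d ^ n)⁻¹ * (d ^ n * u * (d ^ n)⁻¹) = d ^ n * (u * u) * (d ^ n)⁻¹ := by
        group
      rw [h8, hu2, mul_one, mul_inv_cancel]
    set u' := d ^ n * u * (d ^ n)⁻¹ with hu'
    have h8 : x0 * x0 = (u' * u') * ((u'⁻¹ * x0) * (u'⁻¹ * x0)) := by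
      have h9 := hc x0 hx0 u'⁻¹ (inv_mem (hdU n u hu))
      have h10 : (u' * u') * ((u'⁻¹ * x0) * (u'⁻¹ * x0)) = u' * (x0 * u'⁻¹) * x0 := by group
      rw [h10, h9]
      group
    rw [h8, h7, L.vsq _ h6, one_mul]
  · intro v hv
    by_cases hv1 : v = 1
    · exact ⟨1, one_mem _, by rw [hv1, one_mul]⟩
    · have h1 : x0 * x0 ∈ V := by
        rw [← hWV]
        exact E.sq x0 hx0
      obtain ⟨n, hn⟩ := T1.reg _ h1 v hv hx01 hv1
      refine ⟨d ^ n * x0 * (d ^ n)⁻¹, hdU n x0 hx0, ?_⟩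
      rw [← hn]
      group

theorem root_sq (L : Lv t d V W k) (hk : 1 ≤ k) : ∀ v ∈ V, ∃ a ∈ W, a * a = v := by
  intro v hv
  obtain ⟨w, hw, hwv⟩ := L.root v hv
  refine ⟨w ^ (2 ^ (k - 1)), pow_mem hw _, ?_⟩
  rw [← pow_two, ← pow_mul, ← pow_succ]
  have h1 : k - 1 + 1 = k := by omega
  rw [h1, hwv]

theorem sup_mem (hTU : ∀ s ∈ T, ∀ u ∈ U, s * u * s⁻¹ ∈ U) {x : G} (hx : x ∈ U ⊔ T) :
    ∃ u ∈ U, ∃ s ∈ T, x = u * s := by
  have hTn : T ≤ Subgroup.normalizer (U : Set G) := fun s hs => mem_norm_of_le (hTU s hs)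
  have h1 : x ∈ ((U ⊔ T : Subgroup G) : Set G) := hx
  rw [Subgroup.coe_mul_of_right_le_normalizer_left _ _ hTn] at h1
  obtain ⟨u, hu, s, hs, h2⟩ := Set.mem_mul.1 h1
  exact ⟨u, hu, s, hs, h2.symm⟩

/-- The end without translations. -/
theorem end_NT (H : FTD t V T C₀) (L : Lv t d V W k) (hk : 1 ≤ k)
    (hTW : ∀ s ∈ T, ∀ w ∈ W, s * w * s⁻¹ ∈ W) (hg : W ≤ commutator G)
    (tr0 : ∀ v ∈ V, ∃ n : G, (∀ w ∈ V, n * w * n⁻¹ ∈ V) ∧ n * t * n⁻¹ = t * v)
    (gen : commutator G ⊔ Subgroup.zpowers t = ⊤) (hTE : ¬ T ≤ H.E)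
    (hNT : ∀ n ∈ towerN t W, ⁅n, t⁆ ^ (2 ^ k) = 1) : False := by
  have ht2 := H.t2
  have hnc : ∀ g : G, g * t * g⁻¹ ∉ W := noconj_comm H L.W_pgroup L.comm (L.card_ge hk)
  apply end_false H L.W_pgroup hTW L.VW ?_ hg ?_ gen hTE
  · intro s hs hsW
    apply L.om s hsW
    have h1 := L.tinv s hsW
    rw [← H.Tt s hs, mul_inv_cancel_right] at h1
    nth_rewrite 1 [h1]
    exact inv_mul_cancel s
  · intro g hgx
    obtain ⟨w, hw, s, hs, hx⟩ := sup_mem hTW hgx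
    have hx2 : w * s * (w * s) = 1 := by
      rw [← hx]
      have h1 : g * t * g⁻¹ * (g * t * g⁻¹) = g * (t * t) * g⁻¹ := by group
      rw [h1, ht2, mul_one, mul_inv_cancel]
    by_cases hs1 : s ∈ V
    · exact absurd (hx ▸ mul_mem hw (L.VW hs1)) (hnc g)
    by_cases hs2 : t * s ∈ V
    · have h1 : w * s = t * (w⁻¹ * (t * s)) := by
        rw [← mul_assoc t, ← L.w_t ht2 hw, mul_assoc w t, ← eq_t_mul ht2]
      rw [h1] at hx
      obtain ⟨y, hy, hyx⟩ := conj_tW H L tr0 (fun g h => hnc g (L.VW h)) hNT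
        (mul_mem (inv_mem hw) (L.VW hs2)) hx
      exact ⟨y, Subgroup.mem_sup_left hy, by rw [hx, hyx]⟩
    · exfalso
      refine no_field H L.comm L.VW L.om (root_sq L hk) hs hs1 hs2 (x := w * s) ?_ ?_ hx2 g hx
      · intro v hv
        have h1 : w * s * v * (w * s)⁻¹ = w * (s * v * s⁻¹) * w⁻¹ := by group
        rw [h1, L.comm w hw _ (L.VW (H.TV s hs v hv)), mul_inv_cancel_right]
      · intro a ha
        have h1 : w * s * a * (w * s)⁻¹ = w * (s * a * s⁻¹) * w⁻¹ := by group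
        rw [h1]
        exact mul_mem (mul_mem hw (hTW s hs a ha)) (inv_mem hw)

/-- **The tower**, induction. -/
theorem ftower_abs {F : Type*} [Field F] [CharP F 2] [Finite F] {θ : F → G} {lam : F}
    (hF : ∃ r : F, r ≠ 0 ∧ r ≠ 1) (H : FTD t V T C₀) {d₀ : G} (T0 : Tor t V d₀)
    (tr0 : ∀ v ∈ V, ∃ n : G, (∀ w ∈ V, n * w * n⁻¹ ∈ V) ∧ n * t * n⁻¹ = t * v)
    (gen : commutator G ⊔ Subgroup.zpowers t = ⊤) (hTE : ¬ T ≤ H.E) :
    ∀ (n k : ℕ) (W : Subgroup G) (d : G), Lv t d V W k → Crd V d θ lam → d * t = t * d →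
      (∀ v ∈ V, d * v * d⁻¹ = d₀ * v * d₀⁻¹) → W ≤ commutator G →
      (∀ s ∈ T, ∀ w ∈ W, s * w * s⁻¹ ∈ W) → Nat.card G - Nat.card W = n →
      ∃ U, FOut t V T d₀ U := by
  intro n
  induction n using Nat.strong_induction_on with
  | _ n ih =>
    intro k W d L C hdt hd0 hg hTW hn
    have ht2 := H.t2
    have hV4 : 4 ≤ Nat.card V := by have := H.card16; omega
    have T1 : Tor t V d := T0.congr hdt hd0
    rcases tr_or H.tb H.card16 T1 L with hTr | hNT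
    swap
    · -- no translations
      exfalso
      rcases Nat.eq_zero_or_pos k with hk | hk
      · subst hk
        obtain ⟨v, hv, hv1, -⟩ := exists_two hV4 (1 : G)
        obtain ⟨m, hm1, hm2⟩ := tr0 v hv
        have hWV := W_eq_V L
        have h1 : ⁅m, t⁆ = v := by
          rw [commutatorElement_def, hm2, H.vt v hv, mul_inv_cancel_right]
        have h2 := hNT m ⟨by rw [hWV]; exact mem_norm_of_le hm1, by rw [h1]; exact L.VW hv⟩
        rw [h1, pow_zero, pow_one] at h2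
        exact hv1 h2
      · exact end_NT H L hk hTW hg tr0 gen hTE hNT
    -- the stage
    have hTr' := L.M_trans ht2 hTr
    obtain ⟨S, hSM, hS, hodd, hWS, htS, hTS, htr⟩ :=
      exists_ST L ht2 H.T2 H.tT H.Tt hTW hTr'
    have hdV := T1.dV
    obtain ⟨d', hdt', hdS, hdW, hdd⟩ := L.exists_d ht2 hdt hdV hSM hS hodd htr
    have L' : Lv t d' V W k :=
      ⟨L.comm, L.tinv, hdW, L.VW, L.om, L.vsq, L.pw, L.root⟩
    have C' : Crd V d' θ lam :=
      ⟨C.add, C.inj, C.mem, C.surj, fun a => by rw [hdd _ (C.mem a), C.conj], C.gen⟩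
    have hd0' : ∀ v ∈ V, d' * v * d'⁻¹ = d₀ * v * d₀⁻¹ := fun v hv => by rw [hdd v hv, hd0 v hv]
    have T2 : Tor t V d' := T0.congr hdt' hd0'
    have Z := stg L' H.tcv hSM hS hWS htS htr hdt' hdS
    obtain ⟨U, E, hUS, htU, hSU, hgU, hUchar⟩ := exists_U C' L' H.tcv Z hF hg
    have hTU : ∀ s ∈ T, ∀ u ∈ U, s * u * s⁻¹ ∈ U := fun s hs =>
      U_inv L' H.tcv Z hSM hS hodd hUchar T2.dV (H.Tt s hs) (hTW s hs) (H.TV s hs) (hTS s hs)
        (T2.nrm s (H.Tt s hs) (H.TV s hs))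
    rcases E.dichotomy C' L' hF ht2 with hN | ⟨hinv, hsh⟩
    · refine ih (Nat.card G - Nat.card U) ?_ (k + 1) U d' hN C' hdt' hd0' hgU hTU rfl
      have h1 := E.card_eq L'
      have h2 : 0 < Nat.card W := Nat.card_pos
      have h3 : Nat.card U ≤ Nat.card G := Subgroup.card_le_card_group U
      have h4 : Nat.card W < Nat.card U := by
        rw [h1]
        nlinarith
      omega
    -- the top
    have hUp : IsPGroup 2 U := hS.to_le hUS
    have hcU := E.card_eq L'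
    have hcU2 : Nat.card V ^ 2 ≤ Nat.card U := by
      rw [hcU, pow_two]
      exact Nat.mul_le_mul_left _ L.card_le
    have hVU : V ≤ U := L.VW.trans E.WU
    have hnc : ∀ g : G, g * t * g⁻¹ ∉ U := by
      rcases hsh with h | ⟨hk, h, -⟩
      · exact noconj_comm H hUp h hcU2
      · refine noconj_two H hUp h ?_
        rw [hcU, pow_succ' (Nat.card V) 2]
        exact Nat.mul_le_mul_left _ (L.card_ge hk)
    have hUT : ∀ s ∈ T, s ∈ U → s ∈ V := by
      intro s hs hsU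
      have h1 : s ∈ W := by
        apply E.ker s hsU
        rw [commutatorElement_eq_one_iff_mul_comm.2 (H.Tt s hs).symm, one_pow]
      apply L.om s h1
      have h2 := L.tinv s h1
      rw [← H.Tt s hs, mul_inv_cancel_right] at h2
      nth_rewrite 1 [h2]
      exact inv_mul_cancel s
    have hUV : ∀ u ∈ U, ∀ v ∈ V, u * v * u⁻¹ = v := fun u hu v hv => Z.fix u (hUS hu) v hv
    have htUinv : ∀ u ∈ U, t * u * t⁻¹ ∈ U := fun u hu => hTU t H.tT u hu
    -- elements of `U T`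
    have hxV : ∀ u ∈ U, ∀ s ∈ T, ∀ v ∈ V, u * s * v * (u * s)⁻¹ = s * v * s⁻¹ := by
      intro u hu s hs v hv
      have h1 : u * s * v * (u * s)⁻¹ = u * (s * v * s⁻¹) * u⁻¹ := by group
      rw [h1, hUV u hu _ (H.TV s hs v hv)]
    by_cases hbad : k = 0 ∧ (∀ x ∈ U, x * x = 1) ∧ ∃ u ∈ U, ∃ s ∈ T, s ∉ V ∧ t * s ∉ V ∧
        ∃ g : G, g * t * g⁻¹ = u * s
    · obtain ⟨hk, husq, u, hu, s, hs, hs1, hs2, g, hgx⟩ := hbad
      subst hk
      have hWV := W_eq_V L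
      refine ⟨U, ⟨husq, ?_, hVU, htU, hTU, ?_, ?_, ?_, hgU, ⟨d', hdt', hd0', E.dU⟩,
        ⟨u, hu, s, hs, hs1, hs2, ?_, g, hgx⟩⟩⟩
      · rw [hcU, hWV, pow_two]
      · intro x hx
        have h1 := E.tU x hx
        rwa [hWV] at h1
      · intro x hx hxt
        rw [← hWV]
        apply E.ker x hx
        rw [commutatorElement_eq_one_iff_mul_comm.2 hxt, one_pow]
      · intro v hv
        obtain ⟨x, hx, h1⟩ := E.sur v hv
        rw [pow_zero, pow_one] at h1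
        exact ⟨x, hx, h1⟩
      · rw [← hgx]
        have h1 : g * t * g⁻¹ * (g * t * g⁻¹) = g * (t * t) * g⁻¹ := by group
        rw [h1, ht2, mul_one, mul_inv_cancel]
    exfalso
    apply end_false H hUp hTU hVU hUT hgU ?_ gen hTE
    intro g hgx
    obtain ⟨u, hu, s, hs, hx⟩ := sup_mem hTU hgx
    have hx2 : u * s * (u * s) = 1 := by
      rw [← hx]
      have h1 : g * t * g⁻¹ * (g * t * g⁻¹) = g * (t * t) * g⁻¹ := by group
      rw [h1, ht2, mul_one, mul_inv_cancel]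
    by_cases hs1 : s ∈ V
    · exact absurd (hx ▸ mul_mem hu (hVU hs1)) (hnc g)
    by_cases hs2 : t * s ∈ V
    · -- in `t U`
      have h1 : u * s = t * ((t⁻¹ * u * t) * (t * s)) := by
        have h2 : t * ((t⁻¹ * u * t) * (t * s)) = u * (t * (t * s)) := by group
        rw [h2, ← eq_t_mul ht2]
      have h3 : (t⁻¹ * u * t) * (t * s) ∈ U := by
        apply mul_mem _ (hVU hs2)
        have h4 := htUinv u hu
        rwa [H.tinv] at h4 ⊢
      have h4 : (t⁻¹ * u * t) * (t * s) ∈ W := by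
        apply hinv _ h3
        rw [← h1, hx2]
      obtain ⟨p, hp, hpt⟩ := htr _ h4
      refine ⟨p, ?_, ?_⟩
      · rcases hSU p hp with h | h
        · exact Subgroup.mem_sup_left h
        · rw [eq_t_mul ht2 p]
          exact mul_mem (Subgroup.mem_sup_right H.tT) (Subgroup.mem_sup_left h)
      · rw [hx, h1, hpt]
    · exfalso
      rcases Nat.eq_zero_or_pos k with hk | hk
      · subst hk
        have hcomm : ∀ x ∈ U, ∀ y ∈ U, x * y = y * x := by
          rcases hsh with h | ⟨h, -⟩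
          · exact h
          · omega
        rcases case_zero L' Z E hUS T2 hcomm with h | ⟨h, h'⟩
        · exact hbad ⟨rfl, h, u, hu, s, hs, hs1, hs2, g, hx⟩
        · refine no_field H hcomm hVU h h' hs hs1 hs2 (x := u * s) (hxV u hu s hs) ?_ hx2 g hx
          intro a ha
          have h1 : u * s * a * (u * s)⁻¹ = u * (s * a * s⁻¹) * u⁻¹ := by group
          rw [h1]
          exact mul_mem (mul_mem hu (hTU s hs a ha)) (inv_mem hu)
      · refine no_field H L.comm L.VW L.om (root_sq L hk) hs hs1 hs2 (x := u * s)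
          (hxV u hu s hs) ?_ hx2 g hx
        intro a ha
        have h1 : u * s * a * (u * s)⁻¹ = u * (s * a * s⁻¹) * u⁻¹ := by group
        rw [h1]
        exact E.nW u hu _ (hTW s hs a ha)

/-- **The tower** for `e ≥ 1`. -/
theorem ftower (H : FTD t V T C₀) (T0 : Tor t V d)
    (tr0 : ∀ v ∈ V, ∃ n : G, (∀ w ∈ V, n * w * n⁻¹ ∈ V) ∧ n * t * n⁻¹ = t * v)
    (gen : commutator G ⊔ Subgroup.zpowers t = ⊤) (hTE : ∃ s ∈ T, s ∉ V ∧ t * s ∉ V) :
    ∃ U, FOut t V T d U := by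
  classical
  have hV4 : 4 ≤ Nat.card V := by have := H.card16; omega
  obtain ⟨F, _, _, _, τ, lam, C, hF⟩ := exists_crd hV4 H.vsq T0
  have hVc : V ≤ commutator G := by
    intro v hv
    obtain ⟨b, rfl⟩ := C.surj v hv
    have hlam : lam ≠ 1 := by
      rintro rfl
      obtain ⟨r, hr0, hr1⟩ := hF
      obtain ⟨n, hn⟩ := C.gen r hr0
      rw [one_pow] at hn
      exact hr1 hn.symm
    have hl1 : lam - 1 ≠ 0 := sub_ne_zero.2 hlam
    have h1 : τ b = ⁅d, τ (b / (lam - 1))⁆ := by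
      rw [commutatorElement_def, C.conj]
      have h2 : lam * (b / (lam - 1)) = b + b / (lam - 1) := by
        field_simp
        ring
      rw [h2, C.add, mul_inv_cancel_right]
    rw [h1]
    exact Subgroup.commutator_mem_commutator (Subgroup.mem_top _) (Subgroup.mem_top _)
  have L0 : Lv t d V V 0 := by
    have ht : t⁻¹ = t := inv_eq_of_mul_eq_one_right H.t2
    refine ⟨fun x hx y hy => vcomm_of_vsq H.vsq hx hy, ?_, T0.dV, le_rfl, fun w hw _ => hw, H.vsq,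
      fun w hw => by rwa [pow_zero, pow_one], fun v hv => ⟨v, hv, by rw [pow_zero, pow_one]⟩⟩
    intro w hw
    rw [H.vt w hw, mul_inv_cancel_right]
    exact (inv_eq_of_mul_eq_one_right (H.vsq w hw)).symm
  have hTE' : ¬ T ≤ H.E := by
    obtain ⟨s, hs, h1, h2⟩ := hTE
    intro h
    rcases h hs with h | h
    · exact h1 h
    · exact h2 h
  exact ftower_abs hF H T0 tr0 gen hTE' _ 0 V d L0 C T0.dt (fun _ _ => rfl) hVc H.TV rfl

end

end Cfsg.Agent.StdL2.FT
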