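import Cfsg.Agent.StdL2.EOneOf
import Cfsg.Agent.StdL2.EOneX
import Cfsg.Agent.StdL2.FTTower

/-!
# S1773, case (f): the bridge from helper69's `FOut` to `N(U)/C(U)`

`eone : FTD → FOut → EOne`, `exists_torus`: the torus of `N(U)/C(U)`, `exists_sylow`: a Sylow
2-subgroup of `G` containing `UT`, contained in `N(U)`, in which `U` is self-centralising.
-/

set_option autoImplicit false
set_option linter.unusedSectionVars false
set_option linter.style.haveILetI false

open Subgroup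

namespace Cfsg.Agent.StdL2.EOneFOut

open Cfsg.Agent.StdL2.FieldStart Cfsg.Agent.StdL2.EOneFusion Cfsg.Agent.StdL2.FT
open Cfsg.Agent.StdL2.EOneOf Cfsg.Agent.StdL2.EOneWeak Cfsg.Agent.StdL2.EOneX
open Cfsg.Agent.StdL2.FieldStart.Fld (conj_mem_norm norm_conj norm_conj')

variable {G : Type*} [Group G] [Finite G] {t d : G} {V T C₀ U : Subgroup G}

/-- a cyclic group regular on `V#` has exponent `q - 1` on `V` -/
theorem pow_triv (dV : ∀ v ∈ V, d * v * d⁻¹ ∈ V)
    (reg : ∀ v ∈ V, ∀ w ∈ V, v ≠ 1 → w ≠ 1 → ∃ n : ℕ, d ^ n * v * (d ^ n)⁻¹ = w) {v : G}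
    (hv : v ∈ V) : d ^ (Nat.card V - 1) * v * (d ^ (Nat.card V - 1))⁻¹ = v := by
  classical
  haveI : Fintype V := Fintype.ofFinite V
  by_cases hv1 : v = 1
  · rw [hv1]; group
  let f0 : V → V := fun v => ⟨d * v * d⁻¹, dV v v.2⟩
  have hf0 : Function.Injective f0 := by
    intro a b hab
    have : d * (a : G) * d⁻¹ = d * b * d⁻¹ := congrArg (fun z : V => (z : G)) hab
    exact Subtype.ext (mul_left_cancel (mul_right_cancel this))
  let f : Equiv.Perm V := Equiv.ofBijective f0 ⟨hf0, Finite.injective_iff_surjective.1 hf0⟩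
  have hf : ∀ v : V, ((f v : V) : G) = d * v * d⁻¹ := fun _ => rfl
  have hfn : ∀ (n : ℕ) (v : V), (((f ^ n) v : V) : G) = d ^ n * v * (d ^ n)⁻¹ := by
    intro n
    induction n with
    | zero => intro v; simp
    | succ n ih =>
      intro v
      rw [pow_succ', Equiv.Perm.mul_apply, hf, ih, pow_succ']
      group
  let s : Finset V := Finset.univ.erase 1
  have hs : ∀ v : V, v ∈ s ↔ v ≠ 1 := fun v => by simp [s]
  have hcyc : f.IsCycleOn (s : Set V) := by
    refine ⟨⟨?_, f.injective.injOn, ?_⟩, ?_⟩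
    · intro a ha
      rw [Finset.mem_coe, hs] at ha ⊢
      intro e
      apply ha
      have h1 : ((f a : V) : G) = 1 := by rw [e]; rfl
      rw [hf] at h1
      apply Subtype.ext
      have : (a : G) = d⁻¹ * (d * a * d⁻¹) * d := by group
      rw [this, h1]; group; rfl
    · intro a ha
      rw [Finset.mem_coe, hs] at ha
      refine ⟨f.symm a, ?_, f.apply_symm_apply a⟩
      rw [Finset.mem_coe, hs]
      intro e
      apply ha
      have h1 := f.apply_symm_apply a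
      rw [e] at h1
      rw [← h1]
      apply Subtype.ext
      rw [hf]
      simp
    · intro a ha b hb
      rw [Finset.mem_coe, hs] at ha hb
      obtain ⟨n, hn⟩ := reg a a.2 b b.2 (fun e => ha (Subtype.ext e)) (fun e => hb (Subtype.ext e))
      refine ⟨n, ?_⟩
      apply Subtype.ext
      rw [zpow_natCast, hfn, hn]
  have h1 := hcyc.pow_card_apply (a := ⟨v, hv⟩) (by
    rw [hs]; intro e; exact hv1 (congrArg (fun z : V => (z : G)) e))
  have h2 : s.card = Nat.card V - 1 := by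
    rw [Finset.card_erase_of_mem (Finset.mem_univ _), Finset.card_univ, Nat.card_eq_fintype_card]
  rw [h2] at h1
  have h3 := hfn (Nat.card V - 1) ⟨v, hv⟩
  rw [h1] at h3
  exact h3.symm

/-- `EOne` from helper69's output -/
theorem eone (H : FTD t V T C₀) (O : FOut t V T d U) : EOne (fldOf H) U :=
  eoneOf H O.usq O.VU (O.TU t H.tT) O.fix O.card

/-- the torus of `N(U)/C(U)` -/
theorem exists_torus (H : FTD t V T C₀) (T0 : Cfsg.Agent.StdL2.Tor t V d)
    (O : FOut t V T d U) :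
    ∃ d1 : G, EOneX.Tor (fldOf H) U d1 ∧ ∀ v ∈ V, d1 * v * d1⁻¹ = d * v * d⁻¹ := by
  obtain ⟨d', hdt, hdV, hdU⟩ := O.dd
  have hpow : ∀ n : ℕ, ∀ v ∈ V, d' ^ n * v * (d' ^ n)⁻¹ = d ^ n * v * (d ^ n)⁻¹ := by
    intro n
    have hn : d' ∈ normalizer (V : Set G) := conj_mem_norm fun v hv => by
      rw [hdV v hv]; exact T0.dV v hv
    exact Same.pow (W := V) (x := d') (y := d) hdV hn n
  obtain ⟨d1, hd1, hd1V⟩ := torus (eone H O) H.card16 hdt hdU
    (fun v hv => by rw [hpow _ v hv]; exact pow_triv T0.dV T0.reg hv)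
    (fun v hv hv1 u hu hu1 => by
      obtain ⟨j, hj⟩ := T0.reg v hv u hu hv1 hu1
      exact ⟨j, by rw [hpow j v hv]; exact hj⟩)
    (fun n hnt hnV => by
      obtain ⟨j, hj⟩ := T0.nrm n hnt hnV
      refine ⟨j, fun v hv => ?_⟩
      have hnVn : n ∈ normalizer (V : Set G) := conj_mem_norm hnV
      rw [hpow j v hv, ← hj v hv]
      have h1 := hdV _ (norm_conj' hnVn hv)
      calc n * d' * n⁻¹ * v * (n * d' * n⁻¹)⁻¹ = n * (d' * (n⁻¹ * v * n) * d'⁻¹) * n⁻¹ := by group
        _ = n * (d * (n⁻¹ * v * n) * d⁻¹) * n⁻¹ := by rw [h1]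
        _ = n * d * n⁻¹ * v * (n * d * n⁻¹)⁻¹ := by group)
  exact ⟨d1, hd1, fun v hv => by rw [hd1V v hv, hdV v hv]⟩

/-- a Sylow 2-subgroup of `G` contained in `N(U)` -/
theorem exists_sylow (H : FTD t V T C₀) (O : FOut t V T d U) :
    ∃ S : Subgroup G, IsSyl ⊤ S ∧ T ≤ S ∧ U ≤ S ∧ (∀ s ∈ S, ∀ u ∈ U, s * u * s⁻¹ ∈ U) ∧
      (∀ s ∈ S, (∀ u ∈ U, s * u = u * s) → s ∈ U) := by
  have E := eone H O
  have hU2 : IsPGroup 2 U := E.W2
  have hTU : T ≤ normalizer (U : Set G) := fun s hs => conj_mem_norm (O.TU s hs)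
  obtain ⟨S, hS, hUS⟩ := exists_isSyl (⊤ : Subgroup G) (U ⊔ T) (isPGroup_sup hU2 H.T2 hTU) le_top
  have h1 := norm_of_le E H.card16 O.TU hS.1 (le_sup_left.trans hUS) (le_sup_right.trans hUS)
  refine ⟨S, hS, le_sup_right.trans hUS, le_sup_left.trans hUS,
    fun s hs u hu => norm_conj (h1 hs) hu, fun s hs hsc => ?_⟩
  refine (isSyl_W E H.card16).2.2 (S ⊓ centralizer (U : Set G)) (hS.1.to_le inf_le_left)
    (le_inf (le_sup_left.trans hUS) (WC' E)) inf_le_right ⟨hs, ?_⟩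
  exact mem_centralizer_iff.2 fun u hu => (hsc u hu).symm

end Cfsg.Agent.StdL2.EOneFOut
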