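import Cfsg.Agent.StdL2.FTGrow

/-!
# The tower with field automorphisms: the Sylow 2-subgroup `T` of `C(t)`
-/

set_option autoImplicit false
set_option Elab.async false

namespace Cfsg.Agent.StdL2.FT

open scoped commutatorElement

open Cfsg.Agent.Lib.GoldschmidtFusion (exists_conj_le_in lt_inf_normalizer exists_sylow_in)
open Cfsg.Agent.StdL2 Cfsg.Agent.StdL2.Lv

variable {G : Type*} [Group G]

/-- `T` is a Sylow 2-subgroup of `C(t)`, `E = ⟨t⟩ × V`, `V` elementary abelian, `T / E` cyclic and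
acts faithfully on `V`, involutions of `T / E` act freely on `V`; `C₀` is normal in `C(t)` and
`T ∩ C₀ = E`. -/
structure FTD (t : G) (V T C₀ : Subgroup G) : Prop where
  t2 : t * t = 1
  tV : t ∉ V
  vsq : ∀ v ∈ V, v * v = 1
  T2 : IsPGroup 2 T
  tT : t ∈ T
  VT : V ≤ T
  Tt : ∀ s ∈ T, s * t = t * s
  TV : ∀ s ∈ T, ∀ v ∈ V, s * v * s⁻¹ ∈ V
  cV : ∀ s ∈ T, (∀ v ∈ V, s * v = v * s) → s ∈ V ∨ t * s ∈ V
  odd : ¬ 2 ∣ T.relIndex (Subgroup.centralizer ({t} : Set G))
  cyc : ∃ φ ∈ T, ∀ s ∈ T, ∃ n : ℕ, (φ ^ n)⁻¹ * s ∈ V ∨ t * ((φ ^ n)⁻¹ * s) ∈ V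
  fr : ∀ s ∈ T, s ∉ V → t * s ∉ V → (s * s ∈ V ∨ t * (s * s) ∈ V) →
    ∀ v ∈ V, s * v * s⁻¹ = v → ∃ y ∈ V, v = y * (s * y * s⁻¹)
  card16 : 16 ≤ Nat.card V
  size : Nat.card T < Nat.card V ^ 2
  C0n : ∀ c : G, c * t = t * c → ∀ x ∈ C₀, c * x * c⁻¹ ∈ C₀
  C0T : ∀ s ∈ T, s ∈ C₀ → s ∈ V ∨ t * s ∈ V
  C0E : ∀ s, s ∈ V ∨ t * s ∈ V → s ∈ C₀

namespace FTD

variable {t : G} {V T C₀ : Subgroup G}

theorem vt (H : FTD t V T C₀) : ∀ v ∈ V, t * v = v * t := fun v hv => (H.Tt v (H.VT hv)).symm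

theorem eqt (H : FTD t V T C₀) (x : G) : x = t * (t * x) := by
  rw [← mul_assoc, H.t2, one_mul]

theorem Vcomm (H : FTD t V T C₀) {x y : G} (hx : x ∈ V) (hy : y ∈ V) : x * y = y * x :=
  vcomm_of_vsq H.vsq hx hy

theorem tinv (H : FTD t V T C₀) : t⁻¹ = t := inv_eq_of_mul_eq_one_right H.t2

/-- The subgroup `⟨t⟩ × V`. -/
def E (H : FTD t V T C₀) : Subgroup G where
  carrier := {x | x ∈ V ∨ t * x ∈ V}
  one_mem' := Or.inl (one_mem _)
  mul_mem' := by
    intro a b ha hb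
    have hc : ∀ {x : G}, t * x ∈ V → t * x = x * t := by
      intro x hx
      have h5 := H.vt _ hx
      calc t * x = (t * x * t) * t := by rw [mul_assoc _ t t, H.t2, mul_one]
        _ = (t * (t * x)) * t := by rw [h5]
        _ = x * t := by rw [← mul_assoc t t, H.t2, one_mul]
    rcases ha with ha | ha <;> rcases hb with hb | hb
    · exact Or.inl (mul_mem ha hb)
    · right
      have h1 : t * (a * b) = a * (t * b) := by
        rw [← mul_assoc, H.vt a ha, mul_assoc]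
      rw [h1]
      exact mul_mem ha hb
    · right
      rw [← mul_assoc]
      exact mul_mem ha hb
    · left
      have h1 : a * b = (t * a) * (t * b) := by
        rw [hc ha, mul_assoc a t, ← mul_assoc t t, H.t2, one_mul]
      rw [h1]
      exact mul_mem ha hb
  inv_mem' := by
    intro a ha
    rcases ha with ha | ha
    · exact Or.inl (inv_mem ha)
    · right
      have h2 : (t * a)⁻¹ = a⁻¹ * t := by rw [mul_inv_rev, H.tinv]
      have h3 : a⁻¹ * t ∈ V := h2 ▸ inv_mem ha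
      have h5 := H.vt _ h3
      have h6 : t * a⁻¹ = t * (a⁻¹ * t) * t := by
        rw [mul_assoc, mul_assoc, H.t2, mul_one]
      rw [h6, h5]
      have h7 : a⁻¹ * t * t * t = a⁻¹ * t := by
        rw [mul_assoc (a⁻¹ * t), H.t2, mul_one]
      rw [h7]
      exact h3

theorem mem_E (H : FTD t V T C₀) {x : G} : x ∈ H.E ↔ x ∈ V ∨ t * x ∈ V := Iff.rfl

theorem V_le_E (H : FTD t V T C₀) : V ≤ H.E := fun _ h => Or.inl h

theorem t_mem_E (H : FTD t V T C₀) : t ∈ H.E := by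
  right
  rw [H.t2]
  exact one_mem _

theorem E_le_T (H : FTD t V T C₀) : H.E ≤ T := by
  rintro x (h | h)
  · exact H.VT h
  · rw [H.eqt x]
    exact mul_mem H.tT (H.VT h)

theorem E_sq (H : FTD t V T C₀) {x : G} (hx : x ∈ H.E) : x * x = 1 := by
  have hxt := H.Tt x (H.E_le_T hx)
  rcases hx with hx | hx
  · exact H.vsq x hx
  · have h1 : (t * x) * (t * x) = x * x := by
      have h2 : t * x * (t * x) = t * (x * t) * x := by group
      rw [h2, hxt, ← mul_assoc, H.t2, one_mul]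
    rw [← h1]
    exact H.vsq _ hx

theorem E_comm (H : FTD t V T C₀) {x y : G} (hx : x ∈ H.E) (hy : y ∈ H.E) : x * y = y * x :=
  vcomm_of_vsq (fun _ h => H.E_sq h) hx hy

theorem E_norm (H : FTD t V T C₀) {s x : G} (hs : s ∈ T) (hx : x ∈ H.E) : s * x * s⁻¹ ∈ H.E := by
  rcases hx with hx | hx
  · exact Or.inl (H.TV s hs x hx)
  · right
    have h1 : t * (s * x * s⁻¹) = s * (t * x) * s⁻¹ := by
      rw [← mul_assoc, ← mul_assoc, ← H.Tt s hs]
      group
    rw [h1]
    exact H.TV s hs _ hx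

variable [Finite G]

theorem card_E (H : FTD t V T C₀) : Nat.card H.E = 2 * Nat.card V := by
  classical
  have h1 : (H.E : Set G) = (V : Set G) ∪ ((fun x => t * x) '' (V : Set G)) := by
    ext x
    constructor
    · rintro (h | h)
      · exact Or.inl h
      · right
        exact ⟨t * x, h, (H.eqt x).symm⟩
    · rintro (h | ⟨y, hy, rfl⟩)
      · exact Or.inl h
      · right
        show t * (t * y) ∈ V
        rw [← H.eqt]
        exact hy
  have h2 : Disjoint (V : Set G) ((fun x => t * x) '' (V : Set G)) := by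
    rw [Set.disjoint_left]
    rintro _ h ⟨y, hy, rfl⟩
    apply H.tV
    have h3 : t = (t * y) * y⁻¹ := by group
    rw [h3]
    exact mul_mem h (inv_mem hy)
  have h3 : Nat.card H.E = (H.E : Set G).ncard := rfl
  have h4 : Nat.card V = (V : Set G).ncard := rfl
  rw [h3, h1, Set.ncard_union_eq h2 (Set.toFinite _) (Set.toFinite _),
    Set.ncard_image_of_injective _ (mul_right_injective t), h4, two_mul]

/-- fixed points of a free involution -/
theorem card_fix (H : FTD t V T C₀) {s : G} (hs : s ∈ T) (h1 : s ∉ V) (h2 : t * s ∉ V)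
    (h3 : s * s ∈ V ∨ t * (s * s) ∈ V) :
    Nat.card (V ⊓ Subgroup.centralizer ({s} : Set G) : Subgroup G) ^ 2 = Nat.card V := by
  classical
  have hcs : ∀ v ∈ V, s * s * v * (s * s)⁻¹ = v := by
    intro v hv
    have h4 : s * s ∈ H.E := h3
    rw [H.E_comm h4 (H.V_le_E hv), mul_inv_cancel_right]
  let g : V →* V :=
    { toFun := fun y => ⟨(y : G) * (s * y * s⁻¹), mul_mem y.2 (H.TV s hs y y.2)⟩
      map_one' := by
        apply Subtype.ext
        show (1 : G) * (s * 1 * s⁻¹) = 1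
        group
      map_mul' := by
        intro a b
        apply Subtype.ext
        show (a : G) * (b : G) * (s * ((a : G) * (b : G)) * s⁻¹) =
          (a : G) * (s * (a : G) * s⁻¹) * ((b : G) * (s * (b : G) * s⁻¹))
        have h5 : s * ((a : G) * (b : G)) * s⁻¹ = s * a * s⁻¹ * (s * b * s⁻¹) := by group
        rw [h5]
        have h6 := H.Vcomm b.2 (H.TV s hs a a.2)
        calc (a : G) * b * (s * a * s⁻¹ * (s * b * s⁻¹))
            = (a : G) * ((b : G) * (s * a * s⁻¹)) * (s * b * s⁻¹) := by group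
          _ = _ := by rw [h6]; group }
  have hker : g.ker = (V ⊓ Subgroup.centralizer ({s} : Set G)).subgroupOf V := by
    ext y
    rw [MonoidHom.mem_ker, Subgroup.mem_subgroupOf]
    have hy2 := H.vsq _ y.2
    constructor
    · intro h
      have h4 : (y : G) * (s * y * s⁻¹) = 1 := congrArg (fun z : V => (z : G)) h
      refine ⟨y.2, Subgroup.mem_centralizer_singleton_iff.2 ?_⟩
      have h5 : s * y * s⁻¹ = y := by
        rw [← mul_right_inj (y : G), h4, hy2]
      rw [mul_inv_eq_iff_eq_mul] at h5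
      exact h5.symm
    · rintro ⟨_, h'⟩
      have h := Subgroup.mem_centralizer_singleton_iff.1 h'
      apply Subtype.ext
      show (y : G) * (s * y * s⁻¹) = 1
      have h5 : s * y * s⁻¹ = y := by rw [mul_inv_eq_iff_eq_mul, h]
      rw [h5, hy2]
  have hrange : g.range = (V ⊓ Subgroup.centralizer ({s} : Set G)).subgroupOf V := by
    ext y
    rw [MonoidHom.mem_range, Subgroup.mem_subgroupOf]
    constructor
    · rintro ⟨x, rfl⟩
      refine ⟨(g x).2, Subgroup.mem_centralizer_singleton_iff.2 ?_⟩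
      show (x : G) * (s * x * s⁻¹) * s = s * ((x : G) * (s * x * s⁻¹))
      have h5 := hcs x x.2
      have h6 : s * (s * x * s⁻¹) * s⁻¹ = x := by
        have e : s * (s * x * s⁻¹) * s⁻¹ = s * s * x * (s * s)⁻¹ := by group
        rw [e, h5]
      have h7 : s * ((x : G) * (s * x * s⁻¹)) = (s * x * s⁻¹) * (s * (s * x * s⁻¹) * s⁻¹) * s := by
        group
      rw [h7, h6, H.Vcomm (H.TV s hs x x.2) x.2]
    · rintro ⟨_, h'⟩
      have h := Subgroup.mem_centralizer_singleton_iff.1 h'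
      obtain ⟨x, hx, hxy⟩ := H.fr s hs h1 h2 h3 y y.2 (by rw [mul_inv_eq_iff_eq_mul, h])
      exact ⟨⟨x, hx⟩, Subtype.ext hxy.symm⟩
  have hc : Nat.card ((V ⊓ Subgroup.centralizer ({s} : Set G)).subgroupOf V) =
      Nat.card (V ⊓ Subgroup.centralizer ({s} : Set G) : Subgroup G) :=
    Nat.card_congr (Subgroup.subgroupOfEquivOfLe inf_le_left).toEquiv
  have h7 := g.ker.card_eq_card_quotient_mul_card_subgroup
  have h8 : Nat.card (V ⧸ g.ker) = Nat.card g.range :=
    Nat.card_congr (QuotientGroup.quotientKerEquivRange g).toEquiv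
  rw [h7, h8, hrange, hker, hc, pow_two]

/-- powers of `φ` -/
theorem cyc' (H : FTD t V T C₀) : ∃ φ ∈ T, ∀ s ∈ T, ∃ n : ℕ, (φ ^ n)⁻¹ * s ∈ H.E := H.cyc

/-- an element of `E ∪ sE` : elementary subgroups -/
theorem elem_le (H : FTD t V T C₀) {A : Subgroup G} (hAT : A ≤ T) (hA : ∀ x ∈ A, x * x = 1)
    (hc : 2 * Nat.card V ≤ Nat.card A) : A ≤ H.E := by
  classical
  by_contra hcon
  obtain ⟨s, hsA, hsE⟩ := SetLike.not_le_iff_exists.1 hcon
  obtain ⟨φ, hφ, hcyc⟩ := H.cyc'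
  have hEn : (H.E.subgroupOf T).Normal := by
    constructor
    intro x hx y
    rw [Subgroup.mem_subgroupOf] at hx ⊢
    exact H.E_norm y.2 hx
  -- the quotient `T / E`
  let π : T →* T ⧸ (H.E.subgroupOf T) := QuotientGroup.mk' _
  have hπ : ∀ x : T, π x = 1 ↔ (x : G) ∈ H.E := by
    intro x
    rw [show π x = (x : T ⧸ (H.E.subgroupOf T)) from rfl, QuotientGroup.eq_one_iff,
      Subgroup.mem_subgroupOf]
  have hcy : IsCyclic (T ⧸ (H.E.subgroupOf T)) := by
    refine ⟨⟨π ⟨φ, hφ⟩, fun z => ?_⟩⟩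
    obtain ⟨x, rfl⟩ := QuotientGroup.mk'_surjective _ z
    obtain ⟨n, hn⟩ := hcyc x x.2
    refine ⟨n, ?_⟩
    show π ⟨φ, hφ⟩ ^ (n : ℤ) = π x
    rw [zpow_natCast, ← map_pow, ← inv_mul_eq_one, ← map_inv, ← map_mul, hπ]
    exact hn
  -- any two elements of `A` outside `E` are congruent
  have hsq : ∀ x ∈ A, x ∉ H.E → x * s ∈ H.E := by
    intro x hx hxE
    have h1 : π ⟨x, hAT hx⟩ ≠ 1 := fun h => hxE ((hπ _).1 h)
    have h2 : π ⟨s, hAT hsA⟩ ≠ 1 := fun h => hsE ((hπ _).1 h)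
    have h3 : π ⟨x, hAT hx⟩ ^ 2 = 1 := by
      rw [← map_pow, hπ]
      show x ^ 2 ∈ H.E
      rw [pow_two, hA x hx]
      exact one_mem _
    have h4 : π ⟨s, hAT hsA⟩ ^ 2 = 1 := by
      rw [← map_pow, hπ]
      show s ^ 2 ∈ H.E
      rw [pow_two, hA s hsA]
      exact one_mem _
    have h5 : orderOf (π ⟨x, hAT hx⟩) = 2 := orderOf_eq_prime h3 h1
    have h6 : orderOf (π ⟨s, hAT hsA⟩) = 2 := orderOf_eq_prime h4 h2
    have h7 : π ⟨x, hAT hx⟩ = π ⟨s, hAT hsA⟩ := by
      have : Fintype (T ⧸ (H.E.subgroupOf T)) := Fintype.ofFinite _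
      have h8 := IsCyclic.card_orderOf_eq_totient (α := T ⧸ (H.E.subgroupOf T)) (d := 2) (by
        rw [← h5]
        exact orderOf_dvd_card)
      rw [Nat.totient_two, Finset.card_eq_one] at h8
      obtain ⟨z, hz⟩ := h8
      have h9 : π ⟨x, hAT hx⟩ ∈ ({z} : Finset _) := by
        rw [← hz, Finset.mem_filter]
        exact ⟨Finset.mem_univ _, h5⟩
      have h10 : π ⟨s, hAT hsA⟩ ∈ ({z} : Finset _) := by
        rw [← hz, Finset.mem_filter]
        exact ⟨Finset.mem_univ _, h6⟩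
      rw [Finset.mem_singleton] at h9 h10
      rw [h9, h10]
    have h8 : π (⟨x, hAT hx⟩ * ⟨s, hAT hsA⟩) = 1 := by
      rw [map_mul, h7, ← pow_two, h4]
    exact (hπ _).1 h8
  have hs1 : s ∉ V := fun h => hsE (Or.inl h)
  have hs2 : t * s ∉ V := fun h => hsE (Or.inr h)
  have hfix := H.card_fix (hAT hsA) hs1 hs2 (by left; rw [hA s hsA]; exact one_mem _)
  set C := V ⊓ Subgroup.centralizer ({s} : Set G) with hC
  -- `A` embeds in `C × Bool × Bool`
  have hcommA : ∀ x ∈ A, ∀ y ∈ A, x * y = y * x := fun x hx y hy => vcomm_of_vsq hA hx hy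
  have hAE : ∀ x ∈ A, x ∈ H.E → x ∈ C ∨ t * x ∈ C := by
    intro x hx hxE
    have h1 : x * s = s * x := hcommA x hx s hsA
    rcases hxE with h | h
    · exact Or.inl ⟨h, Subgroup.mem_centralizer_singleton_iff.2 h1⟩
    · refine Or.inr ⟨h, Subgroup.mem_centralizer_singleton_iff.2 ?_⟩
      rw [mul_assoc, h1, ← mul_assoc, ← H.Tt s (hAT hsA), mul_assoc]
  have hsub : (A : Set G) ⊆ ((C : Set G) ∪ (fun c => t * c) '' (C : Set G)) ∪
      ((fun c => c * s⁻¹) '' ((C : Set G) ∪ (fun c => t * c) '' (C : Set G))) := by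
    intro x hx
    have key : ∀ y, y ∈ C ∨ t * y ∈ C → y ∈ ((C : Set G) ∪ (fun c => t * c) '' (C : Set G)) := by
      rintro y (h | h)
      · exact Or.inl h
      · exact Or.inr ⟨t * y, h, (H.eqt y).symm⟩
    by_cases hxE : x ∈ H.E
    · exact Or.inl (key x (hAE x hx hxE))
    · right
      have h1 := hsq x hx hxE
      refine ⟨x * s, key _ (hAE _ (mul_mem hx hsA) h1), ?_⟩
      show x * s * s⁻¹ = x
      group
  have h1 : ((C : Set G) ∪ (fun c => t * c) '' (C : Set G)).ncard ≤ 2 * Nat.card C := by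
    calc _ ≤ (C : Set G).ncard + ((fun c => t * c) '' (C : Set G)).ncard := Set.ncard_union_le _ _
      _ ≤ (C : Set G).ncard + (C : Set G).ncard :=
        Nat.add_le_add_left (Set.ncard_image_le (Set.toFinite _)) _
      _ = 2 * Nat.card C := by
        rw [two_mul]
        rfl
  have h2 : Nat.card A ≤ 4 * Nat.card C := by
    calc Nat.card A = (A : Set G).ncard := rfl
      _ ≤ _ := Set.ncard_le_ncard hsub (Set.toFinite _)
      _ ≤ ((C : Set G) ∪ (fun c => t * c) '' (C : Set G)).ncard +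
          ((fun c => c * s⁻¹) '' ((C : Set G) ∪ (fun c => t * c) '' (C : Set G))).ncard :=
        Set.ncard_union_le _ _
      _ ≤ ((C : Set G) ∪ (fun c => t * c) '' (C : Set G)).ncard +
          ((C : Set G) ∪ (fun c => t * c) '' (C : Set G)).ncard :=
        Nat.add_le_add_left (Set.ncard_image_le (Set.toFinite _)) _
      _ ≤ 4 * Nat.card C := by omega
  have h3 := H.card16
  have h4 : 4 ≤ Nat.card C := by
    by_contra h5
    have h6 : Nat.card C ≤ 3 := by omega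
    have h7 : Nat.card C ^ 2 ≤ 9 := by nlinarith
    omega
  nlinarith

theorem odd_conj (H : FTD t V T C₀) {P : Subgroup G} (hP : IsPGroup 2 P)
    (hPt : ∀ x ∈ P, t * x = x * t) :
    ∃ c, c * t = t * c ∧ ∀ x ∈ P, c * x * c⁻¹ ∈ T := by
  obtain ⟨n, hn, hnle⟩ := exists_conj_le_in (p := 2) H.T2 H.odd (D := P)
    (fun x hx => Subgroup.mem_centralizer_singleton_iff.2 (hPt x hx).symm) hP
  exact ⟨n, Subgroup.mem_centralizer_singleton_iff.1 hn, fun x hx => hnle ⟨x, hx, rfl⟩⟩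

theorem card_le (H : FTD t V T C₀) {P : Subgroup G} (hP : IsPGroup 2 P)
    (hPt : ∀ x ∈ P, t * x = x * t) : Nat.card P ≤ Nat.card T := by
  obtain ⟨c, _, hc⟩ := H.odd_conj hP hPt
  have h1 : Nat.card (P.map (MulAut.conj c).toMonoidHom) = Nat.card P :=
    Nat.card_congr (P.equivMapOfInjective _ (MulAut.conj c).injective).symm.toEquiv
  rw [← h1]
  apply Subgroup.card_le_of_le
  rintro _ ⟨x, hx, rfl⟩
  exact hc x hx

/-- an elementary abelian subgroup of order `2q` of `C(t)` is conjugate in `C(t)` to `E`. -/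
theorem elem_conj (H : FTD t V T C₀) {A : Subgroup G} (hA : ∀ x ∈ A, x * x = 1)
    (hAt : ∀ x ∈ A, t * x = x * t) (hc : 2 * Nat.card V ≤ Nat.card A) :
    ∃ c, c * t = t * c ∧ A.map (MulAut.conj c).toMonoidHom = H.E := by
  have hA2 : IsPGroup 2 A := by
    intro x
    refine ⟨1, Subtype.ext ?_⟩
    show (x : G) ^ (2 ^ 1) = 1
    rw [pow_one, pow_two]
    exact hA x x.2
  obtain ⟨c, hct, hcT⟩ := H.odd_conj hA2 hAt
  refine ⟨c, hct, ?_⟩
  have h1 : Nat.card (A.map (MulAut.conj c).toMonoidHom) = Nat.card A :=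
    Nat.card_congr (A.equivMapOfInjective _ (MulAut.conj c).injective).symm.toEquiv
  have h2 : A.map (MulAut.conj c).toMonoidHom ≤ H.E := by
    apply H.elem_le
    · rintro _ ⟨x, hx, rfl⟩
      exact hcT x hx
    · rintro _ ⟨x, hx, rfl⟩
      show c * x * c⁻¹ * (c * x * c⁻¹) = 1
      have h3 : c * x * c⁻¹ * (c * x * c⁻¹) = c * (x * x) * c⁻¹ := by group
      rw [h3, hA x hx]
      group
    · rw [h1]
      exact hc
  apply Subgroup.eq_of_le_of_card_ge h2
  rw [h1, H.card_E]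
  exact hc

/-- `E` is a Sylow 2-subgroup of `C(t) ∩ C(V)`. -/
theorem tcv (H : FTD t V T C₀) : TCV t V := by
  refine ⟨H.t2, H.tV, H.vsq, H.vt, ?_⟩
  intro P hP hPt hPV hVP htP x hx
  have hEP : H.E ≤ P := by
    rintro y (h | h)
    · exact hVP h
    · rw [H.eqt y]
      exact mul_mem htP (hVP h)
  obtain ⟨c, hct, hcT⟩ := H.odd_conj hP hPt
  have h1 : Nat.card (H.E.map (MulAut.conj c).toMonoidHom) = Nat.card H.E :=
    Nat.card_congr (H.E.equivMapOfInjective _ (MulAut.conj c).injective).symm.toEquiv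
  have h2 : H.E.map (MulAut.conj c).toMonoidHom ≤ H.E := by
    apply H.elem_le
    · rintro _ ⟨y, hy, rfl⟩
      exact hcT y (hEP hy)
    · rintro _ ⟨y, hy, rfl⟩
      show c * y * c⁻¹ * (c * y * c⁻¹) = 1
      have h3 : c * y * c⁻¹ * (c * y * c⁻¹) = c * (y * y) * c⁻¹ := by group
      rw [h3, H.E_sq hy]
      group
    · rw [h1, H.card_E]
  have h3 : H.E.map (MulAut.conj c).toMonoidHom = H.E :=
    Subgroup.eq_of_le_of_card_ge h2 (by rw [h1])
  have hxE : ∀ y ∈ H.E, x * y = y * x := by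
    rintro y (hy | hy)
    · exact hPV x hx y hy
    · have h4 := hPV x hx _ hy
      have h5 := hPt x hx
      rw [H.eqt y, ← mul_assoc, ← h5, mul_assoc, h4]
      group
  have h4 : c * x * c⁻¹ ∈ H.E := by
    apply H.cV _ (hcT x hx)
    intro v hv
    have h5 : v ∈ H.E.map (MulAut.conj c).toMonoidHom := by
      rw [h3]
      exact H.V_le_E hv
    obtain ⟨y, hy, rfl⟩ := h5
    show c * x * c⁻¹ * (c * y * c⁻¹) = c * y * c⁻¹ * (c * x * c⁻¹)
    have h6 : c * x * c⁻¹ * (c * y * c⁻¹) = c * (x * y) * c⁻¹ := by group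
    rw [h6, hxE y hy]
    group
  rw [← h3] at h4
  obtain ⟨y, hy, hyx⟩ := h4
  have h5 : c * y * c⁻¹ = c * x * c⁻¹ := hyx
  have h6 : y = x := by
    have h7 : y = c⁻¹ * (c * y * c⁻¹) * c := by group
    rw [h7, h5]
    group
  rw [← h6]
  exact hy

/-- `C(t)` contains no `ℤ₄ × ℤ₄`. -/
theorem no_pair (H : FTD t V T C₀) {a b : G} (hab : a * b = b * a) (hat : t * a = a * t)
    (hbt : t * b = b * t) (ha4 : a * a * (a * a) = 1) (hb4 : b * b * (b * b) = 1)
    (ha : a * a ≠ 1) (hb : b * b ≠ 1) (hne : a * a ≠ b * b) : False := by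
  classical
  -- the group `⟨a, b⟩`
  have hpow4 : ∀ x : G, x * x * (x * x) = 1 → x ^ 4 = 1 := by
    intro x hx
    rw [pow_succ, pow_succ, pow_succ, pow_one, mul_assoc (x * x)]
    exact hx
  let B : Subgroup G := Subgroup.closure {a, b}
  have hBcomm : ∀ x ∈ B, ∀ y ∈ B, x * y = y * x := by
    have hcc : ∀ x ∈ ({a, b} : Set G), ∀ y ∈ ({a, b} : Set G), x * y = y * x := by
      rintro x (rfl | rfl) y (rfl | rfl)
      · rfl
      · exact hab
      · exact hab.symm
      · rfl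
    have := Subgroup.isMulCommutative_closure hcc
    intro x hx y hy
    have h1 := mul_comm' (⟨x, hx⟩ : B) ⟨y, hy⟩
    exact congrArg Subtype.val h1
  have hB2 : IsPGroup 2 B := by
    intro x
    refine ⟨2, Subtype.ext ?_⟩
    show (x : G) ^ (2 ^ 2) = 1
    norm_num
    have h1 : ∀ y ∈ B, y ^ 4 = 1 := by
      intro y hy
      induction hy using Subgroup.closure_induction with
      | mem z hz =>
        rcases hz with rfl | rfl
        · exact hpow4 _ ha4
        · exact hpow4 _ hb4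
      | one => exact one_pow _
      | mul u v hu hv h1 h2 =>
        rw [mul_pow_of_comm (hBcomm u hu v hv), h1, h2, one_mul]
      | inv u hu h1 => rw [inv_pow, h1, inv_one]
    exact h1 x x.2
  have hBt : ∀ x ∈ B, t * x = x * t := by
    intro x hx
    have h1 : B ≤ Subgroup.centralizer ({t} : Set G) := by
      rw [Subgroup.closure_le]
      rintro z (rfl | rfl)
      · exact Subgroup.mem_centralizer_singleton_iff.2 hat.symm
      · exact Subgroup.mem_centralizer_singleton_iff.2 hbt.symm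
    exact (Subgroup.mem_centralizer_singleton_iff.1 (h1 hx)).symm
  have haB : a ∈ B := Subgroup.subset_closure (Or.inl rfl)
  have hbB : b ∈ B := Subgroup.subset_closure (Or.inr rfl)
  obtain ⟨c, _, hcT⟩ := H.odd_conj hB2 hBt
  -- pass to conjugates in `T`
  obtain ⟨φ, hφ, hcyc⟩ := H.cyc'
  have hEn : (H.E.subgroupOf T).Normal := by
    constructor
    intro x hx y
    rw [Subgroup.mem_subgroupOf] at hx ⊢
    exact H.E_norm y.2 hx
  let π : T →* T ⧸ (H.E.subgroupOf T) := QuotientGroup.mk' _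
  have hπ : ∀ x : T, π x = 1 ↔ (x : G) ∈ H.E := by
    intro x
    rw [show π x = (x : T ⧸ (H.E.subgroupOf T)) from rfl, QuotientGroup.eq_one_iff,
      Subgroup.mem_subgroupOf]
  let j : B →* T :=
    { toFun := fun x => ⟨c * x * c⁻¹, hcT x x.2⟩
      map_one' := by
        apply Subtype.ext
        show c * 1 * c⁻¹ = 1
        group
      map_mul' := by
        intro x y
        apply Subtype.ext
        show c * ((x : G) * y) * c⁻¹ = c * x * c⁻¹ * (c * y * c⁻¹)
        group }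
  have hφp : ∀ s : T, ∃ n : ℕ, π s = π ⟨φ, hφ⟩ ^ n := by
    intro s
    obtain ⟨n, hn⟩ := hcyc s s.2
    refine ⟨n, ?_⟩
    rw [← map_pow]
    symm
    rw [← inv_mul_eq_one, ← map_inv, ← map_mul, hπ]
    exact hn
  obtain ⟨i, hi⟩ := hφp (j ⟨a, haB⟩)
  obtain ⟨l, hl⟩ := hφp (j ⟨b, hbB⟩)
  -- Bezout
  set g := Int.gcd (i : ℤ) (l : ℤ) with hg
  have hbez := Int.gcd_eq_gcd_ab (i : ℤ) (l : ℤ)
  set x := Int.gcdA (i : ℤ) (l : ℤ)
  set y := Int.gcdB (i : ℤ) (l : ℤ)
  obtain ⟨i', hi'⟩ : (g : ℤ) ∣ i := Int.gcd_dvd_left ..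
  obtain ⟨l', hl'⟩ : (g : ℤ) ∣ l := Int.gcd_dvd_right ..
  let e : B := (⟨a, haB⟩ : B) ^ x * (⟨b, hbB⟩ : B) ^ y
  have he : π (j e) = π ⟨φ, hφ⟩ ^ (g : ℤ) := by
    show π (j ((⟨a, haB⟩ : B) ^ x * (⟨b, hbB⟩ : B) ^ y)) = _
    rw [map_mul, map_mul, map_zpow, map_zpow, map_zpow, map_zpow, hi, hl, ← zpow_natCast,
      ← zpow_natCast, ← zpow_mul, ← zpow_mul, ← zpow_add, ← hbez]
  have he4 : (e : G) ^ 4 = 1 := by
    have h1 : ∀ y ∈ B, y ^ 4 = 1 := by
      intro y hy
      induction hy using Subgroup.closure_induction with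
      | mem z hz =>
        rcases hz with rfl | rfl
        · exact hpow4 _ ha4
        · exact hpow4 _ hb4
      | one => exact one_pow _
      | mul u v hu hv h1 h2 =>
        rw [mul_pow_of_comm (hBcomm u hu v hv), h1, h2, one_mul]
      | inv u hu h1 => rw [inv_pow, h1, inv_one]
    exact h1 e e.2
  -- squares
  have key : ∀ (z : B) (m : ℤ), π (j z) = π (j e) ^ m →
      ((z : G) * z = (e : G) ^ (2 * m)) := by
    intro z m hz
    have h1 : π (j (e ^ (-m) * z)) = 1 := by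
      rw [map_mul, map_mul, hz, map_zpow, map_zpow, ← zpow_add, neg_add_cancel, zpow_zero]
    rw [hπ] at h1
    have h2 := H.E_sq h1
    have h3 : (((j (e ^ (-m) * z)) : T) : G) = c * ((e : G) ^ (-m) * z) * c⁻¹ := rfl
    rw [h3] at h2
    have h4 : ((e : G) ^ (-m) * z) * ((e : G) ^ (-m) * z) = 1 := by
      have h5 : c * ((e : G) ^ (-m) * z) * c⁻¹ * (c * ((e : G) ^ (-m) * z) * c⁻¹) =
          c * (((e : G) ^ (-m) * z) * ((e : G) ^ (-m) * z)) * c⁻¹ := by group
      rw [h5, mul_inv_eq_one] at h2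
      exact mul_eq_left.mp h2
    have h5 : (z : G) * (e : G) ^ (-m) = (e : G) ^ (-m) * z :=
      hBcomm z z.2 _ (zpow_mem e.2 _)
    have h6 : ((e : G) ^ (-m) * z) * ((e : G) ^ (-m) * z) = (e : G) ^ (-m) * (e : G) ^ (-m) * (z * z) := by
      calc _ = (e : G) ^ (-m) * (z * (e : G) ^ (-m)) * z := by group
        _ = _ := by rw [h5]; group
    rw [h6, ← zpow_add] at h4
    have h7 : (z : G) * z = ((e : G) ^ (-m + -m))⁻¹ := by
      rw [eq_inv_iff_mul_eq_one, ← h4]
      exact hBcomm _ (mul_mem z.2 z.2) _ (zpow_mem e.2 _)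
    rw [h7, ← zpow_neg]
    congr 1
    ring
  have hza := key ⟨a, haB⟩ i' (by
    rw [hi, he, ← zpow_mul, ← hi', zpow_natCast])
  have hzb := key ⟨b, hbB⟩ l' (by
    rw [hl, he, ← zpow_mul, ← hl', zpow_natCast])
  have he4' : ∀ m : ℤ, (e : G) ^ (4 * m) = 1 := by
    intro m
    rw [zpow_mul]
    have h1 : (e : G) ^ (4 : ℤ) = 1 := by
      have h2 : (4 : ℤ) = ((4 : ℕ) : ℤ) := rfl
      rw [h2, zpow_natCast, he4]
    rw [h1, one_zpow]
  have hio : Odd i' := by
    rw [← Int.not_even_iff_odd]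
    rintro ⟨m, hm⟩
    apply ha
    show ((⟨a, haB⟩ : B) : G) * ((⟨a, haB⟩ : B) : G) = 1
    rw [hza, hm]
    have h1 : 2 * (m + m) = 4 * m := by ring
    rw [h1, he4']
  have hlo : Odd l' := by
    rw [← Int.not_even_iff_odd]
    rintro ⟨m, hm⟩
    apply hb
    show ((⟨b, hbB⟩ : B) : G) * ((⟨b, hbB⟩ : B) : G) = 1
    rw [hzb, hm]
    have h1 : 2 * (m + m) = 4 * m := by ring
    rw [h1, he4']
  obtain ⟨m1, hm1⟩ := hio
  obtain ⟨m2, hm2⟩ := hlo
  apply hne
  show ((⟨a, haB⟩ : B) : G) * ((⟨a, haB⟩ : B) : G) = ((⟨b, hbB⟩ : B) : G) * ((⟨b, hbB⟩ : B) : G)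
  rw [hza, hzb, hm1, hm2]
  have h1 : (2 : ℤ) * (2 * m1 + 1) = 4 * m1 + 2 := by ring
  have h2 : (2 : ℤ) * (2 * m2 + 1) = 4 * m2 + 2 := by ring
  rw [h1, h2, zpow_add, zpow_add, he4', he4']

end FTD

end Cfsg.Agent.StdL2.FT
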