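import Cfsg.Agent.StdL2.EOneFusion
import Cfsg.Agent.StdL2.FTData

/-!
# S1773, case `e ≥ 1`: from `FTD` to `Fld` and `EOne`
-/

set_option autoImplicit false
set_option linter.unusedSectionVars false

open Subgroup

namespace Cfsg.Agent.StdL2.EOneOf

open Cfsg.Agent.StdL2.FieldStart Cfsg.Agent.StdL2.EOneFusion Cfsg.Agent.StdL2.FT

variable {G : Type*} [Group G] [Finite G] {t : G} {V T C₀ : Subgroup G}

theorem cent_of_E (H : FTD t V T C₀) {x : G} (hx : x ∈ H.E) {v : G} (hv : v ∈ V) : x * v = v * x :=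
  H.E_comm hx (H.V_le_E hv)

/-- two elements of `T` which are involutions modulo `E` are equal modulo `E` -/
theorem uniq (H : FTD t V T C₀) {x y : G} (hx : x ∈ T) (hy : y ∈ T) (hx2 : x * x ∈ H.E)
    (hy2 : y * y ∈ H.E) (hxE : x ∉ H.E) (hyE : y ∉ H.E) : x⁻¹ * y ∈ H.E := by
  classical
  obtain ⟨φ, hφ, hcyc⟩ := H.cyc'
  have hEn : (H.E.subgroupOf T).Normal := by
    constructor
    intro x hx y
    rw [Subgroup.mem_subgroupOf] at hx ⊢
    exact H.E_norm y.2 hx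
  let π : T →* T ⧸ (H.E.subgroupOf T) := QuotientGroup.mk' _
  have hπ : ∀ x : T, π x = 1 ↔ (x : G) ∈ H.E := by
    intro x
    rw [show π x = (x : T ⧸ (H.E.subgroupOf T)) from rfl, QuotientGroup.eq_one_iff,
      Subgroup.mem_subgroupOf]
  have hcy : IsCyclic (T ⧸ (H.E.subgroupOf T)) := by
    refine ⟨⟨π ⟨φ, hφ⟩, fun z => ?_⟩⟩
    obtain ⟨x, rfl⟩ := QuotientGroup.mk'_surjective _ z
    obtain ⟨n, hn⟩ := hcyc x x.2
    refine ⟨n, ?_⟩
    show π ⟨φ, hφ⟩ ^ (n : ℤ) = π x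
    rw [zpow_natCast, ← map_pow, ← inv_mul_eq_one, ← map_inv, ← map_mul, hπ]
    exact hn
  have h1 : π ⟨x, hx⟩ ≠ 1 := fun h => hxE ((hπ _).1 h)
  have h2 : π ⟨y, hy⟩ ≠ 1 := fun h => hyE ((hπ _).1 h)
  have h3 : π ⟨x, hx⟩ ^ 2 = 1 := by
    rw [← map_pow, hπ]
    show x ^ 2 ∈ H.E
    rw [pow_two]
    exact hx2
  have h4 : π ⟨y, hy⟩ ^ 2 = 1 := by
    rw [← map_pow, hπ]
    show y ^ 2 ∈ H.E
    rw [pow_two]
    exact hy2
  have h5 : orderOf (π ⟨x, hx⟩) = 2 := orderOf_eq_prime h3 h1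
  have h6 : orderOf (π ⟨y, hy⟩) = 2 := orderOf_eq_prime h4 h2
  have h7 : π ⟨x, hx⟩ = π ⟨y, hy⟩ := by
    have : Fintype (T ⧸ (H.E.subgroupOf T)) := Fintype.ofFinite _
    have h8 := IsCyclic.card_orderOf_eq_totient (α := T ⧸ (H.E.subgroupOf T)) (d := 2) (by
      rw [← h5]
      exact orderOf_dvd_card)
    rw [Nat.totient_two, Finset.card_eq_one] at h8
    obtain ⟨z, hz⟩ := h8
    have h9 : π ⟨x, hx⟩ ∈ ({z} : Finset _) := by
      rw [← hz, Finset.mem_filter]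
      exact ⟨Finset.mem_univ _, h5⟩
    have h10 : π ⟨y, hy⟩ ∈ ({z} : Finset _) := by
      rw [← hz, Finset.mem_filter]
      exact ⟨Finset.mem_univ _, h6⟩
    rw [Finset.mem_singleton] at h9 h10
    rw [h9, h10]
  have h8 : π ((⟨x, hx⟩ : T)⁻¹ * ⟨y, hy⟩) = 1 := by
    rw [map_mul, map_inv, h7, inv_mul_cancel]
  exact (hπ _).1 h8

theorem t_ne_one (H : FTD t V T C₀) : t ≠ 1 := fun h => H.tV (h ▸ V.one_mem)

theorem mem_zpowers_iff (H : FTD t V T C₀) {r : G} (hr : r ∈ zpowers t) : r = 1 ∨ r = t := by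
  obtain ⟨k, rfl⟩ := hr
  change t ^ k = 1 ∨ t ^ k = t
  rcases Int.even_or_odd k with ⟨m, hm⟩ | ⟨m, hm⟩
  · left
    rw [hm, ← two_mul, zpow_mul, zpow_two, H.t2, one_zpow]
  · right
    rw [hm, zpow_add, zpow_mul, zpow_two, H.t2, one_zpow, one_mul, zpow_one]

/-- `Fld` from `FTD` with `R = ⟨t⟩` -/
theorem fldOf (H : FTD t V T C₀) : Fld t V (zpowers t) T where
  t2 := H.t2
  t1 := t_ne_one H
  tR := mem_zpowers t
  Rcyc := inferInstance
  RT := by rw [zpowers_le]; exact H.tT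
  VT := H.VT
  vsq := H.vsq
  rv := by
    intro r hr v hv
    rcases mem_zpowers_iff H hr with h | h
    · rw [h, one_mul, mul_one]
    · rw [h]; exact H.vt v hv
  disj := by
    intro x hx hxV
    rcases mem_zpowers_iff H hx with h | h
    · exact h
    · exact absurd (h ▸ hxV) H.tV
  T2 := H.T2
  Tt := H.Tt
  Tmax := by
    intro P hP hTP hPt
    refine (Subgroup.eq_of_le_of_card_ge hTP (H.card_le hP (fun x hx => (hPt x hx).symm))).ge
  Vn := H.TV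
  cent := by
    intro x hx hc
    rcases H.cV x hx hc with h | h
    · exact ⟨1, one_mem _, x, h, (one_mul x).symm⟩
    · exact ⟨t, mem_zpowers t, t * x, h, H.eqt x⟩
  uniq := by
    rintro x hx y hy hx2 hy2 ⟨v, hv, hxv⟩ ⟨w, hw, hyw⟩ u hu
    exact cent_of_E H (uniq H hx hy (H.cV _ (T.mul_mem hx hx) hx2) (H.cV _ (T.mul_mem hy hy) hy2)
      (fun h => hxv (cent_of_E H h hv)) (fun h => hyw (cent_of_E H h hw))) hu
  fix := by
    rintro x hx ⟨v, hv, hxv⟩ hx2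
    exact H.card_fix hx (fun h => hxv (cent_of_E H (Or.inl h) hv))
      (fun h => hxv (cent_of_E H (Or.inr h) hv)) (H.cV _ (T.mul_mem hx hx) hx2)

/-- `EOne` from the data of the tower. -/
theorem eoneOf (H : FTD t V T C₀) {W : Subgroup G} (wsq : ∀ w ∈ W, w * w = 1) (VW : V ≤ W)
    (tW : ∀ w ∈ W, t * w * t⁻¹ ∈ W) (cW : ∀ w ∈ W, t * w = w * t → w ∈ V)
    (card : Nat.card W = Nat.card V ^ 2) : EOne (fldOf H) W where
  Rt := fun _ hr => mem_zpowers_iff H hr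
  wsq := wsq
  VW := VW
  tW := tW
  cW := fun w hw h => cW w hw h.symm
  card := card
  small := H.size

end Cfsg.Agent.StdL2.EOneOf
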