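import Mathlib
import Cfsg.Agent.StdL2.FBase

/-!
# S1773, case (f): construction of helper806's configuration `XC`

`Pre`: a group `X` acting faithfully on an elementary abelian 2-group `W`, `t` an involution,
`V = C_W(t)` of order `q`, `δ` of order dividing `q - 1` commuting with `t`, `⟨δ⟩` regular on `V#`,
`⟨δ⟩` normal in `C(t)`, `C(t) ∩ C(δ) = ⟨t, δ⟩`, `f` a further involution of `C(t)`.
`Pre.exists_XC`: the coordinates.
-/

set_option autoImplicit false
set_option linter.unusedSectionVars false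
set_option linter.style.haveILetI false

namespace Cfsg.Agent.StdL2.EOneXC

open Cfsg.Agent.StdL2.F
open Cfsg.Agent.StdL2.F.XC (rho rho_apply)

universe u v

variable {X : Type v} {W : Type u} [Group X] [AddCommGroup W] [DistribMulAction X W]

/-- the input -/
structure Pre (V : AddSubgroup W) (q : ℕ) (t δ f : X) : Prop where
  faithful : ∀ x : X, (∀ w : W, x • w = w) → x = 1
  two : ∀ w : W, w + w = 0
  fixV : ∀ w : W, t • w = w ↔ w ∈ V
  t1 : t ≠ 1
  tt : t * t = 1
  td : t * δ = δ * t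
  q2 : ∃ a : ℕ, q = 2 ^ a
  q16 : 16 ≤ q
  cardV : Nat.card V = q
  dq : δ ^ (q - 1) = 1
  reg : ∀ v ∈ V, v ≠ 0 → ∀ u ∈ V, u ≠ 0 → ∃ j : ℕ, δ ^ j • v = u
  ff : f * f = 1
  tf : t * f = f * t
  f1 : f ≠ 1
  ft : f ≠ t
  norm : ∀ x : X, x * t = t * x → ∃ j : ℕ, x * δ = δ ^ j * x
  cent : ∀ x : X, x * t = t * x → x * δ = δ * x → ∃ j : ℕ, x = δ ^ j ∨ x = δ ^ j * t

namespace Pre

variable {V : AddSubgroup W} {q : ℕ} {t δ f : X}

theorem rho_inj (P : Pre V q t δ f) : Function.Injective (rho X W) := by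
  intro x y h
  have h1 : x⁻¹ * y = 1 := by
    apply P.faithful
    intro w
    have : x • w = y • w := DFunLike.congr_fun h w
    rw [mul_smul, ← this, inv_smul_smul]
  exact (inv_mul_eq_one.mp h1)

theorem tw_mem (P : Pre V q t δ f) (w : W) : t • w + w ∈ V := by
  rw [← P.fixV, smul_add, smul_smul, P.tt, one_smul, add_comm]

theorem exists_notMem (P : Pre V q t δ f) : ∃ w : W, w ∉ V := by
  by_contra hcon
  push Not at hcon
  exact P.t1 (P.faithful t fun w => (P.fixV w).2 (hcon w))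

theorem exists_v (P : Pre V q t δ f) : ∃ v ∈ V, v ≠ 0 := by
  by_contra hcon
  push Not at hcon
  have h1 : V = ⊥ := (AddSubgroup.eq_bot_iff_forall V).2 hcon
  have h2 := P.cardV
  have h3 := P.q16
  rw [h1, AddSubgroup.card_bot] at h2
  omega

theorem end_two (P : Pre V q t δ f) : (2 : AddMonoid.End W) = 0 := by
  have h : (1 + 1 : AddMonoid.End W) = 0 := by
    ext w
    exact P.two w
  rw [← one_add_one_eq_two, h]

theorem end_charP (P : Pre V q t δ f) : CharP (AddMonoid.End W) 2 := by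
  refine CharTwo.of_one_ne_zero_of_two_eq_zero ?_ P.end_two
  intro h
  obtain ⟨v, _, hv⟩ := P.exists_v
  exact hv (DFunLike.congr_fun h v)

/-- the ring generated by `δ` -/
theorem closure_spec (P : Pre V q t δ f) {s : AddMonoid.End W}
    (hs : s ∈ Subring.closure {rho X W δ}) :
    s * rho X W t = rho X W t * s ∧ s * rho X W δ = rho X W δ * s ∧ s ^ q = s := by
  haveI := P.end_charP
  haveI : Fact (Nat.Prime 2) := ⟨Nat.prime_two⟩
  obtain ⟨a, ha⟩ := P.q2
  have hcomm : ∀ x y : AddMonoid.End W, x ∈ Subring.closure {rho X W δ} →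
      y ∈ Subring.closure {rho X W δ} → x * y = y * x := by
    intro x y hx hy
    have h1 : Subring.closure {rho X W δ} ≤ Subring.centralizer {rho X W δ} := by
      rw [Subring.closure_le, Set.singleton_subset_iff, SetLike.mem_coe,
        Subring.mem_centralizer_iff]
      intro g hg
      rw [Set.mem_singleton_iff.1 hg]
    have h2 : Subring.closure {rho X W δ} ≤ Subring.centralizer {x} := by
      rw [Subring.closure_le, Set.singleton_subset_iff, SetLike.mem_coe,
        Subring.mem_centralizer_iff]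
      intro g hg
      rw [Set.mem_singleton_iff.1 hg]
      exact (Subring.mem_centralizer_iff.1 (h1 hx) _ rfl).symm
    exact Subring.mem_centralizer_iff.1 (h2 hy) _ rfl
  induction hs using Subring.closure_induction with
  | mem x hx =>
    rw [Set.mem_singleton_iff] at hx
    subst hx
    refine ⟨?_, rfl, ?_⟩
    · rw [← map_mul, ← map_mul, P.td]
    · rw [← map_pow]
      congr 1
      have h1 : δ ^ q = δ ^ (q - 1) * δ := by
        rw [← pow_succ]; congr 1
        have := P.q16; omega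
      rw [h1, P.dq, one_mul]
  | zero =>
    refine ⟨by rw [zero_mul, mul_zero], by rw [zero_mul, mul_zero], ?_⟩
    exact zero_pow (by have := P.q16; omega)
  | one => exact ⟨by rw [one_mul, mul_one], by rw [one_mul, mul_one], one_pow q⟩
  | add x y hx hy ihx ihy =>
    refine ⟨by rw [add_mul, mul_add, ihx.1, ihy.1], by rw [add_mul, mul_add, ihx.2.1, ihy.2.1], ?_⟩
    have h1 : Commute x y := hcomm x y hx hy
    have h2 := add_pow_char_pow_of_commute 2 a h1
    rw [← ha] at h2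
    rw [h2, ihx.2.2, ihy.2.2]
  | neg x hx ih =>
    have h1 : -x = x := neg_eq_of_add_eq_zero_left (by
      ext w; exact P.two (x w))
    rw [h1]; exact ih
  | mul x y hx hy ihx ihy =>
    refine ⟨?_, ?_, ?_⟩
    · rw [mul_assoc, ihy.1, ← mul_assoc, ihx.1, mul_assoc]
    · rw [mul_assoc, ihy.2.1, ← mul_assoc, ihx.2.1, mul_assoc]
    · rw [(show Commute x y from hcomm x y hx hy).mul_pow, ihx.2.2, ihy.2.2]

theorem dvV (P : Pre V q t δ f) (j : ℕ) {v : W} (hv : v ∈ V) : δ ^ j • v ∈ V := by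
  rw [← P.fixV] at hv ⊢
  have h1 : t * δ ^ j = δ ^ j * t := ((show Commute t δ from P.td).pow_right j)
  rw [smul_smul, h1, mul_smul, hv]

/-- an element commuting with `t`, `δ`, with `s ^ q = s`, killing a vector of `V#`, is `0` -/
theorem eq_zero (P : Pre V q t δ f) {s : AddMonoid.End W}
    (h1 : s * rho X W t = rho X W t * s) (h2 : s * rho X W δ = rho X W δ * s) (h3 : s ^ q = s)
    {v : W} (hv : v ∈ V) (hv0 : v ≠ 0) (hs : s v = 0) : s = 0 := by
  have hV : ∀ u ∈ V, s u = 0 := by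
    intro u hu
    by_cases hu0 : u = 0
    · rw [hu0, map_zero]
    obtain ⟨j, rfl⟩ := P.reg v hv hv0 u hu hu0
    have h4 : s * rho X W δ ^ j = rho X W δ ^ j * s :=
      ((show Commute s (rho X W δ) from h2).pow_right j)
    have h5 := DFunLike.congr_fun h4 v
    rw [← map_pow] at h5
    change s (δ ^ j • v) = δ ^ j • (s v) at h5
    rw [h5, hs, smul_zero]
  have hW : ∀ w, s (s w) = 0 := by
    intro w
    apply hV
    have h4 := hV _ (P.tw_mem w)
    rw [map_add] at h4
    have h5 : s (t • w) = t • s w := DFunLike.congr_fun h1 w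
    rw [h5] at h4
    rw [← P.fixV]
    have h6 := eq_neg_of_add_eq_zero_left h4
    rwa [neg_eq_of_add_eq_zero_left (P.two (s w))] at h6
  have h4 : s * s = 0 := by
    ext w; exact hW w
  have h5 : s ^ q = 0 := by
    have : q = 2 + (q - 2) := by have := P.q16; omega
    rw [this, pow_add, pow_two, h4, zero_mul]
  rw [← h3, h5]

theorem mem_closure (P : Pre V q t δ f) {s : AddMonoid.End W}
    (hs : s ∈ Subring.closure {rho X W δ}) : s = 0 ∨ ∃ j : ℕ, s = rho X W (δ ^ j) := by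
  obtain ⟨v, hv, hv0⟩ := P.exists_v
  obtain ⟨h1, h2, h3⟩ := P.closure_spec hs
  by_cases hsv : s v = 0
  · exact Or.inl (P.eq_zero h1 h2 h3 hv hv0 hsv)
  right
  have hsV : s v ∈ V := by
    rw [← P.fixV]
    have h5 : s (t • v) = t • s v := DFunLike.congr_fun h1 v
    rw [← h5, (P.fixV v).2 hv]
  obtain ⟨j, hj⟩ := P.reg v hv hv0 _ hsV hsv
  refine ⟨j, ?_⟩
  have hmem : s - rho X W (δ ^ j) ∈ Subring.closure {rho X W δ} := by
    refine Subring.sub_mem _ hs ?_
    rw [map_pow]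
    exact Subring.pow_mem _ (Subring.subset_closure (Set.mem_singleton _)) j
  obtain ⟨k1, k2, k3⟩ := P.closure_spec hmem
  have := P.eq_zero k1 k2 k3 hv hv0 (by
    change s v - (δ ^ j • v) = 0
    rw [hj, sub_self])
  exact sub_eq_zero.1 this

/-- the ring `{0} ∪ ⟨δ⟩` -/
def SS (P : Pre V q t δ f) : Subring (AddMonoid.End W) where
  carrier := {s | s = 0 ∨ ∃ j : ℕ, s = rho X W (δ ^ j)}
  mul_mem' := by
    rintro x y (rfl | ⟨i, rfl⟩) (rfl | ⟨j, rfl⟩)
    · left; rw [zero_mul]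
    · left; rw [zero_mul]
    · left; rw [mul_zero]
    · right; exact ⟨i + j, by rw [← map_mul, pow_add]⟩
  one_mem' := Or.inr ⟨0, by rw [pow_zero, map_one]⟩
  add_mem' := by
    intro x y hx hy
    have h : ∀ z : AddMonoid.End W, (z = 0 ∨ ∃ j : ℕ, z = rho X W (δ ^ j)) →
        z ∈ Subring.closure {rho X W δ} := by
      rintro z (rfl | ⟨j, rfl⟩)
      · exact Subring.zero_mem _
      · rw [map_pow]
        exact Subring.pow_mem _ (Subring.subset_closure (Set.mem_singleton _)) j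
    exact P.mem_closure (Subring.add_mem _ (h x hx) (h y hy))
  zero_mem' := Or.inl rfl
  neg_mem' := by
    intro x hx
    have h1 : -x = x := neg_eq_of_add_eq_zero_left (by
      ext w; exact P.two (x w))
    rw [h1]; exact hx

theorem mem_SS (P : Pre V q t δ f) {s : AddMonoid.End W} :
    s ∈ P.SS ↔ s = 0 ∨ ∃ j : ℕ, s = rho X W (δ ^ j) := Iff.rfl

theorem SS_comm (P : Pre V q t δ f) (x y : P.SS) : x * y = y * x := by
  obtain ⟨x, hx⟩ := x
  obtain ⟨y, hy⟩ := y
  apply Subtype.ext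
  change x * y = y * x
  rcases P.mem_SS.1 hx with rfl | ⟨i, rfl⟩
  · rw [zero_mul, mul_zero]
  rcases P.mem_SS.1 hy with rfl | ⟨j, rfl⟩
  · rw [zero_mul, mul_zero]
  rw [← map_mul, ← map_mul, ← pow_add, ← pow_add, add_comm]

/-- the commutative ring -/
abbrev ssRing (P : Pre V q t δ f) : CommRing P.SS :=
  { (inferInstance : Ring P.SS) with mul_comm := P.SS_comm }

theorem SS_unit (P : Pre V q t δ f) (a : P.SS) : (∃ b : P.SS, a * b = 1) ∨ a = 0 := by
  obtain ⟨x, hx⟩ := a
  rcases P.mem_SS.1 hx with rfl | ⟨i, rfl⟩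
  · right; rfl
  · left
    refine ⟨⟨rho X W (δ ^ (i * (q - 2))), Or.inr ⟨_, rfl⟩⟩, ?_⟩
    apply Subtype.ext
    change rho X W (δ ^ i) * rho X W (δ ^ (i * (q - 2))) = 1
    rw [← map_mul, ← pow_add]
    have : i + i * (q - 2) = (q - 1) * i := by
      have h16 := P.q16
      obtain ⟨r, rfl⟩ : ∃ r, q = r + 2 := ⟨q - 2, by omega⟩
      rw [Nat.add_sub_cancel, show r + 2 - 1 = r + 1 by omega]
      ring
    rw [this, pow_mul, P.dq, one_pow, map_one]

theorem SS_nontrivial (P : Pre V q t δ f) : Nontrivial P.SS := by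
  refine ⟨⟨0, 1, ?_⟩⟩
  intro h
  obtain ⟨v, _, hv⟩ := P.exists_v
  rw [Subtype.ext_iff] at h
  exact hv (DFunLike.congr_fun h.symm v)

/-- the field -/
theorem exists_field [Finite W] (P : Pre V q t δ f) :
    ∃ (F : Type u) (_ : Field F) (_ : Finite F) (κ : F →+* AddMonoid.End W),
      (∀ a : F, a ≠ 0 → ∃ j : ℕ, κ a = rho X W (δ ^ j)) ∧
      (∀ j : ℕ, ∃ a : F, κ a = rho X W (δ ^ j)) := by
  haveI := P.SS_nontrivial
  letI iC : CommRing P.SS := P.ssRing
  letI iF : Field P.SS := Field.ofIsUnitOrEqZero (fun a => by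
    rcases P.SS_unit a with ⟨b, hb⟩ | h
    · exact Or.inl (IsUnit.of_mul_eq_one b hb)
    · exact Or.inr h)
  haveI : Finite (AddMonoid.End W) :=
    Finite.of_injective (fun g : AddMonoid.End W => (g : W → W)) DFunLike.coe_injective
  refine ⟨P.SS, iF, inferInstance, P.SS.subtype, ?_, ?_⟩
  · rintro ⟨x, hx⟩ h0
    rcases P.mem_SS.1 hx with h | ⟨i, h⟩
    · exact absurd (Subtype.ext h) h0
    · exact ⟨i, h⟩
  · intro j
    exact ⟨⟨rho X W (δ ^ j), Or.inr ⟨j, rfl⟩⟩, rfl⟩

theorem conj_pow (_P : Pre V q t δ f) {x : X} {j : ℕ} (h : x * δ = δ ^ j * x) (i : ℕ) :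
    x * δ ^ i = δ ^ (j * i) * x := by
  have h1 : x * δ * x⁻¹ = δ ^ j := by rw [h, mul_inv_cancel_right]
  have h2 : x * δ ^ i * x⁻¹ = (δ ^ j) ^ i := by rw [← _root_.conj_pow, h1]
  rw [pow_mul, ← h2, inv_mul_cancel_right]

theorem eq_one_of_sq (P : Pre V q t δ f) {j : ℕ} (h : δ ^ j * δ ^ j = 1) : δ ^ j = 1 := by
  obtain ⟨a, ha⟩ := P.q2
  have h16 := P.q16
  have h1 : (δ ^ j) ^ q = 1 := by
    cases a with
    | zero => rw [pow_zero] at ha; omega
    | succ b => rw [ha, pow_succ, mul_comm, pow_mul, pow_two, h, one_pow]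
  have h2 : (δ ^ j) ^ (q - 1) = 1 := by rw [← pow_mul, mul_comm, pow_mul, P.dq, one_pow]
  have h3 : (δ ^ j) ^ q = (δ ^ j) ^ (q - 1) * δ ^ j := by
    rw [← pow_succ]; congr 1; omega
  rw [h1, h2, one_mul] at h3
  exact h3.symm

/-- **The coordinates.** -/
theorem exists_XC [Finite W] (P : Pre V q t δ f) :
    ∃ (F : Type u) (_ : Field F) (_ : Finite F) (κ : F →+* AddMonoid.End W) (d : Fˣ →* X)
      (σ : F ≃+* F) (w₁ : W), XC κ d σ t f w₁ ∧ Nat.card F = q ∧ ∃ a, d a = δ := by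
  obtain ⟨F, iF, iFin, κ, hκ1, hκ2⟩ := P.exists_field
  refine ⟨F, iF, iFin, κ, ?_⟩
  obtain ⟨v0, hv0, hv00⟩ := P.exists_v
  haveI : Nontrivial (AddMonoid.End W) := ⟨⟨0, 1, fun h => hv00 (DFunLike.congr_fun h.symm v0)⟩⟩
  have hκi : Function.Injective κ := κ.injective
  -- `d`
  have hd : ∀ a : Fˣ, ∃ x : X, rho X W x = κ a ∧ ∃ j : ℕ, x = δ ^ j := by
    intro a
    obtain ⟨j, hj⟩ := hκ1 a a.ne_zero
    exact ⟨δ ^ j, hj.symm, j, rfl⟩
  choose d0 hd0 hd0' using hd
  let d : Fˣ →* X :=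
    { toFun := d0
      map_one' := P.rho_inj (by rw [hd0, Units.val_one, map_one, map_one])
      map_mul' := fun a b => P.rho_inj (by
        rw [hd0, Units.val_mul, map_mul, map_mul, hd0, hd0]) }
  have hdr : ∀ a : Fˣ, rho X W (d a) = κ a := hd0
  have hdj : ∀ a : Fˣ, ∃ j : ℕ, d a = δ ^ j := hd0'
  have hdd : ∀ j : ℕ, ∃ a : Fˣ, d a = δ ^ j := by
    intro j
    obtain ⟨a, ha⟩ := hκ2 j
    have ha0 : a ≠ 0 := by
      rintro rfl
      rw [map_zero] at ha
      have h1 : δ ^ j • v0 = 0 := (DFunLike.congr_fun ha v0).symm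
      rw [smul_eq_zero_iff_eq] at h1
      exact hv00 h1
    exact ⟨Units.mk0 a ha0, P.rho_inj (by rw [hdr]; exact ha)⟩
  -- `σ`
  obtain ⟨jf, hjf⟩ := P.norm f P.tf.symm
  have hrff : rho X W f * rho X W f = 1 := by rw [← map_mul, P.ff, map_one]
  have hσ : ∀ a : F, ∃ b : F, rho X W f * κ a = κ b * rho X W f := by
    intro a
    by_cases ha : a = 0
    · exact ⟨0, by rw [ha, map_zero, mul_zero, zero_mul]⟩
    obtain ⟨i, hi⟩ := hκ1 a ha
    obtain ⟨b, hb⟩ := hκ2 (jf * i)
    refine ⟨b, ?_⟩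
    rw [hi, hb, ← map_mul, ← map_mul, P.conj_pow hjf]
  choose σ0 hσ0 using hσ
  have hcancel : ∀ x y : AddMonoid.End W, x * rho X W f = y * rho X W f → x = y := by
    intro x y h
    have h1 := congrArg (· * rho X W f) h
    simp only [mul_assoc, hrff, mul_one] at h1
    exact h1
  let σ1 : F →+* F :=
    { toFun := σ0
      map_one' := hκi (hcancel _ _ (by rw [← hσ0, map_one, mul_one, one_mul]))
      map_mul' := fun a b => hκi (hcancel _ _ (by
        rw [← hσ0, map_mul, map_mul, ← mul_assoc, hσ0 a, mul_assoc, hσ0 b, mul_assoc]))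
      map_zero' := hκi (hcancel _ _ (by rw [← hσ0, map_zero, mul_zero, zero_mul]))
      map_add' := fun a b => hκi (hcancel _ _ (by
        rw [← hσ0, map_add, map_add, mul_add, hσ0, hσ0, add_mul])) }
  have hσ1 : ∀ a, rho X W f * κ a = κ (σ1 a) * rho X W f := hσ0
  have hσσ : ∀ a, σ1 (σ1 a) = a := by
    intro a
    apply hκi
    have h1 : rho X W f * (rho X W f * κ a) = κ (σ1 (σ1 a)) := by
      rw [hσ1, ← mul_assoc, hσ1, mul_assoc, hrff, mul_one]
    rw [← h1, ← mul_assoc, hrff, one_mul]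
  let σ : F ≃+* F := RingEquiv.ofRingHom σ1 σ1 (RingHom.ext hσσ) (RingHom.ext hσσ)
  have hσa : ∀ a, σ a = σ1 a := fun _ => rfl
  have hfσ : ∀ a, rho X W f * κ a = κ (σ a) * rho X W f := hσ1
  have hσ2 : ∀ a, σ (σ a) = a := hσσ
  -- `σ ≠ 1`
  have hsig1 : ∃ a, σ a ≠ a := by
    by_contra hcon
    push Not at hcon
    obtain ⟨a, ha⟩ := hκ2 1
    have h1 : f * δ = δ * f := by
      apply P.rho_inj
      have h2 := hfσ a
      rw [hcon a, ha, pow_one] at h2
      rw [map_mul, map_mul, h2]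
    obtain ⟨j, hj | hj⟩ := P.cent f P.tf.symm h1
    · have h3 := P.ff
      rw [hj] at h3
      exact P.f1 (hj.trans (P.eq_one_of_sq h3))
    · have h3 := P.ff
      have h4 : Commute (δ ^ j) t := ((show Commute δ t from P.td.symm).pow_left j)
      rw [hj, show δ ^ j * t * (δ ^ j * t) = (δ ^ j * δ ^ j) * (t * t) by
        rw [mul_assoc, ← mul_assoc t, ← h4.eq, mul_assoc, mul_assoc], P.tt, mul_one] at h3
      have h5 := P.eq_one_of_sq h3
      rw [h5, one_mul] at hj
      exact P.ft hj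
  -- `κ` preserves `V`
  have hκt : ∀ (a : F) (w : W), t • κ a w = κ a (t • w) := by
    intro a w
    by_cases ha : a = 0
    · rw [ha, map_zero]; exact smul_zero t
    obtain ⟨i, hi⟩ := hκ1 a ha
    rw [hi]
    change t • (δ ^ i • w) = δ ^ i • (t • w)
    rw [smul_smul, smul_smul, ((show Commute t δ from P.td).pow_right i).eq]
  have hκV : ∀ (a : F) (v : W), v ∈ V → κ a v ∈ V := by
    intro a v hv
    rw [← P.fixV] at hv ⊢
    rw [hκt, hv]
  have hκa : ∀ (a b : F) (w : W), κ (a + b) w = κ a w + κ b w := by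
    intro a b w; rw [map_add]; rfl
  have hκm : ∀ (a b : F) (w : W), κ (a * b) w = κ a (κ b w) := by
    intro a b w; rw [map_mul]; rfl
  -- `w₁`
  obtain ⟨w, hw⟩ := P.exists_notMem
  obtain ⟨w₁, hfw, hw₁⟩ : ∃ w₁ : W, f • w₁ = w₁ ∧ w₁ ∉ V := by
    by_contra hcon
    push Not at hcon
    have h1 : ∀ a : F, f • κ a w + κ a w ∈ V := by
      intro a
      apply hcon
      rw [smul_add, smul_smul, P.ff, one_smul, add_comm]
    obtain ⟨a, ha⟩ := hsig1
    apply hw
    have h2 := h1 1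
    rw [map_one] at h2
    change f • w + w ∈ V at h2
    have h3 : f • κ a w = κ (σ a) (f • w) := DFunLike.congr_fun (hfσ a) w
    have h4 := V.add_mem (h1 a) (hκV (σ a) _ h2)
    have h5 : f • κ a w + κ a w + κ (σ a) (f • w + w) = κ (a + σ a) w := by
      rw [h3, map_add, hκa]
      have h6 := P.two (κ (σ a) (f • w))
      calc κ (σ a) (f • w) + κ a w + (κ (σ a) (f • w) + κ (σ a) w)
          = (κ (σ a) (f • w) + κ (σ a) (f • w)) + (κ a w + κ (σ a) w) := by abel
        _ = κ a w + κ (σ a) w := by rw [h6, zero_add]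
    rw [h5] at h4
    have hc : a + σ a ≠ 0 := by
      intro h
      apply ha
      have h6 : κ (a + σ a) = 0 := by rw [h, map_zero]
      rw [map_add] at h6
      apply hκi
      have h7 := eq_neg_of_add_eq_zero_left h6
      have h8 : -κ (σ a) = κ (σ a) := neg_eq_of_add_eq_zero_left (by
        ext u; exact P.two _)
      rw [h8] at h7
      exact h7.symm
    have h6 := hκV (a + σ a)⁻¹ _ h4
    rwa [← hκm, inv_mul_cancel₀ hc, map_one] at h6
  -- `v₁`
  have hv₁ : t • w₁ + w₁ ∈ V := P.tw_mem w₁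
  have hv₁0 : t • w₁ + w₁ ≠ 0 := by
    intro h
    apply hw₁
    rw [← P.fixV]
    have h1 := eq_neg_of_add_eq_zero_left h
    rwa [neg_eq_of_add_eq_zero_left (P.two w₁)] at h1
  have hVs : ∀ u ∈ V, ∃ a : F, u = κ a (t • w₁ + w₁) := by
    intro u hu
    by_cases hu0 : u = 0
    · exact ⟨0, by rw [hu0, map_zero]; rfl⟩
    obtain ⟨j, hj⟩ := P.reg _ hv₁ hv₁0 u hu hu0
    obtain ⟨a, ha⟩ := hκ2 j
    exact ⟨a, by rw [ha]; exact hj.symm⟩
  have hκ0 : ∀ a : F, κ a (t • w₁ + w₁) = 0 → a = 0 := by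
    intro a h
    by_contra ha
    obtain ⟨j, hj⟩ := hκ1 a ha
    rw [hj] at h
    change δ ^ j • (t • w₁ + w₁) = 0 at h
    rw [smul_eq_zero_iff_eq] at h
    exact hv₁0 h
  have hcard : Nat.card F = q := by
    rw [← P.cardV]
    refine Nat.card_congr (Equiv.ofBijective (fun a : F => (⟨κ a (t • w₁ + w₁),
      hκV a _ hv₁⟩ : V)) ⟨?_, ?_⟩)
    · intro a b hab
      have h1 : κ a (t • w₁ + w₁) = κ b (t • w₁ + w₁) := congrArg (fun z : V => (z : W)) hab
      have h2 := hκ0 (a - b) (by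
        rw [map_sub]
        change κ a (t • w₁ + w₁) - κ b (t • w₁ + w₁) = 0
        rw [h1, sub_self])
      exact sub_eq_zero.1 h2
    · rintro ⟨u, hu⟩
      obtain ⟨a, ha⟩ := hVs u hu
      exact ⟨a, Subtype.ext ha.symm⟩
  refine ⟨d, σ, w₁, ⟨P.faithful, ?_, hσ2, hsig1, ?_, ?_, P.tt, P.ff, P.tf, ?_, ?_, hfw, ?_, ?_, ?_,
    ?_⟩, hcard, ?_⟩
  · -- two
    apply hκi
    rw [map_zero]
    have : (2 : F) = 1 + 1 := by norm_num
    rw [this, map_add]
    ext u
    have h1 : κ (1 : F) = 1 := map_one κ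
    rw [h1]
    exact P.two u
  · -- four
    let τ : F →+ F :=
      { toFun := fun a => a + σ a
        map_zero' := by rw [map_zero, add_zero]
        map_add' := fun a b => by rw [map_add]; abel }
    have h2F : ∀ a : F, a + a = 0 := by
      intro a
      apply hκi
      rw [map_zero, map_add]
      ext u; exact P.two _
    have hτ : ∀ a, τ a = a + σ a := fun _ => rfl
    have h1 := τ.ker.card_mul_index
    rw [AddSubgroup.index_ker] at h1
    have h2 : Nat.card τ.ker ≤ Nat.card {a : F // σ a = a} := by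
      refine Nat.card_le_card_of_injective (fun a => ⟨a.1, ?_⟩) ?_
      · have h3 : a.1 + σ a.1 = 0 := a.2
        have h4 := eq_neg_of_add_eq_zero_left h3
        rw [neg_eq_of_add_eq_zero_left (h2F (σ a.1))] at h4
        exact h4.symm
      · intro a b hab
        exact Subtype.ext (congrArg (fun z : {a : F // σ a = a} => (z : F)) hab)
    have h3 : Nat.card τ.range ≤ Nat.card {a : F // σ a = a} := by
      refine Nat.card_le_card_of_injective (fun a => ⟨a.1, ?_⟩) ?_
      · obtain ⟨b, hb⟩ := a.2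
        rw [← hb, hτ, map_add, hσ2, add_comm]
      · intro a b hab
        exact Subtype.ext (congrArg (fun z : {a : F // σ a = a} => (z : F)) hab)
    have h4 := P.q16
    rw [← hcard, ← h1] at h4
    by_contra hcon
    have h5 : Nat.card τ.ker ≤ 3 := by omega
    have h6 : Nat.card τ.range ≤ 3 := by omega
    have := Nat.mul_le_mul h5 h6
    omega
  · -- act
    intro a w
    exact DFunLike.congr_fun (hdr a) w
  · -- td
    intro a
    obtain ⟨j, hj⟩ := hdj a
    rw [hj]
    exact ((show Commute t δ from P.td).pow_right j)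
  · -- fd
    intro a
    apply P.rho_inj
    rw [map_mul, map_mul, hdr, hdr]
    exact hfσ a
  · -- span
    intro w
    obtain ⟨a, ha⟩ := hVs _ (P.tw_mem w)
    have h1 : w + κ a w₁ ∈ V := by
      rw [← P.fixV]
      have h2 : (t • w + w) + κ a (t • w₁ + w₁) = 0 := by rw [ha]; exact P.two _
      have h3 : t • (w + κ a w₁) + (w + κ a w₁) = 0 := by
        rw [smul_add, hκt, ← h2, map_add]
        abel
      have h4 := eq_neg_of_add_eq_zero_left h3
      rwa [neg_eq_of_add_eq_zero_left (P.two _)] at h4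
    obtain ⟨b, hb⟩ := hVs _ h1
    refine ⟨a, b, ?_⟩
    rw [← hb, ← add_assoc, add_comm (κ a w₁) w, add_assoc, P.two, add_zero]
  · -- indep
    intro a b h
    have ha : a = 0 := by
      apply hκ0
      have h1 : t • (κ a w₁ + κ b (t • w₁ + w₁)) + (κ a w₁ + κ b (t • w₁ + w₁)) = 0 := by
        rw [h, smul_zero, add_zero]
      have h2 : t • (t • w₁ + w₁) = t • w₁ + w₁ := (P.fixV _).2 hv₁
      rw [smul_add, hκt, hκt, h2] at h1
      calc κ a (t • w₁ + w₁) = κ a (t • w₁) + κ a w₁ := map_add _ _ _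
        _ = (κ a (t • w₁) + κ a w₁) + (κ b (t • w₁ + w₁) + κ b (t • w₁ + w₁)) := by
          rw [P.two, add_zero]
        _ = 0 := by rw [← h1]; abel
    refine ⟨ha, hκ0 b ?_⟩
    rw [ha, map_zero] at h
    change (0 : W) + _ = 0 at h
    rwa [zero_add] at h
  · -- normD
    intro x hx a
    obtain ⟨j, hj⟩ := P.norm x hx
    obtain ⟨i, hi⟩ := hdj a
    obtain ⟨b, hb⟩ := hdd (j * i)
    exact ⟨b, by rw [hi, hb, P.conj_pow hj]⟩
  · -- centD
    intro x hx hxd
    obtain ⟨b, hb⟩ := hdd 1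
    have h1 := hxd b
    rw [hb, pow_one] at h1
    obtain ⟨j, hj⟩ := P.cent x hx h1
    obtain ⟨a, ha⟩ := hdd j
    refine ⟨a, ?_⟩
    rw [ha]
    rcases hj with hj | hj
    · exact Or.inl hj
    · right
      rw [hj]
      exact ((show Commute t δ from P.td).pow_right j).eq.symm
  · obtain ⟨b, hb⟩ := hdd 1
    exact ⟨b, by rw [hb, pow_one]⟩

end Pre

end Cfsg.Agent.StdL2.EOneXC
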