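import Cfsg.Agent.StdL2.EOneXC
import Cfsg.Agent.StdL2.EOneFOut

/-!
# S1773, case (f): from `G` to helper806's configuration `XC`

`bridge`: `X = N(W)/C(W)` acting on `W` (additive), with the coordinates `XC`.
-/

set_option autoImplicit false
set_option linter.unusedSectionVars false
set_option linter.style.haveILetI false

open Subgroup

namespace Cfsg.Agent.StdL2.EOneXG

open Cfsg.Agent.StdL2.FieldStart Cfsg.Agent.StdL2.EOneFusion Cfsg.Agent.StdL2.FT
open Cfsg.Agent.StdL2.EOneOf Cfsg.Agent.StdL2.EOneWeak Cfsg.Agent.StdL2.EOneX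
open Cfsg.Agent.StdL2.EOneXC Cfsg.Agent.StdL2.F Cfsg.Agent.StdL2.EOneFOut
open Cfsg.Agent.StdL2.FieldStart.Fld (conj_mem_norm norm_conj norm_conj')

universe u

variable {G : Type u} [Group G] [Finite G] {t d : G} {V R T W : Subgroup G} {F : Fld t V R T}

/-- The translation data between `N(W)` and `X`. -/
structure Trans (W : Subgroup G) {X W' : Type u} [Group X] [AddCommGroup W']
    [DistribMulAction X W'] (φ : ↥(normalizer (W : Set G)) →* X) (ψ : ↥W → W') : Prop where
  surj : Function.Surjective φ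
  bij : Function.Bijective ψ
  add : ∀ a b : W, ψ (a * b) = ψ a + ψ b
  act : ∀ (n : ↥(normalizer (W : Set G))) (w w' : W), (w' : G) = n * w * (n : G)⁻¹ →
    φ n • ψ w = ψ w'
  ker : ∀ n : ↥(normalizer (W : Set G)), φ n = 1 ↔ (n : G) ∈ centralizer (W : Set G)

theorem same_mul_inv {x y : G} (h : Same W x y)
    (hy : y ∈ normalizer (W : Set G)) : Same W (x * y⁻¹) 1 := by
  have h1 : Same W y⁻¹ y⁻¹ := Same.refl _
  have h2 := h.mul h1 (fun w hw => norm_conj ((normalizer (W : Set G)).inv_mem hy) hw)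
  rwa [mul_inv_cancel] at h2

theorem bridge (E : EOne F W) (hq : 16 ≤ Nat.card V) (D : EOneX.Tor F W d) {s : G}
    (hs : s ∈ normalizer (W : Set G)) (hst : s * t = t * s) (hss : Same W (s * s) 1)
    (hs1 : ¬ Same W s 1) (hs2 : ¬ Same W s t) :
    ∃ (X W' F' : Type u) (_ : Group X) (_ : Finite X) (_ : AddCommGroup W')
      (_ : DistribMulAction X W') (_ : Field F') (_ : Finite F') (κ : F' →+* AddMonoid.End W')
      (δ : F'ˣ →* X) (σ : F' ≃+* F') (w₁ : W') (φ : ↥(normalizer (W : Set G)) →* X)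
      (ψ : ↥W → W'), XC κ δ σ (φ ⟨t, tnorm E⟩) (φ ⟨s, hs⟩) w₁ ∧ Trans W φ ψ ∧
      Nat.card F' = Nat.card V ∧ ∃ a, δ a = φ ⟨d, D.dW⟩ := by
  classical
  have hcomm : ∀ a b : Additive W, a + b = b + a := by
    intro a b
    apply Additive.toMul.injective
    apply Subtype.ext
    exact E.wcomm a.toMul.2 b.toMul.2
  letI iA : AddCommGroup (Additive W) := { (inferInstance : AddGroup (Additive W)) with
    add_comm := hcomm }
  let X := (normalizerMonoidHom W).range
  letI iM : DistribMulAction X (Additive W) :=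
    { smul := fun x w => Additive.ofMul (x.1 w.toMul)
      one_smul := fun w => rfl
      mul_smul := fun x y w => rfl
      smul_zero := fun x => by
        apply Additive.toMul.injective
        exact map_one x.1
      smul_add := fun x v w => by
        apply Additive.toMul.injective
        exact map_mul x.1 _ _ }
  let φ : ↥(normalizer (W : Set G)) →* X := (normalizerMonoidHom W).rangeRestrict
  let ψ : W → Additive W := Additive.ofMul
  have hφs : Function.Surjective φ := MonoidHom.rangeRestrict_surjective _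
  have hact : ∀ (n : ↥(normalizer (W : Set G))) (w w' : W), (w' : G) = n * w * (n : G)⁻¹ →
      φ n • ψ w = ψ w' := by
    intro n w w' h
    apply Additive.toMul.injective
    apply Subtype.ext
    exact h.symm
  have hact' : ∀ (n : ↥(normalizer (W : Set G))) (w : W), φ n • ψ w =
      ψ ⟨(n : G) * w * (n : G)⁻¹, norm_conj n.2 w.2⟩ := fun n w => hact n w _ rfl
  have hψi : Function.Injective ψ := Additive.ofMul.injective
  have hψs : Function.Surjective ψ := Additive.ofMul.surjective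
  have hψa : ∀ a b : W, ψ (a * b) = ψ a + ψ b := fun _ _ => rfl
  have hψ0 : ∀ a : W, ψ a = 0 ↔ (a : G) = 1 := by
    intro a
    constructor
    · intro h
      have h1 : a = 1 := hψi h
      rw [h1]; rfl
    · intro h
      have h1 : a = 1 := Subtype.ext h
      rw [h1]; rfl
  have hfaith : ∀ x : X, (∀ w : Additive W, x • w = w) → x = 1 := by
    intro x hx
    apply Subtype.ext
    apply MulEquiv.ext
    intro w
    exact hx (Additive.ofMul w)
  -- equality in `X`
  have hker : ∀ n : ↥(normalizer (W : Set G)), φ n = 1 ↔ Same W (n : G) 1 := by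
    intro n
    constructor
    · intro h w hw
      have h1 := hact' n ⟨w, hw⟩
      rw [h, one_smul] at h1
      have h2 := congrArg (fun z : W => (z : G)) (hψi h1)
      rw [one_mul, inv_one, mul_one]
      exact h2.symm
    · intro h
      apply hfaith
      intro w
      obtain ⟨w, rfl⟩ := hψs w
      rw [hact']
      congr 1
      apply Subtype.ext
      have h1 := h w w.2
      rw [one_mul, inv_one, mul_one] at h1
      exact h1
  have heq : ∀ m n : ↥(normalizer (W : Set G)), φ m = φ n ↔ Same W (m : G) n := by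
    intro m n
    rw [← mul_inv_eq_one, ← map_inv, ← map_mul, hker]
    constructor
    · intro h
      have h2 := h.mul (Same.refl (W := W) (n : G)) (fun w hw => norm_conj n.2 hw)
      rw [one_mul] at h2
      have h3 : ((m * n⁻¹ : ↥(normalizer (W : Set G))) : G) * (n : G) = m := by
        rw [Subgroup.coe_mul, InvMemClass.coe_inv]; group
      rwa [h3] at h2
    · intro h
      exact same_mul_inv h n.2
  -- `V`
  let V' : AddSubgroup (Additive W) :=
    { carrier := {w | ((w.toMul : W) : G) ∈ V}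
      add_mem' := fun {a b} ha hb => V.mul_mem ha hb
      zero_mem' := V.one_mem
      neg_mem' := fun {a} ha => V.inv_mem ha }
  have hV' : ∀ w : W, ψ w ∈ V' ↔ (w : G) ∈ V := fun _ => Iff.rfl
  have hVcard : Nat.card V' = Nat.card V := by
    refine Nat.card_congr ⟨fun w => ⟨((w : Additive W).toMul : W), w.2⟩,
      fun v => ⟨Additive.ofMul ⟨v, E.VW v.2⟩, v.2⟩, fun w => rfl, fun v => rfl⟩
  have hpow : ∀ (n : ↥(normalizer (W : Set G))) (j : ℕ), φ n ^ j = φ (n ^ j) := fun n j =>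
    (map_pow φ n j).symm
  have hd := D.dW
  -- commutation with `t` in `X`
  have htc : ∀ n : ↥(normalizer (W : Set G)), φ n * φ ⟨t, tnorm E⟩ = φ ⟨t, tnorm E⟩ * φ n →
      Same W ((n : G) * t * (n : G)⁻¹) t := by
    intro n h
    have h1 : φ (n * ⟨t, tnorm E⟩ * n⁻¹) = φ ⟨t, tnorm E⟩ := by
      rw [map_mul, map_mul, map_inv, h, mul_inv_cancel_right]
    exact (heq _ _).1 h1
  have hP : Pre V' (Nat.card V) (φ ⟨t, tnorm E⟩) (φ ⟨d, hd⟩) (φ ⟨s, hs⟩) := by
    refine ⟨hfaith, ?_, ?_, ?_, ?_, ?_, ?_, hq, hVcard, ?_, ?_, ?_, ?_, ?_, ?_, ?_, ?_⟩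
    · intro w
      obtain ⟨w, rfl⟩ := hψs w
      rw [← hψa, hψ0]
      exact E.wsq w w.2
    · intro w
      obtain ⟨w, rfl⟩ := hψs w
      rw [hact', hV']
      constructor
      · intro h
        have h1 : t * (w : G) * t⁻¹ = w := congrArg (fun z : W => (z : G)) (hψi h)
        refine E.cW w w.2 ?_
        rw [mul_inv_eq_iff_eq_mul] at h1
        exact h1.symm
      · intro h
        congr 1
        apply Subtype.ext
        change t * (w : G) * t⁻¹ = w
        rw [F.tv h, mul_inv_cancel_right]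
    · intro h
      have h1 := (hker _).1 h
      have h2 := same_iff.1 h1
      rw [inv_one, one_mul] at h2
      exact tnC E hq h2
    · rw [← map_mul]
      have : (⟨t, tnorm E⟩ * ⟨t, tnorm E⟩ : ↥(normalizer (W : Set G))) = 1 := Subtype.ext F.t2
      rw [this, map_one]
    · rw [← map_mul, ← map_mul]
      congr 1
      exact Subtype.ext D.dt.symm
    · obtain ⟨a, ha⟩ := IsPGroup.iff_card.1 (F.T2.to_le F.VT)
      exact ⟨a, ha⟩
    · rw [hpow, hker]
      exact D.ord
    · intro v hv hv0 u hu hu0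
      obtain ⟨v, rfl⟩ := hψs v
      obtain ⟨u, rfl⟩ := hψs u
      obtain ⟨j, hj⟩ := D.reg v ((hV' v).1 hv) (fun h => hv0 ((hψ0 v).2 h)) u ((hV' u).1 hu)
        (fun h => hu0 ((hψ0 u).2 h))
      refine ⟨j, ?_⟩
      rw [hpow]
      exact hact _ _ _ hj.symm
    · rw [← map_mul, hker]
      exact hss
    · rw [← map_mul, ← map_mul]
      congr 1
      exact Subtype.ext hst.symm
    · intro h
      exact hs1 ((hker _).1 h)
    · intro h
      exact hs2 ((heq _ _).1 h)
    · intro x hx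
      obtain ⟨n, rfl⟩ := hφs x
      obtain ⟨j, hj⟩ := D.norm n n.2 (htc n hx)
      refine ⟨j, ?_⟩
      have h1 : φ (n * ⟨d, hd⟩ * n⁻¹) = φ (⟨d, hd⟩ ^ j) := (heq _ _).2 hj
      rw [map_mul, map_mul, map_inv, map_pow] at h1
      rw [← h1]; group
    · intro x hx hxd
      obtain ⟨n, rfl⟩ := hφs x
      have h1 : φ (n * ⟨d, hd⟩ * n⁻¹) = φ ⟨d, hd⟩ := by
        rw [map_mul, map_mul, map_inv, hxd, mul_inv_cancel_right]
      obtain ⟨j, hj | hj⟩ := D.cent E hq n.2 (htc n hx) ((heq _ _).1 h1)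
      · refine ⟨j, Or.inl ?_⟩
        rw [hpow]
        exact (heq _ _).2 hj
      · refine ⟨j, Or.inr ?_⟩
        rw [hpow, ← map_mul]
        exact (heq _ _).2 hj
  haveI : Finite (Additive W) := inferInstanceAs (Finite W)
  haveI : Finite X := Finite.of_surjective φ hφs
  obtain ⟨F', iF, iFin, κ, δ, σ, w₁, hXC, hcard, a, ha⟩ := hP.exists_XC
  refine ⟨X, Additive W, F', inferInstance, inferInstance, iA, iM, iF, iFin, κ, δ, σ, w₁, φ, ψ,
    hXC, ⟨hφs, ⟨hψi, hψs⟩, hψa, hact, ?_⟩, hcard, a, ha⟩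
  intro n
  rw [hker, same_iff, inv_one, one_mul]

/-- **Case (f): the whole input of the X-side.**  `f = φ s`, `y t y⁻¹ = t f` in `X`. -/
theorem of_fout {C₀ U : Subgroup G} (H : FTD t V T C₀) (T0 : Cfsg.Agent.StdL2.Tor t V d)
    (O : FOut t V T d U) :
    ∃ (s : G) (_ : s ∈ T) (hs : s ∈ normalizer (U : Set G)) (ht : t ∈ normalizer (U : Set G))
      (d1 : G) (hd : d1 ∈ normalizer (U : Set G))
      (X W' F' : Type u) (_ : Group X) (_ : Finite X) (_ : AddCommGroup W')
      (_ : DistribMulAction X W') (_ : Field F') (_ : Finite F') (κ : F' →+* AddMonoid.End W')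
      (δ : F'ˣ →* X) (σ : F' ≃+* F') (w₁ : W') (φ : ↥(normalizer (U : Set G)) →* X)
      (ψ : ↥U → W'), s ∉ V ∧ t * s ∉ V ∧ (∀ v ∈ V, d1 * v * d1⁻¹ = d * v * d⁻¹) ∧
      XC κ δ σ (φ ⟨t, ht⟩) (φ ⟨s, hs⟩) w₁ ∧ Trans U φ ψ ∧
      Nat.card F' = Nat.card V ∧ (∃ a, δ a = φ ⟨d1, hd⟩) ∧
      ∃ y : X, y * φ ⟨t, ht⟩ * y⁻¹ = φ ⟨t, ht⟩ * φ ⟨s, hs⟩ := by
  have E := eone H O
  obtain ⟨u, hu, s0, hs0, hs0V, hts0V, hsq, g, hg⟩ := O.bad
  obtain ⟨d1, D, hd1V⟩ := exists_torus H T0 O
  have hTn : ∀ x ∈ T, x ∈ normalizer (U : Set G) := fun x hx => conj_mem_norm (O.TU x hx)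
  have hs0n := hTn s0 hs0
  -- `s = t s0`
  have hsT : t * s0 ∈ T := T.mul_mem H.tT hs0
  have hss0 : s0 * s0 ∈ U := by
    have h1 : s0 * s0 = (s0 * u⁻¹ * s0⁻¹) * u⁻¹ * ((u * s0) * (u * s0)) := by
      group
    rw [h1, hsq, mul_one]
    exact U.mul_mem (norm_conj hs0n (U.inv_mem hu)) (U.inv_mem hu)
  have hst : t * s0 * t = t * (t * s0) := by rw [mul_assoc, H.Tt s0 hs0]
  have hss : (t * s0) * (t * s0) = s0 * s0 := by
    calc (t * s0) * (t * s0) = t * (s0 * t) * s0 := by group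
      _ = t * (t * s0) * s0 := by rw [H.Tt s0 hs0]
      _ = (t * t) * s0 * s0 := by group
      _ = s0 * s0 := by rw [H.t2]; group
  have hcent : ∀ x ∈ T, Same U x 1 → x ∈ V ∨ t * x ∈ V := by
    intro x hx h
    refine H.cV x hx fun v hv => ?_
    have h1 := h v (O.VU hv)
    rw [one_mul, inv_one, mul_one, mul_inv_eq_iff_eq_mul] at h1
    exact h1
  have htts : t * (t * s0) = s0 := by rw [← mul_assoc, H.t2, one_mul]
  obtain ⟨X, W', F', i1, i2, i3, i4, i5, i6, κ, δ, σ, w₁, φ, ψ, hXC, hT, hc, ha⟩ :=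
    bridge E H.card16 D (hTn _ hsT) (by rw [mul_assoc, H.Tt s0 hs0])
      (by rw [hss]; exact same_one_of_mem E hss0)
      (fun h => by
        rcases hcent _ hsT h with h | h
        · exact hts0V h
        · exact hs0V (by rwa [htts] at h))
      (fun h => by
        have h1 : Same U s0 1 := by
          have h2 := (Same.refl (W := U) t).mul h (fun w hw => norm_conj (hTn _ hsT) hw)
          rwa [htts, H.t2] at h2
        rcases hcent _ hs0 h1 with h | h
        · exact hs0V h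
        · exact hts0V h)
  refine ⟨t * s0, hsT, hTn _ hsT, tnorm E, d1, D.dW, X, W', F', i1, i2, i3, i4, i5, i6, κ, δ, σ,
    w₁, φ, ψ, hts0V, by rw [htts]; exact hs0V, hd1V, hXC, hT, hc, ha, ?_⟩
  -- `t ~ u s0`
  have hun : u ∈ normalizer (U : Set G) := le_normalizer hu
  have hus : u * s0 ∈ normalizer (U : Set G) := (normalizer (U : Set G)).mul_mem hun hs0n
  obtain ⟨n, hn, hnt⟩ := E.fusion H.card16 g (fun w hw => by
    rw [hg]; exact norm_conj hus hw)
  rw [hg] at hnt
  refine ⟨φ ⟨n, hn⟩, ?_⟩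
  rw [← map_inv, ← map_mul, ← map_mul, ← map_mul]
  have h1 : (⟨n, hn⟩ * ⟨t, tnorm E⟩ * ⟨n, hn⟩⁻¹ : ↥(normalizer (U : Set G))) =
      ⟨u, hun⟩ * (⟨t, tnorm E⟩ * ⟨t * s0, hTn _ hsT⟩) := by
    apply Subtype.ext
    change n * t * n⁻¹ = u * (t * (t * s0))
    rw [hnt, htts]
  have h2 : φ ⟨u, hun⟩ = 1 := by
    rw [hT.ker]
    exact WC' E hu
  rw [h1, map_mul, h2, one_mul]

end Cfsg.Agent.StdL2.EOneXG
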