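import Cfsg.Agent.StdSz.OutLie
import Cfsg.Agent.StdL2.Assemble
import Cfsg.Agent.S0243

/-!
# The ends of the tower (S1773, no field automorphism of even order)

`S` is a Sylow 2-subgroup of `G = L⟨t⟩`, `U ≤ L` has index two in `S`, and no conjugate of `t` lies in `U`.
Then `t ∉ L` (Thompson transfer), `U` is a Sylow 2-subgroup of `L`, and if `U` has class at most two then
`L` is of Lie type in characteristic two, by S0506 and S1170.
-/

set_option autoImplicit false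
set_option linter.unusedSectionVars false

namespace Cfsg.Agent.StdL2.Ends

open Cfsg Subgroup Cfsg.Agent.StdL2.Setup Cfsg.Agent.StdL2.Assemble

universe u

/-- The statement S0506. -/
def S0506Stmt : Prop :=
  ∀ (G : Type u) [Group G] [Finite G] [IsSimpleGroup G], ¬ IsMulCommutative G → ∀ (S : Sylow 2 G),
    IsMulCommutative (S : Subgroup G) →
    (∃ a : ℕ, 2 ≤ a ∧ ∃ (F : Type) (_ : Field F) (_ : Fintype F), Fintype.card F = 2 ^ a ∧ Nonempty (G ≃* Matrix.ProjectiveSpecialLinearGroup (Fin 2) F)) ∨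
      (∃ (F : Type) (_ : Field F) (_ : Fintype F), (Fintype.card F % 8 = 3 ∨ Fintype.card F % 8 = 5) ∧ Nonempty (G ≃* Matrix.ProjectiveSpecialLinearGroup (Fin 2) F)) ∨
      Cfsg.IsRee G ∨ Cfsg.IsJ1 G

variable {G : Type u} [Group G] [Finite G] {L A U : Subgroup G} {t : G}

theorem sq_eq_one (C : Conf L A t) : t * t = 1 := by
  have := pow_orderOf_eq_one t
  rwa [C.ht, pow_two] at this

theorem ne_one (C : Conf L A t) : t ≠ 1 := by
  rintro rfl
  have := C.ht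
  rw [orderOf_one] at this
  omega

/-- `t ∉ L` if `G` has a normal subgroup of index two not containing `t`. -/
theorem not_mem_of_normal (C : Conf L A t) {M : Subgroup G} (hM : M.Normal) (hi : M.index = 2) (ht : t ∉ M) :
    t ∉ L := by
  intro htL
  have hs := C.simple
  have : (M.subgroupOf L).Normal := inferInstance
  rcases IsSimpleGroup.eq_bot_or_eq_top_of_normal (M.subgroupOf L) inferInstance with h | h
  · have h1 : (M.subgroupOf L).index ∣ 2 := hi ▸ relIndex_dvd_index_of_normal M L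
    rw [h, index_bot] at h1
    apply C.not_comm
    have hp : Fact (Nat.Prime 2) := ⟨Nat.prime_two⟩
    rcases (Nat.dvd_prime Nat.prime_two).1 h1 with h2 | h2
    · have := (Nat.card_eq_one_iff_unique.1 h2).1
      exact ⟨⟨fun x y => Subsingleton.elim _ _⟩⟩
    · have hc : IsCyclic L := isCyclic_of_prime_card h2
      exact ⟨⟨(IsCyclic.commGroup (α := L)).mul_comm⟩⟩
  · have h1 : L ≤ M := subgroupOf_eq_top.1 h
    exact ht (h1 htL)

/-- Thompson transfer: `t ∉ L`. -/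
theorem not_mem (C : Conf L A t) (S : Sylow 2 G) (hU : U ≤ (S : Subgroup G))
    (idx : U.relIndex (S : Subgroup G) = 2) (fus : ∀ g : G, g * t * g⁻¹ ∉ U) : t ∉ L := by
  rcases Cfsg.Agent.Transfer.ThompsonTransfer.thompson_transfer S U hU idx t
    (by rw [pow_two]; exact sq_eq_one C) with ⟨M, hM, hi, ht⟩ | ⟨g, hg⟩
  · exact not_mem_of_normal C hM hi ht
  · exact absurd hg (fus g)

/-- `S ∩ L = U`. -/
theorem inf_eq (S : Sylow 2 G) (hU : U ≤ (S : Subgroup G)) (idx : U.relIndex (S : Subgroup G) = 2)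
    (tS : t ∈ (S : Subgroup G)) (hUL : U ≤ L) (ht : t ∉ L) : (S : Subgroup G) ⊓ L = U := by
  have h1 : U ≤ (S : Subgroup G) ⊓ L := le_inf hU hUL
  have h2 := relIndex_mul_relIndex U ((S : Subgroup G) ⊓ L) (S : Subgroup G) h1 inf_le_left
  rw [idx] at h2
  have h3 : ((S : Subgroup G) ⊓ L).relIndex (S : Subgroup G) ≠ 1 := by
    intro h
    rw [relIndex_eq_one] at h
    exact ht (h tS).2
  have h4 : U.relIndex ((S : Subgroup G) ⊓ L) = 1 := by
    have h5 : ((S : Subgroup G) ⊓ L).relIndex (S : Subgroup G) ∣ 2 := Dvd.intro_left _ h2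
    rcases (Nat.dvd_prime Nat.prime_two).1 h5 with h6 | h6
    · exact absurd h6 h3
    · rw [h6] at h2; omega
  exact le_antisymm (relIndex_eq_one.1 h4) h1

/-- the Sylow 2-subgroup `S ∩ L` of `L` -/
theorem exists_sylow (C : Conf L A t) (S : Sylow 2 G) (h : (S : Subgroup G) ⊓ L = U) :
    ∃ SL : Sylow 2 L, (SL : Subgroup L) = U.subgroupOf L ∧ Nat.card (SL : Subgroup L) = Nat.card U := by
  have hn := C.normal
  have : Fact (Nat.Prime 2) := ⟨Nat.prime_two⟩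
  have hS2 : IsPGroup 2 ((S : Subgroup G).subgroupOf L) :=
    Cfsg.Agent.Lib.SylowNormalInf.isPGroup_subgroupOf S L
  have hidx : ¬ 2 ∣ ((S : Subgroup G).subgroupOf L).index :=
    Cfsg.Agent.Lib.SylowNormalInf.not_dvd_relIndex S L
  have hSL : ((hS2.toSylow hidx : Sylow 2 L) : Subgroup L) = (S : Subgroup G).subgroupOf L := rfl
  refine ⟨hS2.toSylow hidx, ?_, ?_⟩
  · rw [hSL, ← h]
    ext x
    simp [mem_subgroupOf]
  · rw [hSL]
    have h1 : ((S : Subgroup G).subgroupOf L).map L.subtype = U := by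
      rw [Subgroup.subgroupOf_map_subtype, h]
    rw [← h1]
    exact Nat.card_congr (((S : Subgroup G).subgroupOf L).equivMapOfInjective L.subtype
      L.subtype_injective).toEquiv

/-- `16 ∣ |L|`. -/
theorem sixteen_dvd {k : ℕ} {SL : Sylow 2 L} (h : Nat.card (SL : Subgroup L) = 2 ^ k) (h16 : 16 ≤ 2 ^ k) :
    16 ∣ Nat.card L := by
  have h1 : 4 ≤ k := by
    by_contra hcon
    have : 2 ^ k ≤ 2 ^ 3 := Nat.pow_le_pow_right (by norm_num) (by omega)
    omega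
  have h2 : (16 : ℕ) ∣ 2 ^ k := by
    have : (16 : ℕ) = 2 ^ 4 := by norm_num
    rw [this]
    exact pow_dvd_pow 2 h1
  exact h2.trans (h ▸ Subgroup.card_subgroup_dvd_card _)

/-- `|PSL(2,K)|` is not divisible by 8 if `|K| ≡ 3, 5 mod 8`. -/
theorem not_eight_dvd_psl {K : Type*} [Field K] [Fintype K] (hK : Fintype.card K % 8 = 3 ∨ Fintype.card K % 8 = 5) :
    ¬ 8 ∣ Nat.card (Matrix.ProjectiveSpecialLinearGroup (Fin 2) K) := by
  have h1 := Cfsg.Agent.SmallSimple.PSLTwoPart.card_psl_two_odd (F := K) (by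
      rw [Nat.odd_iff]; omega)
  rintro ⟨c, hc⟩
  rw [hc] at h1
  generalize Fintype.card K = r at h1 hK
  rcases hK with hK | hK
  · obtain ⟨d, rfl⟩ : ∃ d, r = 8 * d + 3 := ⟨r / 8, by omega⟩
    have h2 : (8 * d + 3) ^ 2 - 1 = 8 * (8 * d ^ 2 + 6 * d + 1) := by
      rw [Nat.sub_eq_iff_eq_add (by nlinarith)]; ring
    rw [h2] at h1
    have h3 : 2 * c = (8 * d + 3) * (8 * d ^ 2 + 6 * d + 1) := by nlinarith
    have h4 : (8 * d + 3) * (8 * d ^ 2 + 6 * d + 1) =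
      2 * (32 * d ^ 3 + 36 * d ^ 2 + 13 * d + 1) + 1 := by ring
    omega
  · obtain ⟨d, rfl⟩ : ∃ d, r = 8 * d + 5 := ⟨r / 8, by omega⟩
    have h2 : (8 * d + 5) ^ 2 - 1 = 8 * (8 * d ^ 2 + 10 * d + 3) := by
      rw [Nat.sub_eq_iff_eq_add (by nlinarith)]; ring
    rw [h2] at h1
    have h3 : 2 * c = (8 * d + 5) * (8 * d ^ 2 + 10 * d + 3) := by nlinarith
    have h4 : (8 * d + 5) * (8 * d ^ 2 + 10 * d + 3) =
      2 * (32 * d ^ 3 + 60 * d ^ 2 + 37 * d + 7) + 1 := by ring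
    omega

/-- the order of a Ree group is not divisible by 16 -/
theorem not_sixteen_dvd_ree (m : ℕ) :
    ¬ 16 ∣ (3 ^ (2 * m + 1)) ^ 3 * ((3 ^ (2 * m + 1)) ^ 3 + 1) * (3 ^ (2 * m + 1) - 1) := by
  -- `3^(2m+1) ≡ 3 mod 8`
  obtain ⟨d, hd⟩ : ∃ d, 3 ^ (2 * m + 1) = 8 * d + 3 := by
    induction m with
    | zero => exact ⟨0, by norm_num⟩
    | succ n ih =>
      obtain ⟨d, hd⟩ := ih
      refine ⟨9 * d + 3, ?_⟩
      have : 3 ^ (2 * (n + 1) + 1) = 9 * 3 ^ (2 * n + 1) := by ring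
      rw [this, hd]; ring
  rw [hd]
  have h1 : 8 * d + 3 - 1 = 2 * (4 * d + 1) := by omega
  rw [h1]
  rintro ⟨c, hc⟩
  have h2 : (8 * d + 3) ^ 3 * ((8 * d + 3) ^ 3 + 1) * (2 * (4 * d + 1)) =
      8 * (((8 * d + 3) ^ 3) * (128 * d ^ 3 + 144 * d ^ 2 + 54 * d + 7) * (4 * d + 1)) := by ring
  rw [h2] at hc
  have h3 : ((8 * d + 3) ^ 3) * (128 * d ^ 3 + 144 * d ^ 2 + 54 * d + 7) * (4 * d + 1) = 2 * c := by
    have : 8 * (((8 * d + 3) ^ 3) * (128 * d ^ 3 + 144 * d ^ 2 + 54 * d + 7) * (4 * d + 1)) = 8 * (2 * c) := by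
      rw [hc]; ring
    exact Nat.eq_of_mul_eq_mul_left (by norm_num) this
  have h4 : Odd (((8 * d + 3) ^ 3) * (128 * d ^ 3 + 144 * d ^ 2 + 54 * d + 7) * (4 * d + 1)) := by
    refine Odd.mul (Odd.mul (Odd.pow ?_) ?_) ?_
    · exact ⟨4 * d + 1, by ring⟩
    · exact ⟨64 * d ^ 3 + 72 * d ^ 2 + 27 * d + 3, by ring⟩
    · exact ⟨2 * d, by ring⟩
  rw [h3] at h4
  exact (Nat.not_odd_iff_even.2 (even_two_mul c)) h4

/-- the order of a Suzuki group is not divisible by 3 -/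
theorem not_three_dvd_suzuki (m : ℕ) :
    ¬ 3 ∣ (2 ^ (2 * m + 1)) ^ 2 * ((2 ^ (2 * m + 1)) ^ 2 + 1) * (2 ^ (2 * m + 1) - 1) := by
  obtain ⟨d, hd⟩ : ∃ d, 2 ^ (2 * m + 1) = 3 * d + 2 := by
    induction m with
    | zero => exact ⟨0, by norm_num⟩
    | succ n ih =>
      obtain ⟨d, hd⟩ := ih
      refine ⟨4 * d + 2, ?_⟩
      have : 2 ^ (2 * (n + 1) + 1) = 4 * 2 ^ (2 * n + 1) := by ring
      rw [this, hd]; ring
  rw [hd]
  have h1 : 3 * d + 2 - 1 = 3 * d + 1 := by omega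
  rw [h1]
  intro h
  rcases (Nat.Prime.dvd_mul Nat.prime_three).mp h with h | h
  · rcases (Nat.Prime.dvd_mul Nat.prime_three).mp h with h | h
    · have := Nat.Prime.dvd_of_dvd_pow Nat.prime_three h
      omega
    · have : (3 * d + 2) ^ 2 + 1 = 3 * (3 * d ^ 2 + 4 * d + 1) + 2 := by ring
      omega
  · omega

/-- `G' ≤ L`. -/
theorem commutator_le_L (C : Conf L A t) : commutator G ≤ L := by
  have hn := C.normal
  have h1 : ∀ g : G, g ∈ L ∨ g * t ∈ L := by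
    intro g
    have hg : g ∈ L ⊔ zpowers t := by rw [C.gen]; exact mem_top g
    obtain ⟨l, hl, z, hz, rfl⟩ := mem_sup_of_normal_left.1 hg
    obtain ⟨n, rfl⟩ := mem_zpowers_iff.1 hz
    have ht2 : t ^ (2 : ℤ) = 1 := by rw [zpow_two]; exact sq_eq_one C
    rcases Int.even_or_odd' n with ⟨k, rfl | rfl⟩
    · left
      rw [zpow_mul, ht2, one_zpow, mul_one]; exact hl
    · right
      rw [zpow_add, zpow_mul, ht2, one_zpow, one_mul, zpow_one, mul_assoc, sq_eq_one C, mul_one]; exact hl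
  have htt := sq_eq_one C
  have hti : t⁻¹ = t := inv_eq_of_mul_eq_one_left htt
  rw [_root_.commutator_def, Subgroup.commutator_le]
  have key : ∀ x ∈ L, ∀ g : G, x * g * x⁻¹ * g⁻¹ ∈ L := fun x hx g => by
    have := mul_mem hx (hn.conj_mem _ (inv_mem hx) g)
    have e : x * (g * x⁻¹ * g⁻¹) = x * g * x⁻¹ * g⁻¹ := by group
    rwa [e] at this
  have key' : ∀ g : G, ∀ x ∈ L, g * x * g⁻¹ * x⁻¹ ∈ L := fun g x hx =>
    mul_mem (hn.conj_mem _ hx g) (inv_mem hx)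
  have key2 : ∀ x ∈ L, ∀ g : G, x * t * g * (x * t)⁻¹ * g⁻¹ ∈ L ↔ t * g * t⁻¹ * g⁻¹ ∈ L := by
    intro x hx g
    have e : x * t * g * (x * t)⁻¹ * g⁻¹ = x * (t * g * t⁻¹ * g⁻¹) * (g * x⁻¹ * g⁻¹) := by group
    rw [e, Subgroup.mul_mem_cancel_right L (hn.conj_mem _ (inv_mem hx) g), Subgroup.mul_mem_cancel_left L hx]
  intro a _ b _
  change a * b * a⁻¹ * b⁻¹ ∈ L
  rcases h1 a with ha | ha
  · exact key a ha b
  rcases h1 b with hb | hb
  · exact key' a b hb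
  have ea : a = (a * t) * t := by rw [mul_assoc, htt, mul_one]
  have eb : b = (b * t) * t := by rw [mul_assoc, htt, mul_one]
  have h2 : b * t * b⁻¹ * t⁻¹ ∈ L := by
    have h4 := (key2 _ hb t).2 (by
      have : t * t * t⁻¹ * t⁻¹ = 1 := by group
      rw [this]; exact one_mem L)
    rwa [← eb] at h4
  have h3 : t * b * t⁻¹ * b⁻¹ ∈ L := by
    have := inv_mem h2
    have e : (b * t * b⁻¹ * t⁻¹)⁻¹ = t * b * t⁻¹ * b⁻¹ := by group
    rwa [e] at this
  have h4 := (key2 _ ha b).2 h3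
  rwa [← ea] at h4

/-- **The end of the tower.** -/
theorem lie2_of_end (h0506 : S0506Stmt.{u}) (h1170 : Cfsg.Agent.StdSz.Out.S1170Stmt.{u}) (C : Conf L A t)
    (h3A : 3 ∣ Nat.card A) (S : Sylow 2 G) (hU : U ≤ (S : Subgroup G)) (idx : U.relIndex (S : Subgroup G) = 2)
    (tS : t ∈ (S : Subgroup G)) (fus : ∀ g : G, g * t * g⁻¹ ∉ U) (hUL : U ≤ L) (h16 : 16 ≤ Nat.card U)
    (hcl : ∀ x ∈ U, ∀ y ∈ U, ∀ z ∈ U, (x * y * x⁻¹ * y⁻¹) * z = z * (x * y * x⁻¹ * y⁻¹)) :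
    Lie2 ↥L ∧ t ∉ L := by
  have : Fact (Nat.Prime 2) := ⟨Nat.prime_two⟩
  have ht := not_mem C S hU idx fus
  refine ⟨?_, ht⟩
  have hinf := inf_eq S hU idx tS hUL ht
  obtain ⟨SL, hSL, hcSL⟩ := exists_sylow C S hinf
  have hs := C.simple
  obtain ⟨k, hk⟩ := (SL.isPGroup').exists_card_eq
  have h16L : 16 ∣ Nat.card L := sixteen_dvd hk (by rw [← hk, hcSL]; exact h16)
  have h3L : 3 ∣ Nat.card L := h3A.trans (Subgroup.card_dvd_of_le C.le)
  have hmem : ∀ x : (SL : Subgroup L), ((x : L) : G) ∈ U := by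
    intro x
    have h : (x : L) ∈ U.subgroupOf L := hSL ▸ x.2
    exact mem_subgroupOf.1 h
  by_cases hab : IsMulCommutative (SL : Subgroup L)
  · rcases h0506 L C.not_comm SL hab with ⟨a, ha, K, i1, i2, hK, ⟨e⟩⟩ | ⟨K, i1, i2, hK, ⟨e⟩⟩ | h | h
    · left
      exact ⟨K, i1, i2, 2, charP_of_card_eq_prime_pow (by rw [hK]), le_rfl, fun _ => by
        rw [hK]
        calc 4 = 2 ^ 2 := by norm_num
          _ ≤ 2 ^ a := Nat.pow_le_pow_right (by norm_num) ha, ⟨e⟩⟩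
    · exfalso
      apply not_eight_dvd_psl hK
      rw [← Nat.card_congr e.toEquiv]
      exact (by norm_num : 8 ∣ 16).trans h16L
    · exfalso
      obtain ⟨-, m, -, hm⟩ := h
      rw [hm] at h16L
      exact not_sixteen_dvd_ree m h16L
    · exfalso
      rw [h.2] at h16L
      omega
  · rcases h1170 L SL (SL : Subgroup L) ⟨le_rfl, fun x _ g hg => hg⟩ hab (by
      rw [Subgroup.commutator_le]
      intro x _ y _
      rw [Subgroup.mem_center_iff]
      intro z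
      apply Subtype.ext
      apply Subtype.ext
      exact (hcl _ (hmem x) _ (hmem y) _ (hmem z)).symm) with h | h | h | h | h | h
    · exfalso
      obtain ⟨K, _, _, hK, ⟨e⟩⟩ := h
      have h1 := Cfsg.Agent.SmallSimple.PSLTwoPart.card_psl_two_odd (F := K) (by
        rw [Nat.odd_iff]; omega)
      rw [← Nat.card_congr e.toEquiv] at h1
      obtain ⟨c, hc⟩ := h16L
      rw [hc] at h1
      generalize Fintype.card K = r at h1 hK
      rcases hK with hK | hK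
      · obtain ⟨d, rfl⟩ : ∃ d, r = 16 * d + 7 := ⟨r / 16, by omega⟩
        have h2 : (16 * d + 7) ^ 2 - 1 = 16 * (16 * d ^ 2 + 14 * d + 3) := by
          rw [Nat.sub_eq_iff_eq_add (by nlinarith)]; ring
        rw [h2] at h1
        have h3 : 2 * c = (16 * d + 7) * (16 * d ^ 2 + 14 * d + 3) := by nlinarith
        have h4 : (16 * d + 7) * (16 * d ^ 2 + 14 * d + 3) =
          2 * (128 * d ^ 3 + 168 * d ^ 2 + 73 * d + 10) + 1 := by ring
        omega
      · obtain ⟨d, rfl⟩ : ∃ d, r = 16 * d + 9 := ⟨r / 16, by omega⟩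
        have h2 : (16 * d + 9) ^ 2 - 1 = 16 * (16 * d ^ 2 + 18 * d + 5) := by
          rw [Nat.sub_eq_iff_eq_add (by nlinarith)]; ring
        rw [h2] at h1
        have h3 : 2 * c = (16 * d + 9) * (16 * d ^ 2 + 18 * d + 5) := by nlinarith
        have h4 : (16 * d + 9) * (16 * d ^ 2 + 18 * d + 5) =
          2 * (128 * d ^ 3 + 216 * d ^ 2 + 121 * d + 22) + 1 := by ring
        omega
    · obtain ⟨K, i1, i2, q, hK, hq, hq4, he⟩ := h
      exact Or.inr (Or.inr ⟨K, i1, i2, q, hK, hq, hq4, he⟩)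
    · exfalso
      obtain ⟨-, m, -, hm⟩ := h
      rw [hm] at h3L
      exact not_three_dvd_suzuki m h3L
    · obtain ⟨K, i1, i2, hc, he⟩ := h
      exact Or.inl ⟨K, i1, i2, 3, hc, by norm_num, by norm_num, he⟩
    · obtain ⟨K, i1, i2, hc, h4, he⟩ := h
      exact Or.inr (Or.inl ⟨K, i1, i2, hc, h4, he⟩)
    · exfalso
      obtain ⟨e⟩ := h
      have h1 := Cfsg.Agent.StdSz.OutLie.card_A7
      rw [← Nat.card_congr e.toEquiv] at h1
      omega

/-- The end of the tower, in the form delivered by the tower. -/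
theorem lie2_of_tower (h0506 : S0506Stmt.{u}) (h1170 : Cfsg.Agent.StdSz.Out.S1170Stmt.{u}) (C : Conf L A t)
    (h3A : 3 ∣ Nat.card A) (S : Sylow 2 G) (hU : U ≤ (S : Subgroup G)) (idx : U.relIndex (S : Subgroup G) = 2)
    (tS : t ∈ (S : Subgroup G)) (fus : ∀ g : G, g * t * g⁻¹ ∉ U) (hUG : U ≤ commutator G) (h16 : 16 ≤ Nat.card U)
    (hcl : (∀ x ∈ U, ∀ y ∈ U, x * y = y * x) ∨ ∃ V : Subgroup G, (∀ x ∈ U, ∀ y ∈ U, x * y * x⁻¹ * y⁻¹ ∈ V) ∧
      ∀ v ∈ V, ∀ x ∈ U, v * x = x * v) :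
    Lie2 ↥L ∧ t ∉ L := by
  refine lie2_of_end h0506 h1170 C h3A S hU idx tS fus (hUG.trans (commutator_le_L C)) h16 ?_
  rcases hcl with hc | ⟨V, hV1, hV2⟩
  · intro x hx y hy z hz
    exact hc _ (mul_mem (mul_mem (mul_mem hx hy) (inv_mem hx)) (inv_mem hy)) _ hz
  · intro x hx y hy z hz
    exact hV2 _ (hV1 x hx y hy) z hz

end Cfsg.Agent.StdL2.Ends
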