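import Cfsg.Agent.LThreeFour.Facts
import Cfsg.Agent.LThreeFour.Exists
import Cfsg.Agent.LThreeFour.Norm
import Cfsg.Agent.StdL2.SFive.LeafTools

/-!
# Involutory automorphisms of `4.L₃(4)` centralising an elementary abelian subgroup of order 8
-/

set_option autoImplicit false
set_option linter.unusedSectionVars false
set_option linter.constructorNameAsVariable false

namespace Cfsg.Agent.StdL2.ExcF

open Cfsg.Agent.LThreeFour
open Cfsg.Agent.SporadicA.FieldFour
open Cfsg.Agent.ONType.Psl (kap)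
open Cfsg.Agent.ONType.OuterL (rv rv_ne rv_rv)
open scoped commutatorElement

/-! ### Generalities -/

theorem not_solvable {C M : Type*} [Group C] [Group M] (f : C →* M) {P : Subgroup M}
    (hP : P ≤ ⁅P, P⁆) (hne : P ≠ ⊥) (h : P ≤ f.range) : ¬ Group.IsSolvable C := by
  rintro ⟨n, hn⟩
  have key : ∀ n, P ≤ (derivedSeries C n).map f := by
    intro n
    induction n with
    | zero =>
      rw [derivedSeries_zero, ← MonoidHom.range_eq_map]
      exact h
    | succ n ih =>
      rw [derivedSeries_succ, Subgroup.map_commutator]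
      exact hP.trans (Subgroup.commutator_mono ih ih)
  have := key n
  rw [hn, Subgroup.map_bot, le_bot_iff] at this
  exact hne this

/-- the fixed subgroup of an automorphism -/
def fixed {Y : Type*} [Group Y] (α : MulAut Y) : Subgroup Y where
  carrier := {y | α y = y}
  mul_mem' := by
    intro a b ha hb
    show α (a * b) = a * b
    rw [map_mul, show α a = a from ha, show α b = b from hb]
  one_mem' := map_one α
  inv_mem' := by
    intro a ha
    show α a⁻¹ = a⁻¹
    rw [map_inv, show α a = a from ha]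

theorem mem_fixed {Y : Type*} [Group Y] {α : MulAut Y} {y : Y} : y ∈ fixed α ↔ α y = y := Iff.rfl

/-! ### Coordinates -/

section coord

variable {M : Type*} [Group M]

/-- Classes of involutory automorphisms, adapted coordinates. -/
theorem exists_adapted (A : Dat M) (β : MulAut M) (h1 : β ≠ 1) (h2 : β * β = 1) :
    ∃ B : Dat M, (∃ τ, τ ≠ ty1 ∧ B.IsTau τ β) ∨ β = MulAut.conj (B.x 0 2 1) := by
  obtain ⟨l, hl⟩ := A.inv_class β h1 h2
  have key : ∀ y, β (l⁻¹ * y * l) = l⁻¹ * (MulAut.conj l * β * (MulAut.conj l)⁻¹) y * l := by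
    intro y
    rw [← map_inv, MulAut.mul_apply, MulAut.mul_apply, MulAut.conj_apply, MulAut.conj_apply]
    have e : l⁻¹ * y * l⁻¹⁻¹ = l⁻¹ * y * l := by group
    rw [e]
    group
  refine ⟨A.map (MulAut.conj l⁻¹), ?_⟩
  have hx : ∀ i j u, (A.map (MulAut.conj l⁻¹)).x i j u = l⁻¹ * A.x i j u * l := by
    intro i j u
    show MulAut.conj l⁻¹ (A.x i j u) = _
    rw [MulAut.conj_apply, inv_inv]
  rcases hl with ⟨τ, hτ, ht⟩ | hm
  · left
    refine ⟨τ, hτ, fun i j hij u => ?_⟩
    rw [hx, key, ht i j hij u]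
    unfold imgx
    split
    · rw [hx]
    · rw [hx]
  · right
    rw [hx]
    have e : β = (MulAut.conj l)⁻¹ * (MulAut.conj l * β * (MulAut.conj l)⁻¹) * MulAut.conj l := by
      group
    rw [e, hm, map_mul, map_mul, map_inv]

variable {A : Dat M}

theorem x_ne_one (A : Dat M) {u : F4} (hu : u ≠ 0) : A.x 0 2 u ≠ 1 := by
  intro h
  rw [← A.el_x02, A.el_eq_one] at h
  exact hu (congrArg Code.c h)

/-- the fundamental `SL₂(4)` -/
def PL (A : Dat M) : Subgroup M := Subgroup.closure {y | ∃ u, y = A.x 0 2 u ∨ y = A.x 2 0 u}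

theorem PL_perf (A : Dat M) : PL A ≤ ⁅PL A, PL A⁆ := by
  have m1 : ∀ u, A.x 0 2 u ∈ PL A := fun u => Subgroup.subset_closure ⟨u, Or.inl rfl⟩
  have m2 : ∀ u, A.x 2 0 u ∈ PL A := fun u => Subgroup.subset_closure ⟨u, Or.inr rfl⟩
  have hh : A.h⁻¹ ∈ PL A := by
    apply inv_mem
    rw [← A.h_eq 0 2 (by decide)]
    exact mul_mem (mul_mem (mul_mem (m1 _) (m2 _)) (m1 _))
      (mul_mem (mul_mem (m1 _) (m2 _)) (m1 _))
  nth_rw 1 [PL]
  rw [Subgroup.closure_le]
  rintro _ ⟨u, rfl | rfl⟩
  · obtain ⟨v, hv⟩ := Dat.kap_add 0 2 u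
    rw [hv, ← Dat.comm_h 0 2 (by decide)]
    exact Subgroup.commutator_mem_commutator hh (m1 v)
  · obtain ⟨v, hv⟩ := Dat.kap_add 2 0 u
    rw [hv, ← Dat.comm_h 2 0 (by decide)]
    exact Subgroup.commutator_mem_commutator hh (m2 v)

theorem PL_ne (A : Dat M) : PL A ≠ ⊥ := by
  intro h
  have h1 : A.x 0 2 1 ∈ PL A := Subgroup.subset_closure ⟨1, Or.inl rfl⟩
  rw [h, Subgroup.mem_bot] at h1
  exact x_ne_one A (by decide) h1

theorem PL_fix {τ : Ty} {β : MulAut M} (h : A.IsTau τ β) (hτ : τ.1 = false) :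
    PL A ≤ fixed β := by
  rw [PL, Subgroup.closure_le]
  rintro _ ⟨u, rfl | rfl⟩
  · show β _ = _
    rw [h.x02, hτ]; rfl
  · show β _ = _
    rw [h.x20, hτ]; rfl

/-- the subfield subgroup `L₃(2)` -/
def PF (A : Dat M) (d : Fin 3) : Subgroup M :=
  Subgroup.closure {y | ∃ i j, i ≠ j ∧ y = A.x i j (dg (-d) i j)}

theorem dg_trans : ∀ (d i k j : Fin 3), dg d i k * dg d k j = dg d i j := by decide +kernel

theorem exists_third : ∀ i j : Fin 3, i ≠ j → ∃ k, i ≠ k ∧ k ≠ j := by decide

theorem dg_fix : ∀ (d i j : Fin 3), dg d i j * (dg (-d) i j * dg (-d) i j) = dg (-d) i j := by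
  decide +kernel

theorem PF_perf (A : Dat M) (d : Fin 3) : PF A d ≤ ⁅PF A d, PF A d⁆ := by
  have m : ∀ i j, i ≠ j → A.x i j (dg (-d) i j) ∈ PF A d :=
    fun i j h => Subgroup.subset_closure ⟨i, j, h, rfl⟩
  nth_rw 1 [PF]
  rw [Subgroup.closure_le]
  rintro _ ⟨i, j, hij, rfl⟩
  obtain ⟨k, hik, hkj⟩ := exists_third i j hij
  have h1 := A.x_sum i j k hij hik hkj.symm (dg (-d) i k) (dg (-d) k j)
  rw [dg_trans] at h1
  have h2 : A.x i j (dg (-d) i j) = ⁅(A.x i k (dg (-d) i k))⁻¹, (A.x k j (dg (-d) k j))⁻¹⁆ := by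
    rw [commutatorElement_def, inv_inv, inv_inv, mul_assoc _ (A.x i k _), h1]
    group
  rw [h2]
  exact Subgroup.commutator_mem_commutator (inv_mem (m i k hik)) (inv_mem (m k j hkj))

theorem PF_ne (A : Dat M) (d : Fin 3) : PF A d ≠ ⊥ := by
  intro h
  have h1 : A.x 0 2 (dg (-d) 0 2) ∈ PF A d := Subgroup.subset_closure ⟨0, 2, by decide, rfl⟩
  rw [h, Subgroup.mem_bot] at h1
  exact x_ne_one A (by rw [dg_02]; decide) h1

theorem PF_fix {τ : Ty} {β : MulAut M} (h : A.IsTau τ β) (hτ : τ.1 = true) (hτ' : τ.2.1 = false) :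
    PF A τ.2.2 ≤ fixed β := by
  rw [PF, Subgroup.closure_le]
  rintro _ ⟨i, j, hij, rfl⟩
  show β _ = _
  rw [h i j hij, imgx, hτ', pu, hτ]
  simp only [Bool.false_eq_true, if_false]
  congr 1
  exact dg_fix _ _ _

end coord

/-! ### The cover -/

section cover

variable {Y M : Type*} [Group Y] [Group M] {p : Y →* M} {α : MulAut Y} {β : MulAut M}

/-- `Y` is a perfect central extension of `M`, `α` induces `β`. -/
structure Cov (p : Y →* M) (α : MulAut Y) (β : MulAut M) : Prop where
  surj : Function.Surjective p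
  ker : ∀ y, p y = 1 → ∀ x, x * y = y * x
  comm : ∀ y, β (p y) = p (α y)

theorem Cov.central (H : Cov p α β) {y : Y} (hy : β (p y) = p y) (x : Y) :
    x * (α y * y⁻¹) = (α y * y⁻¹) * x := by
  apply H.ker
  rw [map_mul, map_inv, ← H.comm, hy, mul_inv_cancel]

/-- commutators of elements fixed modulo the centre are fixed -/
theorem Cov.fix_comm (H : Cov p α β) {P : Subgroup M} (hP : P ≤ fixed β) :
    ⁅P.comap p, P.comap p⁆ ≤ fixed α := by
  rw [Subgroup.commutator_le]
  intro a ha b hb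
  have ha' := H.central (y := a) (hP ha)
  have hb' := H.central (y := b) (hP hb)
  show α ⁅a, b⁆ = ⁅a, b⁆
  set z := α a * a⁻¹ with hz
  set w := α b * b⁻¹ with hw
  have e1 : α a = z * a := by rw [hz]; group
  have e2 : α b = w * b := by rw [hw]; group
  rw [commutatorElement_def, map_mul, map_mul, map_mul, map_inv, map_inv, e1, e2]
  have h1 : z * a * (w * b) = z * w * (a * b) := by
    rw [mul_assoc z a, ← mul_assoc a w, hb' a]; group
  have h2 : (z * a)⁻¹ * (w * b)⁻¹ = (a⁻¹ * b⁻¹) * (z * w)⁻¹ := by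
    have h3 : w * b * (z * a) = z * w * (b * a) := by
      rw [mul_assoc w b, ← mul_assoc b z, ha' b, ← mul_assoc w, ← mul_assoc w, ha' w]; group
    rw [← mul_inv_rev, h3]; group
  have h3 : z * w * (a * b * (a⁻¹ * b⁻¹)) = (a * b * (a⁻¹ * b⁻¹)) * (z * w) := by
    rw [mul_assoc z w, ← hb' (a * b * (a⁻¹ * b⁻¹)), ← mul_assoc z, ← ha' (a * b * (a⁻¹ * b⁻¹))]
    group
  calc z * a * (w * b) * (z * a)⁻¹ * (w * b)⁻¹ = (z * a * (w * b)) * ((z * a)⁻¹ * (w * b)⁻¹) := by
        group
    _ = z * w * (a * b * (a⁻¹ * b⁻¹)) * (z * w)⁻¹ := by rw [h1, h2]; group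
    _ = a * b * a⁻¹ * b⁻¹ := by rw [h3]; group

theorem Cov.not_solvable (H : Cov p α β) {P : Subgroup M} (hP : P ≤ fixed β)
    (hperf : P ≤ ⁅P, P⁆) (hne : P ≠ ⊥) : ¬ Group.IsSolvable (fixed α) := by
  apply ExcF.not_solvable (p.comp (fixed α).subtype) hperf hne
  have h1 : ⁅P, P⁆ ≤ (fixed α).map p := by
    have h2 : P = (P.comap p).map p := (Subgroup.map_comap_eq_self_of_surjective H.surj P).symm
    have h3 := Subgroup.map_mono (f := p) (H.fix_comm hP)
    rw [Subgroup.map_commutator, ← h2] at h3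
    exact h3
  intro x hx
  obtain ⟨y, hy, rfl⟩ := h1 (hperf hx)
  exact ⟨⟨y, hy⟩, rfl⟩

theorem Cov.top (H : Cov p α 1) (perf : commutator Y = ⊤) : fixed α = ⊤ := by
  rw [eq_top_iff, ← perf, commutator_def]
  have h1 := H.fix_comm (P := ⊤) (fun x _ => rfl)
  rwa [Subgroup.comap_top] at h1

variable [Finite Y]

/-- the centraliser of an involution, inner case -/
theorem Cov.card_inner (H : Cov p α β) (T : Subgroup M)
    (hT : Nat.card T = 64) (hTβ : T ≤ fixed β) : 16 ∣ Nat.card (fixed α) := by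
  have hz : ∀ k : T.comap p, ∀ x : Y, x * (α k * (k : Y)⁻¹) = (α k * (k : Y)⁻¹) * x :=
    fun k => H.central (hTβ k.2)
  let δ : T.comap p →* p.ker :=
    { toFun := fun k => ⟨α k * (k : Y)⁻¹, by
        rw [MonoidHom.mem_ker, map_mul, map_inv, ← H.comm]
        have : β (p k) = p k := hTβ k.2
        rw [this, mul_inv_cancel]⟩
      map_one' := Subtype.ext (by simp)
      map_mul' := by
        intro k l
        apply Subtype.ext
        show α ((k : Y) * l) * ((k : Y) * l)⁻¹ = α k * (k : Y)⁻¹ * (α l * (l : Y)⁻¹)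
        rw [map_mul, mul_inv_rev]
        have := hz l ((k : Y)⁻¹)
        rw [mul_assoc (α k) (k : Y)⁻¹, this]
        group }
  have h1 : Nat.card (T.comap p) = Nat.card p.ker * 64 := by
    have : Finite M := Finite.of_surjective p H.surj
    have e1 := Subgroup.card_mul_index (T.comap p)
    rw [Subgroup.index_comap_of_surjective _ H.surj] at e1
    have e2 := Subgroup.card_mul_index T
    have e3 := Subgroup.card_mul_index p.ker
    rw [Subgroup.index_ker, MonoidHom.range_eq_top.2 H.surj, Subgroup.card_top, ← e2, hT] at e3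
    have e4 : 0 < T.index := Nat.pos_of_ne_zero Subgroup.index_ne_zero_of_finite
    apply Nat.eq_of_mul_eq_mul_right e4
    rw [e1, ← e3]
    ring
  have h2 : Nat.card (T.comap p) = Nat.card δ.ker * Nat.card δ.range := by
    rw [← Subgroup.card_mul_index δ.ker, Subgroup.index_ker]
  have h3 : Nat.card δ.range ∣ Nat.card p.ker := Subgroup.card_subgroup_dvd_card _
  have h4 : Nat.card δ.ker ∣ Nat.card (fixed α) := by
    have e : δ.ker.map (T.comap p).subtype ≤ fixed α := by
      rintro _ ⟨k, hk, rfl⟩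
      have := congrArg Subtype.val (MonoidHom.mem_ker.1 hk)
      exact mul_inv_eq_one.1 this
    have h5 := Subgroup.card_dvd_of_le e
    rwa [Nat.card_congr (Subgroup.equivMapOfInjective δ.ker _ (T.comap p).subtype_injective).toEquiv.symm] at h5
  refine dvd_trans ?_ h4
  obtain ⟨a, ha⟩ := h3
  have h5 : 0 < Nat.card δ.range := Nat.card_pos
  have h6 : Nat.card δ.ker = a * 64 := by
    have h7 : Nat.card δ.range * Nat.card δ.ker = Nat.card δ.range * (a * 64) := by
      rw [mul_comm, ← h2, h1, ha]; ring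
    exact Nat.eq_of_mul_eq_mul_left h5 h7
  rw [h6]
  exact Dvd.dvd.mul_left (by norm_num) a

/-- the unitary case -/
theorem Cov.no_unitary (H : Cov p α β) (A : Dat M)
    (hcyc : ∀ a b : Y, p a = 1 → p b = 1 → a * a = 1 → b * b = 1 → a ≠ 1 → b ≠ 1 → a = b)
    {τ : Ty} (ht : A.IsTau τ β) (h1 : τ.1 = true) (h2 : τ.2.1 = true) (β2 : β * β = 1)
    {V : Subgroup Y} (hV : ∀ v ∈ V, α v = v ∧ v * v = 1) (h8 : Nat.card V = 8) : False := by
  have hfin := A.finite_aut
  have hτ : τ ≠ ty1 := by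
    rintro rfl
    exact absurd h1 (by decide)
  have hτ2 : τ.mul τ = ty1 := by
    have h3 := ht.hasTy.mul ht.hasTy
    rw [β2] at h3
    exact h3.unique A.hasTy_one
  let f : V →* MulAut M := ((MulAut.conj : M →* MulAut M).comp p).comp V.subtype
  have hf : ∀ v : V, f v = MulAut.conj (p v) := fun v => rfl
  have hWsq : ∀ w ∈ f.range, w * w = 1 := by
    rintro _ ⟨v, rfl⟩
    rw [← map_mul, show v * v = 1 from Subtype.ext (hV v v.2).2, map_one]
  have hWc : ∀ w ∈ f.range, β * w = w * β := by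
    rintro _ ⟨v, rfl⟩
    have h3 : MulAut.conj (β (p v)) = β * MulAut.conj (p v) * β⁻¹ := Dat.conj_map β (p v)
    rw [H.comm, (hV v v.2).1] at h3
    rw [hf]
    nth_rw 2 [h3]
    group
  have hn : ∀ w ∈ f.range, β * w * β⁻¹ ∈ f.range := by
    intro w hw
    rw [hWc w hw, mul_inv_cancel_right]
    exact hw
  have hyy : β * β ∈ f.range := by rw [β2]; exact one_mem _
  set E := SFive.LeafTools.two f.range β hn hyy with hE
  have hEsq : ∀ x ∈ E, x * x = 1 := by
    intro x hx
    rcases hx with hx | hx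
    · exact hWsq x hx
    · have h3 := hWsq _ hx
      have h4 := hWc _ hx
      have h5 : β * (x * x) = β * 1 := by
        calc β * (x * x) = (β * x) * x := by group
          _ = (β * x) * β⁻¹ * (β * x) := by group
          _ = β⁻¹ * ((β * x) * (β * x)) := by
              have h6 : β * x * β⁻¹ = β⁻¹ * (β * x) := by
                rw [mul_inv_eq_iff_eq_mul, mul_assoc, ← h4, inv_mul_cancel_left]
              rw [h6]; group
          _ = β * 1 := by
              rw [h3, mul_one, mul_one]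
              exact (mul_eq_one_iff_inv_eq.1 β2)
      exact mul_left_cancel h5
  have hle := (Dat.card_inner_le E hEsq SFive.LeafTools.self_mem_two hτ ht.hasTy).trans
    (card_fxs' τ h1 h2 hτ2)
  have hWle : Nat.card f.range ≤ Nat.card {x // x ∈ E ∧ A.tyHom x = 1} := by
    apply Nat.card_le_card_of_injective
      (fun w : f.range => (⟨w.1, SFive.LeafTools.le_two w.2, by
        obtain ⟨v, hv⟩ := w.2
        rw [← hv, hf]
        exact Dat.tyHom_conj _⟩ : {x // x ∈ E ∧ A.tyHom x = 1}))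
    intro a b hab
    exact Subtype.ext (congrArg (fun t : {x // x ∈ E ∧ A.tyHom x = 1} => t.1) hab)
  have hk : Nat.card f.ker ≤ 2 := by
    have h3 : Nat.card Bool = 2 := by rw [Nat.card_eq_fintype_card]; rfl
    rw [← h3]
    classical
    apply Nat.card_le_card_of_injective (fun k : f.ker => decide (k = 1))
    intro a b hab
    have h4 : (a = 1 ↔ b = 1) := by simpa using hab
    by_cases ha : a = 1
    · rw [ha, h4.1 ha]
    · have hb : b ≠ 1 := fun h => ha (h4.2 h)
      have h5 : ∀ k : f.ker, p ((k : V) : Y) = 1 := by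
        intro k
        exact A.conj_eq_one (MonoidHom.mem_ker.1 k.2)
      have h6 : ∀ k : f.ker, k ≠ 1 → ((k : V) : Y) ≠ 1 := by
        intro k hk h
        exact hk (Subtype.ext (Subtype.ext h))
      apply Subtype.ext
      apply Subtype.ext
      exact hcyc _ _ (h5 a) (h5 b) (hV _ a.1.2).2 (hV _ b.1.2).2 (h6 a ha) (h6 b hb)
  have h3 : Nat.card f.ker * Nat.card f.range = 8 := by
    rw [← h8, ← Subgroup.card_mul_index f.ker, Subgroup.index_ker]
  have h4 : Nat.card f.range ≤ 2 := hWle.trans hle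
  have h5 : Nat.card f.ker * Nat.card f.range ≤ 2 * 2 := Nat.mul_le_mul hk h4
  omega

/-- **(F)**, abstract form -/
theorem Cov.main (H : Cov p α β) (A : Dat M) (perf : commutator Y = ⊤) (c4 : Nat.card p.ker = 4)
    (hcyc : ∀ a b : Y, p a = 1 → p b = 1 → a * a = 1 → b * b = 1 → a ≠ 1 → b ≠ 1 → a = b)
    (β2 : β * β = 1) {V : Subgroup Y} (hV : ∀ v ∈ V, α v = v ∧ v * v = 1) (h8 : Nat.card V = 8) :
    ¬ Group.IsSolvable (fixed α) ∨ 16 ∣ Nat.card (fixed α) := by
  by_cases h1 : β = 1
  · subst h1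
    right
    rw [H.top perf, Subgroup.card_top, ← Subgroup.card_mul_index p.ker, Subgroup.index_ker,
      MonoidHom.range_eq_top.2 H.surj, Subgroup.card_top, c4, A.card]
    norm_num
  · obtain ⟨B, hB⟩ := exists_adapted A β h1 β2
    rcases hB with ⟨τ, hτ, ht⟩ | hB
    · left
      rcases hb : τ.1 with _ | _
      · exact H.not_solvable (PL_fix ht hb) (PL_perf B) (PL_ne B)
      · rcases hb2 : τ.2.1 with _ | _
        · exact H.not_solvable (PF_fix ht hb hb2) (PF_perf B _) (PF_ne B _)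
        · exact (H.no_unitary B hcyc ht hb hb2 β2 hV h8).elim
    · right
      apply H.card_inner B.T B.card_T
      intro x hx
      show β x = x
      rw [hB, MulAut.conj_apply]
      have h3 : B.x 0 2 1 * x = x * B.x 0 2 1 := (Dat.cent_x02.2 hx).symm
      rw [h3, mul_inv_cancel_right]

end cover

/-- the automorphism induced on a quotient by the centre -/
theorem exists_cov {Y : Type*} [Group Y] (α : MulAut Y) (h2 : α * α = 1) :
    ∃ β : MulAut (Y ⧸ Subgroup.center Y), β * β = 1 ∧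
      Cov (QuotientGroup.mk' (Subgroup.center Y)) α β := by
  have hmap : (Subgroup.center Y).map (α : Y →* Y) = Subgroup.center Y := by
    exact Subgroup.characteristic_iff_map_eq.1 inferInstance α
  let β : MulAut (Y ⧸ Subgroup.center Y) :=
    QuotientGroup.congr (Subgroup.center Y) (Subgroup.center Y) α hmap
  have hβ : ∀ y : Y, β (QuotientGroup.mk' (Subgroup.center Y) y) =
      QuotientGroup.mk' (Subgroup.center Y) (α y) := fun y => rfl
  refine ⟨β, ?_, QuotientGroup.mk'_surjective _, ?_, hβ⟩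
  · ext x
    obtain ⟨y, rfl⟩ := QuotientGroup.mk'_surjective (Subgroup.center Y) x
    rw [MulAut.mul_apply, hβ, hβ, ← MulAut.mul_apply, h2]
    rfl
  · intro y hy x
    have h1 : y ∈ Subgroup.center Y := (QuotientGroup.eq_one_iff y).1 hy
    exact Subgroup.mem_center_iff.1 h1 x

/-- **(F)** An involutory automorphism of `4.L₃(4)` (cyclic centre) centralising an elementary abelian
subgroup of order 8: the fixed subgroup is not solvable or has order divisible by 16. -/
theorem main {Y : Type*} [Group Y] [Finite Y] {F : Type*} [Field F] [Fintype F]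
    (hF : Fintype.card F = 4) (perf : commutator Y = ⊤) (cyc : IsCyclic (Subgroup.center Y))
    (c4 : Nat.card (Subgroup.center Y) = 4)
    (psl : Nonempty (Y ⧸ Subgroup.center Y ≃* Matrix.ProjectiveSpecialLinearGroup (Fin 3) F))
    (α : MulAut Y) (h2 : α * α = 1) {V : Subgroup Y} (hV : ∀ v ∈ V, α v = v ∧ v * v = 1)
    (h8 : Nat.card V = 8) : ¬ Group.IsSolvable (fixed α) ∨ 16 ∣ Nat.card (fixed α) := by
  obtain ⟨e⟩ := psl
  obtain ⟨A⟩ := exists_dat hF e
  obtain ⟨β, β2, H⟩ := exists_cov α h2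
  have hk : (QuotientGroup.mk' (Subgroup.center Y)).ker = Subgroup.center Y :=
    QuotientGroup.ker_mk' _
  refine H.main A perf (by rw [hk]; exact c4) ?_ β2 hV h8
  intro a b ha hb ha2 hb2 ha1 hb1
  have ha' : a ∈ Subgroup.center Y := by rw [← hk]; exact ha
  have hb' : b ∈ Subgroup.center Y := by rw [← hk]; exact hb
  classical
  have : Fintype (Subgroup.center Y) := Fintype.ofFinite _
  by_contra hab
  have h3 := IsCyclic.card_pow_eq_one_le (α := Subgroup.center Y) (n := 2) (by norm_num)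
  have h4 : ({1, ⟨a, ha'⟩, ⟨b, hb'⟩} : Finset (Subgroup.center Y)) ⊆
      Finset.univ.filter (fun x : Subgroup.center Y => x ^ 2 = 1) := by
    intro x hx
    rw [Finset.mem_filter]
    refine ⟨Finset.mem_univ _, ?_⟩
    simp only [Finset.mem_insert, Finset.mem_singleton] at hx
    rw [pow_two]
    rcases hx with rfl | rfl | rfl
    · rw [one_mul]
    · exact Subtype.ext ha2
    · exact Subtype.ext hb2
  have h5 := (Finset.card_le_card h4).trans h3
  have h6 : ({1, ⟨a, ha'⟩, ⟨b, hb'⟩} : Finset (Subgroup.center Y)).card = 3 := by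
    rw [Finset.card_eq_three]
    refine ⟨1, ⟨a, ha'⟩, ⟨b, hb'⟩, ?_, ?_, ?_, rfl⟩
    · exact fun h => ha1 (congrArg Subtype.val h).symm
    · exact fun h => hb1 (congrArg Subtype.val h).symm
    · exact fun h => hab (congrArg Subtype.val h)
  omega

end Cfsg.Agent.StdL2.ExcF
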