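import Mathlib

/-!
# Automorphisms of perfect central extensions

`π : Y → M` surjective with kernel the centre of `Y`, `φ` an automorphism of `Y` inducing `α` on `M`.
-/

set_option autoImplicit false

namespace Cfsg.Agent.StdL2.ExcFix

open Subgroup
open scoped commutatorElement

variable {Y M : Type*} [Group Y] [Group M]

/-- the fixed points of an automorphism -/
def fix (φ : MulAut Y) : Subgroup Y where
  carrier := {y | φ y = y}
  one_mem' := map_one φ
  mul_mem' := by
    intro a b ha hb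
    show φ (a * b) = a * b
    rw [map_mul, show φ a = a from ha, show φ b = b from hb]
  inv_mem' := by
    intro a ha
    show φ a⁻¹ = a⁻¹
    rw [map_inv, show φ a = a from ha]

theorem mem_fix {φ : MulAut Y} {y : Y} : y ∈ fix φ ↔ φ y = y := Iff.rfl

/-- commutators do not change under multiplication with central elements -/
theorem comm_central {A B u w : Y} (hu : ∀ y, u * y = y * u) (hw : ∀ y, w * y = y * w) :
    ⁅A * u, B * w⁆ = ⁅A, B⁆ := by
  rw [commutatorElement_def, commutatorElement_def]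
  calc A * u * (B * w) * (A * u)⁻¹ * (B * w)⁻¹ =
      A * (u * B) * (w * (u⁻¹ * A⁻¹)) * w⁻¹ * B⁻¹ := by group
    _ = A * B * u * (u⁻¹ * A⁻¹ * w) * w⁻¹ * B⁻¹ := by rw [hu, hw]; group
    _ = A * B * A⁻¹ * B⁻¹ := by group

/-- Two homomorphisms agreeing modulo the centre agree on the derived subgroup. -/
theorem agree {D : Subgroup Y} {f g : Y →* Y}
    (hc : ∀ d ∈ D, ∀ y, (f d)⁻¹ * g d * y = y * ((f d)⁻¹ * g d)) :
    ∀ d ∈ ⁅D, D⁆, f d = g d := by
  have hle : ⁅D, D⁆ ≤ f.eqLocus g := by
    rw [Subgroup.commutator_le]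
    intro a ha b hb
    show f ⁅a, b⁆ = g ⁅a, b⁆
    rw [map_commutatorElement, map_commutatorElement]
    have h1 : g a = f a * ((f a)⁻¹ * g a) := by group
    have h2 : g b = f b * ((f b)⁻¹ * g b) := by group
    rw [h1, h2, comm_central (hc a ha) (hc b hb)]
  exact fun d hd => hle hd

/-- An automorphism of a perfect group which is inner modulo the centre centralises the centre. -/
theorem fix_center (hY : commutator Y = ⊤) {π : Y →* M} (hπ : Function.Surjective π)
    (hk : ∀ y, π y = 1 → ∀ y', y * y' = y' * y) {φ : MulAut Y} {α : MulAut M}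
    (hα : ∀ y, α (π y) = π (φ y)) {a : M} (ha : α = MulAut.conj a) {v : Y}
    (hv : ∀ y, v * y = y * v) : φ v = v := by
  obtain ⟨y0, rfl⟩ := hπ a
  have h1 : ∀ d : Y, π ((φ d)⁻¹ * (y0 * d * y0⁻¹)) = 1 := by
    intro d
    rw [map_mul, map_inv, ← hα, ha, MulAut.conj_apply, map_mul, map_mul, map_inv]
    group
  have h2 := agree (D := (⊤ : Subgroup Y)) (f := φ.toMonoidHom) (g := (MulAut.conj y0).toMonoidHom)
    (by
      intro d _ y
      exact hk _ (h1 d) y) v (by
      have : ⁅(⊤ : Subgroup Y), ⊤⁆ = ⊤ := hY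
      rw [this]
      trivial)
  have h3 : φ v = y0 * v * y0⁻¹ := h2
  rw [h3, ← hv, mul_inv_cancel_right]

/-- If `α` centralises a perfect subgroup then the fixed points of `φ` are not solvable. -/
theorem not_solvable {π : Y →* M} (hπ : Function.Surjective π)
    (hk : ∀ y, π y = 1 → ∀ y', y * y' = y' * y) {φ : MulAut Y} {α : MulAut M}
    (hα : ∀ y, α (π y) = π (φ y)) {K : Type*} [Group K] (hK : commutator K = ⊤) (ρ : K →* M)
    (hρ : ∀ k, α (ρ k) = ρ k) {k0 : K} (hk0 : ρ k0 ≠ 1) : ¬ Group.IsSolvable (fix φ) := by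
  intro hs
  set D : Subgroup Y := ρ.range.comap π with hD
  have hDfix : ⁅D, D⁆ ≤ fix φ := by
    intro d hd
    have h2 := agree (D := D) (f := MonoidHom.id Y) (g := φ.toMonoidHom) (by
      rintro d ⟨k, hk1⟩ y
      apply hk
      show π (d⁻¹ * φ d) = 1
      rw [map_mul, map_inv, ← hα, ← hk1, hρ, inv_mul_cancel]) d hd
    exact h2.symm
  have hrange : ⁅ρ.range, ρ.range⁆ = ρ.range := by
    have h1 : ρ.range = (⊤ : Subgroup K).map ρ := MonoidHom.range_eq_map ρ
    have h2 : ⁅(⊤ : Subgroup K), ⊤⁆ = ⊤ := hK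
    rw [h1, ← Subgroup.map_commutator, h2]
  have hmap : ρ.range ≤ (fix φ).map π := by
    have h1 : D.map π = ρ.range := Subgroup.map_comap_eq_self_of_surjective hπ _
    calc ρ.range = ⁅D.map π, D.map π⁆ := by rw [h1, hrange]
      _ = (⁅D, D⁆).map π := by rw [Subgroup.map_commutator]
      _ ≤ (fix φ).map π := Subgroup.map_mono hDfix
  have hs1 : Group.IsSolvable ((fix φ).map π) := by
    refine Group.isSolvable_of_surjective (f := π.subgroupMap (fix φ)) (MonoidHom.subgroupMap_surjective _ _)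
  have hs2 : Group.IsSolvable ρ.range :=
    Group.isSolvable_of_isSolvable_injective (f := Subgroup.inclusion hmap) (Subgroup.inclusion_injective hmap)
  have hn : Nontrivial ρ.range := ⟨⟨ρ k0, k0, rfl⟩, 1, fun h => hk0 (congrArg Subtype.val h)⟩
  have h3 := Group.IsSolvable.commutator_lt_top_of_nontrivial ρ.range
  apply h3.ne
  have h4 : (⊤ : Subgroup K).map ρ.rangeRestrict = ⊤ :=
    Subgroup.map_top_of_surjective _ ρ.rangeRestrict_surjective
  have h2 : ⁅(⊤ : Subgroup K), ⊤⁆ = ⊤ := hK
  show ⁅(⊤ : Subgroup ρ.range), ⊤⁆ = ⊤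
  rw [← h4, ← Subgroup.map_commutator, h2]

/-- Fixed points in the quotient by a normal subgroup of odd order. -/
theorem fix_map [Finite Y] {f : Y →* M} (hf : Function.Surjective f) (hodd : Odd (Nat.card f.ker))
    {φ : MulAut Y} (h2 : φ * φ = 1) {ψ : MulAut M} (hψ : ∀ y, ψ (f y) = f (φ y)) :
    fix ψ ≤ (fix φ).map f := by
  intro x hx
  obtain ⟨y, rfl⟩ := hf x
  -- the involution `φ` acts on the coset
  have hφ2 : ∀ y, φ (φ y) = y := fun y => congrArg (fun e : MulAut Y => e y) h2
  let C : Type _ := {y' : Y // f y' = f y}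
  have hcard : Nat.card C = Nat.card f.ker := by
    apply Nat.card_congr
    refine ⟨fun c => ⟨y⁻¹ * c.1, by rw [MonoidHom.mem_ker, map_mul, map_inv, c.2, inv_mul_cancel]⟩,
      fun k => ⟨y * k.1, by rw [map_mul, (MonoidHom.mem_ker).1 k.2, mul_one]⟩, ?_, ?_⟩
    · intro c
      apply Subtype.ext
      show y * (y⁻¹ * c.1) = c.1
      group
    · intro k
      apply Subtype.ext
      show y⁻¹ * (y * k.1) = k.1
      group
  have hfin : Finite C := Subtype.finite
  let F : C → C := fun c => ⟨φ c.1, by rw [← hψ, c.2]; exact hx⟩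
  have hF : Function.Involutive F := fun c => Subtype.ext (hφ2 c.1)
  obtain ⟨c, hc⟩ : ∃ c : C, F c = c := by
    have : Fintype C := Fintype.ofFinite C
    have : Fact (Nat.Prime 2) := ⟨Nat.prime_two⟩
    apply Equiv.Perm.exists_fixed_point_of_prime (p := 2) (n := 1) (σ := hF.toPerm F)
    · rw [← Nat.card_eq_fintype_card, hcard]
      exact hodd.not_two_dvd_nat
    · rw [pow_one, pow_two]
      apply Equiv.ext
      intro c
      exact hF c
  exact ⟨c.1, congrArg Subtype.val hc, c.2⟩

end Cfsg.Agent.StdL2.ExcFix
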