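import Cfsg.Agent.ClassicalGeometry.AutPSL.Main
import Cfsg.Agent.TwoFusion.SLTwoFacts

/-!
# Involutory automorphisms of `PSL(3,4)` centralising a long root group

Such an automorphism is inner or centralises a subgroup `SL(2,4)`.
-/

set_option autoImplicit false

namespace Cfsg.Agent.StdL2.PslGraph

open Matrix
open Cfsg.Agent.ClassicalGeometry.AutPSL.Root
open Cfsg.Agent.ClassicalGeometry.AutPSL.Auto
open Cfsg.Agent.ClassicalGeometry.AutPSL.Main

section general

variable {ι F : Type*} [Fintype ι] [DecidableEq ι] [Field F]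

theorem cj_eq_of {A : GL ι F} {x y : Matrix.SpecialLinearGroup ι F}
    (h : (A : Matrix ι ι F) * x.1 = y.1 * (A : Matrix ι ι F)) : cj A x = y := by
  apply Subtype.ext
  rw [coe_cj]
  change (A : Matrix ι ι F) * x.1 * ((A⁻¹ : GL ι F) : Matrix ι ι F) = y.1
  rw [h, mul_assoc, ← Units.val_mul, mul_inv_cancel, Units.val_one, mul_one]

/-- an invertible matrix of determinant one as an element of `SL` -/
def mkSL (B : GL ι F) (h : (B : Matrix ι ι F).det = 1) : Matrix.SpecialLinearGroup ι F := ⟨B, h⟩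

/-- Conjugation by a matrix of determinant one is inner. -/
theorem lift_cj_of_det {B : GL ι F} (h : (B : Matrix ι ι F).det = 1) :
    lift (cj B) = MulAut.conj (pr (mkSL B h)) := by
  apply MulEquiv.ext
  intro x
  obtain ⟨x, rfl⟩ := pr_surjective x
  have key : cj B x = mkSL B h * x * (mkSL B h)⁻¹ := by
    apply cj_eq_of
    have : (mkSL B h * x * (mkSL B h)⁻¹) * mkSL B h = mkSL B h * x := by group
    exact (congrArg Subtype.val this).symm
  rw [lift_pr, MulAut.conj_apply, key, map_mul, map_mul, map_inv]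

theorem coe_itr_cj (A : GL ι F) (x : Matrix.SpecialLinearGroup ι F) :
    (itr (cj A x) : Matrix ι ι F) = ((A⁻¹ : GL ι F) : Matrix ι ι F)ᵀ * (itr x : Matrix ι ι F) *
      (A : Matrix ι ι F)ᵀ := by
  rw [coe_itr, coe_itr, ← map_inv, coe_cj, transpose_mul, transpose_mul, mul_assoc]

end general

variable {F : Type*} [Field F]

/-- the shape of a matrix moving one transvection to another -/
theorem shape_one {A : GL (Fin 3) F} {c c' : F}
    (h : (A : Matrix (Fin 3) (Fin 3) F) * single 0 2 c' = single 0 2 c * (A : Matrix (Fin 3) (Fin 3) F)) :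
    A.1 0 0 * c' = c * A.1 2 2 ∧ A.1 1 0 * c' = 0 ∧ A.1 2 0 * c' = 0 := by
  refine ⟨?_, ?_, ?_⟩
  · simpa using congrFun (congrFun h 0) 2
  · simpa using congrFun (congrFun h 1) 2
  · simpa using congrFun (congrFun h 2) 2

theorem shape_two {A : GL (Fin 3) F} {c c' : F}
    (h : (A : Matrix (Fin 3) (Fin 3) F) * single 2 0 c' = single 0 2 c * (A : Matrix (Fin 3) (Fin 3) F)) :
    A.1 0 2 * c' = c * A.1 2 0 ∧ A.1 1 2 * c' = 0 ∧ A.1 2 2 * c' = 0 ∧ 0 = c * A.1 2 1 := by
  refine ⟨?_, ?_, ?_, ?_⟩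
  · simpa using congrFun (congrFun h 0) 0
  · simpa using congrFun (congrFun h 1) 0
  · simpa using congrFun (congrFun h 2) 0
  · simpa using congrFun (congrFun h 0) 1

/-- the embedding of `SL(2)` -/
def blk : Matrix.SpecialLinearGroup (Fin 2) F →* Matrix.SpecialLinearGroup (Fin 3) F where
  toFun g := ⟨!![g.1 0 0, g.1 0 1, 0; g.1 1 0, g.1 1 1, 0; 0, 0, 1], by
    have h := g.2
    rw [det_fin_two] at h
    rw [det_fin_three]
    simpa using h⟩
  map_one' := by
    apply Subtype.ext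
    ext i j
    fin_cases i <;> fin_cases j <;> simp
  map_mul' g h := by
    apply Subtype.ext
    change !![(g * h).1 0 0, (g * h).1 0 1, 0; (g * h).1 1 0, (g * h).1 1 1, 0; 0, 0, 1] =
      !![g.1 0 0, g.1 0 1, 0; g.1 1 0, g.1 1 1, 0; 0, 0, 1] *
        !![h.1 0 0, h.1 0 1, 0; h.1 1 0, h.1 1 1, 0; 0, 0, 1]
    ext i j
    fin_cases i <;> fin_cases j <;> simp [Matrix.mul_apply, Fin.sum_univ_succ]

theorem coe_blk (g : Matrix.SpecialLinearGroup (Fin 2) F) :
    (blk g : Matrix (Fin 3) (Fin 3) F) = !![g.1 0 0, g.1 0 1, 0; g.1 1 0, g.1 1 1, 0; 0, 0, 1] := rfl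

/-- the form -/
def Mx : Matrix (Fin 3) (Fin 3) F := !![0, 1, 0; 1, 0, 0; 0, 0, 1]

theorem Mx_itr [CharP F 2] (g : Matrix.SpecialLinearGroup (Fin 2) F) :
    Mx * (itr (blk g) : Matrix (Fin 3) (Fin 3) F) = (blk g : Matrix (Fin 3) (Fin 3) F) * Mx := by
  rw [coe_itr, ← map_inv, coe_blk, coe_blk, Matrix.SpecialLinearGroup.coe_inv, adjugate_fin_two]
  ext i j
  fin_cases i <;> fin_cases j <;>
    simp [Mx, Matrix.mul_apply, Fin.sum_univ_succ, CharTwo.neg_eq]

/-- the isometry -/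
theorem cj_itr {A P : GL (Fin 3) F}
    (h : (A : Matrix (Fin 3) (Fin 3) F) = (P : Matrix (Fin 3) (Fin 3) F) * Mx * (P : Matrix (Fin 3) (Fin 3) F)ᵀ)
    {x : Matrix.SpecialLinearGroup (Fin 3) F}
    (hx : Mx * (itr x : Matrix (Fin 3) (Fin 3) F) = (x : Matrix (Fin 3) (Fin 3) F) * Mx) :
    cj A (itr (cj P x)) = cj P x := by
  apply cj_eq_of
  have h1 : (P : Matrix (Fin 3) (Fin 3) F)ᵀ * ((P⁻¹ : GL (Fin 3) F) : Matrix (Fin 3) (Fin 3) F)ᵀ = 1 := by
    rw [← transpose_mul, ← Units.val_mul, inv_mul_cancel, Units.val_one, transpose_one]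
  have h2 : ((P⁻¹ : GL (Fin 3) F) : Matrix (Fin 3) (Fin 3) F) * (P : Matrix (Fin 3) (Fin 3) F) = 1 := by
    rw [← Units.val_mul, inv_mul_cancel, Units.val_one]
  change (A : Matrix (Fin 3) (Fin 3) F) * (itr (cj P x) : Matrix (Fin 3) (Fin 3) F) =
    (cj P x : Matrix (Fin 3) (Fin 3) F) * (A : Matrix (Fin 3) (Fin 3) F)
  rw [coe_itr_cj, coe_cj, h]
  calc (P : Matrix (Fin 3) (Fin 3) F) * Mx * (P : Matrix (Fin 3) (Fin 3) F)ᵀ *
        (((P⁻¹ : GL (Fin 3) F) : Matrix (Fin 3) (Fin 3) F)ᵀ * (itr x : Matrix (Fin 3) (Fin 3) F) *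
          (P : Matrix (Fin 3) (Fin 3) F)ᵀ)
      = (P : Matrix (Fin 3) (Fin 3) F) * Mx * ((P : Matrix (Fin 3) (Fin 3) F)ᵀ *
        ((P⁻¹ : GL (Fin 3) F) : Matrix (Fin 3) (Fin 3) F)ᵀ) * (itr x : Matrix (Fin 3) (Fin 3) F) *
          (P : Matrix (Fin 3) (Fin 3) F)ᵀ := by simp only [mul_assoc]
    _ = (P : Matrix (Fin 3) (Fin 3) F) * (Mx * (itr x : Matrix (Fin 3) (Fin 3) F)) *
          (P : Matrix (Fin 3) (Fin 3) F)ᵀ := by rw [h1, mul_one]; simp only [mul_assoc]
    _ = (P : Matrix (Fin 3) (Fin 3) F) * (x : Matrix (Fin 3) (Fin 3) F) *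
        (((P⁻¹ : GL (Fin 3) F) : Matrix (Fin 3) (Fin 3) F) * (P : Matrix (Fin 3) (Fin 3) F)) *
          (Mx * (P : Matrix (Fin 3) (Fin 3) F)ᵀ) := by rw [hx, h2, mul_one]; simp only [mul_assoc]
    _ = _ := by simp only [mul_assoc]

/-- A symmetric matrix of the shape considered is congruent to `Mx`. -/
theorem exists_P [CharP F 2] (h4 : ∀ x : F, x ^ 4 = x) {A : Matrix (Fin 3) (Fin 3) F}
    (hs : Aᵀ = A) (h12 : A 1 2 = 0) (h22 : A 2 2 = 0) (h02 : A 0 2 ≠ 0) (h11 : A 1 1 ≠ 0) :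
    ∃ P : GL (Fin 3) F, A = (P : Matrix (Fin 3) (Fin 3) F) * Mx * (P : Matrix (Fin 3) (Fin 3) F)ᵀ := by
  let Pm : Matrix (Fin 3) (Fin 3) F :=
    !![0, A 0 2, A 0 0 ^ 2; (A 0 1 + A 0 0 ^ 2 * A 1 1 ^ 2) / A 0 2, 0, A 1 1 ^ 2; 1, 0, 0]
  have hdet : Pm.det ≠ 0 := by
    have : Pm.det = A 0 2 * A 1 1 ^ 2 := by
      rw [det_fin_three]
      simp [Pm]
    rw [this]
    exact mul_ne_zero h02 (pow_ne_zero 2 h11)
  refine ⟨Matrix.GeneralLinearGroup.mkOfDetNeZero Pm hdet, ?_⟩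
  change A = Pm * Mx * Pmᵀ
  have e10 : A 1 0 = A 0 1 := congrFun (congrFun hs 0) 1
  have e20 : A 2 0 = A 0 2 := congrFun (congrFun hs 0) 2
  have e21 : A 2 1 = 0 := (congrFun (congrFun hs 1) 2).trans h12
  have q : ∀ x : F, x ^ 2 * x ^ 2 = x := fun x => by rw [← pow_add]; exact h4 x
  have tw : ∀ x y : F, x + y + y = x := fun x y => by rw [add_assoc, CharTwo.add_self_eq_zero, add_zero]
  ext i j
  fin_cases i <;> fin_cases j <;>
    simp [Pm, Mx, Matrix.mul_apply, Fin.sum_univ_succ, e10, e20, e21, h12, h22, q, h02, tw,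
      mul_div_cancel₀, mul_comm (A 1 1 ^ 2)]

/-- the element of the long root group -/
def zc (c : F) : Matrix.ProjectiveSpecialLinearGroup (Fin 3) F :=
  pr (Matrix.SpecialLinearGroup.transvection (i := (0 : Fin 3)) (j := 2) (by decide) c)

theorem det_ne (A : GL (Fin 3) F) : (A : Matrix (Fin 3) (Fin 3) F).det ≠ 0 := by
  have h1 : (A : Matrix (Fin 3) (Fin 3) F) * ((A⁻¹ : GL (Fin 3) F) : Matrix (Fin 3) (Fin 3) F) = 1 := by
    rw [← Units.val_mul, mul_inv_cancel, Units.val_one]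
  intro h
  have h2 := congrArg Matrix.det h1
  rw [det_mul, h, zero_mul, det_one] at h2
  exact zero_ne_one h2

theorem blk_nontrivial (P : GL (Fin 3) F) :
    pr (cj P (blk (Matrix.SpecialLinearGroup.transvection (i := (0 : Fin 2)) (j := 1) (by decide) (1 : F)))) ≠ 1 := by
  intro h
  set g := (Matrix.SpecialLinearGroup.transvection (i := (0 : Fin 2)) (j := 1) (by decide) (1 : F)) with hg
  rw [pr_eq_one_iff, Matrix.SpecialLinearGroup.mem_center_iff] at h
  obtain ⟨r, -, hr⟩ := h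
  rw [coe_cj] at hr
  have h1 : (P : Matrix (Fin 3) (Fin 3) F) * ((P⁻¹ : GL (Fin 3) F) : Matrix (Fin 3) (Fin 3) F) = 1 := by
    rw [← Units.val_mul, mul_inv_cancel, Units.val_one]
  have h2 : ((P⁻¹ : GL (Fin 3) F) : Matrix (Fin 3) (Fin 3) F) * (P : Matrix (Fin 3) (Fin 3) F) = 1 := by
    rw [← Units.val_mul, inv_mul_cancel, Units.val_one]
  have h3 : (P : Matrix (Fin 3) (Fin 3) F) * (blk g : Matrix (Fin 3) (Fin 3) F) =
      scalar (Fin 3) r * (P : Matrix (Fin 3) (Fin 3) F) := by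
    rw [hr, mul_assoc _ _ (P : Matrix (Fin 3) (Fin 3) F), h2, mul_one]
  have h4 : (blk g : Matrix (Fin 3) (Fin 3) F) = scalar (Fin 3) r := by
    have h5 : ((P⁻¹ : GL (Fin 3) F) : Matrix (Fin 3) (Fin 3) F) *
        (scalar (Fin 3) r * (P : Matrix (Fin 3) (Fin 3) F)) = scalar (Fin 3) r := by
      rw [(scalar_commute (n := Fin 3) r (Commute.all r) (P : Matrix (Fin 3) (Fin 3) F)).eq,
        ← mul_assoc, h2, one_mul]
    rw [← h5, ← h3, ← mul_assoc, h2, one_mul]
  have h5 := congrFun (congrFun h4 0) 1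
  rw [coe_blk] at h5
  have h6 : g.1 0 1 = 1 := by
    change ((1 : Matrix (Fin 2) (Fin 2) F) + single (0 : Fin 2) (1 : Fin 2) (1 : F)) 0 1 = 1
    simp
  simp [h6] at h5

/-- **An involutory automorphism of `PSL(3,4)` centralising a long root group is inner or centralises `SL(2,4)`.** -/
theorem inner_or_graph [Fintype F] [CharP F 2] (h4 : ∀ x : F, x ^ 4 = x)
    (α : MulAut (Matrix.ProjectiveSpecialLinearGroup (Fin 3) F)) (h2 : α * α = 1)
    (hz : ∀ c : F, α (zc c) = zc c) :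
    (∃ a, α = MulAut.conj a) ∨ ∃ P : GL (Fin 3) F, ∀ g : Matrix.SpecialLinearGroup (Fin 2) F,
      α (pr (cj P (blk g))) = pr (cj P (blk g)) := by
  have : Fact (Nat.Prime 2) := ⟨Nat.prime_two⟩
  rcases surj_three 2 (le_refl 3) α with ⟨A, σ, rfl⟩ | ⟨A, σ, rfl⟩
  · left
    have hc : ∀ c : F, (A : Matrix (Fin 3) (Fin 3) F) * single 0 2 (σ c) =
        single 0 2 c * (A : Matrix (Fin 3) (Fin 3) F) := by
      intro c
      have h := hz c
      rw [zc, lift_pr, MulAut.mul_apply, fld_transvection] at h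
      exact cj_transvection_eq h
    obtain ⟨g1, g2, g3⟩ := shape_one (hc 1)
    rw [map_one, mul_one, one_mul] at g1
    rw [map_one, mul_one] at g2 g3
    have hA0 : A.1 0 0 ≠ 0 := by
      intro h0
      apply det_ne A
      rw [det_fin_three]
      have e1 : (A : Matrix (Fin 3) (Fin 3) F) 0 0 = 0 := h0
      have e2 : (A : Matrix (Fin 3) (Fin 3) F) 1 0 = 0 := g2
      have e3 : (A : Matrix (Fin 3) (Fin 3) F) 2 0 = 0 := g3
      rw [e1, e2, e3]
      ring
    have hσ : σ = 1 := by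
      apply RingEquiv.ext
      intro c
      obtain ⟨f1, -, -⟩ := shape_one (hc c)
      rw [← g1, mul_comm c] at f1
      exact mul_left_cancel₀ hA0 f1
    subst hσ
    rw [map_one, mul_one] at h2 ⊢
    rw [← map_mul, ← map_mul] at h2
    obtain ⟨⟨r, hr⟩, -⟩ := injective_aux (C := A * A) (σ := 1) (τ := 1) (by
      rw [map_one, mul_one, h2, map_one])
    -- scale
    have hdet : (A : Matrix (Fin 3) (Fin 3) F).det ^ 2 = r ^ 3 := by
      have h5 := congrArg Matrix.det hr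
      rw [Units.val_mul, det_mul, scalar_apply, det_diagonal, Finset.prod_const,
        Finset.card_univ, Fintype.card_fin] at h5
      rw [pow_two, ← h5]
    have hr0 : r ≠ 0 := by
      rintro rfl
      rw [zero_pow (by norm_num)] at hdet
      exact det_ne A (pow_eq_zero_iff (by norm_num) |>.1 hdet)
    set μ : F := r ^ 2 with hμ
    have hμ2 : μ * μ = r := by rw [hμ, ← pow_add]; exact h4 r
    have hμ0 : μ ≠ 0 := pow_ne_zero 2 hr0
    let u : Fˣ := (Units.mk0 μ hμ0)⁻¹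
    let B : GL (Fin 3) F := Matrix.GeneralLinearGroup.scalar (Fin 3) u * A
    have hcjB : cj B = cj A := by
      rw [map_mul, cj_eq_one_of_scalar (C := Matrix.GeneralLinearGroup.scalar (Fin 3) u)
        (r := (u : F)) rfl, one_mul]
    have hBdet : (B : Matrix (Fin 3) (Fin 3) F).det = 1 := by
      have h5 : (B : Matrix (Fin 3) (Fin 3) F).det = μ⁻¹ ^ 3 * (A : Matrix (Fin 3) (Fin 3) F).det := by
        change (scalar (Fin 3) (u : F) * (A : Matrix (Fin 3) (Fin 3) F)).det = _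
        rw [det_mul, scalar_apply, det_diagonal, Finset.prod_const, Finset.card_univ,
          Fintype.card_fin]
        rfl
      have h6 : (B : Matrix (Fin 3) (Fin 3) F).det ^ 2 = 1 := by
        rw [h5, mul_pow, hdet, ← hμ2]
        field_simp
      have h7 : ((B : Matrix (Fin 3) (Fin 3) F).det + 1) ^ 2 = 0 := by
        rw [CharTwo.add_sq, h6, one_pow, CharTwo.add_self_eq_zero]
      have h8 := (pow_eq_zero_iff (by norm_num)).1 h7
      exact CharTwo.add_eq_zero.1 h8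
    refine ⟨pr (mkSL B hBdet), ?_⟩
    rw [← hcjB, lift_cj_of_det hBdet]
  · right
    have hc : ∀ c : F, (A : Matrix (Fin 3) (Fin 3) F) * single 2 0 (σ c) =
        single 0 2 c * (A : Matrix (Fin 3) (Fin 3) F) := by
      intro c
      have h := hz c
      rw [zc, lift_pr, MulAut.mul_apply, MulAut.mul_apply, itr_transvection, fld_transvection,
        CharTwo.neg_eq] at h
      exact cj_transvection_eq h
    obtain ⟨g1, g2, g3, g4⟩ := shape_two (hc 1)
    rw [map_one, mul_one, one_mul] at g1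
    rw [map_one, mul_one] at g2 g3
    rw [one_mul] at g4
    have hA0 : A.1 0 2 ≠ 0 := by
      intro h0
      apply det_ne A
      rw [det_fin_three]
      have e1 : (A : Matrix (Fin 3) (Fin 3) F) 0 2 = 0 := h0
      have e2 : (A : Matrix (Fin 3) (Fin 3) F) 1 2 = 0 := g2
      have e3 : (A : Matrix (Fin 3) (Fin 3) F) 2 2 = 0 := g3
      rw [e1, e2, e3]
      ring
    have hσ : σ = 1 := by
      apply RingEquiv.ext
      intro c
      obtain ⟨f1, -, -, -⟩ := shape_two (hc c)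
      rw [← g1, mul_comm c] at f1
      exact mul_left_cancel₀ hA0 f1
    subst hσ
    rw [map_one, mul_one] at h2 ⊢
    -- `A` is symmetric
    let At : GL (Fin 3) F := Matrix.GeneralLinearGroup.mkOfDetNeZero
      (A : Matrix (Fin 3) (Fin 3) F)ᵀ (by rw [det_transpose]; exact det_ne A)
    have hconj : (cj A * itr) * (cj A * itr) = cj (A * At⁻¹) := by
      apply MulEquiv.ext
      intro x
      have hAt : (At : Matrix (Fin 3) (Fin 3) F) = (A : Matrix (Fin 3) (Fin 3) F)ᵀ := rfl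
      have hAti : ((At⁻¹ : GL (Fin 3) F) : Matrix (Fin 3) (Fin 3) F) =
          ((A⁻¹ : GL (Fin 3) F) : Matrix (Fin 3) (Fin 3) F)ᵀ := by
        have h5 : (At : Matrix (Fin 3) (Fin 3) F) * ((A⁻¹ : GL (Fin 3) F) : Matrix (Fin 3) (Fin 3) F)ᵀ = 1 := by
          rw [hAt, ← transpose_mul, ← Units.val_mul, inv_mul_cancel, Units.val_one, transpose_one]
        have h6 : ((At⁻¹ : GL (Fin 3) F) : Matrix (Fin 3) (Fin 3) F) * (At : Matrix (Fin 3) (Fin 3) F) = 1 := by
          rw [← Units.val_mul, inv_mul_cancel, Units.val_one]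
        calc ((At⁻¹ : GL (Fin 3) F) : Matrix (Fin 3) (Fin 3) F) =
            ((At⁻¹ : GL (Fin 3) F) : Matrix (Fin 3) (Fin 3) F) * ((At : Matrix (Fin 3) (Fin 3) F) *
              ((A⁻¹ : GL (Fin 3) F) : Matrix (Fin 3) (Fin 3) F)ᵀ) := by rw [h5, mul_one]
          _ = _ := by rw [← mul_assoc, h6, one_mul]
      rw [map_mul cj, MulAut.mul_apply, MulAut.mul_apply, MulAut.mul_apply, MulAut.mul_apply]
      congr 1
      apply Subtype.ext
      change (itr (cj A (itr x)) : Matrix (Fin 3) (Fin 3) F) = (cj At⁻¹ x : Matrix (Fin 3) (Fin 3) F)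
      rw [coe_itr_cj, coe_cj, inv_inv, hAti, hAt]
      have h7 : itr (itr x) = x := by
        have := congrArg (fun f => f x) (itr_mul_itr (ι := Fin 3) (F := F))
        exact this
      rw [h7]
    rw [← map_mul, hconj] at h2
    obtain ⟨⟨r, hr⟩, -⟩ := injective_aux (C := A * At⁻¹) (σ := 1) (τ := 1) (by
      rw [map_one, mul_one, h2, map_one])
    have hsym : (A : Matrix (Fin 3) (Fin 3) F) = scalar (Fin 3) r * (A : Matrix (Fin 3) (Fin 3) F)ᵀ := by
      rw [hr, Units.val_mul, mul_assoc]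
      change _ = (A : Matrix (Fin 3) (Fin 3) F) * (((At⁻¹ : GL (Fin 3) F) : Matrix (Fin 3) (Fin 3) F) *
        (At : Matrix (Fin 3) (Fin 3) F))
      rw [← Units.val_mul, inv_mul_cancel, Units.val_one, mul_one]
    have hr1 : r = 1 := by
      have h5 := congrFun (congrFun hsym 0) 2
      rw [scalar_apply, diagonal_mul, transpose_apply] at h5
      have e1 : (A : Matrix (Fin 3) (Fin 3) F) 2 0 = (A : Matrix (Fin 3) (Fin 3) F) 0 2 := g1.symm
      rw [e1] at h5
      exact (mul_eq_right₀ hA0).1 h5.symm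
    rw [hr1, map_one, one_mul] at hsym
    have h11 : (A : Matrix (Fin 3) (Fin 3) F) 1 1 ≠ 0 := by
      intro h0
      apply det_ne A
      rw [det_fin_three]
      have e1 : (A : Matrix (Fin 3) (Fin 3) F) 2 1 = 0 := g4.symm
      have e2 : (A : Matrix (Fin 3) (Fin 3) F) 1 2 = 0 := g2
      have e3 : (A : Matrix (Fin 3) (Fin 3) F) 2 2 = 0 := g3
      rw [e1, e2, e3, h0]
      ring
    obtain ⟨P, hP⟩ := exists_P h4 hsym.symm g2 g3 hA0 h11
    refine ⟨P, fun g => ?_⟩
    rw [lift_pr, MulAut.mul_apply, cj_itr hP (Mx_itr g)]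

end Cfsg.Agent.StdL2.PslGraph
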