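import Cfsg.Agent.ONType.CzMain
import Cfsg.Agent.StdL2.PslGraph
import Cfsg.Agent.StdL2.ExcFLift

/-!
# An automorphism inverting `T` of the centraliser of an involution of O'Nan type

`H = C_G(z)` in a group of O'Nan type, `φ` an automorphism of order two of `H` which inverts `T`.  Then the
fixed points of `φ` are not solvable.
-/

set_option autoImplicit false
set_option linter.unusedSectionVars false

namespace Cfsg.Agent.StdL2.ExcFix

open Subgroup Cfsg.Agent.ONType.Cz Cfsg.Agent.Lib.FieldFour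
open Cfsg.Agent.TypeL3 Cfsg.Agent.TypeL3.Local
open Cfsg.Agent.ClassicalGeometry.AutPSL.Root
open Cfsg.Agent.ClassicalGeometry.AutPSL.Auto
open Cfsg.Agent.ClassicalGeometry.AutPSL.SylowU
open Cfsg.Agent.StdL2.PslGraph

universe u

instance charP_two : CharP F4 2 :=
  CharTwo.of_one_ne_zero_of_two_eq_zero (by decide) (by decide)

theorem pow_four (x : F4) : x ^ 4 = x := by revert x; decide

/-- `PSL(3,4)` -/
abbrev L34 : Type := Matrix.ProjectiveSpecialLinearGroup (Fin 3) F4

/-- the restriction of an involutory automorphism to an invariant subgroup -/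
def restr {X : Type*} [Group X] {Y : Subgroup X} (ψ : MulAut X) (h2 : ψ * ψ = 1)
    (hY : ∀ y ∈ Y, ψ y ∈ Y) : MulAut Y where
  toFun y := ⟨ψ y, hY y y.2⟩
  invFun y := ⟨ψ y, hY y y.2⟩
  left_inv y := Subtype.ext (congrArg (fun e : MulAut X => e (y : X)) h2)
  right_inv y := Subtype.ext (congrArg (fun e : MulAut X => e (y : X)) h2)
  map_mul' a b := Subtype.ext (map_mul ψ (a : X) (b : X))

/-- the automorphism induced on a quotient -/
theorem exists_induced {X M : Type*} [Group X] [Group M] {f : X →* M} (hf : Function.Surjective f)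
    (φ : MulAut X) (hφ : ∀ x, f x = 1 → f (φ x) = 1) (h2 : φ * φ = 1) :
    ∃ ψ : MulAut M, ψ * ψ = 1 ∧ ∀ x, ψ (f x) = f (φ x) := by
  have h2' : ∀ x, φ (φ x) = x := fun x => congrArg (fun e : MulAut X => e x) h2
  have key : ∀ x y, f x = f y → f (φ x) = f (φ y) := by
    intro x y h
    have h1 : f (x⁻¹ * y) = 1 := by rw [map_mul, map_inv, h, inv_mul_cancel]
    have h3 := hφ _ h1
    rw [map_mul, map_mul, map_inv, map_inv, inv_mul_eq_one] at h3
    exact h3
  let g : M → M := fun m => f (φ (hf m).choose)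
  have hg : ∀ x, g (f x) = f (φ x) := fun x => key _ _ (hf (f x)).choose_spec
  have hgg : ∀ m, g (g m) = m := by
    intro m
    obtain ⟨x, rfl⟩ := hf m
    calc g (g (f x)) = g (f (φ x)) := congrArg g (hg x)
      _ = f (φ (φ x)) := hg _
      _ = f x := by rw [h2']
  let ψ : MulAut M :=
    { toFun := g
      invFun := g
      left_inv := hgg
      right_inv := hgg
      map_mul' := by
        intro a b
        obtain ⟨x, rfl⟩ := hf a
        obtain ⟨y, rfl⟩ := hf b
        show g (f x * f y) = g (f x) * g (f y)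
        rw [← map_mul, hg, hg, hg, map_mul, map_mul] }
  exact ⟨ψ, MulEquiv.ext hgg, hg⟩

/-- The root group is the image of the centre of a Sylow 2-subgroup. -/
theorem exists_iso {Y : Type*} [Group Y] [Finite Y] (π : Y →* L34) (hπ : Function.Surjective π)
    (P : Sylow 2 Y) (g : Fin 2 × Fin 2 → Y) (hg : ∀ i, g i ∈ (P : Subgroup Y))
    (hc : ∀ i, ∀ p ∈ (P : Subgroup Y), π (p * g i) = π (g i * p))
    (hinj : ∀ i j, π (g i) = π (g j) → i = j) :
    ∃ κ : MulAut L34, ∀ c : F4, ∃ i, κ (π (g i)) = zc c := by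
  have : Fact (Nat.Prime 2) := ⟨Nat.prime_two⟩
  obtain ⟨U, hU⟩ := exists_sylow (F := F4) 3 2
  obtain ⟨a, ha⟩ := MulAction.exists_smul_eq L34 (P.mapSurjective hπ) U
  refine ⟨MulAut.conj a, ?_⟩
  have hPU : ∀ p ∈ (P : Subgroup Y), MulAut.conj a (π p) ∈ (upper 3 F4).map pr := by
    intro p hp
    rw [← hU, ← ha, Sylow.coe_subgroup_smul]
    exact Subgroup.smul_mem_pointwise_smul _ _ _ (by
      rw [Sylow.coe_mapSurjective]
      exact mem_map_of_mem π hp)
  have hUP : ∀ u ∈ (upper 3 F4).map pr, ∃ p ∈ (P : Subgroup Y), MulAut.conj a (π p) = u := by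
    intro u hu
    rw [← hU, ← ha, Sylow.coe_subgroup_smul, Sylow.coe_mapSurjective] at hu
    obtain ⟨_, ⟨p, hp, rfl⟩, h⟩ := hu
    exact ⟨p, hp, h⟩
  have h1 : ∀ i, ∃ c : F4, MulAut.conj a (π (g i)) = zc c := by
    intro i
    obtain ⟨z, hz, hz1⟩ := hPU _ (hg i)
    obtain ⟨c, hc1⟩ := eq_transvection_of_commute (i0 := (0 : Fin 3)) (j0 := 2) (by decide)
      (by decide) (by decide) hz (by
        intro u hu
        obtain ⟨p, hp, hp1⟩ := hUP (pr u) (mem_map_of_mem _ hu)
        rw [← hp1, hz1, ← map_mul, ← map_mul, ← map_mul, ← map_mul, hc i p hp])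
    refine ⟨c, ?_⟩
    rw [← hz1, hc1]
    rfl
  choose c hc1 using h1
  have hcinj : Function.Injective c := by
    intro i j h
    apply hinj
    apply (MulAut.conj a).injective
    rw [hc1, hc1, h]
  have hcbij : Function.Bijective c := by
    rw [Fintype.bijective_iff_injective_and_card]
    exact ⟨hcinj, by rw [F4.card]; rfl⟩
  intro x
  obtain ⟨i, hi⟩ := hcbij.2 x
  exact ⟨i, by rw [hc1, hi]⟩

section X

variable {X : Type u} [Group X] [Finite X] {T : Subgroup X} {S : Sylow 2 X} {τ : ℤ → ℤ → ℤ → X}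
  {x1 x2 x3 s ξ h : X}

/-- The statement in `X = H/O(H)`, where `Y = C_X(τ 1 1 1)`. -/
theorem not_solvable_core (R : Rel 4 T (S : Subgroup X) τ x1 x2 x3 s) {Y : Subgroup X}
    (hmY : ∀ y, y ∈ Y ↔ y ∈ centralizer ({τ 1 1 1} : Set X)) (O : XOut S τ x3 s Y)
    (P : Sylow 2 Y)
    (hP : (P : Subgroup Y) = ((S : Subgroup X) ⊓ centralizer ({τ 1 1 1} : Set X)).subgroupOf Y)
    {ψ : MulAut X} (h2 : ψ * ψ = 1)
    (hT : ∀ y ∈ T, ψ y = y⁻¹) : ¬ Group.IsSolvable (fix ψ) := by
  intro hsol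
  have hτ : ∀ a b c, ψ (τ a b c) = τ (-a) (-b) (-c) := by
    intro a b c
    rw [hT _ (R.τ_mem a b c), R.τ_inv]
  -- `Y`
  have hY : ∀ y ∈ Y, ψ y ∈ Y := by
    intro y hy
    rw [hmY, mem_centralizer_singleton_iff] at hy ⊢
    have h3 : ψ y * (τ 1 1 1)⁻¹ = (τ 1 1 1)⁻¹ * ψ y := by
      rw [R.v_inv, ← hτ, ← map_mul, ← map_mul, hy]
    have h4 : Commute (ψ y) (τ 1 1 1)⁻¹ := h3
    exact (Commute.inv_right_iff.1 h4).eq
  let φ : MulAut Y := restr ψ h2 hY
  have hφ : ∀ y : Y, ((φ y : Y) : X) = ψ y := fun y => rfl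
  have hφ2 : φ * φ = 1 := by
    apply MulEquiv.ext
    intro y
    exact Subtype.ext (congrArg (fun e : MulAut X => e (y : X)) h2)
  -- the elements of `P`
  have hTY : ∀ a b c, τ a b c ∈ Y := fun a b c => (hmY _).2 ((R.mem_P _).2 ⟨a, b, c, Or.inl rfl⟩).2
  have hmP : ∀ y : Y, y ∈ (P : Subgroup Y) ↔ (y : X) ∈ (S : Subgroup X) ⊓ centralizer ({τ 1 1 1} : Set X) := by
    intro y
    rw [hP, mem_subgroupOf]
  -- the centre
  let v : Y := ⟨τ 1 1 1, hTY 1 1 1⟩
  have hvc : ∀ y : Y, v * y = y * v := by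
    intro y
    exact Subtype.ext (mem_centralizer_singleton_iff.1 ((hmY _).1 y.2)).symm
  have hvz : v ∈ center Y := by
    rw [mem_center_iff]
    exact fun y => (hvc y).symm
  have hvpow : ∀ k : ℤ, ((v ^ k : Y) : X) = τ k k k := by
    have hnat : ∀ n : ℕ, τ 1 1 1 ^ n = τ n n n := by
      intro n
      induction n with
      | zero =>
        rw [pow_zero]
        exact R.τ_zero.symm
      | succ n ih =>
        rw [pow_succ, ih, R.mul]
        push_cast
        rfl
    intro k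
    rw [Subgroup.coe_zpow]
    obtain ⟨n, rfl | rfl⟩ := Int.eq_nat_or_neg k
    · rw [zpow_natCast]
      exact hnat n
    · rw [zpow_neg, zpow_natCast, ← R.τ_inv]
      exact congrArg _ (hnat n)
  have hvord : orderOf v = 4 := by
    have h4 : v ^ 4 = 1 := by
      apply Subtype.ext
      have := hvpow 4
      rw [show (4 : ℤ) = ((4 : ℕ) : ℤ) by norm_num, zpow_natCast] at this
      rw [this]
      exact (R.one _ _ _).2 (by norm_num)
    have h5 : ¬ v ^ 2 = 1 := by
      intro h5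
      have := hvpow 2
      rw [show (2 : ℤ) = ((2 : ℕ) : ℤ) by norm_num, zpow_natCast, h5] at this
      have h6 := (R.one 2 2 2).1 this.symm
      omega
    exact orderOf_eq_prime_pow (p := 2) (n := 1) (by simpa using h5) (by simpa using h4)
  have hcenter : ∀ y : Y, y ∈ center Y ↔ ∃ k : ℤ, (y : X) = τ k k k := by
    have h3 : zpowers v = center Y := by
      apply Subgroup.eq_of_le_of_card_ge
      · rw [zpowers_le]
        exact hvz
      · rw [Nat.card_zpowers, hvord, O.card]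
    intro y
    rw [← h3, mem_zpowers_iff]
    constructor
    · rintro ⟨k, rfl⟩
      exact ⟨k, hvpow k⟩
    · rintro ⟨k, hk⟩
      exact ⟨k, Subtype.ext ((hvpow k).trans hk.symm)⟩
  -- the quotient
  obtain ⟨e⟩ := O.psl
  let π0 : Y →* L34 := e.toMonoidHom.comp (QuotientGroup.mk' (center Y))
  have hπ0 : Function.Surjective π0 := e.surjective.comp (QuotientGroup.mk'_surjective _)
  have hker0 : ∀ y, π0 y = 1 ↔ y ∈ center Y := by
    intro y
    show e (QuotientGroup.mk' (center Y) y) = 1 ↔ _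
    rw [map_eq_one_iff e e.injective]
    exact QuotientGroup.eq_one_iff y
  -- the root group
  let g : Fin 2 × Fin 2 → Y := fun i => ⟨τ (2 * (i.1 : ℕ)) (2 * (i.2 : ℕ)) 0, hTY _ _ _⟩
  obtain ⟨κ, hκ⟩ := exists_iso π0 hπ0 P g
    (by
      intro i
      rw [hmP]
      exact (R.mem_P _).2 ⟨_, _, _, Or.inl rfl⟩)
    (by
      intro i p hp
      have hcen : ∀ k : ℤ, ∀ w : Y, (w : X) = τ k k k → π0 w = 1 := fun k w hw =>
        (hker0 w).2 ((hcenter w).2 ⟨k, hw⟩)
      obtain ⟨a, b, c, hp1⟩ := (R.mem_P _).1 ((hmP p).1 hp)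
      obtain ⟨k, hk⟩ : ∃ k : ℤ, (p * g i : X) = τ k k k * (g i * p) := by
        show ∃ k : ℤ, (p : X) * τ (2 * (i.1 : ℕ)) (2 * (i.2 : ℕ)) 0 =
          τ k k k * (τ (2 * (i.1 : ℕ)) (2 * (i.2 : ℕ)) 0 * p)
        generalize ((i.1 : ℕ) : ℤ) = m
        generalize ((i.2 : ℕ) : ℤ) = n
        rcases hp1 with hp1 | hp1 | hp1 | hp1
        · refine ⟨0, ?_⟩
          rw [hp1, R.τ_zero, one_mul, R.τ_comm]
        · refine ⟨2 * (n - m), ?_⟩
          rw [hp1, mul_assoc, R.x1_t, ← mul_assoc, ← mul_assoc, ← mul_assoc, R.mul, R.mul, R.mul,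
            mul_left_inj, R.τ_eq]
          omega
        · refine ⟨2 * m, ?_⟩
          rw [hp1, mul_assoc, R.x2_t, ← mul_assoc, ← mul_assoc, ← mul_assoc, R.mul, R.mul, R.mul,
            mul_left_inj, R.τ_eq]
          omega
        · refine ⟨2 * n, ?_⟩
          rw [hp1, mul_assoc, R.x3_t, ← mul_assoc, ← mul_assoc, ← mul_assoc, R.mul, R.mul, R.mul,
            mul_left_inj, R.τ_eq]
          omega
      have h3 : p * g i = ⟨τ k k k, hTY _ _ _⟩ * (g i * p) := Subtype.ext hk
      rw [h3, map_mul, hcen k _ rfl, one_mul])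
    (by
      intro i j hij
      have h3 : π0 (g i * (g j)⁻¹) = 1 := by rw [map_mul, map_inv, hij, mul_inv_cancel]
      rw [hker0, hcenter] at h3
      obtain ⟨k, hk⟩ := h3
      have h4 : ((g i * (g j)⁻¹ : Y) : X) = τ (2 * (i.1 : ℕ)) (2 * (i.2 : ℕ)) 0 *
        (τ (2 * (j.1 : ℕ)) (2 * (j.2 : ℕ)) 0)⁻¹ := rfl
      rw [h4, R.τ_inv, R.mul, R.τ_eq] at hk
      have a1 := i.1.2
      have a2 := i.2.2
      have a3 := j.1.2
      have a4 := j.2.2
      apply Prod.ext <;> apply Fin.ext <;> omega)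
  let π : Y →* L34 := κ.toMonoidHom.comp π0
  have hπ : Function.Surjective π := κ.surjective.comp hπ0
  have hker : ∀ y, π y = 1 ↔ y ∈ center Y := by
    intro y
    show κ (π0 y) = 1 ↔ _
    rw [map_eq_one_iff κ κ.injective, hker0]
  have hk : ∀ y, π y = 1 → ∀ y', y * y' = y' * y := by
    intro y hy y'
    exact ((mem_center_iff.1 ((hker y).1 hy)) y').symm
  obtain ⟨α, hα2, hα⟩ := exists_induced hπ φ (by
    intro y hy
    rw [hker, hcenter] at hy ⊢
    obtain ⟨k, hk⟩ := hy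
    exact ⟨-k, by rw [hφ, hk, hτ]⟩) hφ2
  have hz : ∀ c, α (zc c) = zc c := by
    intro c
    obtain ⟨i, hi⟩ := hκ c
    have h3 : π (g i) = zc c := hi
    rw [← h3, hα]
    congr 1
    apply Subtype.ext
    rw [hφ]
    show ψ (τ _ _ _) = τ _ _ _
    rw [hτ, R.τ_eq]
    omega
  rcases inner_or_graph pow_four α hα2 hz with ⟨a, ha⟩ | ⟨Pm, hPm⟩
  · have h3 := fix_center (O.perf) hπ hk hα ha (v := v) hvc
    have h4 : τ (-1) (-1) (-1) = τ 1 1 1 := by
      have h5 := congrArg Subtype.val h3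
      rw [hφ] at h5
      rw [← hτ]
      exact h5
    rw [R.τ_eq] at h4
    omega
  · refine not_solvable hπ hk hα
      (Cfsg.Agent.TwoFusion.SLTwoFacts.commutator_eq_top (F := F4) (by rw [F4.card]; norm_num))
      ((pr.comp (cj Pm).toMonoidHom).comp blk) hPm (blk_nontrivial Pm) ?_
    -- solvable
    have h3 : (fix φ).map Y.subtype ≤ fix ψ := by
      rintro _ ⟨y, hy, rfl⟩
      exact congrArg Subtype.val (show φ y = y from hy)
    have h4 : Group.IsSolvable ((fix φ).map Y.subtype) :=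
      Group.isSolvable_of_isSolvable_injective (f := Subgroup.inclusion h3) (Subgroup.inclusion_injective h3)
    exact Group.isSolvable_of_isSolvable_injective
      (f := ((fix φ).equivMapOfInjective Y.subtype Y.subtype_injective).toMonoidHom)
      (MulEquiv.injective _)

/-- The statement in `X = H/O(H)`. -/
theorem not_solvable_X (h1169 : H1169.{u}) (h1171 : H1171.{u}) (h1296 : H1296.{u})
    (D : XIn T S τ x1 x2 x3 s ξ h) {ψ : MulAut X} (h2 : ψ * ψ = 1)
    (hT : ∀ y ∈ T, ψ y = y⁻¹) : ¬ Group.IsSolvable (fix ψ) := by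
  obtain ⟨P, hP⟩ := D.exists_sylow
  exact not_solvable_core D.rel (fun _ => Iff.rfl) (D.xout h1169 h1171 h1296) P hP h2 hT

end X

section H

variable {H : Type u} [Group H] [Finite H] {T : Subgroup H} {S : Sylow 2 H} {τ : ℤ → ℤ → ℤ → H}
  {x1 x2 x3 s ξ h : H}

/-- **The fixed points are not solvable.** -/
theorem not_solvable_H (h1169 : H1169.{u}) (h1171 : H1171.{u}) (h1296 : H1296.{u})
    (D : In T S τ x1 x2 x3 s ξ h) {φ : MulAut H} (h2 : φ * φ = 1)
    (hT : ∀ y ∈ T, φ y = y⁻¹) : ¬ Group.IsSolvable (fix φ) := by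
  intro hsol
  let f := QuotientGroup.mk' (Cfsg.oddCore H)
  have hf : Function.Surjective f := QuotientGroup.mk'_surjective _
  have hker : f.ker = Cfsg.oddCore H := QuotientGroup.ker_mk' _
  have DX := D.toX f hf hker
  obtain ⟨ψ, hψ2, hψ⟩ := exists_induced hf φ (by
    intro x hx
    have h3 : x ∈ Cfsg.oddCore H := by rw [← hker]; exact hx
    have h4 : φ x ∈ Cfsg.oddCore H := by
      have e := Cfsg.Agent.Lib.Cores.map_equiv_pPrimeCore φ 2
      show φ x ∈ Cfsg.pPrimeCore 2 H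
      rw [← e]
      exact mem_map_of_mem _ h3
    rw [← hker] at h4
    exact h4) h2
  refine not_solvable_X h1169 h1171 h1296 DX hψ2 ?_ ?_
  · rintro _ ⟨y, hy, rfl⟩
    rw [hψ, hT y hy, map_inv]
  · have hodd : Odd (Nat.card f.ker) := by
      rw [hker, ← Nat.coprime_two_right]
      exact Cfsg.Agent.Lib.Cores.pPrimeCore_coprime 2
    have h3 := fix_map hf hodd h2 hψ
    have h4 : Group.IsSolvable ((fix φ).map f) :=
      Group.isSolvable_of_surjective (f := f.subgroupMap (fix φ)) (MonoidHom.subgroupMap_surjective _ _)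
    exact Group.isSolvable_of_isSolvable_injective (f := Subgroup.inclusion h3) (Subgroup.inclusion_injective h3)

end H

end Cfsg.Agent.StdL2.ExcFix
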