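import Cfsg.Agent.StdL2.ExcNo16
import Cfsg.Agent.StdL2.Ends
import Cfsg.Agent.ONType.Sit

/-!
# The exceptional case above the bottom of the tower: the input of the O'Nan type theorem

Either `L` is of Lie type in characteristic two (Bender), or the Sylow 2-subgroups of `L` satisfy `Sit.Frame`.
-/

set_option autoImplicit false
set_option linter.unusedSectionVars false
set_option linter.style.haveILetI false

namespace Cfsg.Agent.StdL2

open scoped commutatorElement

open G23Aut G23Loc G23Coset Cfsg.Agent.StdL2.Setup Cfsg.Agent.StdL2.Assemble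
open Cfsg.Agent.ONType.Span Cfsg.Agent.ONType.Sit

universe u

/-- The statement S1169. -/
def S1169Stmt : Prop :=
  ∀ (G : Type u) [Group G] [Finite G] [IsSimpleGroup G] (S : Sylow 2 G) (A : Subgroup G), A ≠ ⊥ →
    IsMulCommutative A → Cfsg.IsStronglyClosed A (S : Subgroup G) →
    IsMulCommutative (S : Subgroup G) ∨ ∃ H : Subgroup G, Cfsg.IsStronglyEmbedded H

/-- The statement S0222. -/
def S0222Stmt : Prop :=
  ∀ (G : Type u) [Group G] [Finite G] [IsSimpleGroup G], (∃ a b : G, a * b ≠ b * a) →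
    ∀ (H : Subgroup G), Cfsg.IsStronglyEmbedded H →
    (∃ (F : Type) (_ : Field F) (_ : Fintype F), CharP F 2 ∧ 4 ≤ Fintype.card F ∧
        Nonempty (G ≃* Matrix.ProjectiveSpecialLinearGroup (Fin 2) F)) ∨ Cfsg.IsSuzuki G ∨
      (∃ (F : Type) (_ : Field F) (_ : Fintype F) (q : ℕ), Fintype.card F = q ^ 2 ∧ Even q ∧ 4 ≤ q ∧
        Nonempty (G ≃* Cfsg.PSU 3 F q))

variable {G : Type u} [Group G] [Finite G] {t d : G} {V W : Subgroup G} {k : ℕ}

/-- `N` induces all automorphisms of `V`. -/
theorem Exc.full (H : TCen t V) (X : Exc t d V W k) : Full (towerN t W) V := by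
  have hO := X.octV H
  have hN : towerN t W ≤ Subgroup.normalizer (V : Set G) := fun x hx => norm_V X.lv hx.1
  rw [full_iff hN]
  haveI := hO.finite_aut
  apply Subgroup.eq_top_of_card_eq
  rw [hO.card_aut]
  have h1 := card_img_mul hN
  have h2 := ((Subgroup.centralizer (V : Set G)).subgroupOf (towerN t W)).card_mul_index
  have h3 : ((Subgroup.centralizer (V : Set G)).subgroupOf (towerN t W)).index = 168 := X.idx
  rw [h3, card_inf_eq, inf_comm] at h2
  have h4 : 0 < Nat.card (towerN t W ⊓ Subgroup.centralizer (V : Set G) : Subgroup G) := Nat.card_pos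
  nlinarith

theorem bas_of_indep {a b c : G} (ha : a ∈ V) (hb : b ∈ V) (hc : c ∈ V) (h : Indep a b c) :
    Bas V a b c := by
  obtain ⟨h1, h2, h3, h4, h5, h6, h7⟩ := h
  exact ⟨ha, hb, hc, h1, h2, h3, h4, h5, h6, h7⟩

theorem mem_or {L A : Subgroup G} (C : Conf L A t) (g : G) : g ∈ L ∨ t * g ∈ L := by
  have hn := C.normal
  have hg : g ∈ L ⊔ Subgroup.zpowers t := by rw [C.gen]; exact Subgroup.mem_top g
  rw [sup_comm] at hg
  obtain ⟨z, hz, l, hl, rfl⟩ := Subgroup.mem_sup_of_normal_right.1 hg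
  obtain ⟨n, rfl⟩ := Subgroup.mem_zpowers_iff.1 hz
  have ht2 : t * t = 1 := Ends.sq_eq_one C
  rcases Int.even_or_odd' n with ⟨k, rfl | rfl⟩
  · left
    rw [zpow_even ht2, one_mul]
    exact hl
  · right
    rw [zpow_odd ht2, ← mul_assoc, ht2, one_mul]
    exact hl

/-- `t` is outside `L`, and the intersection of `L` with the Sylow 2-subgroup. -/
theorem Exc.base {L A : Subgroup G} (C : Conf L A t) (H : TCen t V) (X : Exc t d V W k)
    (hk : 1 ≤ k) : t ∉ L ∧ W ≤ L ∧ ∃ S : Subgroup G, X.ES S ∧ ∃ SL : Sylow 2 L,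
      (SL : Subgroup L) = S.subgroupOf L ∧ Nat.card (SL : Subgroup L) = 8 * Nat.card W := by
  obtain ⟨S, hS⟩ := X.exists_ES H
  obtain ⟨R, hR⟩ := hS.sylow H hk
  obtain ⟨U₀, hU, hWU, htU, hidx⟩ := hS.exists_U0 H
  have htL : t ∉ L := Ends.not_mem C R (U := U₀) (by rw [hR]; exact hU) (by rw [hR]; exact hidx)
    (hS.noconj H hk hU hWU htU)
  have hWL : W ≤ L := X.gW.trans (Ends.commutator_le_L C)
  refine ⟨htL, hWL, S, hS, ?_⟩
  obtain ⟨SL, h1, h2⟩ := Ends.exists_sylow C R (U := S ⊓ L) (by rw [hR])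
  refine ⟨SL, ?_, ?_⟩
  · rw [h1]
    ext x
    simp [Subgroup.mem_subgroupOf]
  · rw [h2]
    -- index two
    have h3 : (L.subgroupOf S).index = 2 := by
      rw [Subgroup.index_eq_two_iff]
      refine ⟨⟨t, hS.tS⟩, ?_⟩
      rintro ⟨s, hs⟩
      have h4 : ∀ g : G, g ∈ L ∨ g * t ∈ L := by
        intro g
        have := mem_or C (g⁻¹)
        rcases this with h | h
        · left
          simpa using inv_mem h
        · right
          have h5 := inv_mem h
          rw [mul_inv_rev, inv_inv, inv_eq_of_mul_eq_one_right H.t2] at h5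
          exact h5
      simp only [Subgroup.mem_subgroupOf]
      show Xor (s * t ∈ L) (s ∈ L)
      rcases h4 s with h | h
      · right
        refine ⟨h, fun h6 => htL ?_⟩
        have h7 : t = s⁻¹ * (s * t) := by group
        rw [h7]
        exact mul_mem (inv_mem h) h6
      · left
        refine ⟨h, fun h6 => htL ?_⟩
        have h7 : t = s⁻¹ * (s * t) := by group
        rw [h7]
        exact mul_mem (inv_mem h6) h
    have h5 := (L.subgroupOf S).card_mul_index
    rw [h3, card_inf_eq, inf_comm, hS.card H] at h5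
    omega

/-- **The input of the O'Nan type theorem.** -/
theorem Exc.frame (h1169 : S1169Stmt.{u}) (h0222 : S0222Stmt.{u}) {L A : Subgroup G}
    (C : Conf L A t) (h3A : 3 ∣ Nat.card A) (H : TCen t V) (X : Exc t d V W k) (hk : 1 ≤ k) :
    Lie2 ↥L ∨ ∃ S : Subgroup G, X.ES S ∧ ∃ SL : Sylow 2 L,
      (SL : Subgroup L) = S.subgroupOf L ∧ Frame (k + 1) SL (W.subgroupOf L) := by
  have L' := X.lv
  have hO := X.octV H
  obtain ⟨htL, hWL, S, hS, SL, hSL, hcard⟩ := X.base C H hk
  have hn := C.normal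
  have hs := C.simple
  have mSL : ∀ x : L, x ∈ (SL : Subgroup L) ↔ (x : G) ∈ S := by
    intro x
    rw [hSL, Subgroup.mem_subgroupOf]
  have cW : Nat.card W = 8 ^ (k + 1) := by rw [L'.card_W, X.oct]
  have mT : ∀ x : L, x ∈ W.subgroupOf L ↔ (x : G) ∈ W := fun x => Subgroup.mem_subgroupOf
  -- involutions of `T`
  have mV : ∀ x : L, x ∈ W.subgroupOf L → x * x = 1 → (x : G) ∈ V := by
    intro x hx h
    exact L'.om x hx (congrArg Subtype.val h)
  have selfc : ∀ g ∈ (SL : Subgroup L), (∀ x ∈ W.subgroupOf L, x * x = 1 → g * x = x * g) →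
      g ∈ W.subgroupOf L := by
    intro g hg h
    rw [mT]
    have h1 : ∀ v ∈ V, (g : G) * v * (g : G)⁻¹ = v := by
      intro v hv
      have h2 := h ⟨v, hWL (L'.VW hv)⟩ (L'.VW hv) (Subtype.ext (H.vsq v hv))
      have h3 : (g : G) * v = v * g := congrArg Subtype.val h2
      rw [h3, mul_inv_cancel_right]
    rcases hS.mem_Q H ((mSL g).1 hg) h1 with h2 | h2
    · exact h2
    · exfalso
      apply htL
      have h3 : t = (t * g) * (g : G)⁻¹ := by group
      rw [h3]
      exact mul_mem (hWL h2) (inv_mem g.2)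
  by_cases hinv : ∃ y ∈ (SL : Subgroup L), y ∉ W.subgroupOf L ∧ y * y = 1
  · right
    refine ⟨S, hS, SL, hSL, ?_⟩
    refine ⟨by omega, ?_, ?_, ?_, ?_, ?_, ?_, ?_, selfc, ?_, hinv, ?_⟩
    · intro x hx
      rw [mSL]
      exact hS.WS hx
    · intro x hx
      apply mem_norm_of_le
      intro w hw
      exact (Subgroup.mem_normalizer_iff.1 (hS.le ((mSL x).1 hx)).1 _).1 hw
    · intro x hx y hy
      exact Subtype.ext (L'.comm _ hx _ hy)
    · rw [Nat.card_congr (Subgroup.subgroupOfEquivOfLe hWL).toEquiv, cW]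
    · rw [hcard, cW]
    · intro x hx
      exact Subtype.ext (L'.pw_succ hx)
    · rw [← X.oct]
      apply Nat.card_le_card_of_injective
        (fun x : {x : L // x ∈ W.subgroupOf L ∧ x * x = 1} => (⟨(x : L), mV x x.2.1 x.2.2⟩ : V))
      intro x y h
      exact Subtype.ext (Subtype.ext (congrArg (fun z : V => (z : G)) h))
    · -- automorphisms
      intro a b c a' b' c' ha ha2 hb hb2 hc hc2 ha' ha2' hb' hb2' hc' hc2' hI hI'
      have ind : ∀ {a b c : L}, Indep a b c → Indep (a : G) (b : G) (c : G) := by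
        rintro a b c ⟨h1, h2, h3, h4, h5, h6, h7⟩
        have e : ∀ {x y : L}, x ≠ y → (x : G) ≠ (y : G) := fun h h' => h (Subtype.ext h')
        exact ⟨e h1, e h2, e h3, e h4, e h5, e h6, e h7⟩
      have B := bas_of_indep (mV a ha ha2) (mV b hb hb2) (mV c hc hc2) (ind hI)
      have B' := bas_of_indep (mV a' ha' ha2') (mV b' hb' hb2') (mV c' hc' hc2') (ind hI')
      obtain ⟨n, hn1, -, g1, g2, g3⟩ := (X.full H).bas hO B B'
      -- into `L`
      obtain ⟨n', hn', hn'L, e1, e2, e3⟩ : ∃ n' ∈ towerN t W, n' ∈ L ∧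
          n' * a * n'⁻¹ = a' ∧ n' * b * n'⁻¹ = b' ∧ n' * c * n'⁻¹ = c' := by
        rcases mem_or C n with h | h
        · exact ⟨n, hn1, h, g1, g2, g3⟩
        · have htN : t ∈ towerN t W := hS.le hS.tS
          have q : ∀ x ∈ V, t * x * t⁻¹ = x := fun x hx => by rw [H.vt x hx, mul_inv_cancel_right]
          refine ⟨t * n, mul_mem htN hn1, h, ?_, ?_, ?_⟩
          · rw [conj_conj, g1, q _ B'.hx]
          · rw [conj_conj, g2, q _ B'.hy]
          · rw [conj_conj, g3, q _ B'.hw]
      refine ⟨⟨n', hn'L⟩, ?_, Subtype.ext e1, Subtype.ext e2, Subtype.ext e3⟩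
      apply mem_norm_of_le
      intro w hw
      exact (Subgroup.mem_normalizer_iff.1 hn'.1 _).1 hw
    · -- no elementary abelian subgroup of order 16
      intro E hE
      have hEp : IsPGroup 2 E := by
        intro x
        refine ⟨1, Subtype.ext ?_⟩
        show (x : L) ^ (2 ^ 1) = 1
        rw [pow_one, pow_two]
        exact hE x x.2
      obtain ⟨P, hP⟩ := hEp.exists_le_sylow
      obtain ⟨g, hg⟩ := MulAction.exists_smul_eq L P SL
      -- the conjugate in `G`
      have h1 : Nat.card E = Nat.card ((E.map (MulAut.conj g).toMonoidHom).map L.subtype) := by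
        rw [Subgroup.card_map_of_injective L.subtype_injective,
          Subgroup.card_map_of_injective (MulAut.conj g).injective]
      rw [h1]
      apply hS.no16 H hk hWL htL
      · rintro _ ⟨_, ⟨x, hx, rfl⟩, rfl⟩
        have h2 : (MulAut.conj g) x ∈ (SL : Subgroup L) := by
          rw [← hg, Sylow.coe_subgroup_smul]
          exact Subgroup.smul_mem_pointwise_smul _ _ _ (hP hx)
        exact (mSL _).1 h2
      · rintro _ ⟨x, _, rfl⟩
        exact x.2
      · rintro _ ⟨_, ⟨x, hx, rfl⟩, rfl⟩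
        have h2 := hE x hx
        have h3 : (MulAut.conj g) x * (MulAut.conj g) x = 1 := by
          rw [← map_mul, h2, map_one]
        exact congrArg Subtype.val h3
  · left
    push Not at hinv
    -- `V` is strongly closed
    have hcomm : IsMulCommutative (V.subgroupOf L) := ⟨⟨fun a b =>
      Subtype.ext (Subtype.ext (hO.comm a.2 b.2))⟩⟩
    have hVL : V ≤ L := L'.VW.trans hWL
    have hne : V.subgroupOf L ≠ ⊥ := by
      intro h
      obtain ⟨s, hs', hs1, -⟩ := exists_two (by rw [X.oct]; norm_num : 4 ≤ Nat.card V) (1 : G)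
      have h2 : (⟨s, hVL hs'⟩ : L) ∈ V.subgroupOf L := hs'
      rw [h, Subgroup.mem_bot] at h2
      exact hs1 (congrArg Subtype.val h2)
    have hsc : Cfsg.IsStronglyClosed (V.subgroupOf L) (SL : Subgroup L) := by
      refine ⟨fun x hx => (mSL x).2 (hS.WS (L'.VW hx)), ?_⟩
      intro x hx g hg
      have h2 : g * x * g⁻¹ * (g * x * g⁻¹) = 1 := by
        have h3 : g * x * g⁻¹ * (g * x * g⁻¹) = g * (x * x) * g⁻¹ := by group
        have h4 : x * x = 1 := Subtype.ext (H.vsq _ hx)
        rw [h3, h4, mul_one, mul_inv_cancel]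
      have h3 : g * x * g⁻¹ ∈ W.subgroupOf L := by
        by_contra h
        exact hinv _ hg h h2
      exact mV _ h3 h2
    have hna : ∃ a b : L, a * b ≠ b * a := by
      by_contra h
      push Not at h
      exact C.not_comm ⟨⟨h⟩⟩
    rcases h1169 L SL (V.subgroupOf L) hne hcomm hsc with h | ⟨M, hM⟩
    · -- the Sylow 2-subgroup is not commutative
      exfalso
      have h1 : (SL : Subgroup L) ≤ W.subgroupOf L := by
        intro g hg
        apply selfc g hg
        intro x hx _
        have h2 := h.is_comm.comm (⟨g, hg⟩ : (SL : Subgroup L)) ⟨x, (mSL x).2 (hS.WS hx)⟩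
        exact congrArg (fun z : (SL : Subgroup L) => (z : L)) h2
      have h2 := Subgroup.card_le_of_le h1
      rw [hcard, Nat.card_congr (Subgroup.subgroupOfEquivOfLe hWL).toEquiv] at h2
      have h3 : 0 < Nat.card W := Nat.card_pos
      omega
    · rcases h0222 L hna M hM with ⟨F, i1, i2, hc, h4, he⟩ | h | ⟨F, i1, i2, q, hF, hq, hq4, he⟩
      · exact Or.inl ⟨F, i1, i2, 2, hc, le_rfl, fun _ => h4, he⟩
      · exfalso
        obtain ⟨-, m, -, hm⟩ := h
        have h3L : 3 ∣ Nat.card L := h3A.trans (Subgroup.card_dvd_of_le C.le)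
        rw [hm] at h3L
        exact Ends.not_three_dvd_suzuki m h3L
      · exact Or.inr (Or.inr ⟨F, i1, i2, q, hF, hq, hq4, he⟩)

end Cfsg.Agent.StdL2
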