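import Cfsg.Agent.StdL2.ExcPair

/-!
# The action on the classes `t W / W²` is free of involutions
-/

set_option autoImplicit false
set_option linter.unusedSectionVars false

namespace Cfsg.Agent.StdL2

open scoped commutatorElement

open G23Aut G23Loc G23Coset

universe u

variable {G : Type u} [Group G] [Finite G] {t d : G} {V W : Subgroup G} {k : ℕ}

/-- A 2-element of `C(t) ∩ N(V)` lies in `⟨t⟩V`. -/
theorem TCen.mem_of_two (H : TCen t V) {x : G} (hx : x * t = t * x)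
    (hV : x ∈ Subgroup.normalizer (V : Set G)) (h2 : TwoEl x) : x ∈ H.E := by
  have hN : Subgroup.zpowers x ≤ Subgroup.normalizer (H.E : Set G) := by
    rw [Subgroup.zpowers_le]
    apply mem_norm_of_le
    intro e he
    rcases he with he | he
    · exact Or.inl ((Subgroup.mem_normalizer_iff.1 hV e).1 he)
    · right
      have h1 : t * (x * e * x⁻¹) = x * (t * e) * x⁻¹ := by
        rw [← mul_assoc, ← mul_assoc, ← hx]
        group
      rw [h1]
      exact (Subgroup.mem_normalizer_iff.1 hV _).1 he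
  have hP := isPGroup_sup H.E_pgroup h2 hN
  have hEN : H.E ⊔ Subgroup.zpowers x ≤ Subgroup.centralizer ({t} : Set G) := by
    apply sup_le
    · intro y hy
      exact Subgroup.mem_centralizer_singleton_iff.2 (H.E_comm hy).symm
    · rw [Subgroup.zpowers_le]
      exact Subgroup.mem_centralizer_singleton_iff.2 hx
  exact H.syl _ hP (fun y hy => (Subgroup.mem_centralizer_singleton_iff.1 (hEN hy)).symm)
    (H.V_le_E.trans le_sup_left) (Subgroup.mem_sup_left H.t_mem_E) x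
    (Subgroup.mem_sup_right (Subgroup.mem_zpowers x))

theorem conj_conj (a b v : G) : a * b * v * (a * b)⁻¹ = a * (b * v * b⁻¹) * a⁻¹ := by group

/-- An element of `C(t) ∩ N(V)` does not act as an involution on `V`. -/
theorem TCen.triv_of_sq (H : TCen t V) {x : G} (hx : x * t = t * x)
    (hV : x ∈ Subgroup.normalizer (V : Set G))
    (h2 : ∀ v ∈ V, x * x * v * (x * x)⁻¹ = v) : ∀ v ∈ V, x * v * x⁻¹ = v := by
  obtain ⟨a, m, hm, ho⟩ := Nat.exists_eq_two_pow_mul_odd (n := orderOf x) (orderOf_pos x).ne'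
  obtain ⟨j, rfl⟩ := hm
  have hpow : ∀ i : ℕ, ∀ v ∈ V, x ^ (2 * i) * v * (x ^ (2 * i))⁻¹ = v := by
    intro i
    induction i with
    | zero => intro v _; simp
    | succ i ih =>
      intro v hv
      have h3 : x ^ (2 * (i + 1)) = x ^ (2 * i) * (x * x) := by
        rw [mul_add, pow_add, mul_one, pow_two]
      rw [h3, conj_conj, h2 v hv, ih v hv]
  have h3 : TwoEl (x ^ (2 * j + 1)) := TwoEl.of_pow (n := a) (by
    rw [← pow_mul, mul_comm, ← ho, pow_orderOf_eq_one])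
  have h4 := H.mem_of_two (x := x ^ (2 * j + 1))
    ((show Commute x t from hx).pow_left _) (pow_mem hV _) h3
  intro v hv
  have h5 : x ^ (2 * j + 1) * v * (x ^ (2 * j + 1))⁻¹ = x * v * x⁻¹ := by
    rw [pow_succ', conj_conj, hpow j v hv]
  have h6 : x ^ (2 * j + 1) * v = v * x ^ (2 * j + 1) := by
    rcases h4 with h | h
    · exact vcomm_of_vsq H.vsq h hv
    · rw [Lv.eq_t_mul H.t2 (x ^ (2 * j + 1)), mul_assoc, vcomm_of_vsq H.vsq h hv, ← mul_assoc,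
        H.vt v hv, mul_assoc]
  rw [← h5, h6, mul_inv_cancel_right]

/-- The action on `t W / W²` is free. -/
theorem Exc.free (H : TCen t V) (X : Exc t d V W k) {x : G} (hx : x ∈ towerN t W)
    (h2 : ∀ v ∈ V, x * x * v * (x * x)⁻¹ = v) {v : G} (hv : v ∈ V) (hne : x * v * x⁻¹ ≠ v)
    {u : G} (hu : u ∈ W) : (⁅x, t⁆ * u * (x * u * x⁻¹)⁻¹) ^ (2 ^ k) ≠ 1 := by
  intro h
  have L := X.lv
  have ht2 := H.t2
  have hxW : ∀ w ∈ W, x * w * x⁻¹ ∈ W := fun w hw => (Subgroup.mem_normalizer_iff.1 hx.1 w).1 hw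
  have hs : ⁅x, t⁆ * u * (x * u * x⁻¹)⁻¹ ∈ W := mul_mem (mul_mem hx.2 hu) (inv_mem (hxW u hu))
  obtain ⟨y, hy, hy1⟩ := L.root' k (by omega) _ hs h
  have h3 : k + 1 - k = 1 := by omega
  rw [h3, pow_one, pow_two] at hy1
  -- `y⁻¹ x` centralises `t u`
  have h4 : (y⁻¹ * x) * (t * u) * (y⁻¹ * x)⁻¹ = t * u := by
    have h5 : x * (t * u) * x⁻¹ = ⁅x, t⁆ * u * (x * u * x⁻¹)⁻¹ * (t * u) := by
      have h6 : x * (t * u) * x⁻¹ = ⁅x, t⁆ * (t * (x * u * x⁻¹)) := by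
        rw [commutatorElement_def]; group
      have h7 : t * (x * u * x⁻¹) = (x * u * x⁻¹)⁻¹ * t := by
        rw [L.w_t ht2 (inv_mem (hxW u hu)), inv_inv]
      have h8 : u⁻¹ * t = t * u := by rw [L.w_t ht2 (inv_mem hu), inv_inv]
      rw [h6, h7, ← h8]
      have h9 : ⁅x, t⁆ * u * (x * u * x⁻¹)⁻¹ * (u⁻¹ * t) =
          ⁅x, t⁆ * (u * (x * u * x⁻¹)⁻¹) * u⁻¹ * t := by group
      rw [h9, L.comm u hu _ (inv_mem (hxW u hu))]
      group
    rw [conj_conj, h5, hy1]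
    have h6 : y⁻¹ * (y * y * (t * u)) * y⁻¹⁻¹ = (y * t) * (u * y) := by group
    rw [h6, L.w_t ht2 hy, L.comm u hu y hy]
    group
  obtain ⟨n, hn, hn1⟩ := X.N_trans H u hu
  have hyN : y ∈ towerN t W := by
    have h1 := L.Q_le_M ht2 (L.W_le_Q ht2 hy)
    exact ⟨h1.1, h1.2.1⟩
  set x' := n⁻¹ * (y⁻¹ * x) * n with hx'
  have hx'N : x' ∈ towerN t W := mul_mem (mul_mem (inv_mem hn) (mul_mem (inv_mem hyN) hx)) hn
  have hx't : x' * t = t * x' := by
    rw [← hn1] at h4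
    have h5 : x' * t * x'⁻¹ = t := by
      have h6 : x' * t * x'⁻¹ =
          n⁻¹ * (y⁻¹ * x * (n * t * n⁻¹) * (y⁻¹ * x)⁻¹) * n := by rw [hx']; group
      rw [h6, h4]
      group
    rw [mul_inv_eq_iff_eq_mul] at h5
    exact h5
  -- action on `V`
  have yV : ∀ v ∈ V, y⁻¹ * v * y⁻¹⁻¹ = v := by
    intro v hv
    rw [L.comm _ (inv_mem hy) v (L.VW hv), mul_inv_cancel_right]
  have nV : ∀ g ∈ towerN t W, ∀ v ∈ V, g * v * g⁻¹ ∈ V := fun g hg v hv =>
    (Subgroup.mem_normalizer_iff.1 (Exc.norm_V L hg.1) v).1 hv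
  have hact : ∀ v ∈ V, x' * v * x'⁻¹ = n⁻¹ * (x * (n * v * n⁻¹) * x⁻¹) * n⁻¹⁻¹ := by
    intro v hv
    have h5 : x' * v * x'⁻¹ = n⁻¹ * (y⁻¹ * (x * (n * v * n⁻¹) * x⁻¹) * y⁻¹⁻¹) * n⁻¹⁻¹ := by
      rw [hx']; group
    rw [h5, yV _ (nV x hx _ (nV n hn v hv))]
  have htriv := H.triv_of_sq hx't (Exc.norm_V L hx'N.1) (by
    intro v hv
    rw [conj_conj, hact v hv, hact _ (by
      rw [← hact v hv]
      exact nV x' hx'N v hv)]
    have h5 : n⁻¹ * (x * (n * (n⁻¹ * (x * (n * v * n⁻¹) * x⁻¹) * n⁻¹⁻¹) * n⁻¹) * x⁻¹) * n⁻¹⁻¹ =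
        n⁻¹ * (x * x * (n * v * n⁻¹) * (x * x)⁻¹) * n := by group
    rw [h5, h2 _ (nV n hn v hv)]
    group)
  apply hne
  have h6 := nV n⁻¹ (inv_mem hn) v hv
  have h7 := htriv _ h6
  rw [hact _ h6] at h7
  have h8 : n * (n⁻¹ * v * n⁻¹⁻¹) * n⁻¹ = v := by group
  rw [h8] at h7
  have h9 : x * v * x⁻¹ = n * (n⁻¹ * (x * v * x⁻¹) * n⁻¹⁻¹) * n⁻¹ := by group
  rw [h9, h7]
  group

end Cfsg.Agent.StdL2
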