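import Cfsg.Agent.StdL2.ExcFrame
import Cfsg.Agent.StdL2.ExcFix
import Cfsg.Agent.ONType.FusMain
import Cfsg.Agent.ONType.CzSit

/-!
# The exceptional case above the bottom of the tower

`Exc.high`: in the exceptional case `q = 8` of the tower, with `k ≥ 1`, the group `L` is of Lie type in
characteristic two (Bender).
-/

set_option autoImplicit false
set_option linter.unusedSectionVars false
set_option linter.style.haveILetI false

namespace Cfsg.Agent.StdL2

open G23Aut G23Loc G23Coset Cfsg.Agent.StdL2.Setup Cfsg.Agent.StdL2.Assemble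
open Cfsg.Agent.ONType.Span Cfsg.Agent.ONType.Sit Cfsg.Agent.TypeL3 Cfsg.Agent.StdL2.ExcFix

universe u

variable {G : Type u} [Group G] [Finite G] {t d : G} {V W : Subgroup G} {k : ℕ}

/-- `V` is not strongly closed, or `L` is of Lie type. -/
theorem lie2_of_strongly_closed (h1169 : S1169Stmt.{u}) (h0222 : S0222Stmt.{u}) {L A : Subgroup G}
    (C : Conf L A t) (h3A : 3 ∣ Nat.card A) (SL : Sylow 2 L)
    (hna : ¬ IsMulCommutative (SL : Subgroup L)) (B : Subgroup L) (hB : B ≠ ⊥)
    (hcomm : IsMulCommutative B) (hsc : Cfsg.IsStronglyClosed B (SL : Subgroup L)) : Lie2 ↥L := by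
  have hs := C.simple
  have hna' : ∃ a b : L, a * b ≠ b * a := by
    by_contra h
    push Not at h
    exact C.not_comm ⟨⟨h⟩⟩
  rcases h1169 L SL B hB hcomm hsc with h | ⟨M, hM⟩
  · exact absurd h hna
  · rcases h0222 L hna' M hM with ⟨F, i1, i2, hc, h4, he⟩ | h | ⟨F, i1, i2, q, hF, hq, hq4, he⟩
    · exact Or.inl ⟨F, i1, i2, 2, hc, le_rfl, fun _ => h4, he⟩
    · exfalso
      obtain ⟨-, m, -, hm⟩ := h
      have h3L : 3 ∣ Nat.card L := h3A.trans (Subgroup.card_dvd_of_le C.le)
      rw [hm] at h3L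
      exact Ends.not_three_dvd_suzuki m h3L
    · exact Or.inr (Or.inr ⟨F, i1, i2, q, hF, hq, hq4, he⟩)

/-- **The exceptional case above the bottom of the tower.** -/
theorem Exc.high (h1169 : S1169Stmt.{u}) (h0222 : S0222Stmt.{u}) (h1171 : H1171.{u})
    (h1296 : H1296.{u}) {L A : Subgroup G}
    (C : Conf L A t) (h3A : 3 ∣ Nat.card A) (H : TCen t V) (X : Exc t d V W k) (hk : 1 ≤ k)
    (hsol : ∀ v ∈ V, v ≠ 1 → Group.IsSolvable
      ↥(Subgroup.centralizer ({t} : Set G) ⊓ Subgroup.centralizer ({v} : Set G))) :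
    Lie2 ↥L := by
  obtain ⟨htL, hWL, -⟩ := X.base C H hk
  have hn := C.normal
  have hO := X.octV H
  have L' := X.lv
  rcases X.frame h1169 h0222 C h3A H hk with h | ⟨S, hS, SL, hSL, F⟩
  · exact h
  have mSL : ∀ x : L, x ∈ (SL : Subgroup L) ↔ (x : G) ∈ S := by
    intro x
    rw [hSL, Subgroup.mem_subgroupOf]
  have hVL : V ≤ L := L'.VW.trans hWL
  -- involutions of `T`
  have mV : ∀ x : L, x ∈ W.subgroupOf L → x * x = 1 → (x : G) ∈ V := by
    intro x hx h
    exact L'.om x hx (congrArg Subtype.val h)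
  by_cases hsc : ∀ x ∈ V.subgroupOf L, ∀ g : L, g * x * g⁻¹ ∈ (SL : Subgroup L) →
      g * x * g⁻¹ ∈ V.subgroupOf L
  · have hcomm : IsMulCommutative (V.subgroupOf L) := ⟨⟨fun a b =>
      Subtype.ext (Subtype.ext (hO.comm a.2 b.2))⟩⟩
    have hne : V.subgroupOf L ≠ ⊥ := by
      intro h
      obtain ⟨s, hs', hs1, -⟩ := exists_two (by rw [X.oct]; norm_num : 4 ≤ Nat.card V) (1 : G)
      have h2 : (⟨s, hVL hs'⟩ : L) ∈ V.subgroupOf L := hs'
      rw [h, Subgroup.mem_bot] at h2
      exact hs1 (congrArg Subtype.val h2)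
    refine lie2_of_strongly_closed h1169 h0222 C h3A SL ?_ _ hne hcomm
      ⟨fun x hx => (mSL x).2 (hS.WS (L'.VW hx)), hsc⟩
    intro h
    -- a commutative Sylow 2-subgroup is contained in `T`
    have h1 : (SL : Subgroup L) ≤ W.subgroupOf L := by
      intro g hg
      apply F.self g hg
      intro x hx _
      have h2 := h.is_comm.comm (⟨g, hg⟩ : (SL : Subgroup L)) ⟨x, (mSL x).2 (hS.WS hx)⟩
      exact congrArg (fun z : (SL : Subgroup L) => (z : L)) h2
    obtain ⟨y, hy, hyT, -⟩ := F.inv
    exact hyT (h1 hy)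
  · exfalso
    push Not at hsc
    obtain ⟨a, ha, g, hg1, hg2⟩ := hsc
    have ha2 : a * a = 1 := Subtype.ext (H.vsq _ ha)
    have hg3 : g * a * g⁻¹ * (g * a * g⁻¹) = 1 := by
      calc g * a * g⁻¹ * (g * a * g⁻¹) = g * (a * a) * g⁻¹ := by group
        _ = 1 := by rw [ha2]; group
    obtain ⟨-, S', O, τ, x1, x2, x3, s, ξ, h, hsit, hconj⟩ := Cfsg.Agent.ONType.FusMain.main F
      ⟨a, L'.VW ha, ha2, by
        rintro rfl
        apply hg2
        rw [mul_one, mul_inv_cancel]
        exact one_mem _, g, hg1, fun hcon => hg2 (mV _ hcon hg3)⟩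
    have D := Cfsg.Agent.ONType.Cz.gIn_of_sit hsit hconj
    have R := D.rel
    -- the conjugation with `t`
    have tinv : ∀ w ∈ W, t * w * t⁻¹ = w⁻¹ := L'.tinv
    have hti : t⁻¹ = t := inv_eq_of_mul_eq_one_left H.t2
    have hτ : ∀ a b c, t * (τ a b c : G) * t⁻¹ = ((τ (-a) (-b) (-c) : L) : G) := by
      intro a b c
      have h1 : t * (τ a b c : G) * t⁻¹ = (τ a b c : G)⁻¹ := tinv _ (R.τ_mem a b c)
      rw [h1, ← R.τ_inv]
      rfl
    have hz : t * (τ 2 2 2 : G) * t⁻¹ = (τ 2 2 2 : G) := by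
      rw [hτ]
      congr 1
      rw [R.τ_eq]
      omega
    let Hz : Subgroup L := Subgroup.centralizer ({τ 2 2 2} : Set L)
    have key : ∀ x : Hz, ∃ y : Hz, ((y : L) : G) = t * ((x : L) : G) * t⁻¹ := by
      intro x
      refine ⟨⟨⟨t * ((x : L) : G) * t⁻¹, hn.conj_mem _ (x : L).2 t⟩, ?_⟩, rfl⟩
      rw [Subgroup.mem_centralizer_singleton_iff]
      apply Subtype.ext
      show t * ((x : L) : G) * t⁻¹ * (τ 2 2 2 : G) = (τ 2 2 2 : G) * (t * ((x : L) : G) * t⁻¹)
      have h1 : ((x : L) : G) * (τ 2 2 2 : G) = (τ 2 2 2 : G) * ((x : L) : G) :=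
        congrArg Subtype.val (Subgroup.mem_centralizer_singleton_iff.1 x.2)
      calc t * ((x : L) : G) * t⁻¹ * (τ 2 2 2 : G)
          = t * ((x : L) : G) * t⁻¹ * (t * (τ 2 2 2 : G) * t⁻¹) := by rw [hz]
        _ = t * (((x : L) : G) * (τ 2 2 2 : G)) * t⁻¹ := by group
        _ = (t * (τ 2 2 2 : G) * t⁻¹) * (t * ((x : L) : G) * t⁻¹) := by rw [h1]; group
        _ = _ := by rw [hz]
    choose f hf using key
    have hff : ∀ x, f (f x) = x := by
      intro x
      apply Subtype.ext
      apply Subtype.ext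
      rw [hf, hf, hti]
      calc t * (t * ((x : L) : G) * t) * t = (t * t) * ((x : L) : G) * (t * t) := by group
        _ = _ := by rw [H.t2, one_mul, mul_one]
    let φ : MulAut Hz :=
      { toFun := f
        invFun := f
        left_inv := hff
        right_inv := hff
        map_mul' := by
          intro x y
          apply Subtype.ext
          apply Subtype.ext
          show ((f (x * y) : L) : G) = ((f x : L) : G) * ((f y : L) : G)
          rw [hf, hf, hf]
          show t * (((x : L) : G) * ((y : L) : G)) * t⁻¹ = _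
          group }
    have hφ : ∀ x, φ x = f x := fun x => rfl
    refine not_solvable_H h1169 h1171 h1296 (D.toIn rfl D.S_le) (φ := φ)
      (MulEquiv.ext hff) ?_ ?_
    · intro y hy
      apply Subtype.ext
      apply Subtype.ext
      rw [hφ, hf]
      exact tinv _ hy
    · have hv : ((τ 2 2 2 : L) : G) ∈ V := by
        apply mV _ (R.τ_mem 2 2 2)
        rw [R.mul, R.one]
        norm_num
      have hv1 : ((τ 2 2 2 : L) : G) ≠ 1 := by
        intro h1
        have h2 := (R.one 2 2 2).1 (Subtype.ext h1)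
        omega
      have hs := hsol _ hv hv1
      let i : fix φ →* ↥(Subgroup.centralizer ({t} : Set G) ⊓
          Subgroup.centralizer ({((τ 2 2 2 : L) : G)} : Set G)) :=
        { toFun := fun x => ⟨(((x : Hz) : L) : G), Subgroup.mem_inf.2 ⟨by
              rw [Subgroup.mem_centralizer_singleton_iff]
              have h1 := hf (x : Hz)
              have h2 : f (x : Hz) = x := x.2
              rw [h2] at h1
              exact (mul_inv_eq_iff_eq_mul.1 h1.symm).symm, by
              rw [Subgroup.mem_centralizer_singleton_iff]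
              exact congrArg Subtype.val (Subgroup.mem_centralizer_singleton_iff.1 (x : Hz).2)⟩⟩
          map_one' := rfl
          map_mul' := fun x y => rfl }
      have hi : Function.Injective i := by
        intro x y hxy
        have h1 : (((x : Hz) : L) : G) = (((y : Hz) : L) : G) :=
          congrArg (fun z : ↥(Subgroup.centralizer ({t} : Set G) ⊓
            Subgroup.centralizer ({((τ 2 2 2 : L) : G)} : Set G)) => (z : G)) hxy
        exact Subtype.ext (Subtype.ext (Subtype.ext h1))
      exact Group.isSolvable_of_isSolvable_injective hi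

end Cfsg.Agent.StdL2
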