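import Cfsg.Agent.StdL2.ExcFree

/-!
# No elementary abelian subgroup of order 16
-/

set_option autoImplicit false
set_option linter.unusedSectionVars false
set_option linter.style.haveILetI false

namespace Cfsg.Agent.StdL2

open scoped commutatorElement

open G23Aut G23Loc G23Coset Pair

universe u

variable {G : Type u} [Group G]

theorem zpow_even {u : G} (hu : u * u = 1) (a : ℤ) : u ^ (2 * a) = 1 := by
  rw [zpow_mul, zpow_two, hu, one_zpow]

theorem zpow_odd {u : G} (hu : u * u = 1) (a : ℤ) : u ^ (2 * a + 1) = u := by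
  rw [zpow_add, zpow_even hu, one_mul, zpow_one]

variable [Finite G] {t d : G} {V W : Subgroup G} {k : ℕ}

theorem bas_ind (hO : Oct V) {v c1 c2 : G} (B : Bas V c1 c2 v) (a b c : ℤ)
    (h : v ^ a * (v * c1) ^ b * (v * c2) ^ c = 1) : (2 : ℤ) ∣ a ∧ (2 : ℤ) ∣ b ∧ (2 : ℤ) ∣ c := by
  have v2 := hO.sq v B.hw
  have c12 := hO.sq c1 B.hx
  have c22 := hO.sq c2 B.hy
  have s1 := hO.sq _ (mul_mem B.hw B.hx)
  have s2 := hO.sq _ (mul_mem B.hw B.hy)
  have k1 : v * (v * c1) = c1 := by rw [← mul_assoc, v2, one_mul]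
  have k2 : v * (v * c2) = c2 := by rw [← mul_assoc, v2, one_mul]
  have k3 : (v * c1) * (v * c2) = c1 * c2 := by
    rw [hO.comm B.hw B.hx, mul_assoc, k2]
  rcases Int.even_or_odd' a with ⟨a, rfl | rfl⟩ <;> rcases Int.even_or_odd' b with ⟨b, rfl | rfl⟩ <;>
    rcases Int.even_or_odd' c with ⟨c, rfl | rfl⟩ <;>
    simp only [zpow_even v2, zpow_even s1, zpow_even s2, zpow_odd v2, zpow_odd s1, zpow_odd s2,
      one_mul, mul_one] at h
  · exact ⟨⟨a, rfl⟩, ⟨b, rfl⟩, ⟨c, rfl⟩⟩
  · exact absurd (hO.eq_of_mul B.hy h) B.wy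
  · exact absurd (hO.eq_of_mul B.hx h) B.wx
  · rw [k3] at h
    exact absurd (hO.eq_of_mul B.hy h) B.yx.symm
  · exact absurd h B.w1
  · rw [k2] at h
    exact absurd h B.y1
  · rw [k1] at h
    exact absurd h B.x1
  · rw [k1, hO.comm B.hw B.hy, ← mul_assoc] at h
    exact absurd (hO.eq_of_mul B.hw h).symm B.wxy

theorem bas_gen (hO : Oct V) {v c1 c2 : G} (B : Bas V c1 c2 v) {z : G} (hz : z ∈ V) :
    ∃ a b c : ℤ, z = v ^ a * (v * c1) ^ b * (v * c2) ^ c := by
  have v2 := hO.sq v B.hw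
  have k1 : v * (v * c1) = c1 := by rw [← mul_assoc, v2, one_mul]
  have k2 : v * (v * c2) = c2 := by rw [← mul_assoc, v2, one_mul]
  have k3 : (v * c1) * (v * c2) = c1 * c2 := by
    rw [hO.comm B.hw B.hx, mul_assoc, k2]
  rcases B.cases hO hz with h | h | h | h | h | h | h | h
  · exact ⟨0, 0, 0, by simp [h]⟩
  · exact ⟨1, 1, 0, by simp only [zpow_one, zpow_zero, mul_one]; rw [k1, h]⟩
  · exact ⟨1, 0, 1, by simp only [zpow_one, zpow_zero, mul_one]; rw [k2, h]⟩
  · exact ⟨0, 1, 1, by simp only [zpow_one, zpow_zero, one_mul]; rw [k3, h]⟩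
  · exact ⟨1, 0, 0, by simp [h]⟩
  · exact ⟨0, 1, 0, by simp only [zpow_one, zpow_zero, mul_one, one_mul]; rw [h, hO.comm B.hw B.hx]⟩
  · exact ⟨0, 0, 1, by simp only [zpow_one, zpow_zero, mul_one, one_mul]; rw [h, hO.comm B.hw B.hy]⟩
  · refine ⟨1, 1, 1, ?_⟩
    simp only [zpow_one]
    rw [k1, hO.comm B.hw B.hy, ← mul_assoc, h]

/-- Two commuting involutions which are transvections on `V` with the same axis. -/
theorem Exc.pair_false (H : TCen t V) (X : Exc t d V W k) (hk : 1 ≤ k) {x y v c1 c2 : G}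
    (hxN : x ∈ towerN t W) (hyN : y ∈ towerN t W) (hx : x * x = 1) (hy : y * y = 1)
    (hxy : x * y = y * x) (B : Bas V c1 c2 v) (xv : x * v * x⁻¹ = v * c1)
    (yv : y * v * y⁻¹ = v * c2) (xc : x * c2 * x⁻¹ = c2) : False := by
  have L := X.lv
  have hO := X.octV H
  have v2 := hO.sq v B.hw
  have s1 := hO.sq _ (mul_mem B.hw B.hx)
  have s2 := hO.sq _ (mul_mem B.hw B.hy)
  obtain ⟨e0, he0, hv⟩ := L.root v B.hw
  have hxW : ∀ w ∈ W, x * w * x⁻¹ ∈ W := fun w hw => (Subgroup.mem_normalizer_iff.1 hxN.1 w).1 hw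
  have hyW : ∀ w ∈ W, y * w * y⁻¹ ∈ W := fun w hw => (Subgroup.mem_normalizer_iff.1 hyN.1 w).1 hw
  have p1 : (x * e0 * x⁻¹) ^ (2 ^ k) = v * c1 := by rw [conj_pow, hv, xv]
  have p2 : (y * e0 * y⁻¹) ^ (2 ^ k) = v * c2 := by rw [conj_pow, hv, yv]
  obtain ⟨E, C, h0, h1, h2⟩ := exists_co L he0 (hxW _ he0) (hyW _ he0)
    (by
      rw [hv, p1, p2]
      exact bas_ind hO B)
    (by
      rw [hv, p1, p2]
      exact fun z hz => bas_gen hO B hz)
  have pw : ∀ a b c, E a b c ^ (2 ^ k) = v ^ a * (v * c1) ^ b * (v * c2) ^ c := by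
    intro a b c
    rw [C.eq_zpow a b c, h0, h1, h2,
      mul_pow_of_comm (L.comm _ (mul_mem (zpow_mem he0 _) (zpow_mem (hxW _ he0) _)) _
        (zpow_mem (hyW _ he0) _)),
      mul_pow_of_comm (L.comm _ (zpow_mem he0 _) _ (zpow_mem (hxW _ he0) _))]
    have q : ∀ (g : G) (i : ℤ), (g ^ i) ^ (2 ^ k) = (g ^ (2 ^ k)) ^ i := by
      intro g i
      rw [← zpow_natCast, ← zpow_mul, mul_comm, zpow_mul, zpow_natCast]
    rw [q, q, q, hv, p1, p2]
  have hne : ∀ c ∈ V, c ≠ 1 → v * c ≠ v := fun c _ hc h => hc (mul_eq_left.1 h)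
  have tr : ∀ g : G, g * g = 1 → ∀ v ∈ V, g * g * v * (g * g)⁻¹ = v := by
    intro g hg v _
    rw [hg]
    group
  have hxyN : x * y ∈ towerN t W := mul_mem hxN hyN
  have xyv : x * y * v * (x * y)⁻¹ = v * (c1 * c2) := by
    rw [conj_conj, yv]
    have h3 : x * (v * c2) * x⁻¹ = (x * v * x⁻¹) * (x * c2 * x⁻¹) := by group
    rw [h3, xv, xc, mul_assoc]
  refine no_pair (n := k + 1) (by omega) C (x := x) (y := y) (t := t) hx hy hxy
    (by rw [h0, h1]) (by rw [h0, h2]) hxW ?_ hxN.2 hyN.2 ?_ ?_ ?_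
  · intro p q r h
    have h3 := congrArg (fun g => g ^ (2 ^ k)) h
    simp only [conj_pow] at h3
    rw [pw, pw] at h3
    simp only [zpow_zero, one_mul, zpow_one] at h3
    have h4 : x * (v * c2) * x⁻¹ = v * c1 * c2 := by
      have h4 : x * (v * c2) * x⁻¹ = (x * v * x⁻¹) * (x * c2 * x⁻¹) := by group
      rw [h4, xv, xc]
    rw [h4] at h3
    -- multiply by `v · v c1 · v c2 = v c1 c2`
    have hb : ∀ g ∈ V, g * g = 1 → ∀ i : ℤ, g ^ (i - 1) = g ^ i * g := by
      intro g _ hg i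
      rw [zpow_sub, zpow_one, inv_eq_of_mul_eq_one_right hg]
    have h5 : v ^ (p - 1) * (v * c1) ^ (q - 1) * (v * c2) ^ (r - 1) = 1 := by
      have hVc : ∀ a ∈ V, ∀ b ∈ V, a * b = b * a := fun a ha b hb => hO.comm ha hb
      have m1 := mul_mem B.hw B.hx
      have m2 := mul_mem B.hw B.hy
      rw [hb v B.hw v2, hb _ m1 s1, hb _ m2 s2]
      have h6 : v ^ p * v * ((v * c1) ^ q * (v * c1)) * ((v * c2) ^ r * (v * c2)) =
          (v ^ p * (v * c1) ^ q * (v * c2) ^ r) * (v * (v * c1) * (v * c2)) := by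
        calc v ^ p * v * ((v * c1) ^ q * (v * c1)) * ((v * c2) ^ r * (v * c2)) =
            v ^ p * (v * (v * c1) ^ q) * (v * c1) * ((v * c2) ^ r * (v * c2)) := by group
          _ = v ^ p * (v * c1) ^ q * ((v * (v * c1)) * (v * c2) ^ r) * (v * c2) := by
              rw [hVc v B.hw _ (zpow_mem m1 q)]; group
          _ = _ := by
              rw [hVc _ (mul_mem B.hw m1) _ (zpow_mem m2 r)]; group
      rw [h6, ← h3]
      have h7 : v * (v * c1) * (v * c2) = v * c1 * c2 := by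
        rw [← mul_assoc v v, v2, one_mul, ← mul_assoc, hO.comm B.hx B.hw]
      rw [h7]
      exact hO.sq _ (mul_mem m1 B.hy)
    obtain ⟨g1, g2, g3⟩ := bas_ind hO B _ _ _ h5
    omega
  · intro u hu
    have := X.free H hxN (tr x hx) B.hw (by rw [xv]; exact hne _ B.hx B.x1) hu
    exact this
  · intro u hu
    have := X.free H hyN (tr y hy) B.hw (by rw [yv]; exact hne _ B.hy B.y1) hu
    exact this
  · intro u hu
    have hxy2 : x * y * (x * y) = 1 := by
      have : x * y * (x * y) = x * (y * x) * y := by group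
      rw [this, ← hxy]
      have : x * (x * y) * y = (x * x) * (y * y) := by group
      rw [this, hx, hy, one_mul]
    have := X.free H hxyN (tr _ hxy2) B.hw (by
      rw [xyv]
      exact hne _ (mul_mem B.hx B.hy) (fun h => B.yx (hO.eq_of_mul B.hy h).symm)) hu
    exact this

/-- the group of automorphisms induced by `S` is not commutative -/
theorem Exc.ES.img_not_comm (H : TCen t V) {X : Exc t d V W k} {S : Subgroup G} (hS : X.ES S) :
    ¬ ∀ f ∈ img S V, ∀ g ∈ img S V, f * g = g * f := by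
  intro h
  have hO := X.octV H
  obtain ⟨z, a, b, F⟩ := exists_flag hO hS.le_norm_V (hS.card_img H)
  obtain ⟨u₁, hu₁, z1, a1, b1⟩ := F.ex 0 1 0
  obtain ⟨u₂, hu₂, z2, a2, b2⟩ := F.ex 1 0 0
  simp only [pw_zero, pw_one, mul_one] at a1 b1 a2 b2
  have m1 : V.normalizerMonoidHom ⟨u₁, hS.le_norm_V hu₁⟩ ∈ img S V :=
    mem_img.2 ⟨u₁, hu₁, hS.le_norm_V hu₁, fun v => rfl⟩
  have m2 : V.normalizerMonoidHom ⟨u₂, hS.le_norm_V hu₂⟩ ∈ img S V :=
    mem_img.2 ⟨u₂, hu₂, hS.le_norm_V hu₂, fun v => rfl⟩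
  have h1 := h _ m1 _ m2
  have h2 := congrArg (fun φ : MulAut V => ((φ ⟨b, F.bas.hw⟩ : V) : G)) h1
  have h3 : u₁ * (u₂ * b * u₂⁻¹) * u₁⁻¹ = u₂ * (u₁ * b * u₁⁻¹) * u₂⁻¹ := h2
  rw [b2, b1] at h3
  have h4 : u₂ * (b * a) * u₂⁻¹ = b * (a * z) := by
    have : u₂ * (b * a) * u₂⁻¹ = (u₂ * b * u₂⁻¹) * (u₂ * a * u₂⁻¹) := by group
    rw [this, b2, a2]
  rw [h4, ← mul_assoc] at h3
  exact F.bas.x1 (mul_eq_left.1 h3.symm)

/-- No elementary abelian subgroup of order 16 in a Sylow 2-subgroup not containing `t`. -/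
theorem Exc.ES.no16 (H : TCen t V) {X : Exc t d V W k} (hk : 1 ≤ k) {M S E : Subgroup G}
    (hS : X.ES S) (hWM : W ≤ M) (htM : t ∉ M) (hES : E ≤ S) (hEM : E ≤ M)
    (hE : ∀ x ∈ E, x * x = 1) : Nat.card E ≤ 8 := by
  classical
  have L := X.lv
  have hO := X.octV H
  have hcomm : ∀ a ∈ E, ∀ b ∈ E, a * b = b * a := fun a ha b hb => vcomm_of_vsq hE ha hb
  by_contra hcon
  have hEV : E ≤ Subgroup.normalizer (V : Set G) := hES.trans hS.le_norm_V
  have hcon' : ∀ e ∈ E, ∀ v ∈ V, e * v * e⁻¹ ∈ V := fun e he v hv =>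
    (Subgroup.mem_normalizer_iff.1 (hEV he) v).1 hv
  -- the elements of `E` acting trivially on `V`
  have htriv : ∀ e ∈ E, (∀ v ∈ V, e * v * e⁻¹ = v) → e ∈ V := by
    intro e he h1
    rcases hS.mem_Q H (hES he) h1 with h2 | h2
    · exact L.om e h2 (hE e he)
    · exfalso
      apply htM
      have h3 : t = (t * e) * e⁻¹ := by group
      rw [h3]
      exact M.mul_mem (hWM h2) (M.inv_mem (hEM he))
  set K : Subgroup G := E ⊓ Subgroup.centralizer (V : Set G) with hK
  have hKV : K ≤ V := by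
    intro e he
    apply htriv e he.1
    intro v hv
    have h2 := Subgroup.mem_centralizer_iff.1 he.2 v hv
    rw [← h2, mul_inv_cancel_right]
  have hVE : ¬ V ≤ E := by
    intro h
    apply hcon
    have h1 : E ≤ V := by
      intro e he
      apply htriv e he
      intro v hv
      rw [hcomm e he v (h hv), mul_inv_cancel_right]
    rw [← X.oct]
    exact Subgroup.card_le_of_le h1
  have hKV' : K ≠ V := by
    intro h
    apply hVE
    rw [← h]
    exact inf_le_left
  have hK4 : Nat.card K ≤ 4 := by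
    have h1 : Nat.card K ∣ 2 ^ 3 := by
      have := Subgroup.card_dvd_of_le hKV
      rw [X.oct] at this
      exact this
    obtain ⟨i, hi, h2⟩ := (Nat.dvd_prime_pow Nat.prime_two).1 h1
    have h3 : i ≠ 3 := by
      rintro rfl
      apply hKV'
      apply Subgroup.eq_of_le_of_card_ge hKV
      rw [h2, X.oct]
      norm_num
    have h4 : i ≤ 2 := by omega
    rw [h2]
    calc 2 ^ i ≤ 2 ^ 2 := Nat.pow_le_pow_right (by norm_num) h4
      _ = 4 := by norm_num
  have himg : Nat.card (img E V) ≤ 4 := by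
    have hle : img E V ≤ img S V := by
      intro φ hφ
      obtain ⟨e, he, hn, hv⟩ := mem_img.1 hφ
      exact mem_img.2 ⟨e, hES he, hn, hv⟩
    have h1 : Nat.card (img E V) ∣ 2 ^ 3 := by
      haveI := hO.finite_aut
      have := Subgroup.card_dvd_of_le hle
      rw [hS.card_img H] at this
      exact this
    obtain ⟨i, hi, h2⟩ := (Nat.dvd_prime_pow Nat.prime_two).1 h1
    have h3 : i ≠ 3 := by
      rintro rfl
      haveI := hO.finite_aut
      have h4 : img E V = img S V := by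
        apply Subgroup.eq_of_le_of_card_ge hle
        rw [h2, hS.card_img H]
        norm_num
      apply hS.img_not_comm H
      rw [← h4]
      intro f hf g hg
      obtain ⟨a, ha, hna, hva⟩ := mem_img.1 hf
      obtain ⟨b, hb, hnb, hvb⟩ := mem_img.1 hg
      ext v
      show ((f (g v) : V) : G) = ((g (f v) : V) : G)
      rw [← hva, ← hvb, ← hvb, ← hva]
      have h5 : a * (b * (v : G) * b⁻¹) * a⁻¹ = (a * b) * v * (a * b)⁻¹ := by group
      have h6 : b * (a * (v : G) * a⁻¹) * b⁻¹ = (b * a) * v * (b * a)⁻¹ := by group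
      rw [h5, h6, hcomm a ha b hb]
    have h4 : i ≤ 2 := by omega
    rw [h2]
    calc 2 ^ i ≤ 2 ^ 2 := Nat.pow_le_pow_right (by norm_num) h4
      _ = 4 := by norm_num
  have hcard := card_img_mul hEV
  rw [← hK] at hcard
  have hE16 : 16 ≤ Nat.card E := by
    obtain ⟨m, hm⟩ := IsPGroup.iff_card.1 (hS.pg.to_le hES)
    have h1 : 3 < m := by
      by_contra h
      apply hcon
      rw [hm]
      calc 2 ^ m ≤ 2 ^ 3 := Nat.pow_le_pow_right (by norm_num) (by omega)
        _ = 8 := by norm_num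
    rw [hm]
    calc 16 = 2 ^ 4 := by norm_num
      _ ≤ 2 ^ m := Nat.pow_le_pow_right (by norm_num) h1
  have hKeq : Nat.card K = 4 := by nlinarith
  have hEeq : Nat.card E = 16 := by nlinarith
  -- an element outside `K`
  obtain ⟨v, hv, hvK⟩ := SetLike.exists_of_lt (lt_of_le_of_ne hKV hKV')
  have hidx : (K.subgroupOf V).index = 2 := by
    have h1 := (K.subgroupOf V).card_mul_index
    rw [Nat.card_congr (Subgroup.subgroupOfEquivOfLe hKV).toEquiv, hKeq, X.oct] at h1
    omega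
  have hmulK : ∀ a ∈ V, ∀ b ∈ V, (a * b ∈ K ↔ (a ∈ K ↔ b ∈ K)) := by
    intro a ha b hb
    have := Subgroup.mul_mem_iff_of_index_two hidx (a := (⟨a, ha⟩ : V)) (b := ⟨b, hb⟩)
    exact this
  have hKc : ∀ e ∈ E, ∀ z ∈ K, e * z * e⁻¹ = z := by
    intro e he z hz
    rw [hcomm e he z hz.1, mul_inv_cancel_right]
  have hcK : ∀ e ∈ E, v * (e * v * e⁻¹) ∈ K := by
    intro e he
    rw [hmulK v hv _ (hcon' e he v hv)]
    constructor
    · intro h
      exact absurd h hvK
    · intro h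
      exfalso
      apply hvK
      have h1 := hKc e he _ h
      have h2 : v = e⁻¹ * (e * v * e⁻¹) * e := by group
      have h3 : e⁻¹ * (e * v * e⁻¹) * e = e * v * e⁻¹ := by
        have h4 : e * v * e⁻¹ = e⁻¹ * (e * (e * v * e⁻¹) * e⁻¹) * e := by group
        rw [h1] at h4
        exact h4.symm
      rw [h2, h3]
      exact h
  have v2 := hO.sq v hv
  have hcv : ∀ e : G, e * v * e⁻¹ = v * (v * (e * v * e⁻¹)) := by
    intro e
    rw [← mul_assoc v v, v2, one_mul]
  let f : E →* K :=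
    { toFun := fun e => ⟨v * ((e : G) * v * (e : G)⁻¹), hcK e e.2⟩
      map_one' := by
        apply Subtype.ext
        show v * (1 * v * 1⁻¹) = 1
        rw [one_mul, inv_one, mul_one, v2]
      map_mul' := by
        intro a b
        apply Subtype.ext
        show v * ((a * b : G) * v * (a * b : G)⁻¹) =
          (v * ((a : G) * v * (a : G)⁻¹)) * (v * ((b : G) * v * (b : G)⁻¹))
        rw [conj_conj, hcv b]
        have h1 : (a : G) * (v * (v * ((b : G) * v * (b : G)⁻¹))) * (a : G)⁻¹ =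
            ((a : G) * v * (a : G)⁻¹) * ((a : G) * (v * ((b : G) * v * (b : G)⁻¹)) * (a : G)⁻¹) := by
          group
        rw [h1, hKc a a.2 _ (hcK b b.2), ← mul_assoc]
        congr 1
        rw [← hcv] }
  have hfker : f.ker = K.subgroupOf E := by
    ext e
    rw [MonoidHom.mem_ker, Subgroup.mem_subgroupOf]
    constructor
    · intro h
      have h1 : v * ((e : G) * v * (e : G)⁻¹) = 1 := congrArg Subtype.val h
      have h2 : (e : G) * v * (e : G)⁻¹ = v := (mul_left_cancel (v2.trans h1.symm)).symm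
      refine ⟨e.2, Subgroup.mem_centralizer_iff.2 ?_⟩
      intro z hz
      have h3 : (e : G) * z * (e : G)⁻¹ = z := by
        by_cases hzK : z ∈ K
        · exact hKc e e.2 z hzK
        · have h4 : v * z ∈ K := by
            rw [hmulK v hv z hz]
            exact ⟨fun h => absurd h hvK, fun h => absurd h hzK⟩
          have h5 := hKc e e.2 _ h4
          have h6 : (e : G) * (v * z) * (e : G)⁻¹ =
              ((e : G) * v * (e : G)⁻¹) * ((e : G) * z * (e : G)⁻¹) := by group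
          rw [h6, h2] at h5
          exact mul_left_cancel h5
      rw [mul_inv_eq_iff_eq_mul] at h3
      exact h3.symm
    · intro h
      apply Subtype.ext
      show v * ((e : G) * v * (e : G)⁻¹) = 1
      have h1 := Subgroup.mem_centralizer_iff.1 h.2 v hv
      rw [← h1, mul_inv_cancel_right, v2]
  have hfsurj : Function.Surjective f := by
    rw [← MonoidHom.range_eq_top]
    apply Subgroup.eq_top_of_card_eq
    have h1 := f.ker.card_mul_index
    rw [Subgroup.index_ker, hfker, hEeq] at h1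
    have h2 : Nat.card (K.subgroupOf E) = 4 := by
      rw [Nat.card_congr (Subgroup.subgroupOfEquivOfLe (inf_le_left : K ≤ E)).toEquiv, hKeq]
    rw [h2] at h1
    rw [hKeq]
    omega
  -- two different elements of `K`
  obtain ⟨c1, c2, h1, h2, h3⟩ : ∃ c1 c2 : K, c1 ≠ 1 ∧ c2 ≠ 1 ∧ c2 ≠ c1 := by
    have h1 : ∀ s : Finset K, s.card < 4 → ∃ c : K, c ∉ s := by
      intro s hs
      by_contra h
      push Not at h
      haveI : Fintype K := Fintype.ofFinite K
      have h2 : Finset.univ ⊆ s := fun c _ => h c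
      have h3 := Finset.card_le_card h2
      rw [Finset.card_univ, ← Nat.card_eq_fintype_card, hKeq] at h3
      omega
    obtain ⟨c1, hc1⟩ := h1 {1} (by simp)
    obtain ⟨c2, hc2⟩ := h1 {1, c1} (lt_of_le_of_lt (Finset.card_le_two) (by norm_num))
    simp only [Finset.mem_singleton, Finset.mem_insert, not_or] at hc1 hc2
    exact ⟨c1, c2, hc1, hc2.1, hc2.2⟩
  obtain ⟨x, hx⟩ := hfsurj c1
  obtain ⟨y, hy⟩ := hfsurj c2
  have hx' : v * ((x : G) * v * (x : G)⁻¹) = c1 := congrArg Subtype.val hx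
  have hy' : v * ((y : G) * v * (y : G)⁻¹) = c2 := congrArg Subtype.val hy
  have hne : ∀ c ∈ K, v ≠ c := fun c hc h => hvK (h ▸ hc)
  have B : Bas V (c1 : G) (c2 : G) v := by
    refine ⟨hKV c1.2, hKV c2.2, hv, ?_, ?_, ?_, ?_, ?_, ?_, ?_⟩
    · exact fun h => h1 (Subtype.ext h)
    · exact fun h => h2 (Subtype.ext h)
    · exact fun h => h3 (Subtype.ext h)
    · exact hne _ (one_mem _)
    · exact hne _ c1.2
    · exact hne _ c2.2
    · exact hne _ (mul_mem c1.2 c2.2)
  refine X.pair_false H hk (hS.le (hES x.2)) (hS.le (hES y.2)) (hE x x.2) (hE y y.2)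
    (hcomm x x.2 y y.2) B ?_ ?_ (hKc x x.2 c2 c2.2)
  · rw [← hx', ← hcv]
  · rw [← hy', ← hcv]

end Cfsg.Agent.StdL2
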