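import Cfsg.Agent.StdL2.ExcUpB

/-!
# No elementary abelian subgroup of order 16: the computation

`x`, `y` commuting involutions, transvections on `V = Ω₁(W)` with the same axis, `t` inverts `W`.
-/

set_option autoImplicit false

namespace Cfsg.Agent.StdL2.Pair

open scoped commutatorElement

universe u

variable {G : Type u} [Group G]

/-- `W` homocyclic of rank 3, exponent `2 ^ (k + 1)`, in coordinates. -/
structure Co (W : Subgroup G) (n : ℕ) (E : ℤ → ℤ → ℤ → G) : Prop where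
  mul : ∀ a b c a' b' c', E a b c * E a' b' c' = E (a + a') (b + b') (c + c')
  one : ∀ a b c, E a b c = 1 ↔ (2 : ℤ) ^ n ∣ a ∧ (2 : ℤ) ^ n ∣ b ∧ (2 : ℤ) ^ n ∣ c
  mem : ∀ a b c, E a b c ∈ W
  surj : ∀ w ∈ W, ∃ a b c, w = E a b c

namespace Co

variable {W : Subgroup G} {n : ℕ} {E : ℤ → ℤ → ℤ → G}

theorem zero (C : Co W n E) : E 0 0 0 = 1 := (C.one _ _ _).2 ⟨dvd_zero _, dvd_zero _, dvd_zero _⟩

theorem inv (C : Co W n E) (a b c : ℤ) : (E a b c)⁻¹ = E (-a) (-b) (-c) := by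
  rw [inv_eq_iff_mul_eq_one, C.mul]
  have h : E (a + -a) (b + -b) (c + -c) = E 0 0 0 := by congr 1 <;> ring
  rw [h, C.zero]

theorem cong (C : Co W n E) {a b c a' b' c' : ℤ} : E a b c = E a' b' c' ↔
    (2 : ℤ) ^ n ∣ a - a' ∧ (2 : ℤ) ^ n ∣ b - b' ∧ (2 : ℤ) ^ n ∣ c - c' := by
  rw [← C.one, ← mul_inv_eq_one, C.inv, C.mul]
  simp only [sub_eq_add_neg]

theorem pow (C : Co W n E) (a b c : ℤ) (m : ℕ) : E a b c ^ m = E (m * a) (m * b) (m * c) := by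
  induction m with
  | zero =>
    rw [pow_zero]
    have h : E (((0 : ℕ) : ℤ) * a) (((0 : ℕ) : ℤ) * b) (((0 : ℕ) : ℤ) * c) = E 0 0 0 := by
      congr 1 <;> push_cast <;> ring
    rw [h, C.zero]
  | succ m ih =>
    rw [pow_succ, ih, C.mul]
    congr 1 <;> push_cast <;> ring

end Co

namespace Co

variable {W : Subgroup G} {n : ℕ} {E : ℤ → ℤ → ℤ → G}

theorem zpow (C : Co W n E) (a b c m : ℤ) : E a b c ^ m = E (m * a) (m * b) (m * c) := by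
  obtain ⟨k, rfl | rfl⟩ := Int.eq_nat_or_neg m
  · rw [zpow_natCast, C.pow]
  · rw [zpow_neg, zpow_natCast, C.pow, C.inv]
    congr 1 <;> ring

theorem eq_zpow (C : Co W n E) (a b c : ℤ) :
    E a b c = E 1 0 0 ^ a * E 0 1 0 ^ b * E 0 0 1 ^ c := by
  rw [C.zpow, C.zpow, C.zpow, C.mul, C.mul]
  congr 1 <;> ring

/-- the action of an element on `W`. -/
theorem conj (C : Co W n E) {g : G} {a1 b1 c1 a2 b2 c2 a3 b3 c3 : ℤ}
    (h1 : g * E 1 0 0 * g⁻¹ = E a1 b1 c1) (h2 : g * E 0 1 0 * g⁻¹ = E a2 b2 c2)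
    (h3 : g * E 0 0 1 * g⁻¹ = E a3 b3 c3) (a b c : ℤ) :
    g * E a b c * g⁻¹ = E (a * a1 + b * a2 + c * a3) (a * b1 + b * b2 + c * b3)
      (a * c1 + b * c2 + c * c3) := by
  rw [C.eq_zpow a b c]
  have h4 : g * (E 1 0 0 ^ a * E 0 1 0 ^ b * E 0 0 1 ^ c) * g⁻¹ =
      (g * E 1 0 0 ^ a * g⁻¹) * (g * E 0 1 0 ^ b * g⁻¹) * (g * E 0 0 1 ^ c * g⁻¹) := by group
  rw [h4, ← conj_zpow, ← conj_zpow, ← conj_zpow, h1, h2, h3, C.zpow, C.zpow, C.zpow, C.mul, C.mul]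

/-- an element with even coordinates. -/
theorem pow_even (C : Co W n E) (hn : 1 ≤ n) {a b c : ℤ} (ha : (2 : ℤ) ∣ a) (hb : (2 : ℤ) ∣ b)
    (hc : (2 : ℤ) ∣ c) : E a b c ^ (2 ^ (n - 1)) = 1 := by
  rw [C.pow, C.one]
  have h1 : (2 : ℤ) ^ n = ((2 ^ (n - 1) : ℕ) : ℤ) * 2 := by
    push_cast
    rw [← pow_succ, Nat.sub_add_cancel hn]
  rw [h1]
  exact ⟨mul_dvd_mul_left _ ha, mul_dvd_mul_left _ hb, mul_dvd_mul_left _ hc⟩

end Co

theorem comm_left (x y t : G) : ⁅x * y, t⁆ = x * ⁅y, t⁆ * x⁻¹ * ⁅x, t⁆ := by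
  rw [commutatorElement_def, commutatorElement_def, commutatorElement_def]
  group

theorem inv_of_sq {x t : G} (hx : x * x = 1) : x * ⁅x, t⁆ * x⁻¹ = ⁅x, t⁆⁻¹ := by
  have h1 := comm_left x x t
  rw [hx, commutatorElement_one_left] at h1
  exact (inv_eq_of_mul_eq_one_left h1.symm).symm

theorem two_dvd_of_dvd {n : ℕ} (hn : 1 ≤ n) {a : ℤ} (h : (2 : ℤ) ^ n ∣ a) : (2 : ℤ) ∣ a :=
  (dvd_pow_self 2 (by omega)).trans h

theorem dvd_of_odd_mul {n : ℕ} {a b : ℤ} (ha : ¬ (2 : ℤ) ∣ a) (h : (2 : ℤ) ^ n ∣ a * b) :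
    (2 : ℤ) ^ n ∣ b := by
  have hc : IsCoprime ((2 : ℤ) ^ n) a := by
    apply IsCoprime.pow_left
    rw [Int.isCoprime_iff_gcd_eq_one]
    rcases Int.even_or_odd' a with ⟨k, hk | hk⟩
    · exact absurd ⟨k, hk⟩ ha
    · have h1 : Int.gcd 2 a ∣ 1 := by
        have h2 : ((Int.gcd 2 a : ℕ) : ℤ) ∣ 1 := by
          have h3 : ((Int.gcd 2 a : ℕ) : ℤ) ∣ 2 := Int.gcd_dvd_left ..
          have h4 : ((Int.gcd 2 a : ℕ) : ℤ) ∣ a := Int.gcd_dvd_right ..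
          have h5 : (1 : ℤ) = a - 2 * k := by omega
          rw [h5]
          exact dvd_sub h4 (h3.mul_right k)
        exact_mod_cast h2
      exact Nat.dvd_one.1 h1
  exact hc.dvd_of_dvd_mul_left h

/-- The computation. -/
theorem no_pair {W : Subgroup G} {n : ℕ} (hn : 2 ≤ n) {E : ℤ → ℤ → ℤ → G} (C : Co W n E)
    {x y t : G} (hx : x * x = 1) (hy : y * y = 1) (hxy : x * y = y * x)
    (x1 : x * E 1 0 0 * x⁻¹ = E 0 1 0) (y1 : y * E 1 0 0 * y⁻¹ = E 0 0 1)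
    (hxW : ∀ w ∈ W, x * w * x⁻¹ ∈ W)
    (hpar : ∀ p q r, x * E 0 0 1 * x⁻¹ = E p q r → ¬ (2 : ℤ) ∣ p ∧ ¬ (2 : ℤ) ∣ q ∧ ¬ (2 : ℤ) ∣ r)
    (wx : ⁅x, t⁆ ∈ W) (wy : ⁅y, t⁆ ∈ W)
    (fx : ∀ u ∈ W, (⁅x, t⁆ * u * (x * u * x⁻¹)⁻¹) ^ (2 ^ (n - 1)) ≠ 1)
    (fy : ∀ u ∈ W, (⁅y, t⁆ * u * (y * u * y⁻¹)⁻¹) ^ (2 ^ (n - 1)) ≠ 1)
    (fxy : ∀ u ∈ W, (⁅x * y, t⁆ * u * (x * y * u * (x * y)⁻¹)⁻¹) ^ (2 ^ (n - 1)) ≠ 1) : False := by
  have hn1 : 1 ≤ n := by omega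
  obtain ⟨p, q, r, x3⟩ := C.surj _ (hxW _ (C.mem 0 0 1))
  obtain ⟨pp, pq, pr⟩ := hpar p q r x3
  have xinv : x⁻¹ = x := inv_eq_of_mul_eq_one_right hx
  have yinv : y⁻¹ = y := inv_eq_of_mul_eq_one_right hy
  have x2 : x * E 0 1 0 * x⁻¹ = E 1 0 0 := by
    rw [← x1]
    have h : x * (x * E 1 0 0 * x⁻¹) * x⁻¹ = (x * x) * E 1 0 0 * (x * x)⁻¹ := by group
    rw [h, hx]
    group
  have y3 : y * E 0 0 1 * y⁻¹ = E 1 0 0 := by
    rw [← y1]
    have h : y * (y * E 1 0 0 * y⁻¹) * y⁻¹ = (y * y) * E 1 0 0 * (y * y)⁻¹ := by group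
    rw [h, hy]
    group
  have y2 : y * E 0 1 0 * y⁻¹ = E p q r := by
    rw [← x3, ← x1, ← y1]
    have h : y * (x * E 1 0 0 * x⁻¹) * y⁻¹ = (y * x) * E 1 0 0 * (y * x)⁻¹ := by group
    rw [h, ← hxy]
    group
  have X := C.conj x1 x2 x3
  have Y := C.conj y1 y2 y3
  obtain ⟨a, b, c, hw⟩ := C.surj _ wx
  obtain ⟨a', b', c', hw'⟩ := C.surj _ wy
  -- inverted elements
  have e1 := inv_of_sq (t := t) hx
  rw [hw, X, C.inv, C.cong] at e1
  obtain ⟨e11, e12, e13⟩ := e1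
  have e2 := inv_of_sq (t := t) hy
  rw [hw', Y, C.inv, C.cong] at e2
  obtain ⟨e21, e22, e23⟩ := e2
  -- products with odd numbers
  have par : ∀ m s : ℤ, ¬ (2 : ℤ) ∣ s → (2 : ℤ) ∣ m * s - m := by
    intro m s hs
    have h1 : (2 : ℤ) ∣ s - 1 := by omega
    have h2 : m * s - m = m * (s - 1) := by ring
    rw [h2]
    exact h1.mul_left m
  have oc : ¬ (2 : ℤ) ∣ c := by
    intro hc
    have h1 := two_dvd_of_dvd hn1 e11
    have h2 := par c p pp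
    by_cases ha : (2 : ℤ) ∣ a
    · apply fx (E 0 0 0) (C.mem 0 0 0)
      rw [C.zero, hw]
      simp only [mul_one, mul_inv_cancel, inv_one]
      exact C.pow_even hn1 ha (by omega) hc
    · apply fx (E 1 0 0) (C.mem _ _ _)
      rw [x1, hw, C.inv, C.mul, C.mul]
      exact C.pow_even hn1 (by omega) (by omega) (by omega)
  have ob : ¬ (2 : ℤ) ∣ b' := by
    intro hc
    have h1 := two_dvd_of_dvd hn1 e21
    have h2 := par b' p pp
    by_cases ha : (2 : ℤ) ∣ a'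
    · apply fy (E 0 0 0) (C.mem 0 0 0)
      rw [C.zero, hw']
      simp only [mul_one, mul_inv_cancel, inv_one]
      exact C.pow_even hn1 ha hc (by omega)
    · apply fy (E 1 0 0) (C.mem _ _ _)
      rw [y1, hw', C.inv, C.mul, C.mul]
      exact C.pow_even hn1 (by omega) (by omega) (by omega)
  have hr : (2 : ℤ) ^ n ∣ r + 1 := by
    apply dvd_of_odd_mul oc
    have h : c * (r + 1) = (a * 0 + b * 0 + c * r) - -c := by ring
    rw [h]
    exact e13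
  have hq : (2 : ℤ) ^ n ∣ q + 1 := by
    apply dvd_of_odd_mul ob
    have h : b' * (q + 1) = (a' * 0 + b' * q + c' * 0) - -b' := by ring
    rw [h]
    exact e22
  have hp : (2 : ℤ) ^ n ∣ p + 1 := by
    have h1 : (2 : ℤ) ^ n ∣ p - q := by
      apply dvd_of_odd_mul oc
      have h := dvd_sub e11 e12
      have h2 : c * (p - q) = a * 0 + b * 1 + c * p - -a - (a * 1 + b * 0 + c * q - -b) := by ring
      rw [h2]
      exact h
    have h2 : p + 1 = (p - q) + (q + 1) := by ring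
    rw [h2]
    exact dvd_add h1 hq
  -- the commutator relation
  have c1 := comm_left x y t
  have c2 := comm_left y x t
  rw [← hxy, c1, hw, hw', X, Y, C.mul, C.mul, C.cong] at c2
  obtain ⟨-, c22, -⟩ := c2
  have hab : (2 : ℤ) ^ n ∣ a + b - c := by
    have h1 : a + b - c = (a * 1 + b * 0 + c * q - -b) - c * (q + 1) := by ring
    rw [h1]
    exact dvd_sub e12 (hq.mul_left c)
  have hab' : (2 : ℤ) ^ n ∣ a' + c' - b' := by
    have h1 : a' + c' - b' = (a' * 0 + b' * p + c' * 1 - -a') - b' * (p + 1) := by ring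
    rw [h1]
    exact dvd_sub e21 (hp.mul_left b')
  have h2 : (2 : ℤ) ^ n ∣ 2 * (b - c') := by
    have h3 : 2 * (b - c') = (a' * 1 + b' * 0 + c' * q + b - (a * 0 + b * q + c * 0 + b')) -
        (c' - b) * (q + 1) - (a' + c' - b') := by ring
    rw [h3]
    exact dvd_sub (dvd_sub c22 (hq.mul_left _)) hab'
  have h4 : (2 : ℤ) ∣ b - c' := by
    obtain ⟨m, rfl⟩ : ∃ m, n = m + 1 := ⟨n - 1, by omega⟩
    rw [pow_succ', mul_dvd_mul_iff_left (by norm_num)] at h2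
    exact (dvd_pow_self 2 (by omega)).trans h2
  have h5 := two_dvd_of_dvd hn1 hab
  have h6 := two_dvd_of_dvd hn1 hab'
  -- the third involution
  have h7 := par c' p pp
  have h8 := par c' q pq
  have h9 := par c' r pr
  have hw'' : ⁅x * y, t⁆ = E (b' + c' * p + a) (a' + c' * q + b) (c' * r + c) := by
    rw [c1, hw, hw', X, C.mul]
    congr 1 <;> ring
  by_cases hB : (2 : ℤ) ∣ a' + c' * q + b
  · apply fxy (E 0 0 0) (C.mem 0 0 0)
    rw [C.zero, hw'']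
    simp only [mul_one, mul_inv_cancel, inv_one]
    exact C.pow_even hn1 (by omega) hB (by omega)
  · apply fxy (E 0 1 0) (C.mem _ _ _)
    have h10 : x * y * E 0 1 0 * (x * y)⁻¹ = E 0 0 1 := by
      have h : x * y * E 0 1 0 * (x * y)⁻¹ = x * (y * E 0 1 0 * y⁻¹) * x⁻¹ := by group
      rw [h, y2, ← x3]
      have h' : x * (x * E 0 0 1 * x⁻¹) * x⁻¹ = (x * x) * E 0 0 1 * (x * x)⁻¹ := by group
      rw [h', hx]
      group
    rw [h10, hw'', C.inv, C.mul, C.mul]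
    exact C.pow_even hn1 (by omega) (by omega) (by omega)

/-- Coordinates on a homocyclic group of rank 3. -/
theorem exists_co {t d : G} {V W : Subgroup G} {k : ℕ} (L : Lv t d V W k) {e0 e1 e2 : G}
    (h0 : e0 ∈ W) (h1 : e1 ∈ W) (h2 : e2 ∈ W)
    (ind : ∀ a b c : ℤ, (e0 ^ (2 ^ k)) ^ a * (e1 ^ (2 ^ k)) ^ b * (e2 ^ (2 ^ k)) ^ c = 1 →
      (2 : ℤ) ∣ a ∧ (2 : ℤ) ∣ b ∧ (2 : ℤ) ∣ c)
    (gen : ∀ v ∈ V, ∃ a b c : ℤ, v = (e0 ^ (2 ^ k)) ^ a * (e1 ^ (2 ^ k)) ^ b * (e2 ^ (2 ^ k)) ^ c) :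
    ∃ E : ℤ → ℤ → ℤ → G, Co W (k + 1) E ∧ E 1 0 0 = e0 ∧ E 0 1 0 = e1 ∧ E 0 0 1 = e2 := by
  have cm : ∀ {x y : G}, x ∈ W → y ∈ W → Commute x y := fun hx hy => L.comm _ hx _ hy
  let E : ℤ → ℤ → ℤ → G := fun a b c => e0 ^ a * e1 ^ b * e2 ^ c
  have hE : ∀ a b c, E a b c = e0 ^ a * e1 ^ b * e2 ^ c := fun _ _ _ => rfl
  have mem : ∀ a b c, E a b c ∈ W := fun a b c =>
    mul_mem (mul_mem (zpow_mem h0 a) (zpow_mem h1 b)) (zpow_mem h2 c)
  have mul : ∀ a b c a' b' c', E a b c * E a' b' c' = E (a + a') (b + b') (c + c') := by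
    intro a b c a' b' c'
    rw [hE, hE, hE, zpow_add, zpow_add, zpow_add]
    have q1 : e2 ^ c * e0 ^ a' = e0 ^ a' * e2 ^ c := cm (zpow_mem h2 c) (zpow_mem h0 a')
    have q2 : e1 ^ b * e0 ^ a' = e0 ^ a' * e1 ^ b := cm (zpow_mem h1 b) (zpow_mem h0 a')
    have q3 : e2 ^ c * e1 ^ b' = e1 ^ b' * e2 ^ c := cm (zpow_mem h2 c) (zpow_mem h1 b')
    calc e0 ^ a * e1 ^ b * e2 ^ c * (e0 ^ a' * e1 ^ b' * e2 ^ c') =
        e0 ^ a * e1 ^ b * (e2 ^ c * e0 ^ a') * e1 ^ b' * e2 ^ c' := by group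
      _ = e0 ^ a * (e1 ^ b * e0 ^ a') * (e2 ^ c * e1 ^ b') * e2 ^ c' := by rw [q1]; group
      _ = e0 ^ a * e0 ^ a' * (e1 ^ b * e1 ^ b') * (e2 ^ c * e2 ^ c') := by rw [q2, q3]; group
  have pw : ∀ a b c (m : ℕ), E a b c ^ m = E (m * a) (m * b) (m * c) := by
    intro a b c m
    induction m with
    | zero =>
      rw [pow_zero, hE]
      simp
    | succ m ih =>
      rw [pow_succ, ih, mul]
      congr 1 <;> push_cast <;> ring
  have pw2 : ∀ a b c, E a b c ^ (2 ^ k) =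
      (e0 ^ (2 ^ k)) ^ a * (e1 ^ (2 ^ k)) ^ b * (e2 ^ (2 ^ k)) ^ c := by
    intro a b c
    rw [pw, hE, zpow_mul, zpow_mul, zpow_mul]
    simp only [zpow_natCast]
  have one1 : ∀ i, i ≤ k + 1 → ∀ a b c, E a b c = 1 →
      (2 : ℤ) ^ i ∣ a ∧ (2 : ℤ) ^ i ∣ b ∧ (2 : ℤ) ^ i ∣ c := by
    intro i
    induction i with
    | zero => intro _ a b c _; simp
    | succ i ih =>
      intro hi a b c h
      obtain ⟨⟨a', rfl⟩, ⟨b', rfl⟩, ⟨c', rfl⟩⟩ := ih (by omega) a b c h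
      have h3 : E a' b' c' ^ (2 ^ i) = 1 := by
        rw [pw]
        push_cast
        exact h
      have h4 : E a' b' c' ^ (2 ^ k) = 1 := by
        have : (2 : ℕ) ^ k = 2 ^ i * 2 ^ (k - i) := by
          rw [← pow_add]
          congr 1
          omega
        rw [this, pow_mul, h3, one_pow]
      rw [pw2] at h4
      obtain ⟨g1, g2, g3⟩ := ind _ _ _ h4
      rw [pow_succ]
      exact ⟨mul_dvd_mul_left _ g1, mul_dvd_mul_left _ g2, mul_dvd_mul_left _ g3⟩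
  have pwW : ∀ {x : G}, x ∈ W → ∀ a : ℤ, (2 : ℤ) ^ (k + 1) ∣ a → x ^ a = 1 := by
    rintro x hx _ ⟨a, rfl⟩
    have : x ^ ((2 : ℤ) ^ (k + 1)) = 1 := by
      have := L.pw_succ hx
      rw [← zpow_natCast] at this
      push_cast at this
      exact this
    rw [zpow_mul, this, one_zpow]
  refine ⟨E, ⟨mul, ?_, mem, ?_⟩, ?_, ?_, ?_⟩
  · intro a b c
    constructor
    · exact one1 (k + 1) le_rfl a b c
    · rintro ⟨g1, g2, g3⟩
      rw [hE, pwW h0 a g1, pwW h1 b g2, pwW h2 c g3]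
      simp
  · have key : ∀ i, i ≤ k + 1 → ∀ w ∈ W, ∃ a b c, ∃ y ∈ W, w = E a b c * y ^ (2 ^ i) := by
      intro i
      induction i with
      | zero =>
        intro _ w hw
        refine ⟨0, 0, 0, w, hw, ?_⟩
        rw [hE]
        simp
      | succ i ih =>
        intro hi w hw
        obtain ⟨a, b, c, y, hy, h3⟩ := ih (by omega) w hw
        obtain ⟨a', b', c', h4⟩ := gen _ (L.pw y hy)
        rw [← pw2] at h4
        have h5 : (y * (E a' b' c')⁻¹) ^ (2 ^ k) = 1 := by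
          rw [mul_pow_of_comm (L.comm _ hy _ (inv_mem (mem _ _ _))), inv_pow, h4, mul_inv_cancel]
        obtain ⟨z, hz, h6⟩ := L.root' k (by omega) _ (mul_mem hy (inv_mem (mem a' b' c'))) h5
        have h7 : k + 1 - k = 1 := by omega
        rw [h7, pow_one] at h6
        refine ⟨a + 2 ^ i * a', b + 2 ^ i * b', c + 2 ^ i * c', z, hz, ?_⟩
        have h8 : y = E a' b' c' * z ^ 2 := by
          rw [← h6, L.comm _ hy _ (inv_mem (mem _ _ _)), mul_inv_cancel_left]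
        rw [h3, h8, mul_pow_of_comm (L.comm _ (mem _ _ _) _ (pow_mem hz 2)), ← pow_mul, ← pow_succ',
          pw, ← mul_assoc, mul]
        push_cast
        rfl
    intro w hw
    obtain ⟨a, b, c, y, hy, h3⟩ := key (k + 1) le_rfl w hw
    rw [L.pw_succ hy, mul_one] at h3
    exact ⟨a, b, c, h3⟩
  · rw [hE]; simp
  · rw [hE]; simp
  · rw [hE]; simp

end Cfsg.Agent.StdL2.Pair
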