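import Cfsg.Agent.StdL2.TowerFinal
import Cfsg.Agent.StdL2.G23Trans

/-!
# The exceptional case above the bottom of the tower

`V` elementary of order 8, `W` homocyclic of exponent `2 ^ (k + 1) ≥ 4`, `N(W⟨t⟩)` induces
`L₃(2)` on `V`.
-/

set_option autoImplicit false

namespace Cfsg.Agent.StdL2

open scoped commutatorElement

open Cfsg.Agent.Lib.GoldschmidtFusion (exists_conj_le_in lt_inf_normalizer)

universe u

variable {G : Type u} [Group G]

theorem TCen.elem_of_conj [Finite G] {t : G} {V : Subgroup G} (H : TCen t V) {P : Subgroup G}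
    (hP : IsPGroup 2 P) (g : G) (hc : ∀ x ∈ P, x * (g * t * g⁻¹) = g * t * g⁻¹ * x) :
    ∀ x ∈ P, x * x = 1 := by
  obtain ⟨c, _, hc1⟩ := H.exists_conj (P := P.map (MulAut.conj g⁻¹).toMonoidHom) (hP.map _) (by
    rintro _ ⟨x, hx, rfl⟩
    show t * (g⁻¹ * x * g⁻¹⁻¹) = g⁻¹ * x * g⁻¹⁻¹ * t
    have h4 : t * (g⁻¹ * x * g⁻¹⁻¹) = g⁻¹ * (g * t * g⁻¹ * x) * g := by group
    have h5 : g⁻¹ * x * g⁻¹⁻¹ * t = g⁻¹ * (x * (g * t * g⁻¹)) * g := by group
    rw [h4, h5, hc x hx])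
  intro x hx
  have h1 := H.E_sq (hc1 _ ⟨x, hx, rfl⟩)
  have h2 : (c * (g⁻¹ * x * g⁻¹⁻¹) * c⁻¹) * (c * (g⁻¹ * x * g⁻¹⁻¹) * c⁻¹) =
      (c * g⁻¹) * (x * x) * (c * g⁻¹)⁻¹ := by group
  have h3 : (c * g⁻¹) * (x * x) * (c * g⁻¹)⁻¹ = 1 := by
    rw [← h2]
    exact h1
  rw [mul_inv_eq_one] at h3
  exact mul_eq_left.mp h3

namespace Lv

variable {t d : G} {V W : Subgroup G} {k : ℕ}

/-- The elements of order dividing `2 ^ i`. -/
def Om (L : Lv t d V W k) (i : ℕ) : Subgroup G where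
  carrier := {w | w ∈ W ∧ w ^ (2 ^ i) = 1}
  one_mem' := ⟨one_mem _, one_pow _⟩
  mul_mem' := by
    rintro a b ⟨ha, ha'⟩ ⟨hb, hb'⟩
    refine ⟨mul_mem ha hb, ?_⟩
    rw [mul_pow_of_comm (L.comm a ha b hb), ha', hb', one_mul]
  inv_mem' := by
    rintro a ⟨ha, ha'⟩
    refine ⟨inv_mem ha, ?_⟩
    rw [inv_pow, ha', inv_one]

theorem card_Om [Finite G] (L : Lv t d V W k) :
    ∀ i, i ≤ k + 1 → Nat.card (L.Om i) = Nat.card V ^ i := by
  intro i
  induction i with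
  | zero =>
    intro _
    have h1 : L.Om 0 = ⊥ := by
      rw [Subgroup.eq_bot_iff_forall]
      rintro x ⟨_, hx⟩
      rwa [pow_zero, pow_one] at hx
    rw [h1, Subgroup.card_bot, pow_zero]
  | succ i ih =>
    intro hi
    have ih := ih (by omega)
    let f : L.Om (i + 1) →* V :=
      { toFun := fun u => ⟨(u : G) ^ (2 ^ i), L.om _ (pow_mem u.2.1 _) (by
          rw [← pow_add, ← two_mul, ← pow_succ']
          exact u.2.2)⟩
        map_one' := by
          apply Subtype.ext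
          show (1 : G) ^ (2 ^ i) = 1
          rw [one_pow]
        map_mul' := by
          intro a b
          apply Subtype.ext
          show ((a : G) * (b : G)) ^ (2 ^ i) = (a : G) ^ (2 ^ i) * (b : G) ^ (2 ^ i)
          exact mul_pow_of_comm (L.comm _ a.2.1 _ b.2.1) _ }
    have h2 : Function.Surjective f := by
      intro v
      obtain ⟨u, hu, h⟩ := L.root v v.2
      have h3 : (u ^ (2 ^ (k - i))) ^ (2 ^ i) = v := by
        rw [← pow_mul, ← pow_add, Nat.sub_add_cancel (by omega), h]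
      refine ⟨⟨u ^ (2 ^ (k - i)), pow_mem hu _, ?_⟩, Subtype.ext h3⟩
      rw [pow_succ, pow_mul, h3, pow_two]
      exact L.vsq _ v.2
    have h3 := f.ker.card_eq_card_quotient_mul_card_subgroup
    have h4 : Nat.card (L.Om (i + 1) ⧸ f.ker) = Nat.card V :=
      Nat.card_congr (QuotientGroup.quotientKerEquivOfSurjective f h2).toEquiv
    have h6 : L.Om i ≤ L.Om (i + 1) := by
      rintro x ⟨h1, h2⟩
      refine ⟨h1, ?_⟩
      rw [pow_succ, pow_mul, h2, one_pow]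
    have h5 : f.ker = (L.Om i).subgroupOf (L.Om (i + 1)) := by
      ext x
      rw [MonoidHom.mem_ker, Subgroup.mem_subgroupOf]
      constructor
      · intro h
        exact ⟨x.2.1, congrArg (fun z : V => (z : G)) h⟩
      · intro h
        exact Subtype.ext h.2
    rw [h3, h4, h5, Nat.card_congr (Subgroup.subgroupOfEquivOfLe h6).toEquiv, ih, pow_succ']

theorem card_W [Finite G] (L : Lv t d V W k) : Nat.card W = Nat.card V ^ (k + 1) := by
  rw [← L.card_Om (k + 1) le_rfl]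
  have h1 : L.Om (k + 1) = W := by
    ext x
    exact ⟨fun h => h.1, fun h => ⟨h, L.pw_succ h⟩⟩
  rw [h1]

end Lv

namespace Exc

variable [Finite G] {t d : G} {V W : Subgroup G} {k : ℕ}

/-- An element normalising `W` and conjugate to `t` centralises `V`. -/
theorem fix_of_conj (H : TCen t V) (X : Exc t d V W k) (hk : 1 ≤ k) {x g : G}
    (hx : x ∈ Subgroup.normalizer (W : Set G)) (hg : g * t * g⁻¹ = x) :
    ∀ v ∈ V, x * v * x⁻¹ = v := by
  have L := X.lv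
  have hxx : x * x = 1 := by
    rw [← hg]
    have h1 : g * t * g⁻¹ * (g * t * g⁻¹) = g * (t * t) * g⁻¹ := by group
    rw [h1, H.t2, mul_one, mul_inv_cancel]
  have hxW : ∀ w ∈ W, x * w * x⁻¹ ∈ W := fun w hw => (Subgroup.mem_normalizer_iff.1 hx w).1 hw
  have hel := H.elem_of_conj (P := W ⊓ Subgroup.centralizer ({x} : Set G))
    (L.W_pgroup.to_le inf_le_left) g (by
      intro y hy
      rw [hg]
      exact Subgroup.mem_centralizer_singleton_iff.1 hy.2)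
  -- norms
  have hn : ∀ w ∈ W, (w * w) * (x * (w * w) * x⁻¹) = 1 := by
    intro w hw
    have h1 : w * (x * w * x⁻¹) ∈ W ⊓ Subgroup.centralizer ({x} : Set G) := by
      refine ⟨mul_mem hw (hxW w hw), Subgroup.mem_centralizer_singleton_iff.2 ?_⟩
      have h2 : x * (w * (x * w * x⁻¹)) = (x * w * x⁻¹) * (x * x) * w * x⁻¹ := by group
      have h3 : w * (x * w * x⁻¹) * x = w * (x * w * x⁻¹) * (x * x) * x⁻¹ := by group
      rw [h2, h3, hxx, mul_one, mul_one, L.comm w hw _ (hxW w hw)]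
    have h2 := hel _ h1
    have h3 : w * (x * w * x⁻¹) * (w * (x * w * x⁻¹)) = (w * w) * (x * (w * w) * x⁻¹) := by
      have h4 : w * (x * w * x⁻¹) * (w * (x * w * x⁻¹)) =
          w * ((x * w * x⁻¹) * w) * (x * w * x⁻¹) := by group
      rw [h4, L.comm _ (hxW w hw) w hw]
      group
    rw [← h3, h2]
  intro v hv
  obtain ⟨w, hw, rfl⟩ := L.root v hv
  obtain ⟨j, rfl⟩ : ∃ j, k = j + 1 := ⟨k - 1, by omega⟩
  have h1 := hn (w ^ (2 ^ j)) (pow_mem hw _)
  have h2 : w ^ (2 ^ j) * w ^ (2 ^ j) = w ^ (2 ^ (j + 1)) := by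
    rw [← pow_add, ← two_mul, ← pow_succ']
  rw [h2] at h1
  have h3 := L.vsq _ hv
  have h4 : x * w ^ (2 ^ (j + 1)) * x⁻¹ = (w ^ (2 ^ (j + 1)))⁻¹ :=
    (inv_eq_of_mul_eq_one_right h1).symm
  rw [h4]
  exact inv_eq_of_mul_eq_one_right h3

/-- A Sylow 2-subgroup of `N(W⟨t⟩)`. -/
structure ES (X : Exc t d V W k) (S : Subgroup G) : Prop where
  le : S ≤ towerN t W
  pg : IsPGroup 2 S
  odd : ¬ 2 ∣ S.relIndex (towerN t W)
  WS : W ≤ S
  tS : t ∈ S

theorem exists_ES (H : TCen t V) (X : Exc t d V W k) : ∃ S, X.ES S := by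
  have ht2 := H.t2
  have L := X.lv
  set N := towerN t W with hN
  have hQN : L.Q ht2 ≤ N := fun x hx => by
    have h1 := L.Q_le_M ht2 hx
    exact ⟨h1.1, h1.2.1⟩
  have hQ' : IsPGroup 2 ((L.Q ht2).subgroupOf N) :=
    (L.Q_pgroup ht2).comap_of_injective (Subgroup.subtype _) (Subgroup.subtype_injective _)
  obtain ⟨R, hR⟩ := hQ'.exists_le_sylow
  have hSM : (R : Subgroup N).map N.subtype ≤ N := by
    rintro _ ⟨x, _, rfl⟩
    exact x.2
  have hodd : ¬ 2 ∣ ((R : Subgroup N).map N.subtype).relIndex N := by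
    rw [Subgroup.relIndex, Subgroup.subgroupOf,
      Subgroup.comap_map_eq_self_of_injective (Subgroup.subtype_injective _)]
    exact R.not_dvd_index
  refine ⟨_, hSM, R.isPGroup'.map _, hodd, ?_, ?_⟩
  · intro w hw
    exact ⟨⟨w, hQN (L.W_le_Q ht2 hw)⟩, hR (by
      rw [Subgroup.mem_subgroupOf]; exact L.W_le_Q ht2 hw), rfl⟩
  · exact ⟨⟨t, hQN (L.t_mem_Q ht2)⟩, hR (by
      rw [Subgroup.mem_subgroupOf]; exact L.t_mem_Q ht2), rfl⟩

omit [Finite G] in
/-- `N` is transitive on `t W`. -/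
theorem N_trans (H : TCen t V) (X : Exc t d V W k) :
    ∀ w ∈ W, ∃ n ∈ towerN t W, n * t * n⁻¹ = t * w := by
  intro w hw
  have ht2 := H.t2
  have L := X.lv
  obtain ⟨n, hn, hn1⟩ := X.tr _ (L.pw w hw)
  have h1 : n * t * n⁻¹ = t * ⁅n, t⁆⁻¹ := L.conj_t H hn
  -- `⁅n, t⁆⁻¹ = w y²`
  have h2 : (w⁻¹ * ⁅n, t⁆⁻¹) ^ (2 ^ k) = 1 := by
    rw [mul_pow_of_comm (L.comm _ (inv_mem hw) _ (inv_mem hn.2)), inv_pow, inv_pow, hn1,
      ← mul_inv_rev, L.vsq _ (L.pw w hw), inv_one]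
  obtain ⟨y, hy, hy1⟩ := L.root' k (by omega) _ (mul_mem (inv_mem hw) (inv_mem hn.2)) h2
  have h3 : k + 1 - k = 1 := by omega
  rw [h3, pow_one, pow_two] at hy1
  have hyN : y ∈ towerN t W := by
    have h1 := L.Q_le_M ht2 (L.W_le_Q ht2 hy)
    exact ⟨h1.1, h1.2.1⟩
  refine ⟨y * n, mul_mem hyN hn, ?_⟩
  have h4 : y * n * t * (y * n)⁻¹ = y * (n * t * n⁻¹) * y⁻¹ := by group
  have h5 : t * ⁅n, t⁆⁻¹ = t * w * (y * y) := by
    rw [← hy1]
    group
  rw [h4, h1, h5]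
  have h6 : y * (t * w * (y * y)) * y⁻¹ = (y * t) * (w * y) := by group
  rw [h6, L.w_t ht2 hy, L.comm w hw y hy]
  group

omit [Finite G] in
/-- The 2-elements of `N` centralising `V` lie in `W ∪ tW`. -/
theorem ES.mem_Q (H : TCen t V) {X : Exc t d V W k} {S : Subgroup G} (hS : X.ES S) {s : G}
    (hs : s ∈ S) (hv : ∀ v ∈ V, s * v * s⁻¹ = v) : s ∈ W ∨ t * s ∈ W := by
  have ht2 := H.t2
  have L := X.lv
  have hsN := hS.le hs
  have h := X.cent s hsN hv
  obtain ⟨y, hy, hy1⟩ := L.root' k (by omega) _ hsN.2 h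
  have h3 : k + 1 - k = 1 := by omega
  rw [h3, pow_one, pow_two] at hy1
  have hc : (y⁻¹ * s) * t = t * (y⁻¹ * s) := by
    have h4 : s * t = y * y * t * s := by
      rw [← hy1, commutatorElement_def]
      group
    have h6 : t * y⁻¹ = y * t := by
      rw [L.w_t ht2 hy]
    rw [mul_assoc, h4, ← mul_assoc t, h6]
    group
  have h1 := H.syl (S ⊓ Subgroup.centralizer ({t} : Set G)) (hS.pg.to_le inf_le_left)
    (fun z hz => (Subgroup.mem_centralizer_singleton_iff.1 hz.2).symm)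
    (fun v hv => ⟨hS.WS (L.VW hv), Subgroup.mem_centralizer_singleton_iff.2 (H.vt v hv).symm⟩)
    ⟨hS.tS, Subgroup.mem_centralizer_singleton_iff.2 rfl⟩ (y⁻¹ * s)
    ⟨S.mul_mem (S.inv_mem (hS.WS hy)) hs, Subgroup.mem_centralizer_singleton_iff.2 hc⟩
  have h6 : s = y * (y⁻¹ * s) := by group
  have h7 : s ∈ L.Q ht2 := by
    rw [h6]
    refine (L.Q ht2).mul_mem (Or.inl hy) ?_
    rcases h1 with h1 | h1
    · exact Or.inl (L.VW h1)
    · exact Or.inr (L.VW h1)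
  exact h7

/-- The conjugates of `t` in `S` lie in `t W`. -/
theorem ES.conj_mem (H : TCen t V) {X : Exc t d V W k} (hk : 1 ≤ k) {S : Subgroup G}
    (hS : X.ES S) {g : G} (hg : g * t * g⁻¹ ∈ S) : t * (g * t * g⁻¹) ∈ W := by
  have L := X.lv
  have h1 := X.fix_of_conj H hk (hS.le hg).1 rfl
  rcases hS.mem_Q H hg h1 with h | h
  · exfalso
    exact noconj_of_comm H L.W_pgroup (by rw [X.oct]; norm_num) L.comm (L.card_ge hk) g h
  · exact h

/-- `S` is a Sylow 2-subgroup of `G`. -/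
theorem ES.sylow (H : TCen t V) {X : Exc t d V W k} (hk : 1 ≤ k) {S : Subgroup G}
    (hS : X.ES S) : ∃ R : Sylow 2 G, (R : Subgroup G) = S := by
  have ht2 := H.t2
  have L := X.lv
  obtain ⟨R, hR⟩ := hS.pg.exists_le_sylow
  refine ⟨R, ?_⟩
  by_contra hne
  have hlt : S < (R : Subgroup G) := lt_of_le_of_ne hR (Ne.symm hne)
  obtain ⟨x, hx, hxS⟩ := SetLike.exists_of_lt (lt_inf_normalizer R.isPGroup' hlt)
  have hxS' : ∀ s ∈ S, x * s * x⁻¹ ∈ S := fun s hs => (Subgroup.mem_normalizer_iff.1 hx.2 s).1 hs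
  -- `x` maps `tW` to `tW`
  have h1 : ∀ w ∈ W, t * (x * (t * w) * x⁻¹) ∈ W := by
    intro w hw
    obtain ⟨n, hn, hn1⟩ := X.N_trans H w hw
    have h2 : x * (t * w) * x⁻¹ = (x * n) * t * (x * n)⁻¹ := by
      rw [← hn1]
      group
    have h3 : (x * n) * t * (x * n)⁻¹ ∈ S := by
      rw [← h2]
      exact hxS' _ (mul_mem hS.tS (hS.WS hw))
    rw [h2]
    exact hS.conj_mem H hk h3
  have h0 : t * (x * t * x⁻¹) ∈ W := by
    have h2 := h1 1 (one_mem _)
    rwa [mul_one] at h2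
  have hxW : ∀ w ∈ W, x * w * x⁻¹ ∈ W := by
    intro w hw
    have h2 : x * w * x⁻¹ = (x * t * x⁻¹)⁻¹ * (x * (t * w) * x⁻¹) := by group
    have h3 : (x * t * x⁻¹)⁻¹ * (x * (t * w) * x⁻¹) =
        (t * (x * t * x⁻¹))⁻¹ * (t * (x * (t * w) * x⁻¹)) := by group
    rw [h2, h3]
    exact mul_mem (inv_mem h0) (h1 w hw)
  have hxN : x ∈ towerN t W := by
    refine ⟨mem_norm_of_le hxW, ?_⟩
    have h2 : ⁅x, t⁆ = t * (t * (x * t * x⁻¹)) * t⁻¹ := by
      rw [← Lv.eq_t_mul ht2, commutatorElement_def]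
    rw [h2, L.tinv _ h0]
    exact inv_mem h0
  -- Sylow in `N`
  have h5 := Subgroup.relIndex_mul_relIndex S ((R : Subgroup G) ⊓ towerN t W) (towerN t W)
    (le_inf hR hS.le) inf_le_right
  have hodd : ¬ 2 ∣ S.relIndex ((R : Subgroup G) ⊓ towerN t W) := fun h =>
    hS.odd (h5 ▸ h.mul_right _)
  have hp : IsPGroup 2 ((R : Subgroup G) ⊓ towerN t W : Subgroup G) :=
    R.isPGroup'.to_le inf_le_left
  obtain ⟨m, hm⟩ := hp.index (S.subgroupOf ((R : Subgroup G) ⊓ towerN t W))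
  have hm' : S.relIndex ((R : Subgroup G) ⊓ towerN t W) = 2 ^ m := hm
  have hm0 : m = 0 := by
    by_contra h
    apply hodd
    rw [hm']
    exact dvd_pow_self 2 h
  rw [hm0, pow_zero, Subgroup.relIndex_eq_one] at hm'
  exact hxS (hm' ⟨hx.1, hxN⟩)

end Exc

end Cfsg.Agent.StdL2
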