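import Mathlib

/-!
# S1773, case (f): computations in a ring of characteristic 2
-/

set_option autoImplicit false
set_option linter.unusedSectionVars false

namespace Cfsg.Agent.StdL2.F.Alg

variable {R : Type*} [Ring R]

/-- in characteristic 2 -/
theorem add_left_inj2 (h2 : ∀ x : R, x + x = 0) {a b : R} (h : a + b = 0) : a = b := by
  have h1 := eq_neg_of_add_eq_zero_left h
  rwa [neg_eq_of_add_eq_zero_left (h2 b)] at h1

section A

variable (h2 : ∀ x : R, x + x = 0) {T P O O' c c' : R}
  (hTT : T * T = 1) (hPP : P * P = 1) (hTP : T * P = P * T)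
  (hOT : O * T = T * O) (hOP : O * P = P * O + P)
  (hO'T : O' * T = T * O' + T) (hO'P : O' * P = P * O' + P)
  (hO : O * O = O + c) (hO' : O' * O' = O' + c')
  (hc : c * O' = O' * c) (hc' : c' * O = O * c')

include h2 hTT hPP hTP hOT hOP hO'T hO'P

/-- the commutator `z = ω ω' + ω' ω` commutes with `t`. -/
theorem z_T : (O * O' + O' * O) * T = T * (O * O' + O' * O) := by
  have e1 : O * O' * T = T * (O * O') + T * O := by
    rw [mul_assoc, hO'T, mul_add, ← mul_assoc, hOT, mul_assoc]
  have e2 : O' * O * T = T * (O' * O) + T * O := by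
    rw [mul_assoc, hOT, ← mul_assoc, hO'T, add_mul, mul_assoc]
  rw [add_mul, e1, e2, mul_add]
  have := h2 (T * O)
  calc T * (O * O') + T * O + (T * (O' * O) + T * O) =
      T * (O * O') + T * (O' * O) + (T * O + T * O) := by abel
    _ = _ := by rw [this, add_zero]

/-- the commutator `z = ω ω' + ω' ω` commutes with `f`. -/
theorem z_P : (O * O' + O' * O) * P = P * (O * O' + O' * O) := by
  have e1 : O * O' * P = P * (O * O') + P * O' + (P * O + P) := by
    rw [mul_assoc, hO'P, mul_add, ← mul_assoc, hOP, add_mul, mul_assoc]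
  have e2 : O' * O * P = P * (O' * O) + P * O + (P * O' + P) := by
    rw [mul_assoc, hOP, mul_add, ← mul_assoc, hO'P, add_mul, mul_assoc]
  rw [add_mul, e1, e2, mul_add]
  have h3 := h2 (P * O)
  have h4 := h2 (P * O')
  have h5 := h2 P
  calc P * (O * O') + P * O' + (P * O + P) + (P * (O' * O) + P * O + (P * O' + P)) =
      P * (O * O') + P * (O' * O) + (P * O + P * O) + (P * O' + P * O') + (P + P) := by abel
    _ = _ := by rw [h3, h4, h5, add_zero, add_zero, add_zero]

omit hTT hPP hTP hOT hOP hO'T hO'P in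
include hO hc in
theorem O_z : O * (O * O' + O' * O) + (O * O' + O' * O) * O = O * O' + O' * O := by
  have e1 : O * (O * O') = O * O' + c * O' := by rw [← mul_assoc, hO, add_mul]
  have e2 : O' * O * O = O' * O + O' * c := by rw [mul_assoc, hO, mul_add]
  rw [mul_add, add_mul, e1, e2, hc, mul_assoc O O' O]
  have h3 := h2 (O * (O' * O))
  have h4 := h2 (O' * c)
  calc O * O' + O' * c + O * (O' * O) + (O * (O' * O) + (O' * O + O' * c)) =
      O * O' + O' * O + (O' * c + O' * c) + (O * (O' * O) + O * (O' * O)) := by abel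
    _ = _ := by rw [h3, h4, add_zero, add_zero]

omit hTT hPP hTP hOT hOP hO'T hO'P in
include hO' hc' in
theorem O'_z : O' * (O * O' + O' * O) + (O * O' + O' * O) * O' = O * O' + O' * O := by
  have := O_z h2 hO' hc'
  rw [add_comm (O' * O) (O * O')] at this
  exact this

include hO hO' hc hc' in
/-- `z = δ f`. -/
theorem z_eq {α β γ δ : R} (hα : ∀ x, (x = O ∨ x = O') → x * α = α * x)
    (hβ : ∀ x, (x = O ∨ x = O') → x * β = β * x)
    (hγ : ∀ x, (x = O ∨ x = O') → x * γ = γ * x) (hδ : ∀ x, (x = O ∨ x = O') → x * δ = δ * x)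
    (hz : O * O' + O' * O = α + β * T + γ * P + δ * (T * P)) : O * O' + O' * O = γ * P := by
  have h3 := O_z h2 hO hc
  have h4 := O'_z h2 hO' hc'
  have h5 : O * O' + O' * O = γ * P + δ * (T * P) := by
    rw [← h3, hz]
    have a1 : O * (α + β * T + γ * P + δ * (T * P)) =
        α * O + β * (T * O) + (γ * (P * O) + γ * P) + (δ * (T * (P * O)) + δ * (T * P)) := by
      have b1 : O * (β * T) = β * (T * O) := by
        rw [← mul_assoc, hβ O (Or.inl rfl), mul_assoc, hOT]
      have b2 : O * (γ * P) = γ * (P * O) + γ * P := by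
        rw [← mul_assoc, hγ O (Or.inl rfl), mul_assoc, hOP, mul_add]
      have b3 : O * (δ * (T * P)) = δ * (T * (P * O)) + δ * (T * P) := by
        rw [← mul_assoc, hδ O (Or.inl rfl), mul_assoc, ← mul_assoc O T P, hOT, mul_assoc T O P,
          hOP, mul_add, mul_add]
      rw [mul_add, mul_add, mul_add, hα O (Or.inl rfl), b1, b2, b3]
    have a2 : (α + β * T + γ * P + δ * (T * P)) * O =
        α * O + β * (T * O) + γ * (P * O) + δ * (T * (P * O)) := by
      simp only [add_mul, mul_assoc]
    rw [a1, a2]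
    have b4 := h2 (α * O)
    have b5 := h2 (β * (T * O))
    have b6 := h2 (γ * (P * O))
    have b7 := h2 (δ * (T * (P * O)))
    calc α * O + β * (T * O) + (γ * (P * O) + γ * P) + (δ * (T * (P * O)) + δ * (T * P)) +
        (α * O + β * (T * O) + γ * (P * O) + δ * (T * (P * O))) =
        γ * P + δ * (T * P) + (α * O + α * O) + (β * (T * O) + β * (T * O)) +
          (γ * (P * O) + γ * (P * O)) + (δ * (T * (P * O)) + δ * (T * (P * O))) := by abel
      _ = _ := by rw [b4, b5, b6, b7, add_zero, add_zero, add_zero, add_zero]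
  rw [← h4, h5]
  have a1 : O' * (γ * P + δ * (T * P)) = γ * (P * O') + γ * P + (δ * (T * (P * O'))) := by
    have b2 : O' * (γ * P) = γ * (P * O') + γ * P := by
      rw [← mul_assoc, hγ O' (Or.inr rfl), mul_assoc, hO'P, mul_add]
    have b3 : O' * (δ * (T * P)) = δ * (T * (P * O')) := by
      rw [← mul_assoc, hδ O' (Or.inr rfl), mul_assoc, ← mul_assoc O' T P, hO'T, add_mul,
        mul_assoc T O' P, hO'P, mul_add T, mul_add δ, mul_add δ, add_assoc, h2 (δ * (T * P)),
        add_zero]
    rw [mul_add, b2, b3]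
  have a2 : (γ * P + δ * (T * P)) * O' = γ * (P * O') + δ * (T * (P * O')) := by
    simp only [add_mul, mul_assoc]
  rw [a1, a2]
  have b6 := h2 (γ * (P * O'))
  have b7 := h2 (δ * (T * (P * O')))
  calc γ * (P * O') + γ * P + δ * (T * (P * O')) + (γ * (P * O') + δ * (T * (P * O'))) =
      γ * P + (γ * (P * O') + γ * (P * O')) + (δ * (T * (P * O')) + δ * (T * (P * O'))) := by abel
    _ = _ := by rw [b6, b7, add_zero, add_zero]

end A

section M

/-! `M = ω + ω' + δ (1 + f)` -/

variable (h2 : ∀ x : R, x + x = 0) {T P O O' c c' δ : R}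
  (hTT : T * T = 1) (hPP : P * P = 1) (hTP : T * P = P * T)
  (hOT : O * T = T * O) (hOP : O * P = P * O + P)
  (hO'T : O' * T = T * O' + T) (hO'P : O' * P = P * O' + P)
  (hO : O * O = O + c) (hO' : O' * O' = O' + c')
  (hz : O * O' + O' * O = δ * P)
  (hδO : O * δ = δ * O) (hδO' : O' * δ = δ * O') (hδP : P * δ = δ * P) (hδT : T * δ = δ * T)

include h2 hOP hz hδO in
theorem M_O : (O + O' + δ * (1 + P)) * O = O * (O + O' + δ * (1 + P)) := by
  have e1 : O * (O + O' + δ * (1 + P)) =
      O * O + O * O' + (δ * O + (δ * (P * O) + δ * P)) := by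
    have : O * (δ * (1 + P)) = δ * O + (δ * (P * O) + δ * P) := by
      rw [← mul_assoc, hδO, mul_assoc, mul_add, mul_one, hOP, mul_add, mul_add]
    rw [mul_add, mul_add, this]
  have e2 : (O + O' + δ * (1 + P)) * O = O * O + O' * O + (δ * O + δ * (P * O)) := by
    rw [add_mul, add_mul, mul_assoc, add_mul, one_mul, mul_add]
  rw [e1, e2, ← hz]
  have h3 := h2 (O * O')
  calc O * O + O' * O + (δ * O + δ * (P * O)) =
      O * O + (δ * O + δ * (P * O)) + O' * O + (O * O' + O * O') := by rw [h3]; abel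
    _ = _ := by abel

include h2 hO'P hz hδO' in
theorem M_O' : (O + O' + δ * (1 + P)) * O' = O' * (O + O' + δ * (1 + P)) := by
  have := M_O h2 (O := O') (O' := O) (P := P) (δ := δ) hO'P (by rw [add_comm]; exact hz) hδO'
  rw [add_comm O' O] at this
  exact this

include h2 hOP hO'P hδP in
theorem M_P : (O + O' + δ * (1 + P)) * P = P * (O + O' + δ * (1 + P)) := by
  have e1 : (O + O' + δ * (1 + P)) * P = (P * O + P) + (P * O' + P) + δ * (P + P * P) := by
    rw [add_mul, add_mul, hOP, hO'P, mul_assoc, add_mul, one_mul]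
  have e2 : P * (O + O' + δ * (1 + P)) = P * O + P * O' + δ * (P + P * P) := by
    rw [mul_add, mul_add, ← mul_assoc P δ, hδP, mul_assoc, mul_add, mul_one]
  rw [e1, e2]
  have h3 := h2 P
  calc P * O + P + (P * O' + P) + δ * (P + P * P) =
      P * O + P * O' + δ * (P + P * P) + (P + P) := by abel
    _ = _ := by rw [h3, add_zero]

include hTP hOT hO'T hδT in
theorem M_T : (O + O' + δ * (1 + P)) * T = T * (O + O' + δ * (1 + P)) + T := by
  have e1 : (O + O' + δ * (1 + P)) * T = T * O + (T * O' + T) + δ * (T + T * P) := by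
    rw [add_mul, add_mul, hOT, hO'T, mul_assoc, add_mul, one_mul, hTP]
  have e2 : T * (O + O' + δ * (1 + P)) = T * O + T * O' + δ * (T + T * P) := by
    rw [mul_add, mul_add, ← mul_assoc T δ, hδT, mul_assoc, mul_add, mul_one]
  rw [e1, e2]
  abel

include h2 hPP hOP hO'P hO hO' hz hδO hδO' hδP in
theorem M_M : (O + O' + δ * (1 + P)) * (O + O' + δ * (1 + P)) =
    (O + O' + δ * (1 + P)) + (c + c' + δ) := by
  have e0 : (O + O') * (O + O') = O + c + (O' + c') + δ * P := by
    rw [add_mul, mul_add, mul_add, hO, hO', ← hz]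
    abel
  have e1 : (O + O') * (δ * (1 + P)) = δ * (1 + P) * (O + O') := by
    have a1 : O * (δ * (1 + P)) = δ * (1 + P) * O + δ * P := by
      rw [← mul_assoc, hδO, mul_assoc, mul_add, mul_one, hOP]
      simp only [mul_add, add_mul, mul_one, mul_assoc]
      abel
    have a2 : O' * (δ * (1 + P)) = δ * (1 + P) * O' + δ * P := by
      rw [← mul_assoc, hδO', mul_assoc, mul_add, mul_one, hO'P]
      simp only [mul_add, add_mul, mul_one, mul_assoc]
      abel
    rw [add_mul, a1, a2, mul_add (δ * (1 + P)) O O']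
    have h3 := h2 (δ * P)
    calc δ * (1 + P) * O + δ * P + (δ * (1 + P) * O' + δ * P) =
        δ * (1 + P) * O + δ * (1 + P) * O' + (δ * P + δ * P) := by abel
      _ = _ := by rw [h3, add_zero]
  have e2 : δ * (1 + P) * (δ * (1 + P)) = 0 := by
    have a1 : (1 + P) * (1 + P) = 0 := by
      rw [add_mul, one_mul, mul_add, mul_one, hPP]
      have := h2 (1 + P)
      rw [← this]
      abel
    have a2 : (1 + P) * δ = δ * (1 + P) := by
      rw [add_mul, one_mul, hδP, mul_add, mul_one]
    calc δ * (1 + P) * (δ * (1 + P)) = δ * ((1 + P) * δ) * (1 + P) := by simp only [mul_assoc]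
      _ = δ * (δ * (1 + P)) * (1 + P) := by rw [a2]
      _ = δ * δ * ((1 + P) * (1 + P)) := by simp only [mul_assoc]
      _ = 0 := by rw [a1, mul_zero]
  have e3 : (O + O' + δ * (1 + P)) * (O + O' + δ * (1 + P)) =
      (O + O') * (O + O') + ((O + O') * (δ * (1 + P)) + δ * (1 + P) * (O + O')) +
        δ * (1 + P) * (δ * (1 + P)) := by
    rw [add_mul (O + O'), mul_add (O + O'), mul_add (δ * (1 + P)) (O + O')]
    abel
  rw [e3, e1, h2, e2, e0, mul_add, mul_one]
  have h3 := h2 δ
  calc O + c + (O' + c') + δ * P + 0 + 0 = O + O' + δ * P + (c + c') := by abel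
    _ = O + O' + δ * P + (c + c') + (δ + δ) := by rw [h3, add_zero]
    _ = _ := by abel

end M

end Cfsg.Agent.StdL2.F.Alg
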