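import Cfsg.Agent.StdL2.FTori

/-!
# S1773, case (f): Sylow 2-subgroups of the centralizer of the fixed field
-/

set_option autoImplicit false
set_option linter.unusedSectionVars false

namespace Cfsg.Agent.StdL2.F

open Subgroup

theorem grow {X : Type*} [Group X] [Finite X] {S P : Subgroup X} (hP : IsPGroup 2 P) (h : S < P) :
    ∃ n ∈ P, n ∉ S ∧ ∀ s ∈ S, n * s * n⁻¹ ∈ S := by
  haveI : Fact (Nat.Prime 2) := ⟨Nat.prime_two⟩
  have hnil := hP.isNilpotent
  have h1 : NormalizerCondition P := Group.normalizerCondition_of_isNilpotent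
  have h2 : S.subgroupOf P < ⊤ := by
    rw [lt_top_iff_ne_top]
    intro h3
    rw [subgroupOf_eq_top] at h3
    exact absurd h3 (not_le_of_gt h)
  obtain ⟨n, hn1, hn2⟩ := SetLike.exists_of_lt (h1 _ h2)
  refine ⟨n, n.2, fun h3 => hn2 (mem_subgroupOf.mpr h3), ?_⟩
  intro s hs
  have h4 := (mem_normalizer_iff.mp hn1 ⟨s, h.le hs⟩).mp (mem_subgroupOf.mpr hs)
  exact mem_subgroupOf.mp h4

theorem sylow_ext {X : Type*} [Group X] [Finite X] {N S₀ : Subgroup X} (hS : IsPGroup 2 S₀)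
    (h : S₀ ≤ N) : ∃ P : Subgroup X, S₀ ≤ P ∧ P ≤ N ∧ IsPGroup 2 P ∧
      ∀ S : Subgroup X, IsPGroup 2 S → S ≤ N → Nat.card S ≤ Nat.card P := by
  haveI : Fact (Nat.Prime 2) := ⟨Nat.prime_two⟩
  have h1 : IsPGroup 2 (S₀.subgroupOf N) := hS.comap_subtype
  obtain ⟨Q, hQ⟩ := h1.exists_le_sylow
  have hcard : Nat.card ((Q : Subgroup N).map N.subtype) = Nat.card Q :=
    Nat.card_congr ((Q : Subgroup N).equivMapOfInjective N.subtype N.subtype_injective).toEquiv.symm
  refine ⟨(Q : Subgroup N).map N.subtype, ?_, map_subtype_le _, Q.2.map _, ?_⟩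
  · intro x hx
    exact ⟨⟨x, h hx⟩, hQ (mem_subgroupOf.mpr hx), rfl⟩
  · intro S hS' hSN
    obtain ⟨R, hR⟩ := (hS'.comap_subtype (K := N)).exists_le_sylow
    rw [hcard]
    have e1 : Nat.card S = Nat.card (S.subgroupOf N) :=
      Nat.card_congr (subgroupOfEquivOfLe hSN).toEquiv.symm
    rw [e1, Sylow.card_eq_multiplicity Q, ← Sylow.card_eq_multiplicity R]
    exact Nat.le_of_dvd Nat.card_pos (card_dvd_of_le hR)

namespace XC

variable {X W F : Type*} [Group X] [Finite X] [AddCommGroup W] [DistribMulAction X W] [Field F]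
  [Finite F] {κ : F →+* AddMonoid.End W} {d : Fˣ →* X} {σ : F ≃+* F} {t f : X} {w₁ : W}

/-- the four-group `{1, t, f, t f}` -/
def E4 (C : XC κ d σ t f w₁) : Subgroup X where
  carrier := {x | x = 1 ∨ x = t ∨ x = f ∨ x = t * f}
  one_mem' := Or.inl rfl
  mul_mem' := by
    have h1 : t * (t * f) = f := by rw [← mul_assoc, C.tt, one_mul]
    have h2 : f * t = t * f := C.tf.symm
    have h3 : f * (t * f) = t := by rw [← mul_assoc, ← C.tf, mul_assoc, C.ff, mul_one]
    have h4 : (t * f) * t = f := by rw [mul_assoc, ← C.tf, h1]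
    have h5 : (t * f) * f = t := by rw [mul_assoc, C.ff, mul_one]
    have h6 : (t * f) * (t * f) = 1 := by rw [← mul_assoc, h4, C.ff]
    rintro x y (rfl | rfl | rfl | rfl) (rfl | rfl | rfl | rfl)
    all_goals
      change _ ∨ _ ∨ _ ∨ _
      simp only [one_mul, mul_one, C.tt, C.ff, h1, h2, h3, h4, h5, h6, true_or, or_true]
  inv_mem' := by
    rintro x (rfl | rfl | rfl | rfl)
    · exact Or.inl inv_one
    · exact Or.inr (Or.inl C.t_inv)
    · exact Or.inr (Or.inr (Or.inl C.f_inv))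
    · right; right; right
      rw [mul_inv_rev, C.t_inv, C.f_inv, C.tf]

theorem mem_E4 {C : XC κ d σ t f w₁} {x : X} :
    x ∈ C.E4 ↔ x = 1 ∨ x = t ∨ x = f ∨ x = t * f := Iff.rfl

theorem t_E4 (C : XC κ d σ t f w₁) : t ∈ C.E4 := Or.inr (Or.inl rfl)

theorem f_E4 (C : XC κ d σ t f w₁) : f ∈ C.E4 := Or.inr (Or.inr (Or.inl rfl))

theorem sq_E4 (C : XC κ d σ t f w₁) {x : X} (hx : x ∈ C.E4) : x * x = 1 := by
  rcases hx with rfl | rfl | rfl | rfl
  · exact one_mul 1
  · exact C.tt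
  · exact C.ff
  · rw [← mul_assoc, mul_assoc t f t, ← C.tf, ← mul_assoc, C.tt, one_mul, C.ff]

theorem E4_two (C : XC κ d σ t f w₁) : IsPGroup 2 C.E4 := by
  intro x
  refine ⟨1, ?_⟩
  apply Subtype.ext
  rw [pow_one, pow_two]
  exact C.sq_E4 x.2

theorem E4_le (C : XC κ d σ t f w₁) : C.E4 ≤ N1 κ σ := by
  rintro x (rfl | rfl | rfl | rfl)
  · exact one_mem _
  · exact C.t_mem
  · exact C.f_mem
  · exact mul_mem C.t_mem C.f_mem

theorem E4_card (C : XC κ d σ t f w₁) : Nat.card C.E4 ≤ 4 := by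
  classical
  have h1 : (C.E4 : Set X) ⊆ (({1, t, f, t * f} : Finset X) : Set X) := by
    intro x hx
    simp only [Finset.coe_insert, Finset.coe_singleton, Set.mem_insert_iff,
      Set.mem_singleton_iff]
    exact hx
  calc Nat.card C.E4 = (C.E4 : Set X).ncard := rfl
    _ ≤ (({1, t, f, t * f} : Finset X) : Set X).ncard := Set.ncard_le_ncard h1 (Set.toFinite _)
    _ = ({1, t, f, t * f} : Finset X).card := Set.ncard_coe_finset _
    _ ≤ 4 := Finset.card_le_four

/-- elements of `N₁ ∩ C(t)` normalizing `⟨t, f⟩` commute with `f` -/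
theorem comm_of_norm (C : XC κ d σ t f w₁) {n : X} (hn : n ∈ N1 κ σ) (hnt : n * t = t * n)
    (hnf : n * f * n⁻¹ ∈ C.E4) : n * f = f * n := by
  obtain ⟨b, hb⟩ : ∃ b : Fˣ, n * f * n⁻¹ = d b * f := by
    have key : ∀ a : Fˣ, d a * f * (d a)⁻¹ = d (a * (Units.map (σ : F →* F) a)⁻¹) * f := by
      intro a
      have h1 := C.fd a⁻¹
      rw [map_inv] at h1
      rw [mul_assoc, h1, ← mul_assoc, map_mul, map_inv]
    obtain ⟨a, h | h | h | h⟩ := C.cent_tK hnt hn
    · exact ⟨_, by rw [h]; exact key a⟩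
    · refine ⟨a * (Units.map (σ : F →* F) a)⁻¹, ?_⟩
      rw [← key a, h]
      have e1 : t * d a * f * (t * d a)⁻¹ = t * (d a * f * (d a)⁻¹) * t⁻¹ := by group
      rw [e1, key a, ← mul_assoc t, C.td, mul_assoc _ t f, C.tf, ← mul_assoc, mul_inv_cancel_right]
    · refine ⟨a * (Units.map (σ : F →* F) a)⁻¹, ?_⟩
      rw [← key a, h]
      group
    · refine ⟨a * (Units.map (σ : F →* F) a)⁻¹, ?_⟩
      rw [← key a, h]
      have e1 : t * d a * f * f * (t * d a * f)⁻¹ = t * (d a * f * (d a)⁻¹) * t⁻¹ := by group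
      rw [e1, key a, ← mul_assoc t, C.td, mul_assoc _ t f, C.tf, ← mul_assoc, mul_inv_cancel_right]
  rw [hb] at hnf
  obtain ⟨h1, h2, h3⟩ := C.not_scalar b
  have hmul : d b = n * f * n⁻¹ * f := by rw [hb, mul_assoc, C.ff, mul_one]
  have h4 : d b = 1 := by
    rcases hnf with h | h | h | h
    · exfalso; apply h2
      have := mul_eq_one_iff_eq_inv.mp h
      rw [this, C.f_inv]
    · exfalso; apply h3
      rw [← h, mul_assoc, C.ff, mul_one]
    · exact mul_eq_right.mp h
    · exfalso; apply h1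
      exact (mul_right_cancel h).symm
  rw [h4, one_mul] at hb
  exact mul_inv_eq_iff_eq_mul.mp hb

/-- a 2-subgroup of `N₁` containing `E₄` and centralizing `f` has order at most 8, and at most 4
if it centralizes `t`. -/
theorem le_E4 (C : XC κ d σ t f w₁) {S : Subgroup X} (hS : IsPGroup 2 S) (hSN : S ≤ N1 κ σ)
    {x : X} (hx : x ∈ S) (hxt : x * t = t * x) (hxf : x * f = f * x) : x ∈ C.E4 := by
  obtain ⟨n, hn⟩ := hS ⟨x, hx⟩
  exact C.two_elt (hSN hx) hxt hxf (congrArg Subtype.val hn)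

section Cases

variable (C : XC κ d σ t f w₁) {y : X} (hyt : y * t * y⁻¹ = t * f)
  (hyf : y * f * y⁻¹ = f ∨ y * f * y⁻¹ = t)

include C hyt hyf

theorem conj_N1 {n : X} (hn : n ∈ N1 κ σ) : y⁻¹ * n * y ∈ N1 κ σ := by
  intro a ha
  obtain ⟨b, hb, h⟩ := norm_y C hyt hyf a ha
  have h2 : rho X W y⁻¹ * κ b = κ a * rho X W y⁻¹ := by
    calc rho X W y⁻¹ * κ b = rho X W y⁻¹ * (κ b * rho X W y) * rho X W y⁻¹ := by
          rw [mul_assoc (rho X W y⁻¹), mul_assoc (κ b), rho_mul_inv, mul_one]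
      _ = rho X W y⁻¹ * (rho X W y * κ a) * rho X W y⁻¹ := by rw [h]
      _ = κ a * rho X W y⁻¹ := by rw [← mul_assoc, rho_inv_mul, one_mul]
  rw [map_mul, map_mul]
  calc rho X W y⁻¹ * rho X W n * rho X W y * κ a =
        rho X W y⁻¹ * rho X W n * (rho X W y * κ a) := by simp only [mul_assoc]
    _ = rho X W y⁻¹ * (rho X W n * κ b) * rho X W y := by rw [h]; simp only [mul_assoc]
    _ = (rho X W y⁻¹ * κ b) * rho X W n * rho X W y := by rw [hn b hb]; simp only [mul_assoc]
    _ = κ a * (rho X W y⁻¹ * rho X W n * rho X W y) := by rw [h2]; simp only [mul_assoc]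

/-- 2-elements of `N₁` normalizing `⟨t, f⟩` commute with `f`. -/
theorem norm_comm_f {n : X} (hn : n ∈ N1 κ σ) (hne : ∀ e ∈ C.E4, n * e * n⁻¹ ∈ C.E4) {k : ℕ}
    (h2 : n ^ 2 ^ k = 1) : n * f = f * n := by
  have ht1 : t ≠ 1 := C.t_ne_one
  have hf1 : f ≠ 1 := C.f_ne_one
  have hinj : ∀ a b : X, n * a * n⁻¹ = n * b * n⁻¹ → a = b := fun a b h =>
    mul_left_cancel (mul_right_cancel h)
  have hn1 : ∀ a : X, a ≠ 1 → n * a * n⁻¹ ≠ 1 := fun a ha h => ha (conj_eq_one_iff.mp h)
  have hconj : n * (t * f) * n⁻¹ = (n * t * n⁻¹) * (n * f * n⁻¹) := by group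
  have htcase := mem_E4.mp (hne t C.t_E4)
  have hfcase := mem_E4.mp (hne f C.f_E4)
  have etf : t * f * f = t := by rw [mul_assoc, C.ff, mul_one]
  have e1 : t * (t * f) = f := by rw [← mul_assoc, C.tt, one_mul]
  have e2 : f * t = t * f := C.tf.symm
  have e3 : f * (t * f) = t := by rw [← mul_assoc, ← C.tf, mul_assoc, C.ff, mul_one]
  have e4 : (t * f) * t = f := by rw [mul_assoc, ← C.tf, e1]
  have hn3 : n ^ 3 = n * n * n := by rw [pow_succ, pow_two]
  -- odd permutations
  have hodd : (n ^ 3) * t = t * (n ^ 3) → (n ^ 3) * f = f * (n ^ 3) → n * f = f * n := by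
    intro h3 h4
    have hcop : Nat.Coprime 3 (2 ^ k) := Nat.Coprime.pow_right k (by norm_num)
    have h5 : n ∈ zpowers (n ^ 3) := by
      have hord : Nat.Coprime 3 (orderOf n) :=
        Nat.Coprime.coprime_dvd_right (orderOf_dvd_of_pow_eq_one h2) hcop
      obtain ⟨m, hm⟩ := exists_pow_eq_self_of_coprime hord
      exact ⟨m, by simpa using hm⟩
    obtain ⟨m, hm⟩ := h5
    have h6 : Commute (n ^ 3) f := h4
    have h7 : Commute ((n ^ 3) ^ m) f := h6.zpow_left m
    simp only at hm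
    rw [hm] at h7
    exact h7
  rcases htcase with ht | ht | ht | ht
  · exact absurd ht (hn1 t ht1)
  · exact C.comm_of_norm hn (mul_inv_eq_iff_eq_mul.mp ht) (hne f C.f_E4)
  · rcases hfcase with hf | hf | hf | hf
    · exact absurd hf (hn1 f hf1)
    · -- `t ↦ f ↦ t`
      exfalso
      set n' := y⁻¹ * n * y with hn'
      have hyt' : y * t = t * f * y := mul_inv_eq_iff_eq_mul.mp hyt
      have htf : n * (t * f) = (t * f) * n := by
        rw [← mul_inv_eq_iff_eq_mul, hconj, ht, hf, e2]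
      have h3 : n' * t = t * n' := by
        have a1 : y * (n' * t) = y * (t * n') := by
          calc y * (n' * t) = n * (y * t) := by rw [hn']; group
            _ = (n * (t * f)) * y := by rw [hyt', ← mul_assoc n]
            _ = (t * f * y) * y⁻¹ * n * y := by rw [htf]; group
            _ = y * (t * n') := by rw [← hyt', hn']; group
        exact mul_left_cancel a1
      have hEy : ∀ e ∈ C.E4, y⁻¹ * e * y ∈ C.E4 := by
        obtain ⟨a1, a2⟩ := y_inv C hyt hyf
        rw [inv_inv] at a1 a2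
        have b1 : y⁻¹ * t * y ∈ C.E4 := by
          rcases a1 with h | h | h <;> rw [h]
          · exact C.t_E4
          · exact C.f_E4
          · exact mul_mem C.t_E4 C.f_E4
        have b2 : y⁻¹ * f * y ∈ C.E4 := by
          rcases a2 with h | h | h <;> rw [h]
          · exact C.t_E4
          · exact C.f_E4
          · exact mul_mem C.t_E4 C.f_E4
        rintro e (rfl | rfl | rfl | rfl)
        · rw [mul_one, inv_mul_cancel]; exact one_mem _
        · exact b1
        · exact b2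
        · have : y⁻¹ * (t * f) * y = (y⁻¹ * t * y) * (y⁻¹ * f * y) := by group
          rw [this]; exact mul_mem b1 b2
      have hyE : ∀ e ∈ C.E4, y * e * y⁻¹ ∈ C.E4 := by
        have b1 : y * t * y⁻¹ ∈ C.E4 := by rw [hyt]; exact mul_mem C.t_E4 C.f_E4
        have b2 : y * f * y⁻¹ ∈ C.E4 := by
          rcases hyf with h | h <;> rw [h]
          · exact C.f_E4
          · exact C.t_E4
        rintro e (rfl | rfl | rfl | rfl)
        · rw [mul_one, mul_inv_cancel]; exact one_mem _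
        · exact b1
        · exact b2
        · have : y * (t * f) * y⁻¹ = (y * t * y⁻¹) * (y * f * y⁻¹) := by group
          rw [this]; exact mul_mem b1 b2
      have h4 : n' * f * n'⁻¹ ∈ C.E4 := by
        have a1 : n' * f * n'⁻¹ = y⁻¹ * (n * (y * f * y⁻¹) * n⁻¹) * y := by rw [hn']; group
        rw [a1]
        exact hEy _ (hne _ (hyE _ C.f_E4))
      have h5 := C.comm_of_norm (conj_N1 C hyt hyf hn) h3 h4
      -- `n'` centralizes `E₄`, hence so does `n`
      have h6 : ∀ e ∈ C.E4, n' * e = e * n' := by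
        rintro e (rfl | rfl | rfl | rfl)
        · rw [mul_one, one_mul]
        · exact h3
        · exact h5
        · exact (Commute.mul_right (show Commute n' t from h3) (show Commute n' f from h5)).eq
      have h7 := h6 _ (hEy t C.t_E4)
      have h8 : n * t = t * n := by
        have a1 : y * (n' * (y⁻¹ * t * y)) * y⁻¹ = n * t := by rw [hn']; group
        have a2 : y * ((y⁻¹ * t * y) * n') * y⁻¹ = t * n := by rw [hn']; group
        rw [← a1, h7, a2]
      rw [mul_inv_eq_iff_eq_mul, h8] at ht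
      exact C.f_ne_t (mul_right_cancel ht).symm
    · exact absurd (hinj t f (ht.trans hf.symm)) (fun h => C.f_ne_t h.symm)
    · -- `t ↦ f ↦ t f ↦ t`
      have htf : n * (t * f) * n⁻¹ = t := by rw [hconj, ht, hf, e3]
      apply hodd
      · rw [← mul_inv_eq_iff_eq_mul]
        have : n ^ 3 * t * (n ^ 3)⁻¹ = n * (n * (n * t * n⁻¹) * n⁻¹) * n⁻¹ := by rw [hn3]; group
        rw [this, ht, hf, htf]
      · rw [← mul_inv_eq_iff_eq_mul]
        have : n ^ 3 * f * (n ^ 3)⁻¹ = n * (n * (n * f * n⁻¹) * n⁻¹) * n⁻¹ := by rw [hn3]; group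
        rw [this, hf, htf, ht]
  · rcases hfcase with hf | hf | hf | hf
    · exact absurd hf (hn1 f hf1)
    · -- `t ↦ t f ↦ f ↦ t`
      have htf : n * (t * f) * n⁻¹ = f := by rw [hconj, ht, hf, e4]
      apply hodd
      · rw [← mul_inv_eq_iff_eq_mul]
        have : n ^ 3 * t * (n ^ 3)⁻¹ = n * (n * (n * t * n⁻¹) * n⁻¹) * n⁻¹ := by rw [hn3]; group
        rw [this, ht, htf, hf]
      · rw [← mul_inv_eq_iff_eq_mul]
        have : n ^ 3 * f * (n ^ 3)⁻¹ = n * (n * (n * f * n⁻¹) * n⁻¹) * n⁻¹ := by rw [hn3]; group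
        rw [this, hf, ht, htf]
    · exact mul_inv_eq_iff_eq_mul.mp hf
    · exact absurd (hinj t f (ht.trans hf.symm)) (fun h => C.f_ne_t h.symm)

theorem syl_cases : (∀ S : Subgroup X, IsPGroup 2 S → S ≤ N1 κ σ → Nat.card S ≤ 4) ∨
    (∃ x ∈ N1 κ σ, x * x = 1 ∧ x * t * x⁻¹ = t * f ∧ x * f = f * x ∧
      ∀ S : Subgroup X, IsPGroup 2 S → S ≤ N1 κ σ → Nat.card S ≤ 8) := by
  obtain ⟨P, hEP, hPN, hP2, hmax⟩ := sylow_ext C.E4_two C.E4_le
  rcases eq_or_lt_of_le hEP with h | h
  · left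
    intro S hS hSN
    exact (hmax S hS hSN).trans (h ▸ C.E4_card)
  right
  obtain ⟨n, hnP, hnE, hnn⟩ := grow hP2 h
  obtain ⟨k, hk⟩ := hP2 ⟨n, hnP⟩
  have hnf : n * f = f * n := norm_comm_f C hyt hyf (hPN hnP) hnn (congrArg Subtype.val hk)
  -- the centralizer of `f` in `P`
  set S := P ⊓ centralizer {f} with hS
  have hS2 : IsPGroup 2 S := hP2.to_le inf_le_left
  have hSN : S ≤ N1 κ σ := inf_le_left.trans hPN
  have htP : t ∈ P := hEP C.t_E4
  have hfP : f ∈ P := hEP C.f_E4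
  have htS : t ∈ S := ⟨htP, mem_centralizer_singleton_iff.mpr C.tf⟩
  have hfS : f ∈ S := ⟨hfP, mem_centralizer_singleton_iff.mpr rfl⟩
  have hSf : ∀ s ∈ S, s * f = f * s := fun s hs => mem_centralizer_singleton_iff.mp hs.2
  have hnS : n ∈ S := ⟨hnP, mem_centralizer_singleton_iff.mpr hnf⟩
  have hnt : n * t ≠ t * n := fun h => hnE (C.le_E4 hP2 hPN hnP h hnf)
  have hntf : n * t * n⁻¹ = t * f := by
    rcases conj_t C hS2 hSN htS hSf n hnS with h | h
    · exact absurd (mul_inv_eq_iff_eq_mul.mp h) hnt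
    · exact h
  have etf : t * f * f = t := by rw [mul_assoc, C.ff, mul_one]
  -- `P = S`
  have hPS : P = S := by
    by_contra hne
    have hlt : S < P := lt_of_le_of_ne inf_le_left (fun h => hne h.symm)
    obtain ⟨m, hmP, hmS, hmm⟩ := grow hP2 hlt
    apply hmS
    have hm' : m⁻¹ ∈ P := inv_mem hmP
    -- `m f m⁻¹` is central in `S`
    have hmm' : ∀ s ∈ S, m⁻¹ * s * m ∈ S := by
      intro s hs
      have hcard : S.map (MulAut.conj m).toMonoidHom = S := by
        apply eq_of_le_of_card_ge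
        · rintro _ ⟨s, hs, rfl⟩
          exact hmm s hs
        · rw [Nat.card_congr (S.equivMapOfInjective (MulAut.conj m).toMonoidHom
            (MulAut.conj m).injective).toEquiv]
      rw [← hcard] at hs
      obtain ⟨s', hs', rfl⟩ := hs
      have : m⁻¹ * ((MulAut.conj m).toMonoidHom s') * m = s' := by
        change m⁻¹ * (m * s' * m⁻¹) * m = s'
        group
      rw [this]; exact hs'
    have hz : ∀ s ∈ S, (m * f * m⁻¹) * s = s * (m * f * m⁻¹) := by
      intro s hs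
      have h1 := hSf _ (hmm' s hs)
      calc (m * f * m⁻¹) * s = m * (f * (m⁻¹ * s * m)) * m⁻¹ := by group
        _ = m * ((m⁻¹ * s * m) * f) * m⁻¹ := by rw [h1]
        _ = s * (m * f * m⁻¹) := by group
    have hzE := mem_E4.mp (C.le_E4 hP2 hPN (mul_mem (mul_mem hmP hfP) hm') (hz t htS)
      (hz f hfS))
    have hzn := hz n hnS
    have hmf : m * f * m⁻¹ = f := by
      rcases hzE with h | h | h | h
      · exact absurd (conj_eq_one_iff.mp h) C.f_ne_one
      · rw [h] at hzn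
        exact absurd hzn.symm hnt
      · exact h
      · exfalso
        rw [h] at hzn
        have h3 : n * (t * f) * n⁻¹ = t := by
          have : n * (t * f) * n⁻¹ = (n * t * n⁻¹) * (n * f * n⁻¹) := by group
          rw [this, hntf, mul_inv_eq_iff_eq_mul.mpr hnf, etf]
        rw [← hzn, mul_inv_cancel_right] at h3
        have := mul_eq_left.mp h3
        exact C.f_ne_one this
    exact ⟨hmP, mem_centralizer_singleton_iff.mpr (mul_inv_eq_iff_eq_mul.mp hmf)⟩
  have hcard : Nat.card P ≤ 8 := by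
    rw [hPS]; exact (card_le C hS2 hSN htS hSf).1
  have hbound : ∀ S : Subgroup X, IsPGroup 2 S → S ≤ N1 κ σ → Nat.card S ≤ 8 :=
    fun S h1 h2 => (hmax S h1 h2).trans hcard
  -- an involution
  have hnn1 : n * n ∈ P := mul_mem hnP hnP
  have hnnt : (n * n) * t = t * (n * n) := by
    rw [← mul_inv_eq_iff_eq_mul]
    have : n * n * t * (n * n)⁻¹ = n * (n * t * n⁻¹) * n⁻¹ := by group
    rw [this, hntf]
    have : n * (t * f) * n⁻¹ = (n * t * n⁻¹) * (n * f * n⁻¹) := by group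
    rw [this, hntf, mul_inv_eq_iff_eq_mul.mpr hnf, etf]
  have hnnf : (n * n) * f = f * (n * n) := by
    rw [mul_assoc, hnf, ← mul_assoc, hnf, mul_assoc]
  have hnnc : n * (n * n) = (n * n) * n := by rw [mul_assoc]
  rcases mem_E4.mp (C.le_E4 hP2 hPN hnn1 hnnt hnnf) with h1 | h1 | h1 | h1
  · exact ⟨n, hPN hnP, h1, hntf, hnf, hbound⟩
  · rw [h1] at hnnc
    exact absurd hnnc hnt
  · refine ⟨n * t, hPN (mul_mem hnP htP), ?_, ?_, ?_, hbound⟩
    · have : n * t * (n * t) = (n * t * n⁻¹) * (n * n) * t := by group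
      rw [this, hntf, h1, etf, C.tt]
    · have : n * t * t * (n * t)⁻¹ = n * t * n⁻¹ := by group
      rw [this, hntf]
    · rw [mul_assoc, C.tf, ← mul_assoc, hnf, mul_assoc]
  · exfalso
    rw [h1] at hnnc
    have h3 : n * (t * f) * n⁻¹ = t := by
      have : n * (t * f) * n⁻¹ = (n * t * n⁻¹) * (n * f * n⁻¹) := by group
      rw [this, hntf, mul_inv_eq_iff_eq_mul.mpr hnf, etf]
    rw [hnnc, mul_inv_cancel_right] at h3
    exact C.f_ne_one (mul_eq_left.mp h3)

end Cases

end XC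

end Cfsg.Agent.StdL2.F
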