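import Cfsg.Agent.StdL2.FSyl

/-!
# S1773, case (f): the commutator of two tori is `δ f`
-/

set_option autoImplicit false
set_option linter.unusedSectionVars false

namespace Cfsg.Agent.StdL2.F

namespace XC

variable {X W F : Type*} [Group X] [Finite X] [AddCommGroup W] [DistribMulAction X W] [Field F]
  [Finite F] {κ : F →+* AddMonoid.End W} {d : Fˣ →* X} {σ : F ≃+* F} {t f : X} {w₁ : W}

/-- the operators commuting with `t`, `f` and the fixed field -/
theorem cent_R (C : XC κ d σ t f w₁) {z : AddMonoid.End W}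
    (hzK : ∀ a, σ a = a → z * κ a = κ a * z) (hzT : z * rho X W t = rho X W t * z)
    (hzP : z * rho X W f = rho X W f * z) :
    ∃ α β γ δ : F, σ α = α ∧ σ β = β ∧ σ γ = γ ∧ σ δ = δ ∧
      z = κ α + κ β * rho X W t + κ γ * rho X W f + κ δ * (rho X W t * rho X W f) := by
  obtain ⟨ω, hω⟩ := C.exists_omega
  set v₁ := t • w₁ + w₁ with hv₁
  have htv : t • v₁ = v₁ := C.t_v
  have hfv : f • v₁ = v₁ := C.f_v
  have htw : t • w₁ = w₁ + v₁ := C.t_w
  obtain ⟨a, b, hab⟩ := C.span (z (κ ω w₁))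
  obtain ⟨a0, a1, ha0, ha1, ha⟩ := C.decomp hω a
  obtain ⟨b0, b1, hb0, hb1, hb⟩ := C.decomp hω b
  refine ⟨a0 + a1 + b0 + b1, b0 + b1, a0 + b0, b0, by simp only [map_add, ha0, ha1, hb0, hb1],
    by simp only [map_add, hb0, hb1], by simp only [map_add, ha0, hb0], hb0, ?_⟩
  set y := κ (a0 + a1 + b0 + b1) + κ (b0 + b1) * rho X W t + κ (a0 + b0) * rho X W f +
    κ b0 * (rho X W t * rho X W f) with hy
  have hyw : ∀ w, y w = κ (a0 + a1 + b0 + b1) w + κ (b0 + b1) (t • w) + κ (a0 + b0) (f • w) +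
      κ b0 (t • (f • w)) := fun w => rfl
  -- `y` commutes with `K₀`, `t`, `f`
  have hyK : ∀ a w, σ a = a → y (κ a w) = κ a (y w) := by
    intro a w ha
    rw [hyw, hyw, C.t_smul_kappa, C.f_smul_kappa, C.t_smul_kappa, ha]
    simp only [k_vadd]
    simp only [← k_mul]
    simp only [mul_comm a]
  have hyt : ∀ w, y (t • w) = t • y w := by
    intro w
    rw [hyw, hyw]
    simp only [smul_add, C.t_smul_kappa]
    rw [smul_smul f t, ← C.tf, mul_smul]
  have hyf : ∀ w, y (f • w) = f • y w := by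
    intro w
    rw [hyw, hyw]
    simp only [smul_add, C.f_smul_kappa]
    have e1 : σ (a0 + a1 + b0 + b1) = a0 + a1 + b0 + b1 := by
      simp only [map_add, ha0, ha1, hb0, hb1]
    have e2 : σ (b0 + b1) = b0 + b1 := by simp only [map_add, hb0, hb1]
    have e3 : σ (a0 + b0) = a0 + b0 := by simp only [map_add, ha0, hb0]
    rw [e1, e2, e3, hb0, smul_smul f t (f • w), ← C.tf, mul_smul, smul_smul f t w, ← C.tf, mul_smul]
  have hzK' : ∀ a w, σ a = a → z (κ a w) = κ a (z w) := fun a w ha =>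
    DFunLike.congr_fun (hzK a ha) w
  have hzt' : ∀ w, z (t • w) = t • z w := fun w => DFunLike.congr_fun hzT w
  have hzf' : ∀ w, z (f • w) = f • z w := fun w => DFunLike.congr_fun hzP w
  -- the value at `u = ω w₁`
  have hab' : z (κ ω w₁) = κ a w₁ + κ b v₁ := hab
  have hu : z (κ ω w₁) = y (κ ω w₁) := by
    rw [hab', hyw, C.t_smul_kappa, C.f_smul_kappa, C.t_smul_kappa, C.fw, hω, htw, ha, hb]
    simp only [k_vadd, k_add, ← k_mul, mul_add, mul_one, add_mul]
    have h2 := C.add_self_W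
    have e1 : ∀ x : F, κ (x * ω) w₁ + κ (x * ω) w₁ = 0 := fun x => h2 _
    have g1 := h2 (κ (a0 * ω) w₁)
    have g2 := h2 (κ (b0 * ω) w₁)
    have g3 := h2 (κ (b1 * ω) w₁)
    have g4 := h2 (κ (b0 * ω) v₁)
    have g5 := h2 (κ b0 w₁)
    have key : κ a0 w₁ + κ (a1 * ω) w₁ + (κ b0 v₁ + κ (b1 * ω) v₁) =
        κ a0 w₁ + κ (a1 * ω) w₁ + (κ b0 v₁ + κ (b1 * ω) v₁) +
        (κ (a0 * ω) w₁ + κ (a0 * ω) w₁) + (κ (b0 * ω) w₁ + κ (b0 * ω) w₁) +
        (κ (b0 * ω) w₁ + κ (b0 * ω) w₁) + (κ (b1 * ω) w₁ + κ (b1 * ω) w₁) +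
        (κ (b0 * ω) v₁ + κ (b0 * ω) v₁) + (κ b0 w₁ + κ b0 w₁) := by
      rw [g1, g2, g3, g4, g5]; simp only [add_zero]
    rw [key]
    abel
  -- propagate
  let Q : W → Prop := fun w => z w = y w
  have Qadd : ∀ v w, Q v → Q w → Q (v + w) := fun v w hv hw => by
    change z (v + w) = y (v + w)
    rw [map_add, map_add, hv, hw]
  have QK : ∀ a w, σ a = a → Q w → Q (κ a w) := fun a w ha hw => by
    change z (κ a w) = y (κ a w)
    rw [hzK' a w ha, hyK a w ha, hw]
  have Qt : ∀ w, Q w → Q (t • w) := fun w hw => by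
    change z (t • w) = y (t • w)
    rw [hzt', hyt, hw]
  have Qf : ∀ w, Q w → Q (f • w) := fun w hw => by
    change z (f • w) = y (f • w)
    rw [hzf', hyf, hw]
  have Qu : Q (κ ω w₁) := hu
  have Qw : Q w₁ := by
    have h1 := Qadd _ _ Qu (Qf _ Qu)
    rw [C.f_smul_kappa, C.fw, hω, k_add, k_one, ← add_assoc, C.add_self_W, zero_add] at h1
    exact h1
  have Qv : Q v₁ := Qadd _ _ (Qt _ Qw) Qw
  have Quv : Q (κ ω v₁) := by
    have h1 := Qadd _ _ Qu (Qt _ Qu)
    rw [C.t_smul_kappa, htw, k_vadd, ← add_assoc, C.add_self_W, zero_add] at h1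
    exact h1
  have hall : ∀ (a : F) (w : W), Q w → Q (κ ω w) → Q (κ a w) := by
    intro a w h1 h2
    obtain ⟨p, q, hp, hq, rfl⟩ := C.decomp hω a
    rw [k_add, k_mul]
    exact Qadd _ _ (QK _ _ hp h1) (QK _ _ hq h2)
  ext w
  obtain ⟨p, q, rfl⟩ := C.span w
  exact Qadd _ _ (hall p _ Qw Qu) (hall q _ Qv Quv)

section Conj

variable (C : XC κ d σ t f w₁) {y : X} (hyt : y * t * y⁻¹ = t * f)
  (hyf : y * f * y⁻¹ = f ∨ y * f * y⁻¹ = t)

include C hyt hyf

theorem y_inv : (y⁻¹ * t * y⁻¹⁻¹ = t ∨ y⁻¹ * t * y⁻¹⁻¹ = f ∨ y⁻¹ * t * y⁻¹⁻¹ = t * f) ∧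
    (y⁻¹ * f * y⁻¹⁻¹ = t ∨ y⁻¹ * f * y⁻¹⁻¹ = f ∨ y⁻¹ * f * y⁻¹⁻¹ = t * f) := by
  rw [inv_inv]
  have e1 : y * t = t * f * y := mul_inv_eq_iff_eq_mul.mp hyt
  have etf : t * f * f = t := by rw [mul_assoc, C.ff, mul_one]
  rcases hyf with h | h
  · have e2 : y * f = f * y := mul_inv_eq_iff_eq_mul.mp h
    constructor
    · right; right
      have : y * (t * f) = t * y := by
        rw [← mul_assoc, e1, mul_assoc, e2, ← mul_assoc, etf]
      calc y⁻¹ * t * y = y⁻¹ * (t * y) := by group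
        _ = t * f := by rw [← this]; group
    · right; left
      calc y⁻¹ * f * y = y⁻¹ * (f * y) := by group
        _ = f := by rw [← e2]; group
  · have e2 : y * f = t * y := mul_inv_eq_iff_eq_mul.mp h
    constructor
    · right; left
      calc y⁻¹ * t * y = y⁻¹ * (t * y) := by group
        _ = f := by rw [← e2]; group
    · right; right
      have : y * (t * f) = f * y := by
        rw [← mul_assoc, e1, mul_assoc, e2, ← mul_assoc, mul_assoc t f t, ← C.tf, ← mul_assoc, C.tt,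
          one_mul]
      calc y⁻¹ * f * y = y⁻¹ * (f * y) := by group
        _ = t * f := by rw [← this]; group

theorem norm_y : ∀ a : F, σ a = a → ∃ b : F, σ b = b ∧ rho X W y * κ a = κ b * rho X W y := by
  intro a ha
  by_cases h0 : a = 0
  · subst h0; exact ⟨0, map_zero σ, by rw [map_zero, mul_zero, zero_mul]⟩
  · obtain ⟨b, hb, hab⟩ := C.norm_K0 (Or.inr (Or.inr hyt))
      (by rcases hyf with h | h; exact Or.inr (Or.inl h); exact Or.inl h) (Units.mk0 a h0) ha
    refine ⟨b, hb, ?_⟩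
    have h := congrArg (rho X W) hab
    rw [map_mul, map_mul, C.rho_d, C.rho_d] at h
    exact h

theorem norm_y_inv : ∀ a : F, σ a = a → ∃ b : F, σ b = b ∧ rho X W y * κ b = κ a * rho X W y := by
  intro a ha
  by_cases h0 : a = 0
  · subst h0; exact ⟨0, map_zero σ, by rw [map_zero, mul_zero, zero_mul]⟩
  · obtain ⟨h1, h2⟩ := y_inv C hyt hyf
    obtain ⟨b, hb, hab⟩ := C.norm_K0 h1 h2 (Units.mk0 a h0) ha
    refine ⟨b, hb, ?_⟩
    have h3 : y * d b = d (Units.mk0 a h0) * y := by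
      have : y * (y⁻¹ * d (Units.mk0 a h0)) * y = y * (d b * y⁻¹) * y := by rw [hab]
      calc y * d b = y * (d b * y⁻¹) * y := by group
        _ = y * (y⁻¹ * d (Units.mk0 a h0)) * y := this.symm
        _ = d (Units.mk0 a h0) * y := by group
    have h := congrArg (rho X W) h3
    rw [map_mul, map_mul, C.rho_d, C.rho_d] at h
    exact h

/-- the conjugate of `κ a` commutes with the fixed field -/
theorem conj_comm_K0 (a c : F) (hc : σ c = c) :
    κ c * (rho X W y * κ a * rho X W y⁻¹) = rho X W y * κ a * rho X W y⁻¹ * κ c := by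
  obtain ⟨b, hb, h⟩ := norm_y_inv C hyt hyf c hc
  have h2 : rho X W y⁻¹ * κ c = κ b * rho X W y⁻¹ := by
    calc rho X W y⁻¹ * κ c = rho X W y⁻¹ * (κ c * rho X W y) * rho X W y⁻¹ := by
          rw [mul_assoc (rho X W y⁻¹), mul_assoc (κ c), rho_mul_inv, mul_one]
      _ = rho X W y⁻¹ * (rho X W y * κ b) * rho X W y⁻¹ := by rw [h]
      _ = κ b * rho X W y⁻¹ := by rw [← mul_assoc, rho_inv_mul, one_mul]
  calc κ c * (rho X W y * κ a * rho X W y⁻¹) = (κ c * rho X W y) * (κ a * rho X W y⁻¹) := by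
        simp only [mul_assoc]
    _ = rho X W y * (κ b * κ a) * rho X W y⁻¹ := by rw [← h]; simp only [mul_assoc]
    _ = rho X W y * (κ a * κ b) * rho X W y⁻¹ := by rw [← map_mul, ← map_mul, mul_comm]
    _ = rho X W y * κ a * (κ b * rho X W y⁻¹) := by simp only [mul_assoc]
    _ = rho X W y * κ a * rho X W y⁻¹ * κ c := by rw [← h2]; simp only [mul_assoc]

/-- the relations of `O' = ρ(y) κ(ω) ρ(y)⁻¹` -/
theorem rel_y {ω : F} (hω : σ ω = ω + 1) :
    (rho X W y * κ ω * rho X W y⁻¹) * rho X W t =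
      rho X W t * (rho X W y * κ ω * rho X W y⁻¹) + rho X W t ∧
    (rho X W y * κ ω * rho X W y⁻¹) * rho X W f =
      rho X W f * (rho X W y * κ ω * rho X W y⁻¹) + rho X W f ∧
    ∃ c', σ c' = c' ∧ (rho X W y * κ ω * rho X W y⁻¹) * (rho X W y * κ ω * rho X W y⁻¹) =
      (rho X W y * κ ω * rho X W y⁻¹) + κ c' := by
  have h2 : ∀ x : AddMonoid.End W, x + x = 0 := C.add_self_R
  obtain ⟨O', hO'⟩ : ∃ z, z = rho X W y * κ ω * rho X W y⁻¹ := ⟨_, rfl⟩
  obtain ⟨T, hT⟩ : ∃ z, z = rho X W t := ⟨_, rfl⟩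
  obtain ⟨P, hP⟩ : ∃ z, z = rho X W f := ⟨_, rfl⟩
  rw [← hO', ← hT, ← hP]
  have hTT : T * T = 1 := by rw [hT]; exact C.rho_tt
  have hPP : P * P = 1 := by rw [hP]; exact C.rho_ff
  have hTP : T * P = P * T := by rw [hT, hP]; exact C.rho_tf
  have hOT : κ ω * T = T * κ ω := by rw [hT]; exact (C.t_kappa ω).symm
  have hOP : κ ω * P = P * κ ω + P := by
    have := C.f_kappa ω
    rw [hω, map_add, map_one, add_mul, one_mul] at this
    rw [hP, this, add_assoc, h2, add_zero]
  have c1 : rho X W y * T = T * P * rho X W y := by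
    rw [hT, hP, ← map_mul, ← map_mul, ← map_mul, ← hyt]; congr 1; group
  have c1' : rho X W y⁻¹ * (T * P) = T * rho X W y⁻¹ := by
    rw [hT, hP, ← map_mul, ← map_mul, ← map_mul, ← hyt]; congr 1; group
  have e1 : O' * (T * P) = (T * P) * O' := by
    calc O' * (T * P) = rho X W y * κ ω * (rho X W y⁻¹ * (T * P)) := by
          rw [hO']; simp only [mul_assoc]
      _ = rho X W y * (κ ω * T) * rho X W y⁻¹ := by rw [c1']; simp only [mul_assoc]
      _ = (rho X W y * T) * κ ω * rho X W y⁻¹ := by rw [hOT]; simp only [mul_assoc]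
      _ = (T * P) * O' := by rw [c1, hO']; simp only [mul_assoc]
  have hTPP : T * P * P = T := by rw [mul_assoc, hPP, mul_one]
  have key : O' * T = T * O' + T ∧ O' * P = P * O' + P := by
    rcases hyf with h | h
    · have c2 : rho X W y * P = P * rho X W y := by
        rw [hP, ← map_mul, ← map_mul]; congr 1
        exact mul_inv_eq_iff_eq_mul.mp h
      have c2' : rho X W y⁻¹ * P = P * rho X W y⁻¹ := by
        rw [hP, ← map_mul, ← map_mul]; congr 1
        rw [inv_mul_eq_iff_eq_mul, ← mul_assoc, mul_inv_eq_iff_eq_mul.mp h, mul_inv_cancel_right]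
      have e2 : O' * P = P * O' + P := by
        calc O' * P = rho X W y * κ ω * (rho X W y⁻¹ * P) := by
              rw [hO']; simp only [mul_assoc]
          _ = rho X W y * (κ ω * P) * rho X W y⁻¹ := by rw [c2']; simp only [mul_assoc]
          _ = (rho X W y * P) * κ ω * rho X W y⁻¹ + (rho X W y * P) * rho X W y⁻¹ := by
            rw [hOP, mul_add, add_mul]; simp only [mul_assoc]
          _ = P * O' + P := by
            rw [c2, hO', mul_assoc P (rho X W y) (rho X W y⁻¹), rho_mul_inv, mul_one]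
            simp only [mul_assoc]
      refine ⟨?_, e2⟩
      calc O' * T = O' * (T * P) * P := by rw [mul_assoc O', hTPP]
        _ = T * P * (O' * P) := by rw [e1, mul_assoc]
        _ = T * P * P * O' + T * P * P := by rw [e2, mul_add]; simp only [mul_assoc]
        _ = T * O' + T := by rw [hTPP]
    · have c2 : rho X W y * P = T * rho X W y := by
        rw [hP, hT, ← map_mul, ← map_mul]; congr 1
        rw [← h]; group
      have c2' : rho X W y⁻¹ * T = P * rho X W y⁻¹ := by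
        rw [hP, hT, ← map_mul, ← map_mul]; congr 1
        rw [← h]; group
      have e2 : O' * T = T * O' + T := by
        calc O' * T = rho X W y * κ ω * (rho X W y⁻¹ * T) := by
              rw [hO']; simp only [mul_assoc]
          _ = rho X W y * (κ ω * P) * rho X W y⁻¹ := by rw [c2']; simp only [mul_assoc]
          _ = (rho X W y * P) * κ ω * rho X W y⁻¹ + (rho X W y * P) * rho X W y⁻¹ := by
            rw [hOP, mul_add, add_mul]; simp only [mul_assoc]
          _ = T * O' + T := by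
            rw [c2, hO', mul_assoc T (rho X W y) (rho X W y⁻¹), rho_mul_inv, mul_one]
            simp only [mul_assoc]
      refine ⟨e2, ?_⟩
      have hTTP : T * (T * P) = P := by rw [← mul_assoc, hTT, one_mul]
      calc O' * P = O' * T * (T * P) := by rw [mul_assoc, hTTP]
        _ = T * (O' * (T * P)) + T * (T * P) := by rw [e2, add_mul, mul_assoc]
        _ = T * (T * P) * O' + T * (T * P) := by rw [e1]; simp only [mul_assoc]
        _ = P * O' + P := by rw [hTTP]
  refine ⟨key.1, key.2, ?_⟩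
  obtain ⟨c', hc', hcc⟩ := norm_y C hyt hyf _ (C.omega_sq hω)
  refine ⟨c', hc', ?_⟩
  have hO : κ ω * κ ω = κ ω + κ (ω * ω + ω) := by
    rw [map_add, map_mul]
    have := h2 (κ ω)
    rw [add_comm (κ ω * κ ω), ← add_assoc, this, zero_add]
  calc O' * O' = rho X W y * κ ω * (rho X W y⁻¹ * rho X W y) * κ ω * rho X W y⁻¹ := by
        rw [hO']; simp only [mul_assoc]
    _ = rho X W y * (κ ω * κ ω) * rho X W y⁻¹ := by
        rw [rho_inv_mul, mul_one]; simp only [mul_assoc]
    _ = O' + (rho X W y * κ (ω * ω + ω)) * rho X W y⁻¹ := by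
        rw [hO, mul_add, add_mul, hO']
    _ = O' + κ c' := by rw [hcc, mul_assoc, rho_mul_inv, mul_one]

/-- the commutator is `δ f` -/
theorem z_form {ω : F} (hω : σ ω = ω + 1) : ∃ δ : F, σ δ = δ ∧
    κ ω * (rho X W y * κ ω * rho X W y⁻¹) + (rho X W y * κ ω * rho X W y⁻¹) * κ ω =
      κ δ * rho X W f := by
  have h2 : ∀ x : AddMonoid.End W, x + x = 0 := C.add_self_R
  obtain ⟨h1, h3, c', hc', h4⟩ := rel_y C hyt hyf hω
  have hK := fun c hc => conj_comm_K0 C hyt hyf ω c hc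
  obtain ⟨O', hO'⟩ : ∃ z, z = rho X W y * κ ω * rho X W y⁻¹ := ⟨_, rfl⟩
  rw [← hO'] at h1 h3 h4 ⊢
  rw [← hO'] at hK
  have hTT : rho X W t * rho X W t = 1 := C.rho_tt
  have hPP : rho X W f * rho X W f = 1 := C.rho_ff
  have hOT : κ ω * rho X W t = rho X W t * κ ω := (C.t_kappa ω).symm
  have hOP : κ ω * rho X W f = rho X W f * κ ω + rho X W f := by
    have := C.f_kappa ω
    rw [hω, map_add, map_one, add_mul, one_mul] at this
    rw [this, add_assoc, h2, add_zero]
  have hO : κ ω * κ ω = κ ω + κ (ω * ω + ω) := by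
    rw [map_add, map_mul]
    have := h2 (κ ω)
    rw [add_comm (κ ω * κ ω), ← add_assoc, this, zero_add]
  have hKω : ∀ a : F, κ ω * κ a = κ a * κ ω := fun a => by rw [← map_mul, ← map_mul, mul_comm]
  obtain ⟨α, β, γ, δ, hα, hβ, hγ, hδ, hz⟩ := C.cent_R
    (z := κ ω * O' + O' * κ ω) (by
      intro a ha
      have e1 := hK a ha
      rw [add_mul, mul_add, mul_assoc, ← e1, ← mul_assoc, hKω, mul_assoc, mul_assoc, hKω,
        ← mul_assoc O', ← e1, mul_assoc])
    (Alg.z_T h2 hTT hPP C.rho_tf hOT hOP h1 h3) (Alg.z_P h2 hTT hPP C.rho_tf hOT hOP h1 h3)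
  refine ⟨γ, hγ, ?_⟩
  have hcc : ∀ a, σ a = a → ∀ x, (x = κ ω ∨ x = O') → x * κ a = κ a * x := by
    intro a ha x hx
    rcases hx with rfl | rfl
    · exact hKω a
    · exact (hK a ha).symm
  exact Alg.z_eq h2 hTT hPP C.rho_tf hOT hOP h1 h3 hO h4 (hK _ (C.omega_sq hω))
    (hKω c').symm (hcc α hα) (hcc β hβ) (hcc γ hγ) (hcc δ hδ) hz

end Conj

end XC

end Cfsg.Agent.StdL2.F
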