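import Cfsg.Agent.StdL2.FEightGrp

/-!
# S1773, case (f): orders
-/

set_option autoImplicit false
set_option linter.unusedSectionVars false

namespace Cfsg.Agent.StdL2.F.Eight

open Matrix

section

variable {X W F : Type*} [Group X] [Finite X] [AddCommGroup W] [DistribMulAction X W] [Field F]
  [Finite F] {κ : F →+* AddMonoid.End W} {d : Fˣ →* X} {σ : F ≃+* F} {t f : X} {w₁ : W}
  (C : XC κ d σ t f w₁) {ω : F} (hω : σ ω = ω + 1)

include C

theorem four_le : 4 ≤ Nat.card (K0 σ) := C.four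

include hω in
theorem card_F : Nat.card F = Nat.card (K0 σ) ^ 2 := by
  rw [pow_two, ← Nat.card_prod]
  symm
  refine Nat.card_congr (Equiv.ofBijective (fun p : K0 σ × K0 σ => (p.1 : F) + p.2 * ω) ⟨?_, ?_⟩)
  · rintro ⟨a, b⟩ ⟨a', b'⟩ h
    simp only at h
    have h1 := C.decomp_unique hω (u := (a : F) - a') (v := (b : F) - b')
      (by rw [map_sub, fix_K0, fix_K0]) (by rw [map_sub, fix_K0, fix_K0])
      (by linear_combination h)
    exact Prod.ext (Subtype.ext (sub_eq_zero.mp h1.1)) (Subtype.ext (sub_eq_zero.mp h1.2))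
  · intro a
    obtain ⟨u, v, hu, hv, ha⟩ := C.decomp hω a
    exact ⟨(⟨u, hu⟩, ⟨v, hv⟩), ha.symm⟩

theorem exists_pow : ∃ k : ℕ, Nat.card (K0 σ) = 2 ^ k := by
  have : Fintype (K0 σ) := Fintype.ofFinite _
  have : CharP (K0 σ) 2 := CharTwo.of_one_ne_zero_of_two_eq_zero one_ne_zero (by
    apply Subtype.ext
    exact C.two)
  obtain ⟨n, -, hn⟩ := FiniteField.card (K0 σ) 2
  exact ⟨n, by rw [Nat.card_eq_fintype_card]; exact hn⟩

/-- the norm -/
def nrm (σ : F ≃+* F) : Fˣ →* Fˣ where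
  toFun a := a * Units.map (σ : F →* F) a
  map_one' := by simp
  map_mul' a b := by
    rw [map_mul]
    exact mul_mul_mul_comm _ _ _ _

theorem mem_ker {a : Fˣ} : a ∈ (nrm σ).ker ↔ (a : F) * σ a = 1 := by
  rw [MonoidHom.mem_ker, Units.ext_iff]
  rfl

include hω in
theorem card_ker : Nat.card (nrm σ).ker = Nat.card (K0 σ) + 1 := by
  classical
  have : Fintype F := Fintype.ofFinite F
  have : CharP F 2 := CharTwo.of_one_ne_zero_of_two_eq_zero one_ne_zero C.two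
  have h1 : Nat.card (nrm σ).range = Nat.card (K0 σ) - 1 := by
    rw [← Nat.card_units]
    refine Nat.card_congr (Equiv.ofBijective (fun y : (nrm σ).range =>
      Units.mk0 (⟨((y : Fˣ) : F), ?_⟩ : K0 σ) ?_) ⟨?_, ?_⟩)
    · obtain ⟨a, ha⟩ := y.2
      rw [mem_K0, ← ha]
      change σ ((a : F) * σ a) = a * σ a
      rw [map_mul, C.sig, mul_comm]
    · intro h
      exact (y : Fˣ).ne_zero (congrArg Subtype.val h)
    · rintro ⟨y, hy⟩ ⟨z, hz⟩ h
      have h2 := congrArg (fun u : (K0 σ)ˣ => ((u : K0 σ) : F)) h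
      simp only [Units.val_mk0] at h2
      exact Subtype.ext (Units.ext h2)
    · intro u
      have hu : σ ((u : K0 σ) : F) = (u : K0 σ) := fix_K0 _
      have hu0 : ((u : K0 σ) : F) ≠ 0 := fun h => u.ne_zero (Subtype.ext h)
      obtain ⟨s, hs⟩ := (bijective_frobenius F 2).2 ((u : K0 σ) : F)
      rw [frobenius_def, pow_two] at hs
      have hs0 : s ≠ 0 := by rintro rfl; exact hu0 (by rw [← hs, mul_zero])
      have hss : σ s = s := by
        have h3 : σ s * σ s = s * s := by rw [← map_mul, hs, hu]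
        have h4 : (σ s + s) * (σ s + s) = 0 := by
          have := C.add_self_F (σ s * s)
          have h5 := C.add_self_F (s * s)
          linear_combination h3 + this + h5
        have h5 := eq_neg_of_add_eq_zero_left (mul_self_eq_zero.mp h4)
        rwa [C.neg_F] at h5
      refine ⟨⟨nrm σ (Units.mk0 s hs0), ⟨_, rfl⟩⟩, ?_⟩
      apply Units.ext
      apply Subtype.ext
      change s * σ s = _
      rw [hss, hs]
  have h2 := Subgroup.card_mul_index (nrm σ).ker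
  rw [Subgroup.index_ker, h1, Nat.card_units, card_F C hω] at h2
  have h3 := four_le C
  obtain ⟨q, hq⟩ : ∃ q, Nat.card (K0 σ) = q + 1 := ⟨Nat.card (K0 σ) - 1, by omega⟩
  rw [hq] at h2 h3 ⊢
  have h4 : (q + 1) ^ 2 - 1 = (q + 1 + 1) * q := by
    have : (q + 1) ^ 2 = (q + 1 + 1) * q + 1 := by ring
    omega
  rw [h4, Nat.add_sub_cancel] at h2
  exact Nat.eq_of_mul_eq_mul_right (by omega) h2

theorem exists_mu (hF : Nat.card F = Nat.card (K0 σ) ^ 2) : ∃ μ : F, μ * μ = μ + 1 := by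
  have : Fintype F := Fintype.ofFinite F
  obtain ⟨k, hk⟩ := exists_pow C
  have h1 : 3 ∣ Nat.card Fˣ := by
    rw [Nat.card_units, hF, hk, ← pow_mul, mul_comm, pow_mul]
    have : (2 ^ 2) ^ k % 3 = 1 := by
      rw [Nat.pow_mod]; simp
    omega
  have : Fact (Nat.Prime 3) := ⟨Nat.prime_three⟩
  obtain ⟨a, ha⟩ := exists_prime_orderOf_dvd_card' 3 h1
  refine ⟨a, ?_⟩
  have h2 : (a : F) ^ 3 = 1 := by
    have := pow_orderOf_eq_one a
    rw [ha] at this
    rw [← Units.val_pow_eq_pow_val, this, Units.val_one]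
  have h3 : (a : F) ≠ 1 := by
    intro h
    have : a = 1 := Units.ext h
    rw [this, orderOf_one] at ha
    omega
  have h4 : ((a : F) + 1) * (a * a + a + 1) = 0 := by
    have h5 := C.add_self_F ((a : F) * a)
    have h6 := C.add_self_F (a : F)
    have h7 := C.add_self_F (1 : F)
    linear_combination h2 + h5 + h6 + h7
  rcases mul_eq_zero.mp h4 with h5 | h5
  · exfalso
    apply h3
    have := eq_neg_of_add_eq_zero_left h5
    rwa [C.neg_F] at this
  · have h6 := C.add_self_F (a : F)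
    have h7 := C.add_self_F (1 : F)
    linear_combination h5 - h6 - h7

/-- the ring homomorphisms `m ↦ μ` -/
def ev {μ : F} (hμ : μ * μ = μ + 1) : S2 σ 1 →+* F where
  toFun s := s.re + s.im * μ
  map_one' := by
    change ((1 : K0 σ) : F) + ((0 : K0 σ) : F) * μ = 1
    simp
  map_zero' := by
    change ((0 : K0 σ) : F) + ((0 : K0 σ) : F) * μ = 0
    simp
  map_add' x y := by
    change ((x.re + y.re : K0 σ) : F) + ((x.im + y.im : K0 σ) : F) * μ = _
    rw [Subfield.coe_add, Subfield.coe_add]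
    ring
  map_mul' x y := by
    rw [QuadraticAlgebra.re_mul, QuadraticAlgebra.im_mul]
    simp only [Subfield.coe_add, Subfield.coe_mul, one_mul]
    linear_combination -(x.im : F) * y.im * hμ

omit C in
theorem ev_apply {μ : F} (hμ : μ * μ = μ + 1) (s : S2 σ 1) : ev hμ s = s.re + s.im * μ := rfl

/-- order of subgroups of `GL(2, K₀[m])` -/
theorem card_dvd (hF : Nat.card F = Nat.card (K0 σ) ^ 2) {H : Type*} [Group H] [Finite H]
    (φ : H →* Matrix (Fin 2) (Fin 2) (S2 σ 1)) (hφ : Function.Injective φ) :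
    Nat.card H ∣ (Nat.card (GL (Fin 2) F)) * (Nat.card (GL (Fin 2) F)) := by
  obtain ⟨μ, hμ⟩ := exists_mu C hF
  have hμ' : (μ + 1) * (μ + 1) = (μ + 1) + 1 := by
    have := C.add_self_F μ
    linear_combination hμ + this
  let ψ : H →* GL (Fin 2) F × GL (Fin 2) F :=
    MonoidHom.prod (MonoidHom.toHomUnits (((ev hμ).mapMatrix : Matrix (Fin 2) (Fin 2) (S2 σ 1) →+*
      Matrix (Fin 2) (Fin 2) F).toMonoidHom.comp φ))
      (MonoidHom.toHomUnits (((ev hμ').mapMatrix : Matrix (Fin 2) (Fin 2) (S2 σ 1) →+*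
      Matrix (Fin 2) (Fin 2) F).toMonoidHom.comp φ))
  have hψ : Function.Injective ψ := by
    intro y z h
    apply hφ
    have h1 := congrArg (fun u : GL (Fin 2) F × GL (Fin 2) F => ((u.1 : GL (Fin 2) F) : Matrix (Fin 2) (Fin 2) F)) h
    have h2 := congrArg (fun u : GL (Fin 2) F × GL (Fin 2) F => ((u.2 : GL (Fin 2) F) : Matrix (Fin 2) (Fin 2) F)) h
    change (ev hμ).mapMatrix (φ y) = (ev hμ).mapMatrix (φ z) at h1
    change (ev hμ').mapMatrix (φ y) = (ev hμ').mapMatrix (φ z) at h2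
    refine Matrix.ext fun i j => ?_
    have h3 := congrFun (congrFun h1 i) j
    have h4 := congrFun (congrFun h2 i) j
    rw [RingHom.mapMatrix_apply, RingHom.mapMatrix_apply, Matrix.map_apply, Matrix.map_apply,
      ev_apply, ev_apply] at h3 h4
    have h5 : ((φ y i j).im : F) = (φ z i j).im := by linear_combination h4 - h3
    rw [QuadraticAlgebra.ext_iff]
    refine ⟨Subtype.ext ?_, Subtype.ext h5⟩
    rw [h5] at h3
    exact add_right_cancel h3
  have h1 := Subgroup.card_dvd_of_injective ψ hψ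
  rwa [Nat.card_prod] at h1

end

/-- the numbers do not fit -/
theorem numeric {Q k : ℕ} (hQ : Q = 2 ^ k) (h4 : 4 ≤ Q)
    (h : 4 * (Q + 1) * (Q + 1 + 2) ∣ (((Q ^ 2) ^ 2 - 1) * ((Q ^ 2) ^ 2 - Q ^ 2)) *
      (((Q ^ 2) ^ 2 - 1) * ((Q ^ 2) ^ 2 - Q ^ 2))) : False := by
  have h1 : (Q + 3 : ℕ) ∣ (((Q ^ 2) ^ 2 - 1) * ((Q ^ 2) ^ 2 - Q ^ 2)) *
      (((Q ^ 2) ^ 2 - 1) * ((Q ^ 2) ^ 2 - Q ^ 2)) := (Dvd.intro_left _ rfl).trans h
  have hp : 1 ≤ (Q ^ 2) ^ 2 := Nat.one_le_pow _ _ (Nat.pos_of_ne_zero (by positivity))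
  have hp2 : Q ^ 2 ≤ (Q ^ 2) ^ 2 := Nat.le_self_pow (by norm_num) _
  have h2 : ((Q : ℤ) + 3) ∣ (((Q : ℤ) ^ 4 - 1) * ((Q : ℤ) ^ 4 - Q ^ 2)) ^ 2 := by
    have h3 := Int.natCast_dvd_natCast.mpr h1
    rw [Nat.cast_mul, Nat.cast_mul, Nat.cast_sub hp, Nat.cast_sub hp2] at h3
    push_cast at h3
    have : (((Q : ℤ) ^ 4 - 1) * ((Q : ℤ) ^ 4 - Q ^ 2)) ^ 2 =
        (((Q : ℤ) ^ 2) ^ 2 - 1) * (((Q : ℤ) ^ 2) ^ 2 - Q ^ 2) *
        ((((Q : ℤ) ^ 2) ^ 2 - 1) * (((Q : ℤ) ^ 2) ^ 2 - Q ^ 2)) := by ring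
    rw [this]
    exact h3
  have h3 : ((Q : ℤ) + 3) ∣ 5760 ^ 2 := by
    have h5 : ((Q : ℤ) + 3) ∣ (((Q : ℤ) ^ 4 - 1) * ((Q : ℤ) ^ 4 - Q ^ 2)) - 5760 := by
      have a1 : (((Q : ℤ) ^ 4 - 1) * ((Q : ℤ) ^ 4 - Q ^ 2)) ≡
          (((-3 : ℤ) ^ 4 - 1) * ((-3 : ℤ) ^ 4 - (-3) ^ 2)) [ZMOD ((Q : ℤ) + 3)] := by
        have a0 : (Q : ℤ) ≡ -3 [ZMOD ((Q : ℤ) + 3)] := by
          rw [Int.modEq_iff_dvd]
          exact ⟨-1, by ring⟩
        exact Int.ModEq.mul ((a0.pow 4).sub_right 1) ((a0.pow 4).sub (a0.pow 2))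
      have := a1.symm.dvd
      norm_num at this
      exact this
    have h6 : ((Q : ℤ) + 3) ∣ (((Q : ℤ) ^ 4 - 1) * ((Q : ℤ) ^ 4 - Q ^ 2)) ^ 2 - 5760 ^ 2 := by
      have : (((Q : ℤ) ^ 4 - 1) * ((Q : ℤ) ^ 4 - Q ^ 2)) ^ 2 - 5760 ^ 2 =
          ((((Q : ℤ) ^ 4 - 1) * ((Q : ℤ) ^ 4 - Q ^ 2)) - 5760) *
          ((((Q : ℤ) ^ 4 - 1) * ((Q : ℤ) ^ 4 - Q ^ 2)) + 5760) := by ring
      rw [this]
      exact Dvd.dvd.mul_right h5 _
    exact (dvd_sub_comm.mp ((dvd_sub_right h2).mpr (by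
      have := dvd_sub h2 h6
      simpa using this))) |> fun _ => by
      have := dvd_sub h2 h6
      simpa using this
  have h4' : Q + 3 ∣ 5760 ^ 2 := by exact_mod_cast h3
  have hk : 2 ≤ k := by
    by_contra hlt
    have : k = 0 ∨ k = 1 := by omega
    rcases this with rfl | rfl <;> simp [hQ] at h4
  have hc2 : Nat.Coprime (Q + 3) 2 := by
    rw [Nat.coprime_two_right, hQ]
    obtain ⟨j, rfl⟩ : ∃ j, k = j + 1 := ⟨k - 1, by omega⟩
    rw [pow_succ, mul_comm]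
    exact ⟨2 ^ j + 1, by ring⟩
  have hc3 : Nat.Coprime (Q + 3) 3 := by
    rw [Nat.coprime_add_self_left, hQ]
    exact Nat.Coprime.pow_left _ (by norm_num)
  have hc : Nat.Coprime (Q + 3) (2 ^ 14 * 3 ^ 4) :=
    Nat.Coprime.mul_right (hc2.pow_right _) (hc3.pow_right _)
  have h25 : Q + 3 ∣ 25 := by
    have : 5760 ^ 2 = (2 ^ 14 * 3 ^ 4) * 25 := by norm_num
    rw [this] at h4'
    exact hc.dvd_of_dvd_mul_left h4'
  have hle := Nat.le_of_dvd (by norm_num) h25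
  have hQ22 : Q = 22 := by
    have : Q ≤ 22 := by omega
    interval_cases Q <;> revert h25 <;> decide
  rw [hQ22] at hQ
  have hk5 : k < 5 := by
    by_contra hge
    have : 2 ^ 5 ≤ 2 ^ k := Nat.pow_le_pow_right (by norm_num) (by omega)
    omega
  interval_cases k <;> omega

end Cfsg.Agent.StdL2.F.Eight
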