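import Cfsg.Agent.StdL2.FBase
import Cfsg.Agent.StdL2.FAlg

/-!
# S1773, case (f): no subgroup of odd order generated by two non commuting tori
-/

set_option autoImplicit false
set_option linter.unusedSectionVars false

namespace Cfsg.Agent.StdL2.F

open Module

/-- abstract form, over the fixed field `k`: `O` and `M` commute, `M² = M + δ`, in the basis
`v, ω v, M v, ω M v`. -/
theorem kill_abs {k W : Type*} [Field k] [AddCommGroup W] [Module k W] (h2 : (2 : k) = 0)
    (O M : Module.End k W) (b : Basis (Fin 4) k W) (c δ : k)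
    (hO0 : O (b 0) = b 1) (hO1 : O (b 1) = b 1 + c • b 0)
    (hO2 : O (b 2) = b 3) (hO3 : O (b 3) = b 3 + c • b 2)
    (hM0 : M (b 0) = b 2) (hM1 : M (b 1) = b 3)
    (hM2 : M (b 2) = b 2 + δ • b 0) (hM3 : M (b 3) = b 3 + δ • b 1)
    {H : Type*} [Group H] [Fintype H] (hodd : Odd (Fintype.card H))
    (r : H →* Module.End k W) (hr : ∀ h, r h * M = M * r h)
    (hcent : ∀ z : Module.End k W, (∀ h, r h * z = z * r h) → ∃ x y : k, z = x • 1 + y • M) :
    False := by
  classical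
  have trform : ∀ z : Module.End k W, LinearMap.trace k W z =
      b.repr (z (b 0)) 0 + b.repr (z (b 1)) 1 + b.repr (z (b 2)) 2 + b.repr (z (b 3)) 3 := by
    intro z
    rw [LinearMap.trace_eq_matrix_trace k b, Matrix.trace, Fin.sum_univ_four]
    simp only [Matrix.diag_apply, LinearMap.toMatrix_apply]
  have htrM : LinearMap.trace k W M = 0 := by
    rw [trform, hM0, hM1, hM2, hM3]
    simp only [map_add, map_smul, Basis.repr_self, Finsupp.add_apply, Finsupp.smul_apply]
    simp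
    rw [← h2]; norm_num
  have htrMM : LinearMap.trace k W (M * M) = 0 := by
    rw [trform]
    simp only [Module.End.mul_apply, hM0, hM1, hM2, hM3, map_add, map_smul, Basis.repr_self,
      Finsupp.add_apply, Finsupp.smul_apply]
    simp
    linear_combination (2 * δ + 1) * h2
  have htrMO : LinearMap.trace k W (M * O) = 1 := by
    rw [trform]
    simp only [Module.End.mul_apply, hO0, hO1, hO2, hO3, hM0, hM1, hM2, hM3, map_add, map_smul,
      Basis.repr_self, Finsupp.add_apply, Finsupp.smul_apply]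
    simp
  -- the average
  let P : Module.End k W := ∑ h : H, r h * O * r h⁻¹
  obtain ⟨x, y, hxy⟩ := hcent P (by
    intro g
    have h1 : r g * P * r g⁻¹ = P := by
      simp only [P]
      rw [Finset.mul_sum, Finset.sum_mul]
      apply Fintype.sum_equiv (Equiv.mulLeft g)
      intro h
      simp only [Equiv.coe_mulLeft, map_mul, mul_inv_rev, mul_assoc]
    have h3 : r g⁻¹ * r g = 1 := by rw [← map_mul, inv_mul_cancel, map_one]
    calc r g * P = r g * P * (r g⁻¹ * r g) := by rw [h3, mul_one]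
      _ = (r g * P * r g⁻¹) * r g := by simp only [mul_assoc]
      _ = P * r g := by rw [h1])
  have e1 : LinearMap.trace k W (M * P) = 0 := by
    rw [hxy, mul_add, mul_smul_comm, mul_smul_comm, mul_one, map_add, map_smul, map_smul, htrM,
      htrMM, smul_zero, smul_zero, add_zero]
  have e2 : LinearMap.trace k W (M * P) = (Fintype.card H : k) := by
    simp only [P]
    rw [Finset.mul_sum, map_sum]
    have : ∀ h : H, LinearMap.trace k W (M * (r h * O * r h⁻¹)) = 1 := by
      intro h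
      have h4 : M * (r h * O * r h⁻¹) = r h * ((M * O) * r h⁻¹) := by
        rw [← mul_assoc, ← mul_assoc, ← hr]; simp only [mul_assoc]
      have h3 : r h⁻¹ * r h = 1 := by rw [← map_mul, inv_mul_cancel, map_one]
      rw [h4, LinearMap.trace_mul_comm, mul_assoc, h3, mul_one, htrMO]
    rw [Finset.sum_congr rfl fun h _ => this h, Finset.sum_const, Finset.card_univ, nsmul_eq_mul,
      mul_one]
  have hcard : ((Fintype.card H : ℕ) : k) = 1 := by
    obtain ⟨n, hn⟩ := hodd
    rw [hn]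
    push_cast
    rw [h2]
    ring
  rw [e1, hcard] at e2
  exact zero_ne_one e2

section Mod

variable {X W F : Type*} [Group X] [AddCommGroup W] [DistribMulAction X W] [Field F]
  (κ : F →+* AddMonoid.End W) (σ : F ≃+* F)

/-- the fixed field of `σ` -/
def K0 : Subfield F where
  carrier := {a | σ a = a}
  mul_mem' := by
    intro a b ha hb
    change σ (a * b) = a * b
    rw [map_mul]; rw [show σ a = a from ha, show σ b = b from hb]
  one_mem' := map_one σ
  add_mem' := by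
    intro a b ha hb
    change σ (a + b) = a + b
    rw [map_add]; rw [show σ a = a from ha, show σ b = b from hb]
  zero_mem' := map_zero σ
  neg_mem' := by
    intro a ha
    change σ (-a) = -a
    rw [map_neg]; rw [show σ a = a from ha]
  inv_mem' := by
    intro a ha
    change σ (a⁻¹) = a⁻¹
    rw [map_inv₀]; rw [show σ a = a from ha]

theorem mem_K0 {a : F} : a ∈ K0 σ ↔ σ a = a := Iff.rfl

/-- `W` as a vector space over the fixed field -/
@[reducible] def modK0 : Module (K0 σ) W := Module.compHom W (κ.comp (K0 σ).subtype)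

/-- the operators commuting with the scalars of the fixed field -/
def Zc : Subring (AddMonoid.End W) := Subring.centralizer {z | ∃ a, σ a = a ∧ z = κ a}

theorem mem_Zc {z : AddMonoid.End W} : z ∈ Zc κ σ ↔ ∀ a, σ a = a → κ a * z = z * κ a := by
  rw [Zc, Subring.mem_centralizer_iff]
  constructor
  · intro h a ha
    exact h _ ⟨a, ha, rfl⟩
  · rintro h _ ⟨a, ha, rfl⟩
    exact h a ha

/-- operators commuting with the fixed field as linear maps -/
def toLin : Zc κ σ →+* @Module.End (K0 σ) W _ _ (modK0 κ σ) :=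
  letI := modK0 κ σ
  { toFun := fun z =>
      { toFun := fun w => (z : AddMonoid.End W) w
        map_add' := fun v w => map_add (z : AddMonoid.End W) v w
        map_smul' := fun a w => by
          have := DFunLike.congr_fun ((mem_Zc κ σ).mp z.2 (a : F) a.2) w
          exact this.symm }
    map_one' := rfl
    map_mul' := fun x y => rfl
    map_zero' := rfl
    map_add' := fun x y => rfl }

end Mod

namespace XC

variable {X W F : Type*} [Group X] [Finite X] [AddCommGroup W] [DistribMulAction X W] [Field F]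
  [Finite F] {κ : F →+* AddMonoid.End W} {d : Fˣ →* X} {σ : F ≃+* F} {t f : X} {w₁ : W}

/-- additivity of `κ` in the scalar -/
theorem k_add (a b : F) (w : W) : κ (a + b) w = κ a w + κ b w := by rw [map_add]; rfl

theorem k_mul (a b : F) (w : W) : κ (a * b) w = κ a (κ b w) := by rw [map_mul]; rfl

theorem k_vadd (a : F) (v w : W) : κ a (v + w) = κ a v + κ a w := map_add _ _ _

theorem k_one (w : W) : κ 1 w = w := by rw [map_one]; rfl

theorem k_zero (w : W) : κ 0 w = 0 := by rw [map_zero]; rfl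

/-- the fixed points of `f` -/
theorem fix_f (C : XC κ d σ t f w₁) {w : W} (hw : f • w = w) :
    ∃ a b : F, σ a = a ∧ σ b = b ∧ w = κ a w₁ + κ b (t • w₁ + w₁) := by
  obtain ⟨a, b, rfl⟩ := C.span w
  refine ⟨a, b, ?_, ?_, rfl⟩
  all_goals
    rw [smul_add, C.f_smul_kappa, C.f_smul_kappa, C.fw, C.f_v] at hw
    have h1 := C.indep (σ a - a) (σ b - b) (by
      rw [map_sub, map_sub]
      change (κ (σ a) w₁ - κ a w₁) + (κ (σ b) (t • w₁ + w₁) - κ b (t • w₁ + w₁)) = 0
      have : (κ (σ a) w₁ - κ a w₁) + (κ (σ b) (t • w₁ + w₁) - κ b (t • w₁ + w₁)) =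
        (κ (σ a) w₁ + κ (σ b) (t • w₁ + w₁)) - (κ a w₁ + κ b (t • w₁ + w₁)) := by abel
      rw [this, hw, sub_self])
  · exact sub_eq_zero.mp h1.1
  · exact sub_eq_zero.mp h1.2

/-- the fixed points of `t` -/
theorem fix_t (C : XC κ d σ t f w₁) {w : W} (hw : t • w = w) :
    ∃ b : F, w = κ b (t • w₁ + w₁) := by
  obtain ⟨a, b, rfl⟩ := C.span w
  rw [smul_add, C.t_smul_kappa, C.t_smul_kappa, C.t_v] at hw
  have h1 : κ a (t • w₁ + w₁) = 0 := by
    have h3 : κ a (t • w₁) = κ a w₁ := add_right_cancel hw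
    rw [map_add, h3]; exact C.add_self_W _
  have h2 := C.indep 0 a (by rw [h1, k_zero, add_zero])
  refine ⟨b, ?_⟩
  rw [h2.2, k_zero, zero_add]

theorem commute_omega (_C : XC κ d σ t f w₁) {ω : F} (hω : σ ω = ω + 1) : ω ≠ 0 := by
  rintro rfl
  rw [map_zero, zero_add] at hω
  exact zero_ne_one hω

theorem norm_a0 (C : XC κ d σ t f w₁) {ω : F} (hω : σ ω = ω + 1) :
    (1 + ω⁻¹) * σ (1 + ω⁻¹) = 1 := by
  have h0 := C.commute_omega hω
  have h1 : ω + 1 ≠ 0 := by
    rw [← hω]; exact fun h => h0 (by simpa using h)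
  rw [map_add, map_one, map_inv₀, hω]
  field_simp
  have := C.add_self_F (1 : F)
  have h2 := C.two
  linear_combination h2

theorem comm_of_a0 {ω : F} {z : AddMonoid.End W} (h : z * κ (1 + ω⁻¹) = κ (1 + ω⁻¹) * z) :
    z * κ ω = κ ω * z := by
  by_cases h0 : ω = 0
  · subst h0; rw [map_zero, mul_zero, zero_mul]
  have h1 : z * κ (ω⁻¹) = κ (ω⁻¹) * z := by
    rw [map_add, map_one, mul_add, add_mul, mul_one, one_mul] at h
    exact add_left_cancel h
  have h2 : κ ω * κ (ω⁻¹) = 1 := by rw [← map_mul, mul_inv_cancel₀ h0, map_one]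
  have h3 : κ (ω⁻¹) * κ ω = 1 := by rw [← map_mul, inv_mul_cancel₀ h0, map_one]
  calc z * κ ω = κ ω * κ (ω⁻¹) * z * κ ω := by rw [h2, one_mul]
    _ = κ ω * (z * κ (ω⁻¹)) * κ ω := by rw [h1]; simp only [mul_assoc]
    _ = κ ω * z * (κ (ω⁻¹) * κ ω) := by simp only [mul_assoc]
    _ = κ ω * z := by rw [h3, mul_one]

/-- no odd order subgroup with small commutant -/
theorem kill_odd (C : XC κ d σ t f w₁) {ω δ c' : F} (hω : σ ω = ω + 1) (hδ : σ δ = δ)
    (hδ0 : δ ≠ 0) (hc' : σ c' = c') (O' : AddMonoid.End W)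
    (hO'K : ∀ a, σ a = a → κ a * O' = O' * κ a)
    (hO'T : O' * rho X W t = rho X W t * O' + rho X W t)
    (hO'P : O' * rho X W f = rho X W f * O' + rho X W f)
    (hO' : O' * O' = O' + κ c')
    (hz : κ ω * O' + O' * κ ω = κ δ * rho X W f)
    (H : Subgroup X) (hodd : Odd (Nat.card H))
    (hHK : ∀ h ∈ H, ∀ a, σ a = a → κ a * rho X W h = rho X W h * κ a)
    (hHM : ∀ h ∈ H, rho X W h * (κ ω + O' + κ δ * (1 + rho X W f)) =
      (κ ω + O' + κ δ * (1 + rho X W f)) * rho X W h)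
    (hd : ∀ z ∈ Zc κ σ, (∀ h ∈ H, rho X W h * z = z * rho X W h) →
      z * κ ω = κ ω * z ∧ z * O' = O' * z) : False := by
  classical
  letI := modK0 (W := W) κ σ
  set T := rho X W t with hT
  set P := rho X W f with hP
  set M := κ ω + O' + κ δ * (1 + P) with hM
  have h2 : ∀ x : AddMonoid.End W, x + x = 0 := C.add_self_R
  have hOT : κ ω * T = T * κ ω := (C.t_kappa ω).symm
  have hOP : κ ω * P = P * κ ω + P := by
    have := C.f_kappa ω
    rw [hω, map_add, map_one, add_mul, one_mul] at this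
    rw [hP, this, add_assoc, h2, add_zero]
  have hδO : κ ω * κ δ = κ δ * κ ω := by rw [← map_mul, ← map_mul, mul_comm]
  have hδO' : O' * κ δ = κ δ * O' := (hO'K δ hδ).symm
  have hδP : P * κ δ = κ δ * P := by
    have := C.f_kappa δ
    rwa [hδ] at this
  have hδT : T * κ δ = κ δ * T := C.t_kappa δ
  have hO : κ ω * κ ω = κ ω + κ (ω * ω + ω) := by
    rw [map_add, map_mul]
    have := h2 (κ ω)
    rw [add_comm (κ ω * κ ω), ← add_assoc, this, zero_add]
  have hMO : M * κ ω = κ ω * M := Alg.M_O h2 hOP hz hδO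
  have hMP : M * P = P * M := Alg.M_P h2 hOP hO'P hδP
  have hMT : M * T = T * M + T := Alg.M_T C.rho_tf hOT hO'T hδT
  have hMM : M * M = M + κ (ω * ω + ω + c' + δ) := by
    have := Alg.M_M h2 C.rho_ff hOP hO'P hO hO' hz hδO hδO' hδP
    rw [map_add, map_add]; exact this
  -- scalars
  set δ₂ := ω * ω + ω + c' + δ with hδ₂
  have hδ₂0 : σ δ₂ = δ₂ := by
    rw [hδ₂, map_add, map_add, C.omega_sq hω, hc', hδ]
  -- the vectors
  set v₁ := t • w₁ + w₁ with hv₁
  have hm1 : f • (M v₁) = M v₁ := by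
    have := DFunLike.congr_fun hMP v₁
    change M (f • v₁) = f • M v₁ at this
    rw [C.f_v] at this
    exact this.symm
  have htv : t • v₁ = v₁ := C.t_v
  have htw : t • w₁ = w₁ + v₁ := C.t_w
  have hm2 : t • (M v₁) = M v₁ + v₁ := by
    have h3 : M (t • v₁) = t • M v₁ + t • v₁ := DFunLike.congr_fun hMT v₁
    rw [htv] at h3
    calc t • (M v₁) = t • M v₁ + v₁ + v₁ := by rw [add_assoc, C.add_self_W, add_zero]
      _ = M v₁ + v₁ := by rw [← h3]
  obtain ⟨a, b, ha, hb, hab⟩ := C.fix_f hm1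
  have ha1 : a = 1 := by
    have h1 := hm2
    have hab' : M v₁ = κ a w₁ + κ b v₁ := hab
    rw [hab', smul_add, C.t_smul_kappa, C.t_smul_kappa, htv, htw, map_add] at h1
    have h3 : κ a v₁ = v₁ := by
      have h4 : κ a w₁ + κ b v₁ + κ a v₁ = κ a w₁ + κ b v₁ + v₁ := by
        rw [← h1]; abel
      exact add_left_cancel h4
    have h5 := C.indep 0 (a + 1) (by
      rw [k_zero, zero_add, k_add, k_one]
      change κ a v₁ + v₁ = 0
      rw [h3]; exact C.add_self_W _)
    have h6 := eq_neg_of_add_eq_zero_left h5.2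
    rwa [C.neg_F] at h6
  subst ha1
  have hab : M v₁ = w₁ + κ b v₁ := by rw [hab, k_one]
  have key : ∀ g0 g1 g2 g3 : F, κ g0 v₁ + κ g1 (κ ω v₁) + κ g2 (M v₁) + κ g3 (κ ω (M v₁)) =
      κ (g2 + g3 * ω) w₁ + κ (g0 + g1 * ω + (g2 + g3 * ω) * b) v₁ := by
    intro g0 g1 g2 g3
    rw [hab]
    simp only [add_mul]
    simp only [k_add, k_mul, k_vadd]
    abel
  let vb : Fin 4 → W := ![v₁, κ ω v₁, M v₁, κ ω (M v₁)]
  have hli : LinearIndependent (K0 σ) vb := by
    rw [Fintype.linearIndependent_iff]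
    intro g hg
    rw [Fin.sum_univ_four] at hg
    change κ (g 0 : F) v₁ + κ (g 1 : F) (κ ω v₁) + κ (g 2 : F) (M v₁) +
      κ (g 3 : F) (κ ω (M v₁)) = 0 at hg
    rw [key] at hg
    obtain ⟨h3, h4⟩ := C.indep _ _ hg
    obtain ⟨h5, h6⟩ := C.decomp_unique hω (g 2).2 (g 3).2 h3
    rw [h3, zero_mul, add_zero] at h4
    obtain ⟨h7, h8⟩ := C.decomp_unique hω (g 0).2 (g 1).2 h4
    intro i
    fin_cases i
    · exact Subtype.ext h7
    · exact Subtype.ext h8
    · exact Subtype.ext h5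
    · exact Subtype.ext h6
  have hsp : ⊤ ≤ Submodule.span (K0 σ) (Set.range vb) := by
    intro w _
    obtain ⟨a, b', hw⟩ := C.span w
    obtain ⟨g2, g3, hg2, hg3, ha⟩ := C.decomp hω a
    obtain ⟨g0, g1, hg0, hg1, hb'⟩ := C.decomp hω (b' + a * b)
    have h3 : w = (⟨g0, hg0⟩ : K0 σ) • vb 0 + (⟨g1, hg1⟩ : K0 σ) • vb 1 +
        (⟨g2, hg2⟩ : K0 σ) • vb 2 + (⟨g3, hg3⟩ : K0 σ) • vb 3 := by
      change w = κ g0 v₁ + κ g1 (κ ω v₁) + κ g2 (M v₁) + κ g3 (κ ω (M v₁))
      rw [key, ← ha, ← hb', add_assoc, C.add_self_F, add_zero, hw]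
    rw [h3]
    have h4 : ∀ i, vb i ∈ Submodule.span (K0 σ) (Set.range vb) := fun i =>
      Submodule.subset_span ⟨i, rfl⟩
    exact add_mem (add_mem (add_mem (Submodule.smul_mem _ _ (h4 0))
      (Submodule.smul_mem _ _ (h4 1))) (Submodule.smul_mem _ _ (h4 2)))
      (Submodule.smul_mem _ _ (h4 3))
  let B := Basis.mk hli hsp
  have hB : ∀ i, B i = vb i := fun i => Basis.mk_apply hli hsp i
  -- the operators
  have hOZ : κ ω ∈ Zc κ σ := by
    rw [mem_Zc]; intro a _; rw [← map_mul, ← map_mul, mul_comm]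
  have hMZ : M ∈ Zc κ σ := by
    rw [mem_Zc]
    intro a ha
    have h3 : P * κ a = κ a * P := by
      have := C.f_kappa a
      rwa [ha] at this
    have h4 : κ a * κ δ = κ δ * κ a := by rw [← map_mul, ← map_mul, mul_comm]
    have h5 : κ a * κ ω = κ ω * κ a := by rw [← map_mul, ← map_mul, mul_comm]
    rw [hM, mul_add, mul_add, add_mul, add_mul, h5, hO'K a ha, ← mul_assoc, h4, mul_assoc,
      mul_add, mul_one, ← h3, mul_assoc, add_mul, one_mul]
  haveI := Fintype.ofFinite H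
  have hodd' : Odd (Fintype.card H) := by rwa [← Nat.card_eq_fintype_card]
  let r : H →* Module.End (K0 σ) W :=
    { toFun := fun h => toLin κ σ ⟨rho X W h, (mem_Zc κ σ).mpr (hHK h h.2)⟩
      map_one' := by
        have h3 : (⟨rho X W ((1 : H) : X), (mem_Zc κ σ).mpr (hHK _ (1 : H).2)⟩ : Zc κ σ) = 1 :=
          Subtype.ext (map_one (rho X W))
        exact (congrArg (toLin κ σ) h3).trans (map_one _)
      map_mul' := fun x y => by
        have h3 : (⟨rho X W ((x * y : H) : X), (mem_Zc κ σ).mpr (hHK _ (x * y).2)⟩ : Zc κ σ) =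
            ⟨rho X W (x : X), (mem_Zc κ σ).mpr (hHK _ x.2)⟩ *
              ⟨rho X W (y : X), (mem_Zc κ σ).mpr (hHK _ y.2)⟩ :=
          Subtype.ext (map_mul (rho X W) (x : X) (y : X))
        exact (congrArg (toLin κ σ) h3).trans (map_mul _ _ _) }
  refine kill_abs (k := K0 σ) (W := W) ?_ (toLin κ σ ⟨κ ω, hOZ⟩) (toLin κ σ ⟨M, hMZ⟩) B
    (⟨ω * ω + ω, C.omega_sq hω⟩ : K0 σ) (⟨δ₂, hδ₂0⟩ : K0 σ) ?_ ?_ ?_ ?_ ?_ ?_ ?_ ?_ hodd' r ?_ ?_
  · exact Subtype.ext C.two
  · rw [hB, hB]; rfl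
  · rw [hB, hB]
    change κ ω (κ ω v₁) = κ ω v₁ + κ (ω * ω + ω) v₁
    rw [k_add, k_mul, add_comm (κ ω (κ ω v₁)), ← add_assoc, C.add_self_W, zero_add]
  · rw [hB, hB]; rfl
  · rw [hB, hB]
    change κ ω (κ ω (M v₁)) = κ ω (M v₁) + κ (ω * ω + ω) (M v₁)
    rw [k_add, k_mul, add_comm (κ ω (κ ω (M v₁))), ← add_assoc, C.add_self_W, zero_add]
  · rw [hB, hB]; rfl
  · rw [hB, hB]
    exact DFunLike.congr_fun hMO v₁
  · rw [hB, hB]
    exact DFunLike.congr_fun hMM v₁
  · rw [hB, hB]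
    change M (κ ω (M v₁)) = κ ω (M v₁) + κ δ₂ (κ ω v₁)
    have h3 : M (κ ω (M v₁)) = κ ω (M (M v₁)) := DFunLike.congr_fun hMO (M v₁)
    have h4 : M (M v₁) = M v₁ + κ δ₂ v₁ := DFunLike.congr_fun hMM v₁
    rw [h3, h4, map_add, ← k_mul, ← k_mul, mul_comm]
  · intro h
    have h3 : (⟨rho X W (h : X), (mem_Zc κ σ).mpr (hHK _ h.2)⟩ : Zc κ σ) * ⟨M, hMZ⟩ =
        ⟨M, hMZ⟩ * ⟨rho X W (h : X), (mem_Zc κ σ).mpr (hHK _ h.2)⟩ :=
      Subtype.ext (hHM h h.2)
    have h4 := congrArg (toLin κ σ) h3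
    rw [map_mul, map_mul] at h4
    exact h4
  · intro z hz'
    let zE : AddMonoid.End W := z.toAddMonoidHom
    have hzE : zE ∈ Zc κ σ := by
      rw [mem_Zc]
      intro a ha
      ext w
      exact (map_smul z (⟨a, ha⟩ : K0 σ) w).symm
    obtain ⟨h3, h4⟩ := hd zE hzE (by
      intro h hh
      ext w
      exact LinearMap.congr_fun (hz' ⟨h, hh⟩) w)
    have h5 : zE * P = P * zE := by
      have e1 : zE * (κ δ * P) = κ δ * P * zE := by
        have a1 : zE * (κ ω * O') = κ ω * O' * zE := by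
          rw [← mul_assoc, h3, mul_assoc, h4, ← mul_assoc]
        have a2 : zE * (O' * κ ω) = O' * κ ω * zE := by
          rw [← mul_assoc, h4, mul_assoc, h3, ← mul_assoc]
        rw [← hz, mul_add, add_mul, a1, a2]
      have e2 : zE * κ δ = κ δ * zE := ((mem_Zc κ σ).mp hzE δ hδ).symm
      rw [← mul_assoc, e2] at e1
      have e3 : κ (δ⁻¹) * κ δ = 1 := by rw [← map_mul, inv_mul_cancel₀ hδ0, map_one]
      calc zE * P = κ (δ⁻¹) * κ δ * (zE * P) := by rw [e3, one_mul]
        _ = κ (δ⁻¹) * (κ δ * zE * P) := by simp only [mul_assoc]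
        _ = κ (δ⁻¹) * κ δ * (P * zE) := by rw [e1]; simp only [mul_assoc]
        _ = P * zE := by rw [e3, one_mul]
    have h6 : zE * M = M * zE := by
      have e2 : zE * κ δ = κ δ * zE := ((mem_Zc κ σ).mp hzE δ hδ).symm
      rw [hM, mul_add, mul_add, add_mul, add_mul, h3, h4, ← mul_assoc, e2, mul_assoc, mul_add,
        mul_one, h5, mul_assoc, add_mul, one_mul]
    have h7 : f • (z v₁) = z v₁ := by
      have := DFunLike.congr_fun h5 v₁
      change z (f • v₁) = f • z v₁ at this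
      rw [C.f_v] at this
      exact this.symm
    obtain ⟨x, y, hx, hy, hxy⟩ := C.fix_f h7
    have h8 : z v₁ = κ (y + x * b) v₁ + κ x (M v₁) := by
      have hxy' : z v₁ = κ x w₁ + κ y v₁ := hxy
      have h9 : κ x (M v₁) = κ x w₁ + κ (x * b) v₁ := by rw [hab, k_vadd, k_mul]
      rw [hxy', h9, k_add]
      have := C.add_self_W (κ (x * b) v₁)
      calc κ x w₁ + κ y v₁ = κ x w₁ + κ y v₁ + (κ (x * b) v₁ + κ (x * b) v₁) := by
            rw [this, add_zero]
        _ = _ := by abel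
    have hyx : σ (y + x * b) = y + x * b := by rw [map_add, map_mul, hy, hx, hb]
    refine ⟨⟨y + x * b, hyx⟩, ⟨x, hx⟩, ?_⟩
    have e1 : ∀ w, z (κ ω w) = κ ω (z w) := fun w => DFunLike.congr_fun h3 w
    have e2 : ∀ w, z (M w) = M (z w) := fun w => DFunLike.congr_fun h6 w
    have e3 : ∀ w, M (κ ω w) = κ ω (M w) := fun w => DFunLike.congr_fun hMO w
    have e4 : ∀ a w, σ a = a → M (κ a w) = κ a (M w) := fun a w ha =>
      (DFunLike.congr_fun ((mem_Zc κ σ).mp hMZ a ha) w).symm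
    have e5 : ∀ (a b : F) (w : W), κ a (κ b w) = κ b (κ a w) := fun a b w => by
      rw [← k_mul, ← k_mul, mul_comm]
    apply B.ext
    intro i
    rw [hB]
    change z (vb i) = κ (y + x * b) (vb i) + κ x (M (vb i))
    fin_cases i
    · exact h8
    · change z (κ ω v₁) = κ (y + x * b) (κ ω v₁) + κ x (M (κ ω v₁))
      rw [e1, h8, map_add, e3, e5 ω, e5 ω]
    · change z (M v₁) = κ (y + x * b) (M v₁) + κ x (M (M v₁))
      rw [e2, h8, map_add, e4 _ _ hyx, e4 _ _ hx]
    · change z (κ ω (M v₁)) = κ (y + x * b) (κ ω (M v₁)) + κ x (M (κ ω (M v₁)))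
      rw [e1, e2, h8, map_add, e4 _ _ hyx, e4 _ _ hx, map_add, e3, e5 ω, e5 ω]

end XC

end Cfsg.Agent.StdL2.F
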