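import Cfsg.Agent.StdL2.FEightFin
import Cfsg.Agent.StdL2.FEightCard
import Cfsg.Agent.StdL2.FKill

/-!
# S1773, case (f): the dihedral case

There is no involution `x` of `X` commuting with `K₀` and `f` with `x t x⁻¹ = t f` (`kill8`).
-/

set_option autoImplicit false
set_option linter.unusedSectionVars false

namespace Cfsg.Agent.StdL2.F.Eight

open Matrix Subgroup

variable {X W F : Type*} [Group X] [Finite X] [AddCommGroup W] [DistribMulAction X W] [Field F]
  [Finite F] {κ : F →+* AddMonoid.End W} {d : Fˣ →* X} {σ : F ≃+* F} {t f : X} {w₁ : W}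
  {M : AddMonoid.End W} {δ : K0 σ}

/-- the order in the fused case -/
theorem card_H1 (C : XC κ d σ t f w₁) {ω : F} (hω : σ ω = ω + 1) {x : X} {H1 G1 : Subgroup X}
    (tH : ∀ y ∈ H1, t * y * t ∈ H1) (htH : t ∉ H1) (hG : ∀ y, y ∈ G1 ↔ (y ∈ H1 ∨ y * t ∈ H1))
    (hfH : f ∈ H1) (hxH : x ∈ H1) (xx : x * x = 1) (xf : x * f = f * x) (xt : x * t = t * f * x)
    (sq : ∀ y ∈ H1, y * f = f * y → y * y = 1)
    (h8 : ∀ S : Subgroup X, S ≤ G1 → IsPGroup 2 S → Nat.card S ≤ 8)
    (hdH : ∀ a : Fˣ, d a ∈ H1 ↔ (a : F) * σ a = 1)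
    (hct : ∀ g ∈ H1, g * t = t * g → (∃ a, g = d a) ∨ ∃ a, g * f = d a)
    {h : X} (hh : h ∈ H1) (hfx : h * f * h⁻¹ = x) :
    Nat.card H1 = 4 * (Nat.card (K0 σ) + 1) * (Nat.card (K0 σ) + 1 + 2) := by
  have tt := C.tt
  have ff := C.ff
  have tf := C.tf
  have hf1 := C.f_ne_one
  have hcf := cf tt tH htH hG hfH hxH ff xx tf xf xt hf1 sq h8
  have hle : H1 ≤ G1 := fun y hy => (hG y).mpr (Or.inl hy)
  have htG : t ∈ G1 := (hG t).mpr (Or.inr (by rw [tt]; exact one_mem _))
  set D1 : Subgroup X := (nrm σ).ker.map d with hD1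
  have hDle : D1 ≤ H1 := by
    rintro y ⟨a, ha, rfl⟩
    exact (hdH a).mpr ((mem_ker C).mp ha)
  have hDc : Nat.card D1 = Nat.card (K0 σ) + 1 := by
    rw [hD1, Nat.card_congr (Subgroup.equivMapOfInjective _ d C.d_inj).symm.toEquiv]
    exact card_ker C hω
  have hDG : Nat.card (D1.subgroupOf G1) = Nat.card (K0 σ) + 1 := by
    rw [Nat.card_congr (Subgroup.subgroupOfEquivOfLe (hDle.trans hle)).toEquiv]
    exact hDc
  have hodd : Odd (Nat.card (D1.subgroupOf G1)) := by
    rw [hDG]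
    obtain ⟨k, hk⟩ := exists_pow C
    have h4 := four_le C
    rw [hk] at h4 ⊢
    have hk0 : k ≠ 0 := by rintro rfl; simp at h4
    exact (Even.pow_of_ne_zero (by norm_num) hk0).add_one
  have key := Ord.card_eq (G := G1) (H := H1.subgroupOf G1) (D := D1.subgroupOf G1) (t := ⟨t, htG⟩)
    (f := ⟨f, hle hfH⟩) (x := ⟨x, hle hxH⟩)
    (by
      rintro ⟨g, hg⟩ ⟨y, hy⟩ hyH
      exact G1_conj tt tH hG g hg y hyH)
    (fun h => htH h)
    (by
      rintro ⟨g, hg⟩ hgH
      exact ((hG g).mp hg).resolve_left hgH)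
    hfH hxH (Subtype.ext tt) (Subtype.ext ff) (Subtype.ext xx) (Subtype.ext tf) (Subtype.ext xf)
    (Subtype.ext xt) (fun h => hf1 (congrArg Subtype.val h))
    (by
      rintro ⟨g, hg⟩ hgH hgf
      rcases hcf g hgH (congrArg Subtype.val hgf) with h | h | h | h
      · exact Or.inl (Subtype.ext h)
      · exact Or.inr (Or.inl (Subtype.ext h))
      · exact Or.inr (Or.inr (Or.inl (Subtype.ext h)))
      · exact Or.inr (Or.inr (Or.inr (Subtype.ext h))))
    (by
      intro S hS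
      have := h8 (S.map G1.subtype) (Subgroup.map_subtype_le _) (hS.map _)
      rwa [Nat.card_congr (Subgroup.equivMapOfInjective _ G1.subtype G1.subtype_injective).symm.toEquiv]
        at this)
    (by
      rintro ⟨y, hy⟩ hyD
      exact hDle hyD)
    (by
      rintro ⟨y, hy⟩ ⟨a, ha, hya⟩
      apply Subtype.ext
      change y * t = t * y
      change d a = y at hya
      rw [← hya, C.td])
    (by
      rintro ⟨y, hy⟩ ⟨a, ha, hya⟩
      apply Subtype.ext
      change f * y * f = y⁻¹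
      change d a = y at hya
      rw [← hya, C.fd, mul_assoc, ff, mul_one, ← map_inv]
      congr 1
      have h1 := (mem_ker C).mp ha
      apply Units.ext
      rw [Units.coe_map, Units.val_inv_eq_inv_val]
      exact (eq_inv_of_mul_eq_one_right h1))
    hodd
    (by
      rintro ⟨g, hg⟩ hgH hgt
      rcases hct g hgH (congrArg Subtype.val hgt) with ⟨a, ha⟩ | ⟨a, ha⟩
      · left
        have h1 : d a ∈ H1 := by rw [← ha]; exact hgH
        exact ⟨a, (mem_ker C).mpr ((hdH a).mp h1), ha.symm⟩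
      · right
        have h1 : d a ∈ H1 := by rw [← ha]; exact mul_mem hgH hfH
        exact ⟨a, (mem_ker C).mpr ((hdH a).mp h1), ha.symm⟩)
    (isConj_iff.mpr ⟨⟨h, hle hh⟩, Subtype.ext hfx⟩)
  rw [hDG, Nat.card_congr (Subgroup.subgroupOfEquivOfLe hle).toEquiv] at key
  exact key

theorem main (C : XC κ d σ t f w₁) (hM : MC κ t f M (δ : F)) {ω : F} (hω : σ ω = ω + 1)
    {x : X} (hxM : x ∈ HM X κ σ M)
    (hx2 : x • (t • w₁ + w₁) = t • w₁ + w₁ → x • κ ω (t • w₁ + w₁) = M (t • w₁ + w₁) + κ ω (t • w₁ + w₁)) (xx : x * x = 1)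
    (xf : x * f = f * x) (xt : x * t = t * f * x)
    (hS : ∀ S : Subgroup X, IsPGroup 2 S →
      (∀ s ∈ S, ∀ a, σ a = a → Commute (XC.rho X W s) (κ a)) → Nat.card S ≤ 8)
    (hkill : ∀ H0 : Subgroup X, Odd (Nat.card H0) → H0 ≤ HM X κ σ M →
      (∀ a : Fˣ, (a : F) * σ a = 1 → d a ∈ H0) →
      (∀ a : Fˣ, (a : F) * σ a = 1 → x * d a * x⁻¹ ∈ H0) → False) : False := by
  have tt := C.tt
  have ff := C.ff
  have tf := C.tf
  have hf1 := C.f_ne_one
  obtain ⟨φ, hφ⟩ := exists_rep C hM hω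
  have hdetx : (φ ⟨x, hxM⟩) = !![1, ⟨0, 1⟩; 0, 1] := by
    obtain ⟨b, hb⟩ := inv_comm_f C hM hω hφ hxM xf xx
    have h1 := (hφ ⟨x, hxM⟩).2
    have h0 := (hφ ⟨x, hxM⟩).1
    rw [hb] at h1 h0
    change x • (t • w₁ + w₁) = jj hM 1 (t • w₁ + w₁) + jj hM 0 (κ ω (t • w₁ + w₁)) at h0
    rw [map_one, map_zero] at h0
    have h2 := hx2 (by rw [h0]; exact add_zero _)
    have h3 : x • κ ω (t • w₁ + w₁) = jj hM ⟨0, 1⟩ (t • w₁ + w₁) + jj hM 1 (κ ω (t • w₁ + w₁)) := by
      rw [h2, map_one, jj_apply]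
      simp
    change x • κ ω (t • w₁ + w₁) = jj hM b (t • w₁ + w₁) + jj hM 1 (κ ω (t • w₁ + w₁)) at h1
    rw [h3] at h1
    rw [hb, ← (uniqS C hM hω h1).1]
  obtain ⟨H1, hH1⟩ := exists_H1 hM φ
  have hfH : f ∈ H1 := (hH1 f).mpr ⟨f_mem C hM, by rw [phi_f C hM hω hφ, Matrix.det_fin_two_of]; ring⟩
  have hxH : x ∈ H1 := (hH1 x).mpr ⟨hxM, by rw [hdetx, Matrix.det_fin_two_of]; ring⟩
  have hdH : ∀ a : Fˣ, d a ∈ H1 ↔ (a : F) * σ a = 1 := by
    intro a
    rw [hH1, ← det_d C hM hω hφ]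
    exact ⟨fun ⟨_, h⟩ => h, fun h => ⟨d_mem C hM a, h⟩⟩
  have hle : H1 ≤ HM X κ σ M := fun y hy => ((hH1 y).mp hy).1
  have tH : ∀ y ∈ H1, t * y * t ∈ H1 := by
    intro y hy
    obtain ⟨h1, h2⟩ := (hH1 y).mp hy
    refine (hH1 _).mpr ⟨tconj_mem C hM h1, ?_⟩
    have h3 := phi_tconj C hM hω hφ ⟨y, h1⟩
    rw [h3]
    change ((tau C.two).mapMatrix (φ ⟨y, h1⟩)).det = 1
    rw [← RingHom.map_det, h2, map_one]
  have htH : t ∉ H1 := fun h => t_not_mem C hM (hle h)
  obtain ⟨G1, hG⟩ := exists_G1 tt tH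
  have sq : ∀ y ∈ H1, y * f = f * y → y * y = 1 := by
    intro y hy hyf
    obtain ⟨h1, h2⟩ := (hH1 y).mp hy
    exact sq_of_comm_f C hM hω hφ h1 hyf h2
  have h8 : ∀ S : Subgroup X, S ≤ G1 → IsPGroup 2 S → Nat.card S ≤ 8 := by
    intro S hSG hS2
    apply hS S hS2
    intro s hs a ha
    rcases (hG s).mp (hSG hs) with h | h
    · exact (mem_HM.mp (hle h)).1 a ha
    · have h1 := (mem_HM.mp (hle h)).1 a ha
      have h2 : s = s * t * t := by rw [mul_assoc, tt, mul_one]
      change XC.rho X W s * κ a = κ a * XC.rho X W s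
      rw [h2, map_mul, mul_assoc, C.t_kappa, ← mul_assoc, h1, mul_assoc]
  rcases fusion tt tH htH hG hfH hxH ff xx tf xf xt hf1 sq h8 with ⟨h, hh, hfx⟩ | ⟨H0, hH0, hodd, hall⟩
  · have hcf := cf tt tH htH hG hfH hxH ff xx tf xf xt hf1 sq h8
    have hxf : x ≠ f := Ord.x_ne_f tt ff xx xf xt hf1
    obtain ⟨hhM, hdet⟩ := (hH1 h).mp hh
    have h1 : h * f = x * h := mul_inv_eq_iff_eq_mul.mp hfx
    have h2 : h * x = f * h ∨ h * x = x * f * h := by
      have e1 : (h⁻¹ * f * h) * f = f * (h⁻¹ * f * h) := by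
        have : x * f = f * x := xf
        rw [← hfx] at this
        calc (h⁻¹ * f * h) * f = h⁻¹ * (f * (h * f * h⁻¹)) * h := by group
          _ = h⁻¹ * (h * f * h⁻¹ * f) * h := by rw [this]
          _ = f * (h⁻¹ * f * h) := by group
      rcases hcf (h⁻¹ * f * h) (mul_mem (mul_mem (inv_mem hh) hfH) hh) e1 with e | e | e | e
      · exfalso
        apply hf1
        calc f = h * (h⁻¹ * f * h) * h⁻¹ := by group
          _ = 1 := by rw [e]; group
      · exfalso
        apply hxf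
        have : f * h = h * f := by
          calc f * h = h * (h⁻¹ * f * h) := by group
            _ = h * f := by rw [e]
        rw [← hfx, ← this]; group
      · left
        calc h * x = h * (h⁻¹ * f * h) := by rw [e]
          _ = f * h := by group
      · right
        have e2 : h * (x * f) = f * h := by
          rw [← e]; group
        calc h * x = h * (x * f) * f := by simp only [mul_assoc]; rw [ff, mul_one]
          _ = f * (h * f) := by rw [e2, mul_assoc]
          _ = x * f * h := by rw [h1, ← mul_assoc, xf]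
    have hδ := delta_eq_one C hM hω hφ hxM hdetx hhM hdet h1 h2
    subst hδ
    have hcard := card_H1 C hω tH htH hG hfH hxH xx xf xt sq h8 hdH
      (fun g hg hgt => comm_t C hM hω hφ (hle hg) hgt) hh hfx
    have hF := card_F C hω
    have hdvd := card_dvd C hF (φ.comp (Subgroup.inclusion hle))
      ((phi_inj C hM hω hφ).comp (Subgroup.inclusion_injective hle))
    have : Fintype F := Fintype.ofFinite F
    have hGL : Nat.card (GL (Fin 2) F) = ((Nat.card (K0 σ) ^ 2) ^ 2 - 1) *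
        ((Nat.card (K0 σ) ^ 2) ^ 2 - Nat.card (K0 σ) ^ 2) := by
      rw [Matrix.card_GL_field, Fin.prod_univ_two, ← Nat.card_eq_fintype_card, hF]
      simp
    rw [hcard, hGL] at hdvd
    obtain ⟨k, hk⟩ := exists_pow C
    exact numeric hk (four_le C) hdvd
  · have hoddF : ∀ a : Fˣ, Odd (orderOf (d a)) := by
      intro a
      have h1 : orderOf (d a) ∣ Nat.card Fˣ := (orderOf_map_dvd d a).trans (orderOf_dvd_natCard a)
      refine Odd.of_dvd_nat ?_ h1
      rw [Nat.card_units, card_F C hω]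
      obtain ⟨k, hk⟩ := exists_pow C
      have h4 := four_le C
      rw [hk] at h4 ⊢
      have hk0 : k ≠ 0 := by rintro rfl; simp at h4
      have h5 : Even ((2 ^ k) ^ 2) := (Even.pow_of_ne_zero (Even.pow_of_ne_zero (by norm_num) hk0) (by norm_num))
      exact Nat.Even.sub_odd (Nat.one_le_pow _ _ (by positivity)) h5 (by norm_num)
    refine hkill H0 hodd (hH0.trans hle) (fun a ha => hall _ ((hdH a).mpr ha) (hoddF a)) (fun a ha => ?_)
    apply hall _ (mul_mem (mul_mem hxH ((hdH a).mpr ha)) (inv_mem hxH))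
    have : orderOf (x * d a * x⁻¹) = orderOf (d a) := by
      have := (MulAut.conj x).orderOf_eq (d a)
      rwa [MulAut.conj_apply] at this
    rw [this]
    exact hoddF a

end Cfsg.Agent.StdL2.F.Eight

namespace Cfsg.Agent.StdL2.F.XC

open Cfsg.Agent.StdL2.F.Eight (MC HM mem_HM)

variable {X W F : Type*} [Group X] [Finite X] [AddCommGroup W] [DistribMulAction X W] [Field F]
  [Finite F] {κ : F →+* AddMonoid.End W} {d : Fˣ →* X} {σ : F ≃+* F} {t f : X} {w₁ : W}

/-- **the dihedral case** -/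
theorem kill8 (C : XC κ d σ t f w₁) {ω δ : F} (hω : σ ω = ω + 1) (hδ : σ δ = δ) (hδ0 : δ ≠ 0)
    (x : X) (hxx : x * x = 1) (hxt : x * t * x⁻¹ = t * f) (hxf : x * f = f * x)
    (hxK : ∀ a, σ a = a → Commute (rho X W x) (κ a))
    (hz : κ ω * (rho X W x * κ ω * rho X W x) + (rho X W x * κ ω * rho X W x) * κ ω =
      κ δ * rho X W f)
    (hS : ∀ S : Subgroup X, IsPGroup 2 S →
      (∀ s ∈ S, ∀ a, σ a = a → Commute (rho X W s) (κ a)) → Nat.card S ≤ 8) : False := by
  have xt : x * t = t * f * x := mul_inv_eq_iff_eq_mul.mp hxt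
  have h2 : ∀ z : AddMonoid.End W, z + z = 0 := C.add_self_R
  have hRR : rho X W x * rho X W x = 1 := by rw [← map_mul, hxx, map_one]
  have hRT : rho X W x * rho X W t = rho X W t * rho X W f * rho X W x := by
    rw [← map_mul, xt, map_mul, map_mul]
  have hRP : rho X W x * rho X W f = rho X W f * rho X W x := by rw [← map_mul, hxf, map_mul]
  have hRK : ∀ a, σ a = a → rho X W x * κ a = κ a * rho X W x := fun a ha => hxK a ha
  have hOT : κ ω * rho X W t = rho X W t * κ ω := (C.t_kappa ω).symm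
  have hOP : κ ω * rho X W f = rho X W f * κ ω + rho X W f := by
    rw [C.f_kappa, hω, map_add, map_one, add_mul, one_mul, add_assoc, h2, add_zero]
  have hc := C.omega_sq hω
  have hO : κ ω * κ ω = κ ω + κ (ω * ω + ω) := by
    rw [← map_mul, ← map_add]
    congr 1
    have := C.add_self_F ω
    linear_combination -this
  have hPP := C.rho_ff
  have hTP := C.rho_tf
  have hTT := C.rho_tt
  have hO'eq : ∃ O', O' = rho X W x * κ ω * rho X W x := ⟨_, rfl⟩
  obtain ⟨O', hO'd⟩ := hO'eq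
  rw [← hO'd] at hz
  generalize hR : rho X W x = R at *
  generalize hP : rho X W f = P at *
  generalize hT : rho X W t = T at *
  have hO'T : O' * T = T * O' + T := by
    rw [hO'd]
    calc R * κ ω * R * T = R * κ ω * (R * T) := by simp only [mul_assoc]
      _ = R * (κ ω * T) * (P * R) := by rw [hRT]; simp only [mul_assoc]
      _ = R * T * (κ ω * P) * R := by rw [hOT]; simp only [mul_assoc]
      _ = T * P * (R * P) * κ ω * R + T * P * (R * P) * R := by
          rw [hRT, hOP, mul_add, add_mul]; simp only [mul_assoc]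
      _ = T * (P * P) * (R * κ ω * R) + T * (P * P) * (R * R) := by rw [hRP]; simp only [mul_assoc]
      _ = _ := by rw [hPP, hRR, mul_one, mul_one]
  have hO'P : O' * P = P * O' + P := by
    rw [hO'd]
    calc R * κ ω * R * P = R * (κ ω * P) * R := by rw [mul_assoc (R * κ ω), hRP]; simp only [mul_assoc]
      _ = R * P * κ ω * R + R * P * R := by rw [hOP, mul_add, add_mul]; simp only [mul_assoc]
      _ = P * (R * κ ω * R) + P * (R * R) := by rw [hRP]; simp only [mul_assoc]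
      _ = _ := by rw [hRR, mul_one]
  have hO' : O' * O' = O' + κ (ω * ω + ω) := by
    rw [hO'd]
    calc R * κ ω * R * (R * κ ω * R) = R * κ ω * (R * R) * κ ω * R := by simp only [mul_assoc]
      _ = R * (κ ω * κ ω) * R := by rw [hRR, mul_one]; simp only [mul_assoc]
      _ = R * κ ω * R + (R * κ (ω * ω + ω)) * R := by rw [hO, mul_add, add_mul]
      _ = _ := by rw [hRK _ hc, mul_assoc (κ (ω * ω + ω)), hRR, mul_one]
  have hO'K : ∀ a, σ a = a → κ a * O' = O' * κ a := by
    intro a ha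
    have e1 : κ a * κ ω = κ ω * κ a := by rw [← map_mul, mul_comm, map_mul]
    rw [hO'd]
    calc κ a * (R * κ ω * R) = κ a * R * κ ω * R := by simp only [mul_assoc]
      _ = R * (κ a * κ ω) * R := by rw [← hRK a ha]; simp only [mul_assoc]
      _ = R * κ ω * (κ a * R) := by rw [e1]; simp only [mul_assoc]
      _ = _ := by rw [← hRK a ha]; simp only [mul_assoc]
  have hKK : ∀ a b : F, κ a * κ b = κ b * κ a := fun a b => by rw [← map_mul, mul_comm, map_mul]
  have hδP : P * κ δ = κ δ * P := by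
    have := C.f_kappa δ
    rw [hδ, hP] at this
    exact this
  have hδT : T * κ δ = κ δ * T := by
    have := C.t_kappa δ
    rwa [hT] at this
  have hO'δ : O' * κ δ = κ δ * O' := (hO'K δ hδ).symm
  have hMO := Alg.M_O h2 (O := κ ω) (O' := O') (P := P) (δ := κ δ) hOP hz (hKK _ _)
  have hMP := Alg.M_P h2 (O := κ ω) (O' := O') (P := P) (δ := κ δ) hOP hO'P hδP
  have hMT := Alg.M_T (T := T) (O := κ ω) (O' := O') (P := P) (δ := κ δ) hTP hOT hO'T hδT
  have hMM := Alg.M_M h2 (O := κ ω) (O' := O') (P := P) (δ := κ δ) hPP hOP hO'P hO hO' hz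
    (hKK _ _) hO'δ hδP
  rw [h2, zero_add] at hMM
  have hMK : ∀ a, σ a = a → κ a * (κ ω + O' + κ δ * (1 + P)) = (κ ω + O' + κ δ * (1 + P)) * κ a := by
    intro a ha
    have hPa : P * κ a = κ a * P := by
      have := C.f_kappa a
      rw [ha, hP] at this
      exact this
    have e1 : κ a * (κ δ * (1 + P)) = κ δ * (1 + P) * κ a := by
      rw [← mul_assoc, hKK a δ, mul_assoc, mul_assoc, mul_add, add_mul, hPa, mul_one, one_mul]
    rw [mul_add, mul_add, add_mul, add_mul, hKK a ω, hO'K a ha, e1]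
  have hMx : R * (κ ω + O' + κ δ * (1 + P)) = (κ ω + O' + κ δ * (1 + P)) * R := by
    have e1 : R * (κ δ * (1 + P)) = κ δ * (1 + P) * R := by
      rw [← mul_assoc, hRK δ hδ, mul_assoc, mul_assoc, mul_add, add_mul, hRP, mul_one, one_mul]
    have e2 : R * O' = κ ω * R := by
      rw [hO'd, ← mul_assoc, ← mul_assoc, hRR, one_mul]
    have e3 : O' * R = R * κ ω := by
      rw [hO'd, mul_assoc, hRR, mul_one]
    rw [mul_add, mul_add, add_mul, add_mul, e1, e2, e3, add_comm (R * κ ω)]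
  obtain ⟨M, hMd⟩ : ∃ M, M = κ ω + O' + κ δ * (1 + P) := ⟨_, rfl⟩
  rw [← hMd] at hMO hMP hMT hMM hMx
  simp only [← hMd] at hMK
  have hMC : MC κ t f M δ := by
    refine ⟨?_, ?_, ?_, hMM⟩
    · intro a
      obtain ⟨u, v, hu, hv, rfl⟩ := C.decomp hω a
      rw [map_add, map_mul, add_mul, hMK u hu, mul_assoc, ← hMO, ← mul_assoc, hMK v hv, mul_add, mul_assoc]
    · rw [hP]; exact hMP.symm
    · rw [hT, hMT, add_assoc, h2, add_zero]
  refine Eight.main (δ := ⟨δ, hδ⟩) C hMC hω (x := x) ?_ ?_ hxx hxf xt hS ?_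
  · refine mem_HM.mpr ⟨?_, ?_⟩
    · rw [hR]; exact hRK
    · rw [hR]; exact hMx
  · intro hxv
    have e1 : R * κ ω = O' * R := by rw [hO'd, mul_assoc, hRR, mul_one]
    have e2 : O' = M + κ ω + κ δ * (1 + P) := by
      rw [hMd]
      have e3 := h2 (κ ω)
      have e4 := h2 (κ δ * (1 + P))
      calc O' = O' + (κ ω + κ ω) + (κ δ * (1 + P) + κ δ * (1 + P)) := by rw [e3, e4, add_zero, add_zero]
        _ = _ := by abel
    have e5 := DFunLike.congr_fun e1 (t • w₁ + w₁)
    rw [← hR] at e5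
    change x • κ ω (t • w₁ + w₁) = O' (x • (t • w₁ + w₁)) at e5
    rw [e5, hxv, e2]
    change M (t • w₁ + w₁) + κ ω (t • w₁ + w₁) + κ δ ((t • w₁ + w₁) + P (t • w₁ + w₁)) = _
    have e6 : P (t • w₁ + w₁) = t • w₁ + w₁ := by
      rw [← hP]; exact C.f_v
    rw [e6, C.add_self_W, map_zero, add_zero]
  · intro H0 hodd hH0 hd hdx
    have h0 := C.commute_omega hω
    have hn := C.norm_a0 hω
    have ha0 : (1 + ω⁻¹ : F) ≠ 0 := by
      intro h
      rw [h, zero_mul] at hn
      exact zero_ne_one hn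
    refine C.kill_odd hω hδ hδ0 hc O' hO'K (by rw [hT]; exact hO'T) (by rw [hP]; exact hO'P) hO'
      (by rw [hP]; exact hz) H0 hodd ?_ ?_ ?_
    · intro h hh a ha
      exact ((mem_HM.mp (hH0 hh)).1 a ha).symm
    · intro h hh
      rw [hP, ← hMd]
      exact (mem_HM.mp (hH0 hh)).2
    · intro z _ hz'
      have e1 := hz' _ (hd (Units.mk0 (1 + ω⁻¹) ha0) hn)
      have e2 := hz' _ (hdx (Units.mk0 (1 + ω⁻¹) ha0) hn)
      have hxi : x⁻¹ = x := inv_eq_of_mul_eq_one_left hxx
      rw [C.rho_d] at e1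
      rw [hxi, map_mul, map_mul, C.rho_d, hR] at e2
      change κ (1 + ω⁻¹) * z = z * κ (1 + ω⁻¹) at e1
      change R * κ (1 + ω⁻¹) * R * z = z * (R * κ (1 + ω⁻¹) * R) at e2
      refine ⟨comm_of_a0 e1.symm, ?_⟩
      have e3 : (R * z * R) * κ (1 + ω⁻¹) = κ (1 + ω⁻¹) * (R * z * R) := by
        calc (R * z * R) * κ (1 + ω⁻¹) = R * (z * (R * κ (1 + ω⁻¹) * R)) * R := by
              have : R * (z * (R * κ (1 + ω⁻¹) * R)) * R = R * z * R * κ (1 + ω⁻¹) * (R * R) := by
                simp only [mul_assoc]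
              rw [this, hRR, mul_one]
          _ = (R * R) * κ (1 + ω⁻¹) * (R * z * R) := by rw [← e2]; simp only [mul_assoc]
          _ = _ := by rw [hRR, one_mul]
      have e4 := comm_of_a0 e3
      rw [hO'd]
      calc z * (R * κ ω * R) = (R * R) * z * R * κ ω * R := by rw [hRR, one_mul]; simp only [mul_assoc]
        _ = R * ((R * z * R) * κ ω) * R := by simp only [mul_assoc]
        _ = R * κ ω * R * z * (R * R) := by rw [e4]; simp only [mul_assoc]
        _ = _ := by rw [hRR, mul_one]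

end Cfsg.Agent.StdL2.F.XC
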