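import Mathlib
import Cfsg.Agent.S0213

/-!
# An application of the Thompson order formula

`G` is a finite group with a subgroup `H` of index 2, `t` an involution outside `H`, `U = {1, f, x, xf}`
a self-centralizing four-subgroup of `H` with `t` interchanging `x` and `xf`, and `C_H(t) = D⟨f⟩` with
`D` of odd order `m` inverted by `f`. If `f` and `x` are conjugate then `|H| = 4m(m+2)`.
-/

set_option autoImplicit false
set_option linter.unusedSectionVars false

open Subgroup

namespace Cfsg.Agent.StdL2.F.Ord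

theorem card_two {G : Type*} [Group G] [Finite G] {A B : Subgroup G} (hAB : A ≤ B) {a : G} (ha : a ∈ B)
    (haA : a ∉ A) (h : ∀ b ∈ B, b ∉ A → b * a ∈ A) : Nat.card B = 2 * Nat.card A := by
  have h1 : A.relIndex B = 2 := by
    rw [Subgroup.relIndex_eq_two_iff_exists_notMem_and]
    exact ⟨a, ha, haA, fun b hb => by
      by_cases hbA : b ∈ A
      · exact Or.inr hbA
      · exact Or.inl (h b hb hbA)⟩
  rw [← h1]
  have h2 := Subgroup.card_mul_index (A.subgroupOf B)
  rw [Nat.card_congr (Subgroup.subgroupOfEquivOfLe hAB).toEquiv] at h2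
  rw [← h2, mul_comm]
  rfl

theorem conj_zp {G : Type*} [Group G] {u v : G} (hu : u * u = 1) (hv : v * v = 1) (k : ℤ) :
    u * (u * v) ^ k * u⁻¹ = ((u * v) ^ k)⁻¹ := by
  have h1 : u * (u * v) * u⁻¹ = (u * v)⁻¹ := by
    rw [mul_inv_rev, inv_eq_of_mul_eq_one_left hu, inv_eq_of_mul_eq_one_left hv, ← mul_assoc, hu, one_mul]
  rw [← conj_zpow, h1, inv_zpow]

theorem conj_zp' {G : Type*} [Group G] {u v : G} (hu : u * u = 1) (hv : v * v = 1) (k : ℤ) :
    v * (u * v) ^ k * v⁻¹ = ((u * v) ^ k)⁻¹ := by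
  have h1 : v * (u * v) * v⁻¹ = (u * v)⁻¹ := by
    rw [mul_inv_rev, inv_eq_of_mul_eq_one_left hu, inv_eq_of_mul_eq_one_left hv, mul_assoc, mul_assoc, hv, mul_one]
  rw [← conj_zpow, h1, inv_zpow]

/-- if the involution `z` is a power of `uv` (`u`, `v` involutions) then it commutes with `u`, `v` -/
theorem comm_of_mem {G : Type*} [Group G] {u v z : G} (hu : u * u = 1) (hv : v * v = 1) (hz : z * z = 1)
    (h : z ∈ zpowers (u * v)) : u * z = z * u ∧ v * z = z * v := by
  obtain ⟨k, hk⟩ := Subgroup.mem_zpowers_iff.mp h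
  have h1 := conj_zp hu hv k
  have h2 := conj_zp' hu hv k
  rw [hk, inv_eq_of_mul_eq_one_left hz] at h1 h2
  exact ⟨mul_inv_eq_iff_eq_mul.mp h1, mul_inv_eq_iff_eq_mul.mp h2⟩

/-- an element of an odd order subgroup with square one is trivial -/
theorem eq_one_of_odd {G : Type*} [Group G] [Finite G] {D : Subgroup G} (hD : Odd (Nat.card D)) {g : G}
    (hg : g ∈ D) (h : g * g = 1) : g = 1 := by
  have h1 : orderOf g ∣ 2 := orderOf_dvd_of_pow_eq_one (by rw [pow_two, h])
  have h2 : orderOf g ∣ Nat.card D := by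
    have := orderOf_dvd_natCard (⟨g, hg⟩ : D)
    rwa [← Subgroup.orderOf_coe] at this
  have h3 : orderOf g ∣ 1 := by
    have : Nat.Coprime 2 (Nat.card D) := (Nat.coprime_two_left).mpr hD
    exact (Nat.dvd_gcd h1 h2).trans (by rw [this])
  exact orderOf_eq_one_iff.mp (Nat.dvd_one.mp h3)

section

variable {G : Type*} [Group G] [Finite G] {H D : Subgroup G} {t f x : G}
  (hn : ∀ g, ∀ h ∈ H, g * h * g⁻¹ ∈ H) (htH : t ∉ H) (hidx : ∀ g, g ∉ H → g * t ∈ H)
  (hfH : f ∈ H) (hxH : x ∈ H) (tt : t * t = 1) (ff : f * f = 1) (xx : x * x = 1)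
  (tf : t * f = f * t) (xf : x * f = f * x) (xt : x * t = t * f * x) (hf1 : f ≠ 1)
  (cf : ∀ g ∈ H, g * f = f * g → g = 1 ∨ g = f ∨ g = x ∨ g = x * f)

include tt xf xt

omit [Finite G] in
theorem txt : t * x * t = x * f := by
  have h2 : t * (x * t) = f * x := by
    rw [xt, ← mul_assoc, ← mul_assoc, tt, one_mul]
  rw [mul_assoc, h2, xf]

include xx

omit [Finite G] in
theorem tx_sq : t * x * (t * x) = f := by
  rw [← mul_assoc, txt tt xf xt, mul_assoc, ← xf, ← mul_assoc, xx, one_mul]

include ff hf1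

omit [Finite G] in
theorem x_ne_one : x ≠ 1 := by
  intro h
  rw [h, one_mul, mul_one] at xt
  exact hf1 (mul_eq_left.mp xt.symm)

omit [Finite G] in
theorem x_ne_f : x ≠ f := by
  intro h
  rw [h, mul_assoc, ff, mul_one] at xt
  exact hf1 (mul_eq_right.mp xt)

include hn htH hidx hfH hxH tf cf

theorem card_cf : Nat.card (centralizer ({f} : Set G)) = 8 := by
  have hx1 := x_ne_one tt ff xx xf xt hf1
  have hxf := x_ne_f tt ff xx xf xt hf1
  have h1 : Nat.card (centralizer ({f} : Set G)) = 2 * Nat.card (centralizer ({f} : Set G) ⊓ H : Subgroup G) := by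
    apply card_two inf_le_left (a := t)
    · rw [mem_centralizer_singleton_iff]; exact tf
    · exact fun h => htH h.2
    · intro b hb hbH
      have hb' : b ∉ H := fun h => hbH ⟨hb, h⟩
      exact ⟨mul_mem hb (mem_centralizer_singleton_iff.mpr tf), hidx b hb'⟩
  have h2 : Nat.card (centralizer ({f} : Set G) ⊓ H : Subgroup G) = 2 * Nat.card (zpowers f) := by
    have hfz : ∀ y, y ∈ zpowers f → y = 1 ∨ y = f := by
      intro y hy
      obtain ⟨k, rfl⟩ := Subgroup.mem_zpowers_iff.mp hy
      rcases Int.even_or_odd' k with ⟨c, rfl | rfl⟩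
      · left; rw [zpow_mul, zpow_two, ff, one_zpow]
      · right; rw [zpow_add, zpow_mul, zpow_two, ff, one_zpow, one_mul, zpow_one]
    apply card_two (a := x)
    · rw [zpowers_le]
      exact ⟨mem_centralizer_singleton_iff.mpr rfl, hfH⟩
    · exact ⟨mem_centralizer_singleton_iff.mpr xf, hxH⟩
    · intro h
      rcases hfz x h with h | h
      · exact hx1 h
      · exact hxf h
    · rintro b ⟨hb, hbH⟩ hbz
      rcases cf b hbH (mem_centralizer_singleton_iff.mp hb) with rfl | rfl | rfl | rfl
      · exact absurd (one_mem _) hbz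
      · exact absurd (mem_zpowers _) hbz
      · rw [xx]; exact one_mem _
      · rw [xf, mul_assoc, xx, mul_one]; exact mem_zpowers _
  rw [h1, h2, Nat.card_zpowers, orderOf_eq_prime (by rw [pow_two, ff]) hf1]

/-- an involution of `C(f)` outside `H` -/
theorem inv_cf {g : G} (hg : g * f = f * g) (gg : g * g = 1) (hgH : g ∉ H) : g = t ∨ g = f * t := by
  have h1 := txt tt xf xt
  have h3 : (g * t) * f = f * (g * t) := by rw [mul_assoc, tf, ← mul_assoc, hg, mul_assoc]
  have h2 : g = g * t * t := by rw [mul_assoc, tt, mul_one]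
  rcases cf (g * t) (hidx g hgH) h3 with h | h | h | h
  · left; rw [h2, h, one_mul]
  · right; rw [h2, h]
  · exfalso
    rw [h] at h2
    rw [h2] at gg
    apply hf1
    rw [← gg]
    have : x * t * (x * t) = x * (t * x * t) := by simp only [mul_assoc]
    rw [this, h1, ← mul_assoc, xx, one_mul]
  · exfalso
    rw [h] at h2
    rw [h2] at gg
    apply hf1
    rw [← gg]
    have : x * f * t * (x * f * t) = x * (f * (t * x * (f * t))) := by simp only [mul_assoc]
    rw [this, ← tf, ← mul_assoc (t * x) t f, h1, mul_assoc x f f, ff, mul_one, ← xf, ← mul_assoc, xx, one_mul]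

variable (h8 : ∀ S : Subgroup G, IsPGroup 2 S → Nat.card S ≤ 8)

include h8

/-- every involution is conjugate into `C(f)` -/
theorem exists_conj {g : G} (gg : g * g = 1) : ∃ c : G, (c * g * c⁻¹) * f = f * (c * g * c⁻¹) := by
  have hp : Fact (Nat.Prime 2) := ⟨Nat.prime_two⟩
  have hc := card_cf hn htH hidx hfH hxH tt ff xx tf xf xt hf1 cf
  have h1 : IsPGroup 2 (centralizer ({f} : Set G)) := IsPGroup.of_card (n := 3) (by rw [hc]; rfl)
  obtain ⟨P, hP⟩ := h1.exists_le_sylow
  have hPe : (P : Subgroup G) = centralizer ({f} : Set G) := by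
    symm
    apply Subgroup.eq_of_le_of_card_ge hP
    rw [hc]
    exact h8 P P.isPGroup'
  have h2 : IsPGroup 2 (zpowers g) := by
    rw [IsPGroup.iff_orderOf]
    rintro ⟨y, hy⟩
    obtain ⟨k, rfl⟩ := Subgroup.mem_zpowers_iff.mp hy
    have h4 : (⟨g ^ k, hy⟩ : zpowers g) ^ 2 = 1 := by
      apply Subtype.ext
      change (g ^ k) ^ 2 = 1
      rw [← zpow_natCast, ← zpow_mul, mul_comm, zpow_mul]
      rw [show (g ^ ((2 : ℕ) : ℤ)) = g ^ 2 from zpow_natCast g 2, pow_two, gg, one_zpow]
    have h5 := orderOf_dvd_of_pow_eq_one h4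
    obtain ⟨j, -, hj⟩ := (Nat.dvd_prime_pow Nat.prime_two).mp (show _ ∣ 2 ^ 1 from h5)
    exact ⟨j, hj⟩
  obtain ⟨Q, hQ⟩ := h2.exists_le_sylow
  obtain ⟨c, hc'⟩ := MulAction.exists_smul_eq G Q P
  refine ⟨c, ?_⟩
  have h3 : c * g * c⁻¹ ∈ (P : Subgroup G) := by
    rw [← hc', Sylow.coe_subgroup_smul]
    rw [Subgroup.mem_pointwise_smul_iff_inv_smul_mem]
    have : (MulAut.conj c)⁻¹ • (c * g * c⁻¹) = g := by
      rw [← map_inv, MulAut.smul_def, MulAut.conj_apply]
      group
    rw [this]
    exact hQ (mem_zpowers g)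
  rw [hPe] at h3
  exact mem_centralizer_singleton_iff.mp h3

/-- the classes of involutions -/
theorem isConj_t {g : G} (gg : g * g = 1) (hg : g ∉ H) : IsConj t g := by
  obtain ⟨c, hc⟩ := exists_conj hn htH hidx hfH hxH tt ff xx tf xf xt hf1 cf h8 gg
  have h1 : c * g * c⁻¹ * (c * g * c⁻¹) = 1 := by
    have : c * g * c⁻¹ * (c * g * c⁻¹) = c * (g * g) * c⁻¹ := by group
    rw [this, gg, mul_one, mul_inv_cancel]
  have h2 : c * g * c⁻¹ ∉ H := by
    intro h
    apply hg
    have := hn c⁻¹ _ h
    have h3 : c⁻¹ * (c * g * c⁻¹) * c⁻¹⁻¹ = g := by group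
    rwa [h3] at this
  have h4 : IsConj g (c * g * c⁻¹) := isConj_iff.mpr ⟨c, rfl⟩
  rcases inv_cf hn htH hidx hfH hxH tt ff xx tf xf xt hf1 cf hc h1 h2 with h | h
  · rw [h] at h4; exact h4.symm
  · rw [h] at h4
    refine IsConj.trans (isConj_iff.mpr ⟨x, ?_⟩) h4.symm
    rw [xt, mul_assoc, mul_inv_cancel, mul_one, tf]

theorem isConj_f (hfx : IsConj f x) {g : G} (gg : g * g = 1) (hg1 : g ≠ 1) (hg : g ∈ H) : IsConj f g := by
  obtain ⟨c, hc⟩ := exists_conj hn htH hidx hfH hxH tt ff xx tf xf xt hf1 cf h8 gg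
  have h2 : c * g * c⁻¹ ≠ 1 := by
    intro h
    apply hg1
    have : g = c⁻¹ * (c * g * c⁻¹) * c := by group
    rw [this, h]; group
  have h4 : IsConj g (c * g * c⁻¹) := isConj_iff.mpr ⟨c, rfl⟩
  rcases cf _ (hn c g hg) hc with h | h | h | h
  · exact absurd h h2
  · rw [h] at h4; exact h4.symm
  · rw [h] at h4; exact hfx.trans h4.symm
  · rw [h] at h4
    refine hfx.trans (IsConj.trans (isConj_iff.mpr ⟨t, ?_⟩) h4.symm)
    rw [inv_eq_of_mul_eq_one_left tt]
    exact txt tt xf xt

variable (hDH : D ≤ H) (hDt : ∀ g ∈ D, g * t = t * g) (hDf : ∀ g ∈ D, f * g * f = g⁻¹)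
  (hodd : Odd (Nat.card D)) (ct : ∀ g ∈ H, g * t = t * g → g ∈ D ∨ g * f ∈ D)

include hDH hDt hDf hodd ct

omit h8 in
theorem card_ct : Nat.card (centralizer ({t} : Set G)) = 4 * Nat.card D := by
  have h1 : Nat.card (centralizer ({t} : Set G)) = 2 * Nat.card (centralizer ({t} : Set G) ⊓ H : Subgroup G) := by
    apply card_two inf_le_left (a := t)
    · rw [mem_centralizer_singleton_iff]
    · exact fun h => htH h.2
    · intro b hb hbH
      have hb' : b ∉ H := fun h => hbH ⟨hb, h⟩
      exact ⟨mul_mem hb (mem_centralizer_singleton_iff.mpr rfl), hidx b hb'⟩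
  have hfD : f ∉ D := fun h => hf1 (eq_one_of_odd hodd h ff)
  have h2 : Nat.card (centralizer ({t} : Set G) ⊓ H : Subgroup G) = 2 * Nat.card D := by
    apply card_two (a := f)
    · intro g hg
      exact ⟨mem_centralizer_singleton_iff.mpr (hDt g hg), hDH hg⟩
    · exact ⟨mem_centralizer_singleton_iff.mpr tf.symm, hfH⟩
    · exact hfD
    · rintro b ⟨hb, hbH⟩ hbD
      exact (ct b hbH (mem_centralizer_singleton_iff.mp hb)).resolve_left hbD
  rw [h1, h2]
  ring

theorem card_one (hfx : IsConj f x) :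
    Nat.card {p : G × G // IsConj t p.1 ∧ IsConj f p.2 ∧ t ∈ zpowers (p.1 * p.2)} =
      Nat.card D * Nat.card D := by
  have hfD : f ∉ D := fun h => hf1 (eq_one_of_odd hodd h ff)
  have hsq : ∀ {a g : G}, a * a = 1 → IsConj a g → g * g = 1 := by
    intro a g ha h
    obtain ⟨c, rfl⟩ := isConj_iff.mp h
    have : c * a * c⁻¹ * (c * a * c⁻¹) = c * (a * a) * c⁻¹ := by group
    rw [this, ha, mul_one, mul_inv_cancel]
  have h1 : ∀ g ∈ D, g * f * (g * f) = 1 := by
    intro g hg
    have : g * f * (g * f) = g * (f * g * f) := by simp only [mul_assoc]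
    rw [this, hDf g hg, mul_inv_cancel]
  rw [← Nat.card_prod]
  symm
  refine Nat.card_congr (Equiv.ofBijective
    (fun p : D × D => ⟨(t * (p.1 * f), p.2 * f), ?_, ?_, ?_⟩) ⟨?_, ?_⟩)
  · obtain ⟨⟨y, hy⟩, ⟨z, hz⟩⟩ := p
    apply isConj_t hn htH hidx hfH hxH tt ff xx tf xf xt hf1 cf h8
    · change t * (y * f) * (t * (y * f)) = 1
      have h2 : t * (y * f) = y * f * t := by rw [← mul_assoc, ← hDt y hy, mul_assoc, tf, ← mul_assoc]
      calc t * (y * f) * (t * (y * f)) = y * f * t * (t * (y * f)) := by rw [h2]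
        _ = y * f * (t * t) * (y * f) := by simp only [mul_assoc]
        _ = 1 := by rw [tt, mul_one, h1 y hy]
    · intro h
      apply htH
      have h2 := mul_mem h (inv_mem (mul_mem (hDH hy) hfH))
      have h3 : t * (y * f) * (y * f)⁻¹ = t := by group
      rwa [h3] at h2
  · obtain ⟨⟨y, hy⟩, ⟨z, hz⟩⟩ := p
    apply isConj_f hn htH hidx hfH hxH tt ff xx tf xf xt hf1 cf h8 hfx
    · exact h1 z hz
    · intro h
      apply hfD
      have : f = z⁻¹ := (inv_eq_of_mul_eq_one_right h).symm
      rw [this]; exact inv_mem hz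
    · exact mul_mem (hDH hz) hfH
  · obtain ⟨⟨y, hy⟩, ⟨z, hz⟩⟩ := p
    change t ∈ zpowers (t * (y * f) * (z * f))
    have h2 : t * (y * f) * (z * f) = t * (y * z⁻¹) := by
      rw [← hDf z hz]; simp only [mul_assoc]
    rw [h2]
    have hw : y * z⁻¹ ∈ D := mul_mem hy (inv_mem hz)
    have h3 : (t * (y * z⁻¹)) ^ (Nat.card D) = t := by
      rw [Commute.mul_pow (hDt _ hw).symm]
      have h4 : (y * z⁻¹) ^ Nat.card D = 1 := by
        have := pow_card_eq_one' (x := (⟨y * z⁻¹, hw⟩ : D))
        exact congrArg Subtype.val this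
      obtain ⟨k, hk⟩ := hodd
      rw [h4, mul_one, hk, pow_add, pow_mul, pow_two, tt, one_pow, one_mul, pow_one]
    rw [Subgroup.mem_zpowers_iff]
    exact ⟨(Nat.card D : ℤ), by rw [zpow_natCast]; exact h3⟩
  · rintro ⟨⟨y, hy⟩, ⟨z, hz⟩⟩ ⟨⟨y', hy'⟩, ⟨z', hz'⟩⟩ h
    simp only [Subtype.mk.injEq, Prod.mk.injEq] at h
    obtain ⟨h2, h3⟩ := h
    have h4 := mul_right_cancel h3
    have h5 := mul_right_cancel (mul_left_cancel h2)
    subst h4 h5
    rfl
  · rintro ⟨⟨u, v⟩, hu, hv, huv⟩
    simp only at hu hv huv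
    have uu := hsq tt hu
    have vv := hsq ff hv
    have huH : u ∉ H := by
      obtain ⟨c, rfl⟩ := isConj_iff.mp hu
      intro h
      apply htH
      have := hn c⁻¹ _ h
      have h3 : c⁻¹ * (c * t * c⁻¹) * c⁻¹⁻¹ = t := by group
      rwa [h3] at this
    have hvH : v ∈ H := by
      obtain ⟨c, rfl⟩ := isConj_iff.mp hv
      exact hn c f hfH
    have hv1 : v ≠ 1 := by
      intro h
      rw [h] at hv
      exact hf1 (isConj_one_left.mp hv)
    obtain ⟨hut, hvt⟩ := comm_of_mem uu vv tt huv
    have hvD : v * f ∈ D := by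
      rcases ct v hvH hvt with h | h
      · exact absurd (eq_one_of_odd hodd h vv) hv1
      · exact h
    have hutH := hidx u huH
    have hut' : u * t * t = t * (u * t) := by rw [← mul_assoc, ← hut]
    have huD : u * t * f ∈ D := by
      rcases ct (u * t) hutH hut' with h | h
      · exfalso
        have h2 : u * t * (u * t) = 1 := by
          have : u * t * (u * t) = u * (t * u) * t := by simp only [mul_assoc]
          rw [this, ← hut, ← mul_assoc, uu, one_mul, tt]
        have h3 := eq_one_of_odd hodd h h2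
        have h4 : u = t := by
          rw [← mul_one u, ← tt, ← mul_assoc, h3, one_mul]
        subst h4
        obtain ⟨k, hk⟩ := Subgroup.mem_zpowers_iff.mp huv
        rcases Int.even_or_odd' k with ⟨c, rfl | rfl⟩
        · rw [zpow_mul, zpow_two] at hk
          have h5 : u * v * (u * v) = 1 := by
            have : u * v * (u * v) = u * (v * u) * v := by simp only [mul_assoc]
            rw [this, hvt, ← mul_assoc, uu, one_mul, vv]
          rw [h5, one_zpow] at hk
          exact htH (hk ▸ one_mem _)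
        · rw [zpow_add, zpow_mul, zpow_two] at hk
          have h5 : u * v * (u * v) = 1 := by
            have : u * v * (u * v) = u * (v * u) * v := by simp only [mul_assoc]
            rw [this, hvt, ← mul_assoc, uu, one_mul, vv]
          rw [h5, one_zpow, one_mul, zpow_one] at hk
          exact hv1 (mul_eq_left.mp hk)
      · exact h
    refine ⟨⟨⟨u * t * f, huD⟩, ⟨v * f, hvD⟩⟩, ?_⟩
    apply Subtype.ext
    refine Prod.ext ?_ ?_
    · change t * (u * t * f * f) = u
      rw [mul_assoc (u * t), ff, mul_one, ← mul_assoc, ← hut, mul_assoc, tt, mul_one]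
    · change v * f * f = v
      rw [mul_assoc, ff, mul_one]

omit hDH hDt hDf hodd ct in
theorem card_snd (hfx : IsConj f x) :
    Nat.card {p : G × G // IsConj t p.1 ∧ IsConj f p.2 ∧ f ∈ zpowers (p.1 * p.2)} = 4 := by
  have hx1 := x_ne_one tt ff xx xf xt hf1
  have hxf := x_ne_f tt ff xx xf xt hf1
  have hsq : ∀ {a g : G}, a * a = 1 → IsConj a g → g * g = 1 := by
    intro a g ha h
    obtain ⟨c, rfl⟩ := isConj_iff.mp h
    have : c * a * c⁻¹ * (c * a * c⁻¹) = c * (a * a) * c⁻¹ := by group
    rw [this, ha, mul_one, mul_inv_cancel]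
  have htx := txt tt xf xt
  have hftx : f * t * x * (f * t * x) = f := by
    have h1 := tx_sq tt xx xf xt
    have h2 : f * t * x * (f * t * x) = f * f * (t * x * (t * x)) := by
      have h3 : t * x * f = f * (t * x) := by rw [mul_assoc, xf, ← mul_assoc, tf, mul_assoc]
      calc f * t * x * (f * t * x) = f * (t * x * f) * (t * x) := by simp only [mul_assoc]
        _ = _ := by rw [h3]; simp only [mul_assoc]
    rw [h2, ff, one_mul, h1]
  have hset : {p : G × G | IsConj t p.1 ∧ IsConj f p.2 ∧ f ∈ zpowers (p.1 * p.2)} =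
      ({t, f * t} : Set G) ×ˢ ({x, x * f} : Set G) := by
    ext ⟨u, v⟩
    simp only [Set.mem_setOf_eq, Set.mem_prod, Set.mem_insert_iff, Set.mem_singleton_iff]
    constructor
    · rintro ⟨hu, hv, huv⟩
      have uu := hsq tt hu
      have vv := hsq ff hv
      have huH : u ∉ H := by
        obtain ⟨c, rfl⟩ := isConj_iff.mp hu
        intro h
        apply htH
        have := hn c⁻¹ _ h
        have h3 : c⁻¹ * (c * t * c⁻¹) * c⁻¹⁻¹ = t := by group
        rwa [h3] at this
      have hvH : v ∈ H := by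
        obtain ⟨c, rfl⟩ := isConj_iff.mp hv
        exact hn c f hfH
      have hv1 : v ≠ 1 := by
        intro h
        rw [h] at hv
        exact hf1 (isConj_one_left.mp hv)
      obtain ⟨huf, hvf⟩ := comm_of_mem uu vv ff huv
      have hu' := inv_cf hn htH hidx hfH hxH tt ff xx tf xf xt hf1 cf huf uu huH
      refine ⟨hu', ?_⟩
      rcases cf v hvH hvf with h | h | h | h
      · exact absurd h hv1
      · exfalso
        rw [h] at huv
        have h5 : u * f * (u * f) = 1 := by
          have : u * f * (u * f) = u * (f * u) * f := by simp only [mul_assoc]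
          rw [this, ← huf, ← mul_assoc, uu, one_mul, ff]
        obtain ⟨k, hk⟩ := Subgroup.mem_zpowers_iff.mp huv
        rcases Int.even_or_odd' k with ⟨c, rfl | rfl⟩
        · rw [zpow_mul, zpow_two, h5, one_zpow] at hk
          exact hf1 hk.symm
        · rw [zpow_add, zpow_mul, zpow_two, h5, one_zpow, one_mul, zpow_one] at hk
          have h6 := mul_eq_right.mp hk
          exact huH (h6 ▸ one_mem _)
      · exact Or.inl h
      · exact Or.inr h
    · rintro ⟨hu, hv⟩
      have hfH' : f * t ∉ H := by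
        intro h
        apply htH
        have := mul_mem hfH h
        rwa [← mul_assoc, ff, one_mul] at this
      have hftft : f * t * (f * t) = 1 := by
        have : f * t * (f * t) = f * (t * f) * t := by simp only [mul_assoc]
        rw [this, tf, ← mul_assoc, ff, one_mul, tt]
      have hxfxf : x * f * (x * f) = 1 := by
        have : x * f * (x * f) = x * (f * x) * f := by simp only [mul_assoc]
        rw [this, ← xf, ← mul_assoc, xx, one_mul, ff]
      refine ⟨?_, ?_, ?_⟩
      · rcases hu with rfl | rfl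
        · exact IsConj.refl _
        · exact isConj_t hn htH hidx hfH hxH tt ff xx tf xf xt hf1 cf h8 hftft hfH'
      · rcases hv with rfl | rfl
        · exact hfx
        · refine isConj_f hn htH hidx hfH hxH tt ff xx tf xf xt hf1 cf h8 hfx hxfxf ?_ (mul_mem hxH hfH)
          intro h
          apply hxf
          have := (inv_eq_of_mul_eq_one_right h)
          rw [← this]
          exact (inv_eq_of_mul_eq_one_left xx).symm
      · rw [Subgroup.mem_zpowers_iff]
        refine ⟨2, ?_⟩
        rw [zpow_two]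
        have h1 := tx_sq tt xx xf xt
        have h3 : t * x * f = f * (t * x) := by rw [mul_assoc, xf, ← mul_assoc, tf, mul_assoc]
        rcases hu with rfl | rfl <;> rcases hv with rfl | rfl
        · exact h1
        · calc u * (x * f) * (u * (x * f)) = u * x * f * (u * x) * f := by simp only [mul_assoc]
            _ = f * (u * x * (u * x)) * f := by rw [h3]; simp only [mul_assoc]
            _ = f := by rw [h1, ff, one_mul]
        · exact hftx
        · calc f * t * (x * f) * (f * t * (x * f)) = f * t * x * (f * f) * t * x * f := by simp only [mul_assoc]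
            _ = f * (t * x * (t * x)) * f := by rw [ff, mul_one]; simp only [mul_assoc]
            _ = f := by rw [h1, ff, one_mul]
  have h1 : Nat.card {p : G × G // IsConj t p.1 ∧ IsConj f p.2 ∧ f ∈ zpowers (p.1 * p.2)} =
      Set.ncard {p : G × G | IsConj t p.1 ∧ IsConj f p.2 ∧ f ∈ zpowers (p.1 * p.2)} := rfl
  rw [h1, hset, Set.ncard_prod, Set.ncard_pair, Set.ncard_pair]
  · intro h
    exact hf1 (mul_eq_left.mp h.symm)
  · intro h
    exact hf1 (mul_eq_right.mp h.symm)

/-- **the order of `H`** -/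
theorem card_eq (hfx : IsConj f x) : Nat.card H = 4 * Nat.card D * (Nat.card D + 2) := by
  have h1 : Nat.card G = 2 * Nat.card H := by
    have : Nat.card (⊤ : Subgroup G) = 2 * Nat.card H :=
      card_two le_top (mem_top t) htH (fun b _ hb => hidx b hb)
    rwa [Subgroup.card_top] at this
  have ht2 : orderOf t = 2 := orderOf_eq_prime (by rw [pow_two, tt]) (fun h => htH (h ▸ one_mem _))
  have hf2 : orderOf f = 2 := orderOf_eq_prime (by rw [pow_two, ff]) hf1
  have h2 := Cfsg.Agent.S0213.result t f ht2 hf2 (by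
    intro h
    apply htH
    obtain ⟨c, hc⟩ := isConj_iff.mp h.symm
    rw [← hc]
    exact hn c f hfH) (by
    intro g hg
    have gg : g * g = 1 := by rw [← pow_two, ← hg, pow_orderOf_eq_one]
    have hg1 : g ≠ 1 := by
      intro h; rw [h, orderOf_one] at hg; omega
    by_cases hgH : g ∈ H
    · exact Or.inr (isConj_f hn htH hidx hfH hxH tt ff xx tf xf xt hf1 cf h8 hfx gg hg1 hgH)
    · exact Or.inl (isConj_t hn htH hidx hfH hxH tt ff xx tf xf xt hf1 cf h8 gg hgH))
  rw [card_one hn htH hidx hfH hxH tt ff xx tf xf xt hf1 cf h8 hDH hDt hDf hodd ct hfx,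
    card_snd hn htH hidx hfH hxH tt ff xx tf xf xt hf1 cf h8 hfx,
    card_cf hn htH hidx hfH hxH tt ff xx tf xf xt hf1 cf,
    card_ct hn htH hidx hfH hxH tt ff xx tf xf xt hf1 cf hDH hDt hDf hodd ct, h1] at h2
  have h3 : 2 * Nat.card H = 2 * (4 * Nat.card D * (Nat.card D + 2)) := by
    rw [h2]; ring
  exact Nat.eq_of_mul_eq_mul_left (by norm_num) h3

end

end Cfsg.Agent.StdL2.F.Ord
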