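import Cfsg.Agent.StdL2.FEightGrp
import Cfsg.Agent.StdL2.FEightOrd

/-!
# S1773, case (f): the subgroups `H₁`, `G₁ = H₁⟨t⟩`
-/

set_option autoImplicit false
set_option linter.unusedSectionVars false

namespace Cfsg.Agent.StdL2.F.Eight

open Matrix Subgroup

/-! ### pure group theory -/

section Grp

variable {X : Type*} [Group X] [Finite X] {H1 : Subgroup X} {t f x : X}
  (tt : t * t = 1) (tH : ∀ y ∈ H1, t * y * t ∈ H1) (htH : t ∉ H1)

include tt tH in
theorem exists_G1 : ∃ G1 : Subgroup X, ∀ y, y ∈ G1 ↔ (y ∈ H1 ∨ y * t ∈ H1) := by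
  have h1 : ∀ y, t * (t * y) = y := fun y => by rw [← mul_assoc, tt, one_mul]
  refine ⟨{ carrier := {y | y ∈ H1 ∨ y * t ∈ H1}, one_mem' := Or.inl (one_mem _),
            mul_mem' := ?_, inv_mem' := ?_ }, fun y => Iff.rfl⟩
  · rintro y z (hy | hy) (hz | hz)
    · exact Or.inl (mul_mem hy hz)
    · right; rw [mul_assoc]; exact mul_mem hy hz
    · right
      have := mul_mem hy (tH z hz)
      have h2 : y * t * (t * z * t) = y * z * t := by
        simp only [mul_assoc]; rw [h1]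
      rwa [h2] at this
    · left
      have := mul_mem hy (tH (z * t) hz)
      have h2 : y * t * (t * (z * t) * t) = y * z := by
        simp only [mul_assoc]; rw [h1, tt, mul_one]
      rwa [h2] at this
  · rintro y (hy | hy)
    · exact Or.inl (inv_mem hy)
    · right
      have := tH _ (inv_mem hy)
      have h2 : t * (y * t)⁻¹ * t = y⁻¹ * t := by
        rw [_root_.mul_inv_rev, ← mul_assoc, mul_inv_cancel, one_mul]
      rwa [h2] at this

variable {G1 : Subgroup X} (hG : ∀ y, y ∈ G1 ↔ (y ∈ H1 ∨ y * t ∈ H1))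

include tt tH hG

theorem G1_conj : ∀ g ∈ G1, ∀ h ∈ H1, g * h * g⁻¹ ∈ H1 := by
  intro g hg h hh
  rcases (hG g).mp hg with hg | hg
  · exact mul_mem (mul_mem hg hh) (inv_mem hg)
  · have := mul_mem (mul_mem hg (tH h hh)) (inv_mem hg)
    have h2 : g * t * (t * h * t) * (g * t)⁻¹ = g * h * g⁻¹ := by
      have h1 : ∀ y, t * (t * y) = y := fun y => by rw [← mul_assoc, tt, one_mul]
      rw [_root_.mul_inv_rev, inv_eq_of_mul_eq_one_left tt]
      simp only [mul_assoc]
      rw [h1, h1]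
    rwa [h2] at this

include htH

theorem card_G1 : Nat.card G1 = 2 * Nat.card H1 := by
  apply Ord.card_two (a := t)
  · intro y hy; exact (hG y).mpr (Or.inl hy)
  · exact (hG t).mpr (Or.inr (by rw [tt]; exact one_mem _))
  · exact htH
  · intro b hb hbH
    exact ((hG b).mp hb).resolve_left hbH

variable (hfH : f ∈ H1) (hxH : x ∈ H1) (ff : f * f = 1) (xx : x * x = 1)
  (tf : t * f = f * t) (xf : x * f = f * x) (xt : x * t = t * f * x) (hf1 : f ≠ 1)
  (sq : ∀ y ∈ H1, y * f = f * y → y * y = 1)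
  (h8 : ∀ S : Subgroup X, S ≤ G1 → IsPGroup 2 S → Nat.card S ≤ 8)

include hfH hxH ff xx tf xf xt hf1 sq h8

/-- `C_{H₁}(f)` has order at most four -/
theorem card_E_le : Nat.card (centralizer ({f} : Set X) ⊓ H1 : Subgroup X) ≤ 4 := by
  have htG : t ∈ G1 := (hG t).mpr (Or.inr (by rw [tt]; exact one_mem _))
  have hle : H1 ≤ G1 := fun y hy => (hG y).mpr (Or.inl hy)
  have h1 : Nat.card (centralizer ({f} : Set X) ⊓ G1 : Subgroup X) =
      2 * Nat.card (centralizer ({f} : Set X) ⊓ H1 : Subgroup X) := by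
    apply Ord.card_two (a := t)
    · exact inf_le_inf le_rfl hle
    · exact ⟨mem_centralizer_singleton_iff.mpr tf, htG⟩
    · exact fun h => htH h.2
    · rintro b ⟨hb, hbG⟩ hbH
      refine ⟨mul_mem hb (mem_centralizer_singleton_iff.mpr tf), ?_⟩
      exact ((hG b).mp hbG).resolve_left (fun h => hbH ⟨hb, h⟩)
  have h2 : IsPGroup 2 (centralizer ({f} : Set X) ⊓ G1 : Subgroup X) := by
    rintro ⟨y, hy, hyG⟩
    have hyf : y * f = f * y := mem_centralizer_singleton_iff.mp hy
    refine ⟨2, ?_⟩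
    apply Subtype.ext
    change y ^ 4 = 1
    rcases (hG y).mp hyG with h | h
    · have := sq y h hyf
      rw [show 4 = 2 * 2 from rfl, pow_mul, pow_two y, this, one_pow]
    · have h3 : y * y ∈ H1 := by
        have := mul_mem h (tH _ h)
        have h4 : y * t * (t * (y * t) * t) = y * y := by
          have h1 : ∀ y, t * (t * y) = y := fun y => by rw [← mul_assoc, tt, one_mul]
          simp only [mul_assoc]; rw [h1, tt, mul_one]
        rwa [h4] at this
      have h4 : y * y * f = f * (y * y) := by rw [mul_assoc, hyf, ← mul_assoc, hyf, mul_assoc]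
      have := sq _ h3 h4
      rw [show 4 = 2 * 2 from rfl, pow_mul, pow_two y, pow_two, this]
  have h3 := h8 _ inf_le_right h2
  omega

theorem cf : ∀ g ∈ H1, g * f = f * g → g = 1 ∨ g = f ∨ g = x ∨ g = x * f := by
  classical
  intro g hg hgf
  by_contra hne
  simp only [not_or] at hne
  obtain ⟨n1, n2, n3, n4⟩ : g ≠ 1 ∧ g ≠ f ∧ g ≠ x ∧ g ≠ x * f := hne
  have hx1 := Ord.x_ne_one tt ff xx xf xt hf1
  have hxf := Ord.x_ne_f tt ff xx xf xt hf1
  have hxf1 : x * f ≠ 1 := by
    intro h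
    apply hxf
    rw [← inv_eq_of_mul_eq_one_right h, inv_eq_of_mul_eq_one_left xx]
  have h4 := card_E_le tt tH htH hG hfH hxH ff xx tf xf xt hf1 sq h8
  have h5 : (({1, f, x, x * f, g} : Finset X) : Set X) ⊆
      ((centralizer ({f} : Set X) ⊓ H1 : Subgroup X) : Set X) := by
    intro y hy
    simp only [Finset.coe_insert, Finset.coe_singleton, Set.mem_insert_iff, Set.mem_singleton_iff] at hy
    rcases hy with rfl | rfl | rfl | rfl | rfl
    · exact one_mem _
    · exact ⟨mem_centralizer_singleton_iff.mpr rfl, hfH⟩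
    · exact ⟨mem_centralizer_singleton_iff.mpr xf, hxH⟩
    · exact ⟨mul_mem (mem_centralizer_singleton_iff.mpr xf) (mem_centralizer_singleton_iff.mpr rfl),
        mul_mem hxH hfH⟩
    · exact ⟨mem_centralizer_singleton_iff.mpr hgf, hg⟩
  have h6 := Set.ncard_le_ncard h5 (Set.toFinite _)
  rw [Set.ncard_coe_finset] at h6
  have h7 : Finset.card ({1, f, x, x * f, g} : Finset X) = 5 := by
    rw [Finset.card_insert_of_notMem, Finset.card_insert_of_notMem, Finset.card_insert_of_notMem,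
      Finset.card_insert_of_notMem, Finset.card_singleton]
    · simpa using n4.symm
    · simp only [Finset.mem_insert, Finset.mem_singleton, not_or]
      exact ⟨fun h => hf1 (left_eq_mul.mp h), n3.symm⟩
    · simp only [Finset.mem_insert, Finset.mem_singleton, not_or]
      exact ⟨hxf.symm, fun h => hx1 (right_eq_mul.mp h), n2.symm⟩
    · simp only [Finset.mem_insert, Finset.mem_singleton, not_or]
      exact ⟨hf1.symm, hx1.symm, hxf1.symm, n1.symm⟩
  rw [h7] at h6
  have h8 : Set.ncard ((centralizer ({f} : Set X) ⊓ H1 : Subgroup X) : Set X) =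
      Nat.card (centralizer ({f} : Set X) ⊓ H1 : Subgroup X) := rfl
  omega

/-- `C_{H₁}(f)` has order four -/
theorem card_E : Nat.card (centralizer ({f} : Set X) ⊓ H1 : Subgroup X) = 4 := by
  have hx1 := Ord.x_ne_one tt ff xx xf xt hf1
  have hxf := Ord.x_ne_f tt ff xx xf xt hf1
  have h1 : Nat.card (centralizer ({f} : Set X) ⊓ H1 : Subgroup X) = 2 * Nat.card (zpowers f) := by
    have hfz : ∀ y, y ∈ zpowers f → y = 1 ∨ y = f := by
      intro y hy
      obtain ⟨k, rfl⟩ := Subgroup.mem_zpowers_iff.mp hy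
      rcases Int.even_or_odd' k with ⟨c, rfl | rfl⟩
      · left; rw [_root_.zpow_mul, zpow_two, ff, _root_.one_zpow]
      · right; rw [_root_.zpow_add, _root_.zpow_mul, zpow_two, ff, _root_.one_zpow, one_mul, zpow_one]
    apply Ord.card_two (a := x)
    · rw [zpowers_le]
      exact ⟨mem_centralizer_singleton_iff.mpr rfl, hfH⟩
    · exact ⟨mem_centralizer_singleton_iff.mpr xf, hxH⟩
    · intro h
      rcases hfz x h with h | h
      · exact hx1 h
      · exact hxf h
    · rintro b ⟨hb, hbH⟩ hbz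
      rcases cf tt tH htH hG hfH hxH ff xx tf xf xt hf1 sq h8 b hbH (mem_centralizer_singleton_iff.mp hb)
        with rfl | rfl | rfl | rfl
      · exact absurd (one_mem _) hbz
      · exact absurd (mem_zpowers _) hbz
      · rw [xx]; exact one_mem _
      · rw [xf, mul_assoc, xx, mul_one]; exact mem_zpowers _
  rw [h1, Nat.card_zpowers, orderOf_eq_prime (by rw [pow_two, ff]) hf1]

/-- the Sylow 2-subgroup of `H₁` -/
theorem exists_P : ∃ P : Sylow 2 H1, ∀ y : H1, y ∈ P ↔ (y : X) * f = f * y := by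
  have hp : Fact (Nat.Prime 2) := ⟨Nat.prime_two⟩
  set E : Subgroup X := centralizer ({f} : Set X) ⊓ H1 with hE
  have hE4 := card_E tt tH htH hG hfH hxH ff xx tf xf xt hf1 sq h8
  have hmemE : ∀ y ∈ H1, (y ∈ E ↔ y * f = f * y) := fun y hy =>
    ⟨fun h => mem_centralizer_singleton_iff.mp h.1, fun h => ⟨mem_centralizer_singleton_iff.mpr h, hy⟩⟩
  have hEc : Nat.card (E.subgroupOf H1) = 4 := by
    rw [Nat.card_congr (Subgroup.subgroupOfEquivOfLe (inf_le_right : E ≤ H1)).toEquiv]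
    exact hE4
  have hE2 : IsPGroup 2 (E.subgroupOf H1) := IsPGroup.of_card (n := 2) (by rw [hEc]; rfl)
  obtain ⟨P, hP⟩ := hE2.exists_le_sylow
  have hcard : Nat.card P ≤ 4 := by
    -- a Sylow 2-subgroup of `G1`
    have hle : H1 ≤ G1 := fun y hy => (hG y).mpr (Or.inl hy)
    have h1 := P.card_eq_multiplicity
    have h2 := card_G1 tt tH htH hG
    have h3 : Nat.card (default : Sylow 2 G1) ≤ 8 := by
      have := h8 (((default : Sylow 2 G1) : Subgroup G1).map G1.subtype)
        (Subgroup.map_subtype_le _) ((default : Sylow 2 G1).isPGroup'.map _)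
      rwa [Nat.card_congr (Subgroup.equivMapOfInjective _ G1.subtype G1.subtype_injective).symm.toEquiv]
        at this
    rw [(default : Sylow 2 G1).card_eq_multiplicity, h2, Nat.factorization_mul (by norm_num) Nat.card_pos.ne'] at h3
    rw [h1]
    simp only [Finsupp.coe_add, Pi.add_apply, Nat.prime_two.factorization_self] at h3
    rw [pow_add, pow_one] at h3
    omega
  have hPe : E.subgroupOf H1 = P := by
    apply Subgroup.eq_of_le_of_card_ge hP
    rw [hEc]; exact hcard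
  refine ⟨P, fun y => ?_⟩
  rw [← hmemE y y.2, ← Subgroup.mem_subgroupOf]
  change y ∈ (P : Subgroup H1) ↔ _
  rw [← hPe]

/-- fusion or a normal complement -/
theorem fusion : (∃ h ∈ H1, h * f * h⁻¹ = x) ∨ (∃ H0 : Subgroup X, H0 ≤ H1 ∧ Odd (Nat.card H0) ∧
    ∀ y ∈ H1, Odd (orderOf y) → y ∈ H0) := by
  have hp : Fact (Nat.Prime 2) := ⟨Nat.prime_two⟩
  obtain ⟨P, hP⟩ := exists_P tt tH htH hG hfH hxH ff xx tf xf xt hf1 sq h8
  have hcf := cf tt tH htH hG hfH hxH ff xx tf xf xt hf1 sq h8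
  by_cases hN : normalizer (P : Subgroup H1) ≤ centralizer (P : Set H1)
  · right
    refine ⟨(MonoidHom.transferSylow P hN).ker.map H1.subtype, Subgroup.map_subtype_le _, ?_, ?_⟩
    · rw [Nat.card_congr (Subgroup.equivMapOfInjective _ H1.subtype H1.subtype_injective).symm.toEquiv]
      rw [← Nat.not_even_iff_odd, even_iff_two_dvd]
      exact MonoidHom.not_dvd_card_ker_transferSylow P hN
    · intro y hy hodd
      refine ⟨⟨y, hy⟩, ?_, rfl⟩
      change MonoidHom.transferSylow P hN ⟨y, hy⟩ = 1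
      set z := MonoidHom.transferSylow P hN ⟨y, hy⟩ with hz
      have h1 : orderOf z ∣ orderOf y := by
        have h0 := orderOf_map_dvd (MonoidHom.transferSylow P hN) ⟨y, hy⟩
        rwa [← Subgroup.orderOf_coe (⟨y, hy⟩ : H1)] at h0
      obtain ⟨k, hk⟩ := (IsPGroup.iff_orderOf.mp P.isPGroup') z
      rw [hk] at h1
      rcases Nat.eq_zero_or_pos k with h0 | h0
      · rw [h0, pow_zero] at hk
        exact orderOf_eq_one_iff.mp hk
      · exfalso
        have h2 : 2 ∣ orderOf y := (dvd_pow_self 2 h0.ne').trans h1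
        rw [← Nat.not_even_iff_odd, even_iff_two_dvd] at hodd
        exact hodd h2
  · left
    rw [SetLike.not_le_iff_exists] at hN
    obtain ⟨g, hg, hgc⟩ := hN
    rw [Subgroup.mem_normalizer_iff] at hg
    have hfP : (⟨f, hfH⟩ : H1) ∈ P := (hP _).mpr rfl
    have h1 : (⟨f, hfH⟩ : H1) ∈ (P : Subgroup H1) := hfP
    rw [hg] at h1
    have h2 : (g : X) * f * (g : X)⁻¹ * f = f * ((g : X) * f * (g : X)⁻¹) := (hP _).mp h1
    have h3 : (g : X) * f * (g : X)⁻¹ ∈ H1 := mul_mem (mul_mem g.2 hfH) (inv_mem g.2)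
    have hP2 : ∀ y ∈ H1, y * f = f * y → ∀ z ∈ H1, z * f = f * z → y * z = z * y := by
      intro y hy hyf z hz hzf
      have h4 := sq y hy hyf
      have h5 := sq z hz hzf
      have h6 := sq (y * z) (mul_mem hy hz) (by rw [mul_assoc, hzf, ← mul_assoc, hyf, mul_assoc])
      have h7 : y * z = (y * z)⁻¹ := (inv_eq_of_mul_eq_one_left h6).symm
      rw [_root_.mul_inv_rev, inv_eq_of_mul_eq_one_left h4, inv_eq_of_mul_eq_one_left h5] at h7
      exact h7
    rcases hcf _ h3 h2 with h | h | h | h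
    · exfalso
      apply hf1
      have : f = (g : X)⁻¹ * ((g : X) * f * (g : X)⁻¹) * g := by group
      rw [this, h]; group
    · exfalso
      apply hgc
      rw [Subgroup.mem_centralizer_iff]
      intro y hy
      have hy' : (y : X) * f = f * y := (hP y).mp hy
      have hg' : (g : X) * f = f * g := by
        rw [mul_inv_eq_iff_eq_mul] at h
        exact h
      exact Subtype.ext (hP2 y y.2 hy' g g.2 hg')
    · exact ⟨g, g.2, h⟩
    · refine ⟨t * g * t, tH g g.2, ?_⟩
      have hti := inv_eq_of_mul_eq_one_left tt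
      rw [_root_.mul_inv_rev, _root_.mul_inv_rev, hti]
      calc t * g * t * f * (t * ((g : X)⁻¹ * t)) = t * (g * (t * f * t) * (g : X)⁻¹) * t := by
            simp only [mul_assoc]
        _ = t * (x * f) * t := by rw [tf, mul_assoc f t t, tt, mul_one, h]
        _ = t * x * t * f := by
            rw [mul_assoc t x t]
            rw [show t * (x * f) * t = t * (x * (f * t)) by simp only [mul_assoc], ← tf]
            simp only [mul_assoc]
        _ = x := by rw [Ord.txt tt xf xt, mul_assoc, ff, mul_one]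

end Grp

variable {X W F : Type*} [Group X] [Finite X] [AddCommGroup W] [DistribMulAction X W] [Field F]
  [Finite F] {κ : F →+* AddMonoid.End W} {d : Fˣ →* X} {σ : F ≃+* F} {t f : X} {w₁ : W}
  {M : AddMonoid.End W} {δ : K0 σ}

section

variable (C : XC κ d σ t f w₁) (hM : MC κ t f M (δ : F)) {ω : F} (hω : σ ω = ω + 1)
  {φ : HM X κ σ M →* Matrix (Fin 2) (Fin 2) (S2 σ δ)}
  (hφ : ∀ y : HM X κ σ M,
    (y : X) • (t • w₁ + w₁) = jj hM (φ y 0 0) (t • w₁ + w₁) + jj hM (φ y 1 0) (κ ω (t • w₁ + w₁)) ∧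
    (y : X) • (κ ω (t • w₁ + w₁)) = jj hM (φ y 0 1) (t • w₁ + w₁) +
      jj hM (φ y 1 1) (κ ω (t • w₁ + w₁)))

include C hM hω hφ

/-- fusion implies `δ = 1` -/
theorem delta_eq_one {x h : X} (hxM : x ∈ HM X κ σ M)
    (hx : φ ⟨x, hxM⟩ = !![1, ⟨0, 1⟩; 0, 1]) (hhM : h ∈ HM X κ σ M) (hdet : (φ ⟨h, hhM⟩).det = 1)
    (h1 : h * f = x * h) (h2 : h * x = f * h ∨ h * x = x * f * h) : δ = 1 := by
  have e1 : φ ⟨h, hhM⟩ * φ ⟨f, f_mem C hM⟩ = φ ⟨x, hxM⟩ * φ ⟨h, hhM⟩ := by
    rw [← map_mul, ← map_mul]; congr 1; exact Subtype.ext h1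
  rw [phi_f C hM hω hφ, hx] at e1
  obtain ⟨-, e2, e3⟩ := mat_conj e1
  rw [mul_one] at e2 e3
  generalize hA : φ ⟨h, hhM⟩ = A at *
  rw [Matrix.det_fin_two, e3, mul_zero, sub_zero, e2] at hdet
  have key : ∀ c : S2 σ δ, A 0 0 * ⟨0, 1⟩ = c * A 1 1 → (⟨0, 1⟩ : S2 σ δ) * ⟨0, 1⟩ = c := by
    intro c hc
    rw [e2] at hc
    have h3 : (⟨0, 1⟩ : S2 σ δ) * ⟨0, 1⟩ * (⟨0, 1⟩ * A 1 1 * A 1 1) = c * (⟨0, 1⟩ * A 1 1 * A 1 1) := by
      calc (⟨0, 1⟩ : S2 σ δ) * ⟨0, 1⟩ * (⟨0, 1⟩ * A 1 1 * A 1 1) =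
          (⟨0, 1⟩ * A 1 1 * ⟨0, 1⟩) * (⟨0, 1⟩ * A 1 1) := by ring
        _ = c * A 1 1 * (⟨0, 1⟩ * A 1 1) := by rw [hc]
        _ = _ := by ring
    rwa [hdet, mul_one, mul_one] at h3
  rcases h2 with h2 | h2
  · exfalso
    have e4 : φ ⟨h, hhM⟩ * φ ⟨x, hxM⟩ = φ ⟨f, f_mem C hM⟩ * φ ⟨h, hhM⟩ := by
      rw [← map_mul, ← map_mul]; congr 1; exact Subtype.ext h2
    rw [phi_f C hM hω hφ, hx, hA] at e4
    obtain ⟨-, e5, -⟩ := mat_conj e4
    have e6 := key 1 e5
    have e7 := congrArg QuadraticAlgebra.im e6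
    rw [QuadraticAlgebra.im_mul] at e7
    change (0 : K0 σ) * 1 + 1 * 0 + 1 * 1 * 1 = 0 at e7
    simp at e7
  · have e4 : φ ⟨h, hhM⟩ * φ ⟨x, hxM⟩ = φ ⟨x, hxM⟩ * φ ⟨f, f_mem C hM⟩ * φ ⟨h, hhM⟩ := by
      rw [← map_mul, ← map_mul, ← map_mul]; congr 1; exact Subtype.ext h2
    have e8 : (!![1, ⟨0, 1⟩; 0, 1] : Matrix (Fin 2) (Fin 2) (S2 σ δ)) * !![1, 1; 0, 1] =
        !![1, 1 + ⟨0, 1⟩; 0, 1] := by
      rw [Matrix.mul_fin_two]
      simp
    rw [phi_f C hM hω hφ, hx, hA, e8] at e4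
    obtain ⟨-, e5, -⟩ := mat_conj e4
    have e6 := key _ e5
    have e7 := congrArg QuadraticAlgebra.re e6
    rw [QuadraticAlgebra.re_mul] at e7
    change (0 : K0 σ) * 0 + δ * 1 * 1 = 1 + 0 at e7
    simpa using e7

/-- the centralizer of `t` -/
theorem comm_t {g : X} (hg : g ∈ HM X κ σ M) (hgt : g * t = t * g) :
    (∃ a, g = d a) ∨ ∃ a, g * f = d a := by
  have hω0 : ω ≠ 0 := by
    rintro rfl
    rw [map_zero, zero_add] at hω
    exact zero_ne_one hω
  obtain ⟨b, hb⟩ := C.normD g hgt (Units.mk0 ω hω0)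
  have hb' : XC.rho X W g * κ ω = κ (b : F) * XC.rho X W g := by
    have := congrArg (XC.rho X W) hb
    rwa [map_mul, map_mul, C.rho_d, C.rho_d] at this
  obtain ⟨h1, h2⟩ := mem_HM.mp hg
  -- `b` is a root of the same polynomial
  have h3 : κ ((b : F) * b + b) = κ (ω * ω + ω) := by
    have e1 : XC.rho X W g * κ (ω * ω + ω) = κ ((b : F) * b + b) * XC.rho X W g := by
      rw [map_add, map_mul, mul_add, ← mul_assoc, hb', mul_assoc, hb', map_add, map_mul, add_mul,
        mul_assoc]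
    rw [h1 _ (C.omega_sq hω)] at e1
    have e2 : XC.rho X W g * XC.rho X W g⁻¹ = 1 := by rw [← map_mul, mul_inv_cancel, map_one]
    calc κ ((b : F) * b + b) = κ ((b : F) * b + b) * (XC.rho X W g * XC.rho X W g⁻¹) := by rw [e2, mul_one]
      _ = κ (ω * ω + ω) * (XC.rho X W g * XC.rho X W g⁻¹) := by
          rw [← mul_assoc, ← e1, mul_assoc]
      _ = _ := by rw [e2, mul_one]
  have h4 : (b : F) * b + b = ω * ω + ω := C.kappa_injective h3
  have h5 : ((b : F) + ω) * (b + (ω + 1)) = 0 := by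
    have := C.add_self_F ((b : F) * ω)
    have h6 := C.add_self_F (ω * ω + ω)
    linear_combination h4 + this + h6
  -- elements of `d(F)` in `H`
  have key : ∀ y ∈ HM X κ σ M, y * t = t * y → (∀ a, y * d a = d a * y) → ∃ a, y = d a := by
    intro y hy hyt hyd
    obtain ⟨a, ha | ha⟩ := C.centD y hyt hyd
    · exact ⟨a, ha⟩
    · exfalso
      apply t_not_mem C hM
      have : t = y * (d a)⁻¹ := by rw [ha, mul_inv_cancel_right]
      rw [this]
      exact mul_mem hy (inv_mem (d_mem C hM a))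
  rcases mul_eq_zero.mp h5 with h6 | h6
  · left
    have hbω : (b : F) = ω := by
      have := eq_neg_of_add_eq_zero_left h6
      rwa [C.neg_F] at this
    rw [hbω] at hb'
    apply key g hg hgt
    intro a
    apply C.rho_inj
    rw [map_mul, map_mul, C.rho_d]
    obtain ⟨u, v, hu, hv, ha⟩ := C.decomp hω (a : F)
    rw [ha, map_add, map_mul, mul_add, add_mul, h1 u hu, ← mul_assoc, h1 v hv, mul_assoc, hb', mul_assoc]
  · right
    have hbω : (b : F) = ω + 1 := by
      have := eq_neg_of_add_eq_zero_left h6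
      rwa [C.neg_F] at this
    rw [hbω] at hb'
    apply key (g * f) (mul_mem hg (f_mem C hM))
    · rw [mul_assoc, ← C.tf, ← mul_assoc, hgt, mul_assoc]
    intro a
    apply C.rho_inj
    obtain ⟨u, v, hu, hv, ha⟩ := C.decomp hω (a : F)
    have e1 : XC.rho X W g * κ (σ ω) = κ ω * XC.rho X W g := by
      have e3 : XC.rho X W g * κ (ω + 1) = κ (ω + 1) * XC.rho X W g + XC.rho X W g := by
        rw [map_add, mul_add, hb', map_one, mul_one, map_add, map_one]
      rw [hω, e3, map_add, map_one, add_mul, one_mul, add_assoc, C.add_self_R, add_zero]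
    have e2 : XC.rho X W g * κ (σ a) = κ a * XC.rho X W g := by
      rw [ha, map_add, map_mul, hu, hv, map_add, map_mul, mul_add, map_add, map_mul, add_mul, h1 u hu,
        ← mul_assoc, h1 v hv, mul_assoc, e1, mul_assoc]
    calc XC.rho X W (g * f * d a) = XC.rho X W g * (XC.rho X W f * κ a) := by
          rw [map_mul, map_mul, C.rho_d, mul_assoc]
      _ = κ a * XC.rho X W g * XC.rho X W f := by rw [C.f_kappa, ← mul_assoc, e2]
      _ = XC.rho X W (d a * (g * f)) := by rw [map_mul, map_mul, C.rho_d, mul_assoc]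

end

end Cfsg.Agent.StdL2.F.Eight
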