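import Cfsg.Agent.StdL2.FEightMat

/-!
# S1773, case (f): the subgroup of determinant one of the commutant of `K₀[M]`
-/

set_option autoImplicit false
set_option linter.unusedSectionVars false

namespace Cfsg.Agent.StdL2.F.Eight

open Matrix

variable {X W F : Type*} [Group X] [Finite X] [AddCommGroup W] [DistribMulAction X W] [Field F]
  [Finite F] {κ : F →+* AddMonoid.End W} {d : Fˣ →* X} {σ : F ≃+* F} {t f : X} {w₁ : W}
  {M : AddMonoid.End W} {δ : K0 σ}

section S2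

theorem S2_add_self (h2 : (2 : F) = 0) (s : S2 σ δ) : s + s = 0 := by
  have h : ∀ a : K0 σ, a + a = 0 := by
    intro a
    apply Subtype.ext
    change (a : F) + (a : F) = 0
    rw [← two_mul, h2, zero_mul]
  ext
  · exact congrArg Subtype.val (h s.re)
  · exact congrArg Subtype.val (h s.im)

/-- `S2` is reduced -/
theorem S2_sq (h2 : (2 : F) = 0) {s : S2 σ δ} (h : s * s = 0) : s = 0 := by
  have h3 : ∀ a : K0 σ, a + a = 0 := by
    intro a
    apply Subtype.ext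
    change (a : F) + (a : F) = 0
    rw [← two_mul, h2, zero_mul]
  have h4 := congrArg QuadraticAlgebra.im h
  rw [QuadraticAlgebra.im_mul, QuadraticAlgebra.im_zero, mul_comm s.im s.re, h3, zero_add, one_mul] at h4
  have h5 : s.im = 0 := mul_self_eq_zero.mp h4
  have h6 := congrArg QuadraticAlgebra.re h
  rw [QuadraticAlgebra.re_mul, QuadraticAlgebra.re_zero, h5, mul_zero, add_zero] at h6
  have h7 : s.re = 0 := mul_self_eq_zero.mp h6
  rw [QuadraticAlgebra.ext_iff]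
  exact ⟨h7, h5⟩

theorem S2_sq_one (h2 : (2 : F) = 0) {s : S2 σ δ} (h : s * s = 1) : s = 1 := by
  have h1 : (s + 1) * (s + 1) = 0 := by
    have h3 := S2_add_self h2 s
    have h4 := S2_add_self h2 (1 : S2 σ δ)
    calc (s + 1) * (s + 1) = s * s + (s + s) + 1 := by ring
      _ = 0 := by rw [h, h3, add_zero, h4]
  have h5 := S2_sq h2 h1
  have h6 := S2_add_self h2 (1 : S2 σ δ)
  calc s = s + (1 + 1) := by rw [h6, add_zero]
    _ = (s + 1) + 1 := by ring
    _ = 1 := by rw [h5, zero_add]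

/-- the automorphism `m ↦ m + 1` -/
def tau (h2 : (2 : F) = 0) : S2 σ δ →+* S2 σ δ where
  toFun s := ⟨s.re + s.im, s.im⟩
  map_one' := by
    rw [QuadraticAlgebra.ext_iff]
    change (1 : K0 σ) + 0 = 1 ∧ (0 : K0 σ) = 0
    simp
  map_zero' := by
    rw [QuadraticAlgebra.ext_iff]
    change (0 : K0 σ) + 0 = 0 ∧ (0 : K0 σ) = 0
    simp
  map_add' x y := by
    rw [QuadraticAlgebra.ext_iff]
    change x.re + y.re + (x.im + y.im) = x.re + x.im + (y.re + y.im) ∧ x.im + y.im = x.im + y.im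
    exact ⟨by ring, rfl⟩
  map_mul' x y := by
    have h3 : ∀ a : K0 σ, a + a = 0 := by
      intro a
      apply Subtype.ext
      change (a : F) + (a : F) = 0
      rw [← two_mul, h2, zero_mul]
    rw [QuadraticAlgebra.ext_iff]
    simp only [QuadraticAlgebra.re_mul, QuadraticAlgebra.im_mul, one_mul]
    constructor
    · ring
    · have h4 := h3 (x.im * y.im)
      linear_combination -h4

end S2

section Mat

variable {S : Type*} [CommRing S]

theorem mat_conj {A : Matrix (Fin 2) (Fin 2) S} {a m : S}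
    (h : A * !![1, a; 0, 1] = !![1, m; 0, 1] * A) :
    m * A 1 0 = 0 ∧ A 0 0 * a = m * A 1 1 ∧ A 1 0 * a = 0 := by
  rw [Matrix.eta_fin_two A, Matrix.mul_fin_two, Matrix.mul_fin_two] at h
  have h00 := congrFun (congrFun h 0) 0
  have h01 := congrFun (congrFun h 0) 1
  have h11 := congrFun (congrFun h 1) 1
  simp only [Matrix.of_apply, Matrix.cons_val_zero, Matrix.cons_val_one, Matrix.cons_val', Matrix.empty_val',
    Matrix.cons_val_fin_one] at h00 h01 h11
  refine ⟨?_, ?_, ?_⟩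
  · linear_combination -h00
  · linear_combination h01
  · linear_combination h11

end Mat

section

variable (C : XC κ d σ t f w₁) (hM : MC κ t f M (δ : F))

include C hM

theorem f_mem : f ∈ HM X κ σ M := by
  refine ⟨fun a ha => ?_, hM.cf⟩
  rw [C.f_kappa, ha]

theorem d_mem (a : Fˣ) : d a ∈ HM X κ σ M := by
  refine ⟨fun b _ => ?_, ?_⟩
  · rw [C.rho_d, ← map_mul, mul_comm, map_mul]
  · rw [C.rho_d, hM.kap]

theorem t_not_mem : t ∉ HM X κ σ M := by
  intro h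
  have h1 := (mem_HM.mp h).2
  rw [hM.ct] at h1
  have h2 : XC.rho X W t = 0 := left_eq_add.mp h1.symm
  have h3 := C.rho_tt
  rw [h2, mul_zero] at h3
  have h4 := DFunLike.congr_fun h3 w₁
  change (0 : W) = w₁ at h4
  have h5 := C.indep 1 0 (by rw [← h4]; simp)
  exact one_ne_zero h5.1

theorem t_jj (s : S2 σ δ) (w : W) : t • jj hM s w = jj hM (tau C.two s) (t • w) := by
  have h3 : XC.rho X W t * jj hM s = jj hM (tau C.two s) * XC.rho X W t := by
    rw [jj_apply, jj_apply]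
    change XC.rho X W t * (κ (s.re : F) + κ (s.im : F) * M) =
      (κ ((s.re + s.im : K0 σ) : F) + κ (s.im : F) * M) * XC.rho X W t
    rw [Subfield.coe_add, map_add, mul_add, C.t_kappa, ← mul_assoc, C.t_kappa, mul_assoc, hM.ct,
      add_mul, add_mul, mul_add, mul_assoc]
    abel
  exact DFunLike.congr_fun h3 w

theorem tconj_mem {y : X} (hy : y ∈ HM X κ σ M) : t * y * t ∈ HM X κ σ M := by
  obtain ⟨h1, h2⟩ := mem_HM.mp hy
  refine ⟨fun a ha => ?_, ?_⟩
  · rw [map_mul, map_mul, mul_assoc, C.t_kappa, ← mul_assoc, mul_assoc (XC.rho X W t), h1 a ha,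
      ← mul_assoc, C.t_kappa]
    simp only [mul_assoc]
  · rw [map_mul, map_mul]
    have h3 : XC.rho X W t * M = (M + 1) * XC.rho X W t := by rw [hM.ct, add_mul, one_mul]
    have h4 : XC.rho X W t * (M + 1) = M * XC.rho X W t := by
      rw [mul_add, mul_one, hM.ct, add_assoc, C.add_self_R, add_zero]
    calc XC.rho X W t * XC.rho X W y * XC.rho X W t * M =
        XC.rho X W t * (XC.rho X W y * (XC.rho X W t * M)) := by simp only [mul_assoc]
      _ = XC.rho X W t * (XC.rho X W y * (M + 1)) * XC.rho X W t := by rw [h3]; simp only [mul_assoc]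
      _ = XC.rho X W t * ((M + 1) * XC.rho X W y) * XC.rho X W t := by
          rw [mul_add, h2, add_mul, mul_one, one_mul]
      _ = XC.rho X W t * (M + 1) * XC.rho X W y * XC.rho X W t := by simp only [mul_assoc]
      _ = _ := by rw [h4]; simp only [mul_assoc]

variable {ω : F} (hω : σ ω = ω + 1) {φ : HM X κ σ M →* Matrix (Fin 2) (Fin 2) (S2 σ δ)}
  (hφ : ∀ y : HM X κ σ M,
    (y : X) • (t • w₁ + w₁) = jj hM (φ y 0 0) (t • w₁ + w₁) + jj hM (φ y 1 0) (κ ω (t • w₁ + w₁)) ∧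
    (y : X) • (κ ω (t • w₁ + w₁)) = jj hM (φ y 0 1) (t • w₁ + w₁) +
      jj hM (φ y 1 1) (κ ω (t • w₁ + w₁)))

include hω hφ

theorem phi_inj : Function.Injective φ := by
  intro y z h
  have h1 : (y : X) • (t • w₁ + w₁) = (z : X) • (t • w₁ + w₁) := by rw [(hφ y).1, (hφ z).1, h]
  have h2 : (y : X) • (κ ω (t • w₁ + w₁)) = (z : X) • (κ ω (t • w₁ + w₁)) := by
    rw [(hφ y).2, (hφ z).2, h]
  apply Subtype.ext
  apply C.rho_inj
  ext w
  obtain ⟨r, s, hw⟩ := spanS C hM hω w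
  change (y : X) • w = (z : X) • w
  rw [hw, smul_add, smul_add, smul_jj hM y.2, smul_jj hM y.2, smul_jj hM z.2, smul_jj hM z.2, h1, h2]

/-- a matrix is determined by the action -/
theorem phi_eq {y : X} (hy : y ∈ HM X κ σ M) {a b c e : S2 σ δ}
    (h1 : y • (t • w₁ + w₁) = jj hM a (t • w₁ + w₁) + jj hM c (κ ω (t • w₁ + w₁)))
    (h2 : y • (κ ω (t • w₁ + w₁)) = jj hM b (t • w₁ + w₁) + jj hM e (κ ω (t • w₁ + w₁))) :
    φ ⟨y, hy⟩ = !![a, b; c, e] := by
  have h3 := (hφ ⟨y, hy⟩).1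
  have h4 := (hφ ⟨y, hy⟩).2
  simp only at h3 h4
  rw [h1] at h3
  rw [h2] at h4
  obtain ⟨h5, h6⟩ := uniqS C hM hω h3
  obtain ⟨h7, h8⟩ := uniqS C hM hω h4
  rw [Matrix.eta_fin_two (φ ⟨y, hy⟩), ← h5, ← h6, ← h7, ← h8]

theorem f_omega : f • κ ω (t • w₁ + w₁) = (t • w₁ + w₁) + κ ω (t • w₁ + w₁) := by
  rw [C.f_smul_kappa, hω, kadd, C.f_v, map_one, add_comm]
  rfl

theorem phi_f : φ ⟨f, f_mem C hM⟩ = !![1, 1; 0, 1] := by
  apply phi_eq C hM hω hφ
  · rw [C.f_v, map_one, map_zero]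
    change t • w₁ + w₁ = (t • w₁ + w₁) + 0
    rw [add_zero]
  · rw [f_omega C hM hω hφ, map_one]
    rfl

theorem det_d (a : Fˣ) : ((φ ⟨d a, d_mem C hM a⟩).det = 1 ↔ (a : F) * σ a = 1) := by
  obtain ⟨u, v, hu, hv, ha⟩ := C.decomp hω a
  have hc := C.omega_sq hω
  have h1 : φ ⟨d a, d_mem C hM a⟩ = !![⟨⟨u, hu⟩, 0⟩, ⟨⟨v * (ω * ω + ω), by
      rw [mem_K0, map_mul, hv, hc]⟩, 0⟩; ⟨⟨v, hv⟩, 0⟩, ⟨⟨u + v, by rw [mem_K0, map_add, hu, hv]⟩, 0⟩] := by
    apply phi_eq C hM hω hφ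
    · rw [C.act, ha, kadd, kmul, jj_apply, jj_apply]
      simp
    · rw [C.act, ← kmul, jj_apply, jj_apply]
      simp only [ZeroMemClass.coe_zero, map_zero, zero_mul, add_zero]
      rw [← kmul, ← kadd]
      congr 2
      rw [ha]
      have := C.add_self_F (v * ω)
      linear_combination (-1 : F) * this
  have h3 : ((φ ⟨d a, d_mem C hM a⟩).det.re : F) = a * σ a := by
    rw [h1, Matrix.det_fin_two_of, QuadraticAlgebra.re_sub, QuadraticAlgebra.re_mul, QuadraticAlgebra.re_mul]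
    simp only [Subfield.coe_sub, Subfield.coe_mul, mul_zero, add_zero]
    rw [ha, map_add, map_mul, hu, hv, hω]
    have := C.add_self_F (v * v * (ω * ω + ω))
    have h5 := C.add_self_F (u * v * ω)
    linear_combination -this - h5
  have h4 : (φ ⟨d a, d_mem C hM a⟩).det.im = 0 := by
    rw [h1, Matrix.det_fin_two_of, QuadraticAlgebra.im_sub, QuadraticAlgebra.im_mul, QuadraticAlgebra.im_mul]
    simp
  rw [QuadraticAlgebra.ext_iff, h4]
  constructor
  · rintro ⟨h5, -⟩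
    rw [← h3, h5]; rfl
  · intro h5
    refine ⟨?_, rfl⟩
    apply Subtype.ext
    rw [h3, h5]; rfl

theorem phi_tconj (y : HM X κ σ M) : φ ⟨t * y * t, tconj_mem C hM y.2⟩ = (φ y).map (tau C.two) := by
  have h0 : (φ y).map (tau C.two) = !![tau C.two (φ y 0 0), tau C.two (φ y 0 1);
      tau C.two (φ y 1 0), tau C.two (φ y 1 1)] := by
    rw [Matrix.eta_fin_two ((φ y).map (tau C.two))]
    rfl
  rw [h0]
  apply phi_eq C hM hω hφ
  · rw [mul_smul, mul_smul, C.t_v, (hφ y).1, smul_add, t_jj C hM, t_jj C hM, C.t_smul_kappa, C.t_v]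
  · rw [mul_smul, mul_smul, C.t_smul_kappa, C.t_v, (hφ y).2, smul_add, t_jj C hM, t_jj C hM,
      C.t_smul_kappa, C.t_v]

omit hω hφ C in
/-- the subgroup of determinant one -/
theorem exists_H1 (φ : HM X κ σ M →* Matrix (Fin 2) (Fin 2) (S2 σ δ)) :
    ∃ H1 : Subgroup X, ∀ y, y ∈ H1 ↔ ∃ h : y ∈ HM X κ σ M, (φ ⟨y, h⟩).det = 1 := by
  refine ⟨(((Matrix.detMonoidHom).comp φ).ker).map (HM X κ σ M).subtype, fun y => ?_⟩
  rw [Subgroup.mem_map]
  constructor
  · rintro ⟨⟨z, hz⟩, h1, rfl⟩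
    exact ⟨hz, h1⟩
  · rintro ⟨h1, h2⟩
    exact ⟨⟨y, h1⟩, h2, rfl⟩

/-- elements commuting with `f` -/
theorem comm_f {y : X} (hy : y ∈ HM X κ σ M) (h : y * f = f * y) :
    ∃ a b : S2 σ δ, φ ⟨y, hy⟩ = !![a, b; 0, a] := by
  have h1 : φ ⟨y, hy⟩ * φ ⟨f, f_mem C hM⟩ = φ ⟨f, f_mem C hM⟩ * φ ⟨y, hy⟩ := by
    rw [← map_mul, ← map_mul]
    congr 1
    apply Subtype.ext
    exact h
  rw [phi_f C hM hω hφ] at h1
  obtain ⟨h2, h3, -⟩ := mat_conj h1
  refine ⟨φ ⟨y, hy⟩ 0 0, φ ⟨y, hy⟩ 0 1, ?_⟩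
  rw [mul_one, one_mul] at h3
  rw [one_mul] at h2
  conv_lhs => rw [Matrix.eta_fin_two (φ ⟨y, hy⟩), h2, ← h3]

/-- elements of determinant one commuting with `f` have square one -/
theorem sq_of_comm_f {y : X} (hy : y ∈ HM X κ σ M) (h : y * f = f * y) (hd : (φ ⟨y, hy⟩).det = 1) :
    y * y = 1 := by
  obtain ⟨a, b, hab⟩ := comm_f C hM hω hφ hy h
  rw [hab, Matrix.det_fin_two_of, mul_zero, sub_zero] at hd
  have h1 : φ ⟨y, hy⟩ * φ ⟨y, hy⟩ = 1 := by
    have h3 : a * b + b * a = 0 := by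
      rw [mul_comm a b]; exact S2_add_self C.two _
    rw [hab, Matrix.mul_fin_two, Matrix.one_fin_two, h3, hd]
    simp
  have h2 : (⟨y, hy⟩ : HM X κ σ M) * ⟨y, hy⟩ = 1 := by
    apply phi_inj C hM hω hφ
    rw [map_mul, h1, map_one]
  exact congrArg Subtype.val h2

/-- an involution commuting with `f` has determinant one, and the form of the matrix -/
theorem inv_comm_f {y : X} (hy : y ∈ HM X κ σ M) (h : y * f = f * y) (hyy : y * y = 1) :
    ∃ b : S2 σ δ, φ ⟨y, hy⟩ = !![1, b; 0, 1] := by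
  obtain ⟨a, b, hab⟩ := comm_f C hM hω hφ hy h
  have h2 : (⟨y, hy⟩ : HM X κ σ M) * ⟨y, hy⟩ = 1 := Subtype.ext hyy
  have h3 : φ ⟨y, hy⟩ * φ ⟨y, hy⟩ = 1 := by rw [← map_mul, h2, map_one]
  rw [hab, Matrix.mul_fin_two, Matrix.one_fin_two] at h3
  have h4 := congrFun (congrFun h3 0) 0
  simp only [Matrix.of_apply, Matrix.cons_val_zero, Matrix.cons_val', Matrix.empty_val',
    Matrix.cons_val_fin_one, mul_zero, add_zero] at h4
  have h5 := S2_sq_one C.two h4
  exact ⟨b, by rw [hab, h5]⟩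

end

end Cfsg.Agent.StdL2.F.Eight
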