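import Cfsg.Agent.StdL2.FBase

/-!
# S1773, case (f): the matrices over `K₀[M]`, `M² = M + δ`
-/

set_option autoImplicit false
set_option linter.unusedSectionVars false

namespace Cfsg.Agent.StdL2.F.Eight

open Matrix

/-- `M` commutes with `F` and `f`, `t M t = M + 1` and `M² = M + δ` -/
structure MC {X W F : Type*} [Group X] [AddCommGroup W] [DistribMulAction X W] [Field F]
    (κ : F →+* AddMonoid.End W) (t f : X) (M : AddMonoid.End W) (δ : F) : Prop where
  kap : ∀ a : F, κ a * M = M * κ a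
  cf : XC.rho X W f * M = M * XC.rho X W f
  ct : XC.rho X W t * M = M * XC.rho X W t + XC.rho X W t
  sq : M * M = M + κ δ

section

variable {F : Type*} [Field F]

/-- the fixed field -/
abbrev K0 (σ : F ≃+* F) : Subfield F := RingHom.eqLocusField (σ : F →+* F) (RingHom.id F)

/-- the ring `K₀[M]`, `M² = M + δ` -/
abbrev S2 (σ : F ≃+* F) (δ : K0 σ) : Type _ := QuadraticAlgebra (K0 σ) δ 1

theorem mem_K0 {σ : F ≃+* F} {a : F} : a ∈ K0 σ ↔ σ a = a := Iff.rfl

theorem fix_K0 {σ : F ≃+* F} (a : K0 σ) : σ (a : F) = a := mem_K0.mp a.2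

end

variable {X W F : Type*} [Group X] [Finite X] [AddCommGroup W] [DistribMulAction X W] [Field F]
  [Finite F] {κ : F →+* AddMonoid.End W} {d : Fˣ →* X} {σ : F ≃+* F} {t f : X} {w₁ : W}
  {M : AddMonoid.End W} {δ : K0 σ}

/-- the action of `S2` on `W` -/
def jj (hM : MC κ t f M (δ : F)) : S2 σ δ →+* AddMonoid.End W where
  toFun s := κ (s.re : F) + κ (s.im : F) * M
  map_one' := by
    change κ ((1 : K0 σ) : F) + κ ((0 : K0 σ) : F) * M = 1
    simp
  map_zero' := by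
    change κ ((0 : K0 σ) : F) + κ ((0 : K0 σ) : F) * M = 0
    simp
  map_add' x y := by
    change κ ((x.re + y.re : K0 σ) : F) + κ ((x.im + y.im : K0 σ) : F) * M = _
    simp only [Subfield.coe_add, map_add, add_mul]
    abel
  map_mul' x y := by
    rw [QuadraticAlgebra.re_mul, QuadraticAlgebra.im_mul]
    simp only [Subfield.coe_add, Subfield.coe_mul, one_mul, map_add, map_mul]
    have h1 : κ (x.im : F) * M * (κ (y.im : F) * M) = κ (x.im : F) * κ (y.im : F) * M +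
        κ (δ : F) * κ (x.im : F) * κ (y.im : F) := by
      have h0 : κ (δ : F) * κ (x.im : F) * κ (y.im : F) = κ (x.im : F) * κ (y.im : F) * κ (δ : F) := by
        rw [← map_mul, ← map_mul, ← map_mul, ← map_mul]
        congr 1
        ring
      calc κ (x.im : F) * M * (κ (y.im : F) * M) = κ (x.im : F) * (M * κ (y.im : F)) * M := by
            simp only [mul_assoc]
        _ = κ (x.im : F) * κ (y.im : F) * (M * M) := by rw [← hM.kap]; simp only [mul_assoc]
        _ = _ := by rw [hM.sq, mul_add, h0]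
    have h2 : κ (x.im : F) * M * κ (y.re : F) = κ (x.im : F) * κ (y.re : F) * M := by
      rw [mul_assoc, ← hM.kap, mul_assoc]
    rw [add_mul (κ (x.re : F)), mul_add, mul_add, h1, h2, add_mul, add_mul]
    simp only [mul_assoc]
    abel

theorem kadd (a b : F) (w : W) : κ (a + b) w = κ a w + κ b w := by rw [map_add]; rfl

theorem kmul (a b : F) (w : W) : κ (a * b) w = κ a (κ b w) := by rw [map_mul]; rfl

theorem jj_apply (hM : MC κ t f M (δ : F)) (s : S2 σ δ) : jj hM s = κ (s.re : F) + κ (s.im : F) * M := rfl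

section

variable (C : XC κ d σ t f w₁) (hM : MC κ t f M (δ : F))

include C hM

/-- `M v₁ = w₁ + β v₁` -/
theorem M_v : ∃ β : F, σ β = β ∧ M (t • w₁ + w₁) = w₁ + κ β (t • w₁ + w₁) := by
  obtain ⟨a, b, hab⟩ := C.span (M (t • w₁ + w₁))
  have tw := C.t_w
  have tv := C.t_v
  have fv := C.f_v
  have indep := C.indep
  generalize t • w₁ + w₁ = v at *
  have hf : κ a w₁ + κ b v = κ (σ a) w₁ + κ (σ b) v := by
    have h1 := DFunLike.congr_fun hM.cf v
    change f • M v = M (f • v) at h1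
    rw [fv, hab, smul_add, C.f_smul_kappa, C.f_smul_kappa, C.fw, fv] at h1
    exact h1.symm
  have ht := DFunLike.congr_fun hM.ct v
  change t • M v = M (t • v) + t • v at ht
  rw [tv, hab, smul_add, C.t_smul_kappa, C.t_smul_kappa, tv, tw, map_add] at ht
  have h2 : κ (a + 1) v = 0 := by
    rw [kadd, map_one]
    change κ a v + v = 0
    have h3 : κ a w₁ + κ a v + κ b v = κ a w₁ + κ b v + κ a v := by abel
    rw [h3] at ht
    rw [add_left_cancel ht]
    exact C.add_self_W _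
  have h3 := indep 0 (a + 1) (by rw [h2]; simp)
  have ha : a = 1 := by
    have := eq_neg_of_add_eq_zero_left h3.2
    rwa [C.neg_F] at this
  subst ha
  simp only [map_one] at hf
  have h5 : κ b v = κ (σ b) v := add_left_cancel hf
  refine ⟨b, ?_, ?_⟩
  · have h4 := indep 0 (b + σ b) (by
      rw [kadd, h5, C.add_self_W]
      simp)
    have := eq_neg_of_add_eq_zero_left h4.2
    rw [C.neg_F] at this
    exact this.symm
  · rw [hab, map_one]
    rfl

variable {ω : F} (hω : σ ω = ω + 1)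

include hω

theorem spanS (w : W) : ∃ r s : S2 σ δ, w = jj hM r (t • w₁ + w₁) + jj hM s (κ ω (t • w₁ + w₁)) := by
  obtain ⟨β, hβ, hMv⟩ := M_v C hM
  obtain ⟨a, b, rfl⟩ := C.span w
  obtain ⟨a₀, a₁, ha₀, ha₁, ha⟩ := C.decomp hω a
  obtain ⟨b₀, b₁, hb₀, hb₁, hb⟩ := C.decomp hω (a * β + b)
  refine ⟨⟨⟨b₀, hb₀⟩, ⟨a₀, ha₀⟩⟩, ⟨⟨b₁, hb₁⟩, ⟨a₁, ha₁⟩⟩, ?_⟩
  generalize t • w₁ + w₁ = v at *
  rw [jj_apply, jj_apply]
  change _ = κ b₀ v + κ a₀ (M v) + (κ b₁ (κ ω v) + κ a₁ (M (κ ω v)))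
  have h1 : M (κ ω v) = κ ω (M v) := (DFunLike.congr_fun (hM.kap ω) v).symm
  rw [h1, ← kmul, ← kmul]
  have h4 : κ b₀ v + κ a₀ (M v) + (κ (b₁ * ω) v + κ (a₁ * ω) (M v)) =
      κ (b₀ + b₁ * ω) v + κ (a₀ + a₁ * ω) (M v) := by
    rw [kadd, kadd]
    abel
  rw [h4, ← ha, ← hb, hMv, map_add (κ a), kadd, kmul]
  have h6 := C.add_self_W (κ a (κ β v))
  calc κ a w₁ + κ b v = κ a w₁ + κ b v + (κ a (κ β v) + κ a (κ β v)) := by rw [h6, add_zero]
    _ = _ := by abel

theorem indepS {r s : S2 σ δ} (h : jj hM r (t • w₁ + w₁) + jj hM s (κ ω (t • w₁ + w₁)) = 0) :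
    r = 0 ∧ s = 0 := by
  obtain ⟨β, hβ, hMv⟩ := M_v C hM
  have indep := C.indep
  generalize t • w₁ + w₁ = v at *
  rw [jj_apply, jj_apply] at h
  change κ (r.re : F) v + κ (r.im : F) (M v) + (κ (s.re : F) (κ ω v) +
    κ (s.im : F) (M (κ ω v))) = 0 at h
  have h1 : M (κ ω v) = κ ω (M v) := (DFunLike.congr_fun (hM.kap ω) v).symm
  rw [h1, ← kmul, ← kmul] at h
  have h4 : κ (r.re : F) v + κ (r.im : F) (M v) + (κ (s.re * ω) v +
      κ (s.im * ω) (M v)) = κ (r.re + s.re * ω) v + κ (r.im + s.im * ω) (M v) := by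
    rw [kadd (r.re : F), kadd (r.im : F)]
    abel
  rw [h4, hMv, map_add (κ (r.im + s.im * ω))] at h
  have h5 : κ (r.im + s.im * ω) w₁ + κ ((r.re + s.re * ω) + (r.im + s.im * ω) * β) v = 0 := by
    rw [kadd (r.re + s.re * ω : F), kmul (r.im + s.im * ω : F), ← h]
    abel
  obtain ⟨h6, h7⟩ := indep _ _ h5
  rw [h6, zero_mul, add_zero] at h7
  obtain ⟨h8, h9⟩ := C.decomp_unique hω (fix_K0 r.im) (fix_K0 s.im) h6
  obtain ⟨h10, h11⟩ := C.decomp_unique hω (fix_K0 r.re) (fix_K0 s.re) h7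
  constructor
  · ext
    · exact h10
    · exact h8
  · ext
    · exact h11
    · exact h9

theorem uniqS {r s r' s' : S2 σ δ} (h : jj hM r (t • w₁ + w₁) + jj hM s (κ ω (t • w₁ + w₁)) =
    jj hM r' (t • w₁ + w₁) + jj hM s' (κ ω (t • w₁ + w₁))) : r = r' ∧ s = s' := by
  have h1 : jj hM (r - r') (t • w₁ + w₁) + jj hM (s - s') (κ ω (t • w₁ + w₁)) = 0 := by
    rw [map_sub, map_sub]
    change (jj hM r (t • w₁ + w₁) - jj hM r' (t • w₁ + w₁)) + (jj hM s (κ ω (t • w₁ + w₁)) -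
      jj hM s' (κ ω (t • w₁ + w₁))) = 0
    rw [← sub_eq_zero] at h
    rw [← h]
    abel
  obtain ⟨h2, h3⟩ := indepS C hM hω h1
  exact ⟨sub_eq_zero.mp h2, sub_eq_zero.mp h3⟩

theorem exists_coord (w : W) : ∃ p : S2 σ δ × S2 σ δ,
    w = jj hM p.1 (t • w₁ + w₁) + jj hM p.2 (κ ω (t • w₁ + w₁)) := by
  obtain ⟨r, s, h⟩ := spanS C hM hω w
  exact ⟨(r, s), h⟩

end

/-- the elements commuting with `K₀` and `M` -/
def HM (X : Type*) {W F : Type*} [Group X] [AddCommGroup W] [DistribMulAction X W] [Field F]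
    (κ : F →+* AddMonoid.End W) (σ : F ≃+* F) (M : AddMonoid.End W) : Subgroup X where
  carrier := {y | (∀ a, σ a = a → XC.rho X W y * κ a = κ a * XC.rho X W y) ∧
    XC.rho X W y * M = M * XC.rho X W y}
  one_mem' := by
    refine ⟨fun a _ => ?_, ?_⟩
    · rw [map_one, one_mul, mul_one]
    · rw [map_one, one_mul, mul_one]
  mul_mem' := by
    rintro x y ⟨h1, h2⟩ ⟨h3, h4⟩
    refine ⟨fun a ha => ?_, ?_⟩
    · rw [map_mul, mul_assoc, h3 a ha, ← mul_assoc, h1 a ha, mul_assoc]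
    · rw [map_mul, mul_assoc, h4, ← mul_assoc, h2, mul_assoc]
  inv_mem' := by
    rintro x ⟨h1, h2⟩
    have h0 : XC.rho X W x⁻¹ * XC.rho X W x = 1 := by rw [← map_mul, inv_mul_cancel, map_one]
    have h0' : XC.rho X W x * XC.rho X W x⁻¹ = 1 := by rw [← map_mul, mul_inv_cancel, map_one]
    refine ⟨fun a ha => ?_, ?_⟩
    · calc XC.rho X W x⁻¹ * κ a = XC.rho X W x⁻¹ * (κ a * XC.rho X W x) * XC.rho X W x⁻¹ := by
            rw [mul_assoc, mul_assoc, h0', mul_one]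
        _ = (XC.rho X W x⁻¹ * XC.rho X W x) * (κ a * XC.rho X W x⁻¹) := by
            rw [← h1 a ha]; simp only [mul_assoc]
        _ = _ := by rw [h0, one_mul]
    · calc XC.rho X W x⁻¹ * M = XC.rho X W x⁻¹ * (M * XC.rho X W x) * XC.rho X W x⁻¹ := by
            rw [mul_assoc, mul_assoc, h0', mul_one]
        _ = (XC.rho X W x⁻¹ * XC.rho X W x) * (M * XC.rho X W x⁻¹) := by
            rw [← h2]; simp only [mul_assoc]
        _ = _ := by rw [h0, one_mul]

theorem mem_HM {y : X} : y ∈ HM X κ σ M ↔ (∀ a, σ a = a → XC.rho X W y * κ a = κ a * XC.rho X W y) ∧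
    XC.rho X W y * M = M * XC.rho X W y := Iff.rfl

theorem smul_jj (hM : MC κ t f M (δ : F)) {y : X} (hy : y ∈ HM X κ σ M) (s : S2 σ δ) (w : W) :
    y • jj hM s w = jj hM s (y • w) := by
  obtain ⟨h1, h2⟩ := mem_HM.mp hy
  have h3 : XC.rho X W y * jj hM s = jj hM s * XC.rho X W y := by
    rw [jj_apply, mul_add, add_mul, h1 _ (fix_K0 s.re), ← mul_assoc, h1 _ (fix_K0 s.im), mul_assoc, h2,
      mul_assoc]
  exact DFunLike.congr_fun h3 w

section

variable (C : XC κ d σ t f w₁) (hM : MC κ t f M (δ : F)) {ω : F} (hω : σ ω = ω + 1)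

include C hω

/-- **the matrices over `K₀[M]`** -/
theorem exists_rep : ∃ φ : HM X κ σ M →* Matrix (Fin 2) (Fin 2) (S2 σ δ), ∀ y : HM X κ σ M,
    (y : X) • (t • w₁ + w₁) = jj hM (φ y 0 0) (t • w₁ + w₁) + jj hM (φ y 1 0) (κ ω (t • w₁ + w₁)) ∧
    (y : X) • (κ ω (t • w₁ + w₁)) = jj hM (φ y 0 1) (t • w₁ + w₁) +
      jj hM (φ y 1 1) (κ ω (t • w₁ + w₁)) := by
  choose g hg using exists_coord C hM hω
  have uniq := @uniqS X W F _ _ _ _ _ _ κ d σ t f w₁ M δ C hM ω hω
  generalize t • w₁ + w₁ = v at *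
  refine ⟨⟨⟨fun y => !![(g ((y : X) • v)).1, (g ((y : X) • κ ω v)).1;
    (g ((y : X) • v)).2, (g ((y : X) • κ ω v)).2], ?_⟩, ?_⟩, ?_⟩
  · have h1 := hg ((1 : X) • v)
    have h2 := hg ((1 : X) • κ ω v)
    rw [one_smul] at h1 h2
    have h3 := uniq (r := 1) (s := 0) (r' := (g v).1) (s' := (g v).2) (by
      rw [← h1, map_one, map_zero]
      change v + 0 = v
      rw [add_zero])
    have h4 := uniq (r := 0) (s := 1) (r' := (g (κ ω v)).1) (s' := (g (κ ω v)).2) (by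
      rw [← h2, map_one, map_zero]
      change 0 + κ ω v = κ ω v
      rw [zero_add])
    rw [OneMemClass.coe_one, one_smul, one_smul, ← h3.1, ← h3.2, ← h4.1, ← h4.2]
    exact Matrix.one_fin_two.symm
  · intro y z
    have key : ∀ w, (g (((y * z : HM X κ σ M) : X) • w)).1 =
        (g ((y : X) • v)).1 * (g ((z : X) • w)).1 + (g ((y : X) • κ ω v)).1 * (g ((z : X) • w)).2 ∧
        (g (((y * z : HM X κ σ M) : X) • w)).2 =
        (g ((y : X) • v)).2 * (g ((z : X) • w)).1 + (g ((y : X) • κ ω v)).2 * (g ((z : X) • w)).2 := by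
      intro w
      apply uniq
      rw [← hg, Subgroup.coe_mul, mul_smul]
      conv_lhs => rw [hg ((z : X) • w), smul_add, smul_jj hM y.2, smul_jj hM y.2, hg ((y : X) • v),
        hg ((y : X) • κ ω v)]
      generalize g ((z : X) • w) = p
      generalize g ((y : X) • v) = q
      generalize g ((y : X) • κ ω v) = r
      rw [map_add, map_add, map_add, map_add, mul_comm q.1, mul_comm q.2, mul_comm r.1, mul_comm r.2,
        map_mul, map_mul, map_mul, map_mul]
      change jj hM p.1 (jj hM q.1 v) + jj hM p.1 (jj hM q.2 (κ ω v)) + (jj hM p.2 (jj hM r.1 v) +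
        jj hM p.2 (jj hM r.2 (κ ω v))) = jj hM p.1 (jj hM q.1 v) + jj hM p.2 (jj hM r.1 v) +
          (jj hM p.1 (jj hM q.2 (κ ω v)) + jj hM p.2 (jj hM r.2 (κ ω v)))
      abel
    simp only
    rw [(key v).1, (key v).2, (key (κ ω v)).1, (key (κ ω v)).2]
    rw [Matrix.mul_fin_two]
  · intro y
    exact ⟨hg _, hg _⟩

end

end Cfsg.Agent.StdL2.F.Eight
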