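import Cfsg.Agent.StdL2.FWr
import Cfsg.Agent.StdL2.FTTower
import Cfsg.Agent.StdL2.EOneOf
import Cfsg.Agent.StdL2.Ends
import Cfsg.Agent.StdL2.SFive.LeafTools
import Cfsg.Agent.StdU3.TransferTE
import Cfsg.Agent.StdSz.EndClosed

/-!
# S1773, case (f), the end: the wreathed configuration is impossible

`U = V₁ × V₂` elementary abelian of order `q²`, `S` a Sylow 2-subgroup of `G` normalising `U` and
permuting `{V₁, V₂}`, `t ∈ S` interchanges them, no conjugate of `t` in `S` normalises `V₁`, and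
`N_S(V₁)` acts on `V₁ ≃ F_q` through field automorphisms.
-/

set_option autoImplicit false
set_option linter.unusedSectionVars false

open Subgroup

namespace Cfsg.Agent.StdL2.FEnd

open Cfsg.Agent.StdL2.FieldStart (IsSyl exists_isSyl card_le_two_mul exists_normalizer_gt)
open Cfsg.Agent.StdL2.SC (conj_mem_norm norm_conj norm_conj')
open Cfsg.Agent.StdL2.FGal (GalAct)
open Cfsg.Agent.StdL2.FWr Cfsg.Agent.StdL2.FT
open Cfsg.Agent.GH.E (rr mem_rr le_rr self_mem_rr)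

variable {G : Type*} [Group G] [Finite G]

/-- The input of the end of case (f). -/
structure Fin5 (t : G) (V T C₀ U V1 V2 S : Subgroup G) : Prop where
  F : FTD t V T C₀
  W : Wr t U V1 V2 S
  TS : T ≤ S
  Syl : IsSyl ⊤ S
  VU : V ≤ U
  card : Nat.card U = Nat.card V ^ 2
  fix : ∀ u ∈ U, t * u = u * t → u ∈ V
  bad : ∃ u ∈ U, ∃ s ∈ T, s ∉ V ∧ t * s ∉ V ∧ (u * s) * (u * s) = 1 ∧ ∃ g : G, g * t * g⁻¹ = u * s

/-- A field involution in `T ∩ L ∩ N₀`. -/
structure Fu {t : G} {U V1 V2 S : Subgroup G} (W : Wr t U V1 V2 S) (T V L : Subgroup G) (u : G) :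
    Prop where
  mT : u ∈ T
  mL : u ∈ L
  mN : u ∈ W.N0
  sq : u * u = 1
  nV : u ∉ V
  ntV : t * u ∉ V

namespace Fin5

variable {t : G} {V T C₀ U V1 V2 S L : Subgroup G}

/-- `|⟨t⟩X| = 2|X|` -/
theorem card_rr_two {X : Subgroup G} (t2 : t * t = 1) (tn : ∀ x ∈ X, t * x * t⁻¹ ∈ X)
    (htX : t ∉ X) : Nat.card (rr t X) = 2 * Nat.card X := by
  have tinv : t⁻¹ = t := inv_eq_of_mul_eq_one_left t2
  have h1 : X.relIndex (rr t X) = 2 := by
    rw [relIndex_eq_two_iff]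
    refine ⟨t, self_mem_rr t X, fun b hb => ?_⟩
    rcases (mem_rr t2 tn).1 hb with hb | hb
    · right
      refine ⟨hb, fun h => htX ?_⟩
      have := X.mul_mem (X.inv_mem hb) h
      rwa [inv_mul_cancel_left] at this
    · left
      constructor
      · have h2 := tn _ hb
        have h3 : t * (t * b) * t⁻¹ = b * t := by rw [tinv, ← mul_assoc, t2, one_mul]
        rwa [h3] at h2
      · intro h
        apply htX
        have := X.mul_mem hb (X.inv_mem h)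
        rwa [mul_inv_cancel_right] at this
  have h2 := relIndex_mul_relIndex ⊥ X (rr t X) bot_le (le_rr t X)
  rw [h1, relIndex_bot_left, relIndex_bot_left] at h2
  omega

theorem card_V (H : Fin5 t V T C₀ U V1 V2 S) : Nat.card V = Nat.card V1 := by
  have h1 := H.card
  rw [H.W.card_U] at h1
  exact (Nat.pow_left_injective (by norm_num : (2 : ℕ) ≠ 0) h1).symm

/-- **KEY**: elements of `U` commuting with a conjugate `t^g ∈ S` come from `C₀`. -/
theorem key (H : Fin5 t V T C₀ U V1 V2 S) {g w : G} (h : g * t * g⁻¹ ∈ S) (hw : w ∈ U)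
    (hc : w * (g * t * g⁻¹) = (g * t * g⁻¹) * w) : g⁻¹ * w * g ∈ C₀ := by
  have W := H.W
  have t2 := H.F.t2
  set t1 := g * t * g⁻¹ with ht1
  have h11 : t1 * t1 = 1 := by
    rw [ht1]
    have e : g * t * g⁻¹ * (g * t * g⁻¹) = g * (t * t) * g⁻¹ := by group
    rw [e, t2]; group
  have ht1U : t1 ∉ U := fun hU => W.no g h (W.n1 (W.UN0 hU))
  set X : Subgroup G := U ⊓ centralizer {t1} with hX
  have hXc : Nat.card V ≤ Nat.card X := by
    have h1 := EOneFusion.card_le_cent_sq h11 W.usq (W.SU t1 h)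
    rw [H.card] at h1
    exact (Nat.pow_le_pow_iff_left (by norm_num)).1 h1
  let X' : Subgroup G := X.map (MulAut.conj g⁻¹).toMonoidHom
  have hX'c : Nat.card X' = Nat.card X :=
    (Nat.card_congr (X.equivMapOfInjective _ (MulAut.conj g⁻¹).injective).toEquiv).symm
  have hmem : ∀ x ∈ X', ∃ u ∈ U, u * t1 = t1 * u ∧ x = g⁻¹ * u * g := by
    rintro _ ⟨u, ⟨hu, hut⟩, rfl⟩
    refine ⟨u, hu, mem_centralizer_singleton_iff.1 hut, ?_⟩
    change g⁻¹ * u * g⁻¹⁻¹ = _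
    rw [inv_inv]
  have hX't : ∀ x ∈ X', t * x = x * t := by
    intro x hx
    obtain ⟨u, hu, hut, rfl⟩ := hmem x hx
    have e1 : t * (g⁻¹ * u * g) = g⁻¹ * (t1 * u) * g := by rw [ht1]; group
    have e2 : g⁻¹ * u * g * t = g⁻¹ * (u * t1) * g := by rw [ht1]; group
    rw [e1, e2, hut]
  have hX'sq : ∀ x ∈ X', x * x = 1 := by
    intro x hx
    obtain ⟨u, hu, -, rfl⟩ := hmem x hx
    have e : g⁻¹ * u * g * (g⁻¹ * u * g) = g⁻¹ * (u * u) * g := by group
    rw [e, W.usq u hu]; group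
  have htn : ∀ x ∈ X', t * x * t⁻¹ ∈ X' := by
    intro x hx
    rw [hX't x hx, mul_inv_cancel_right]; exact hx
  have htX' : t ∉ X' := by
    intro ht
    obtain ⟨u, hu, -, e⟩ := hmem t ht
    apply ht1U
    have : t1 = u := by rw [ht1, e]; group
    rw [this]; exact hu
  have hA : Nat.card (rr t X') = 2 * Nat.card X' := card_rr_two t2 htn htX'
  obtain ⟨c, hct, hc'⟩ := H.F.elem_conj (A := rr t X') (by
    intro x hx
    rcases (mem_rr t2 htn).1 hx with hx | hx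
    · exact hX'sq x hx
    · have h1 := hX'sq _ hx
      have h2 := hX't _ hx
      have h3 : x = t * (t * x) := by rw [← mul_assoc, t2, one_mul]
      calc x * x = (t * (t * x)) * (t * (t * x)) := by rw [← h3]
        _ = t * ((t * x) * t) * (t * x) := by group
        _ = t * (t * (t * x)) * (t * x) := by rw [h2]
        _ = (t * t) * ((t * x) * (t * x)) := by group
        _ = 1 := by rw [t2, h1, one_mul]) (by
    intro x hx
    rcases (mem_rr t2 htn).1 hx with hx | hx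
    · exact hX't x hx
    · have h2 := hX't _ hx
      exact mul_left_cancel (a := t) (by rw [h2, mul_assoc])) (by
    rw [hA, hX'c]
    omega)
  have hmemE : c * (g⁻¹ * w * g) * c⁻¹ ∈ H.F.E := by
    rw [← hc']
    refine ⟨g⁻¹ * w * g, ?_, rfl⟩
    apply le_rr
    refine ⟨w, ⟨hw, mem_centralizer_singleton_iff.2 hc⟩, ?_⟩
    change g⁻¹ * w * g⁻¹⁻¹ = _
    rw [inv_inv]
  have h5 := H.F.C0E _ hmemE
  have h6 : c⁻¹ * t = t * c⁻¹ := by
    rw [inv_mul_eq_iff_eq_mul, ← mul_assoc, hct, mul_inv_cancel_right]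
  have h7 := H.F.C0n c⁻¹ h6 _ h5
  have e : c⁻¹ * (c * (g⁻¹ * w * g) * c⁻¹) * c⁻¹⁻¹ = g⁻¹ * w * g := by group
  rwa [e] at h7

/-- existence of the field involution in `L` -/
theorem exists_fu (H : Fin5 t V T C₀ U V1 V2 S) (Ln : L.Normal) (hL : ∀ x, x ∈ L ∨ t * x ∈ L)
    (tL : t ∉ L) (UL : U ≤ L) : ∃ u, Fu H.W T V L u := by
  have W := H.W
  have F := H.F
  obtain ⟨u, hu, s, hsT, hsV, htsV, hsq, g, hg⟩ := H.bad
  have hsS := H.TS hsT
  have husS : u * s ∈ S := S.mul_mem (W.US hu) hsS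
  have husN : u * s ∉ W.N0 := fun h => W.no g (by rw [hg]; exact husS) (by rw [hg]; exact W.n1 h)
  have hsN : s ∉ W.N0 := fun h => husN (W.N0.mul_mem (W.UN0 hu) h)
  have husL : u * s ∉ L := by
    intro h
    rw [← hg] at h
    have h1 := Ln.conj_mem _ h g⁻¹
    have e : g⁻¹ * (g * t * g⁻¹) * g⁻¹⁻¹ = t := by group
    rw [e] at h1
    exact tL h1
  have hsL : s ∉ L := fun h => husL (L.mul_mem (UL hu) h)
  have htsL : t * s ∈ L := (hL s).resolve_left hsL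
  have htsN : t * s ∈ W.N0 := W.mul_mem_of_sw W.tS hsS W.t_not hsN
  have hst := F.Tt s hsT
  have hssU : s * s ∈ U := by
    have h1 : u * (s * u * s⁻¹) * (s * s) = 1 := by
      rw [← hsq]; group
    have h2 : s * s = (u * (s * u * s⁻¹))⁻¹ := eq_inv_of_mul_eq_one_right h1
    rw [h2]
    exact U.inv_mem (U.mul_mem hu (W.SU s hsS u hu))
  have hssV : s * s ∈ V := by
    apply H.fix _ hssU
    rw [← mul_assoc, ← hst, mul_assoc, ← hst, mul_assoc]
  have htt : ∀ x, t * (t * x) = x := fun x => by rw [← mul_assoc, F.t2, one_mul]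
  set x := t * s with hx
  have hxT : x ∈ T := T.mul_mem F.tT hsT
  have hxx : x * x = s * s := by
    rw [hx, mul_assoc, ← mul_assoc s t s, hst, mul_assoc, htt]
  obtain ⟨y, hy, hyv⟩ := F.fr x hxT htsV (by rw [hx, htt]; exact hsV) (Or.inl (by
    rw [hxx]; exact hssV)) (x * x) (by rw [hxx]; exact hssV) (by group)
  refine ⟨x * y, T.mul_mem hxT (F.VT hy), L.mul_mem htsL (UL (H.VU hy)),
    W.N0.mul_mem htsN (W.UN0 (H.VU hy)), ?_, ?_, ?_⟩
  · have hxy : x * y * x⁻¹ ∈ V := F.TV x hxT y hy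
    have h1 := F.vsq _ (hxx ▸ hssV : x * x ∈ V)
    calc x * y * (x * y) = (x * y * x⁻¹) * (x * x) * y := by group
      _ = (x * x) * (x * y * x⁻¹) * y := by rw [F.Vcomm hxy (hxx ▸ hssV : x * x ∈ V)]
      _ = (x * x) * ((x * y * x⁻¹) * y) := by group
      _ = (x * x) * (y * (x * y * x⁻¹)) := by rw [F.Vcomm hxy hy]
      _ = (x * x) * (x * x) := by rw [← hyv]
      _ = 1 := h1
  · intro h
    apply htsV
    have := V.mul_mem h (V.inv_mem hy)
    rwa [mul_inv_cancel_right] at this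
  · intro h
    apply hsV
    have := V.mul_mem h (V.inv_mem hy)
    rw [hx] at this
    have e : t * (t * s * y) * y⁻¹ = t * (t * s) := by group
    rw [e, htt] at this
    exact this

section

variable {u : G}

theorem fcomm (H : Fin5 t V T C₀ U V1 V2 S) (h : Fu H.W T V L u) :
    u * t = t * u := H.F.Tt u h.mT

theorem fu_notU (H : Fin5 t V T C₀ U V1 V2 S) (h : Fu H.W T V L u) : u ∉ U := fun hU =>
  h.nV (H.fix u hU (H.fcomm h).symm)

theorem fu_notC (H : Fin5 t V T C₀ U V1 V2 S) (h : Fu H.W T V L u) : u ∉ C₀ := fun hC => by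
  rcases H.F.C0T u h.mT hC with h1 | h1
  · exact h.nV h1
  · exact h.ntV h1

/-- an element of `N₀` commuting with a swapping element `t₁ ∈ S` and centralising `V₁` is in `U` -/
theorem mem_of_sw (H : Fin5 t V T C₀ U V1 V2 S) {y t1 : G} (hy : y ∈ H.W.N0) (ht1 : t1 ∈ S)
    (ht1N : t1 ∉ H.W.N0) (hc : y * t1 = t1 * y) (h : ∀ a ∈ V1, y * a = a * y) : y ∈ U := by
  have W := H.W
  apply W.mem_U (W.N0S hy) h
  intro b hb
  have h1 : t1⁻¹ * b * t1 ∈ V1 := by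
    have h2 := (W.sw (S.inv_mem ht1) (fun h => ht1N (by
      have := W.N0.inv_mem h
      rwa [inv_inv] at this))).2 b hb
    rwa [inv_inv] at h2
  have h3 := h _ h1
  have h4 : y * t1⁻¹ = t1⁻¹ * y := by
    rw [eq_inv_mul_iff_mul_eq, ← mul_assoc, ← hc, mul_inv_cancel_right]
  calc y * b = t1 * (y * (t1⁻¹ * b * t1)) * t1⁻¹ := by
        rw [← mul_assoc, ← mul_assoc, ← mul_assoc, ← hc]; group
    _ = t1 * ((t1⁻¹ * b * t1) * y) * t1⁻¹ := by rw [h3]
    _ = b * (t1 * (y * t1⁻¹)) := by group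
    _ = b * y := by rw [h4, mul_inv_cancel_left]

theorem mem_of_sw' (H : Fin5 t V T C₀ U V1 V2 S) {y t1 : G} (hy : y ∈ H.W.N0) (ht1 : t1 ∈ S)
    (ht1N : t1 ∉ H.W.N0) (hc : y * t1 = t1 * y) (h : ∀ b ∈ V2, y * b = b * y) : y ∈ U := by
  have W := H.W
  refine W.mem_U (W.N0S hy) ?_ h
  intro b hb
  have h1 : t1⁻¹ * b * t1 ∈ V2 := by
    have h2 := (W.sw (S.inv_mem ht1) (fun h => ht1N (by
      have := W.N0.inv_mem h
      rwa [inv_inv] at this))).1 b hb
    rwa [inv_inv] at h2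
  have h3 := h _ h1
  have h4 : y * t1⁻¹ = t1⁻¹ * y := by
    rw [eq_inv_mul_iff_mul_eq, ← mul_assoc, ← hc, mul_inv_cancel_right]
  calc y * b = t1 * (y * (t1⁻¹ * b * t1)) * t1⁻¹ := by
        rw [← mul_assoc, ← mul_assoc, ← mul_assoc, ← hc]; group
    _ = t1 * ((t1⁻¹ * b * t1) * y) * t1⁻¹ := by rw [h3]
    _ = b * (t1 * (y * t1⁻¹)) := by group
    _ = b * y := by rw [h4, mul_inv_cancel_left]

theorem fu_ne1 (H : Fin5 t V T C₀ U V1 V2 S) (h : Fu H.W T V L u) : ∃ a ∈ V1, u * a ≠ a * u := by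
  by_contra hcon
  push Not at hcon
  exact H.fu_notU h (H.mem_of_sw h.mN H.W.tS H.W.t_not (H.fcomm h) hcon)

theorem fu_ne2 (H : Fin5 t V T C₀ U V1 V2 S) (h : Fu H.W T V L u) : ∃ b ∈ V2, u * b ≠ b * u := by
  by_contra hcon
  push Not at hcon
  exact H.fu_notU h (H.mem_of_sw' h.mN H.W.tS H.W.t_not (H.fcomm h) hcon)

/-- all elements of type `(f, f)` are congruent to `u` modulo `U`. -/
theorem type (H : Fin5 t V T C₀ U V1 V2 S) (h : Fu H.W T V L u) {y : G} (hy : y ∈ H.W.N0)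
    (hyy : y * y ∈ U) (h1 : ∃ a ∈ V1, y * a ≠ a * y) (h2 : ∃ b ∈ V2, y * b ≠ b * y) :
    u⁻¹ * y ∈ U := by
  have W := H.W
  have hsq : ∀ v ∈ U, (y * y) * v = v * (y * y) := fun v hv => W.ucomm hyy hv
  have husq : ∀ v : G, (u * u) * v = v * (u * u) := fun v => by rw [h.sq, one_mul, mul_one]
  apply W.mem_U (S.mul_mem (S.inv_mem (W.N0S h.mN)) (W.N0S hy))
  · exact W.gal.uniq u (W.N0S h.mN) y (W.N0S hy) (W.n1 h.mN) (W.n1 hy) (fun a _ => husq a)
      (fun a ha => hsq a (W.V1U ha)) (H.fu_ne1 h) h1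
  · exact W.symm.gal.uniq u (W.N0S h.mN) y (W.N0S hy) (W.n2 h.mN) (W.n2 hy) (fun a _ => husq a)
      (fun a ha => hsq a (W.V2U ha)) (H.fu_ne2 h) h2

/-- **fusion**: a conjugate of `(t, u)` in `S × N₀` has `u` of the same type. -/
theorem fused (H : Fin5 t V T C₀ U V1 V2 S) (h : Fu H.W T V L u) {x : G}
    (hy : x⁻¹ * u * x ∈ H.W.N0) (ht : x⁻¹ * t * x ∈ S) : u⁻¹ * (x⁻¹ * u * x) ∈ U := by
  have W := H.W
  set y := x⁻¹ * u * x with hydef
  set t1 := x⁻¹ * t * x with ht1def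
  have e0 : x⁻¹ * t * x⁻¹⁻¹ = t1 := by rw [inv_inv]
  have hc : y * t1 = t1 * y := by
    have e1 : y * t1 = x⁻¹ * (u * t) * x := by rw [hydef, ht1def]; group
    have e2 : t1 * y = x⁻¹ * (t * u) * x := by rw [hydef, ht1def]; group
    rw [e1, e2, H.fcomm h]
  have ht1N : t1 ∉ W.N0 := fun hN => W.no x⁻¹ (by rw [e0]; exact ht) (by rw [e0]; exact W.n1 hN)
  have hyU : y ∉ U := by
    intro hyU
    have h1 := H.key (g := x⁻¹) (w := y) (by rw [e0]; exact ht) hyU (by rw [e0]; exact hc)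
    have e3 : x⁻¹⁻¹ * y * x⁻¹ = u := by rw [hydef]; group
    rw [e3] at h1
    exact H.fu_notC h h1
  have hyy : y * y ∈ U := by
    have e4 : y * y = x⁻¹ * (u * u) * x := by rw [hydef]; group
    rw [e4, h.sq, mul_one, inv_mul_cancel]
    exact U.one_mem
  refine H.type h hy hyy ?_ ?_
  · by_contra hcon
    push Not at hcon
    exact hyU (H.mem_of_sw hy ht ht1N hc hcon)
  · by_contra hcon
    push Not at hcon
    exact hyU (H.mem_of_sw' hy ht ht1N hc hcon)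

end

/-! ### Sylow theory -/

omit [Finite G] in
theorem isPGroup_of_sq {X : Subgroup G} (h : ∀ x ∈ X, x * x = 1) : IsPGroup 2 X := by
  rintro ⟨x, hx⟩
  exact ⟨1, Subtype.ext (by simpa [pow_two] using h x hx)⟩

/-- intersection of a Sylow 2-subgroup with a normal subgroup -/
theorem _root_.Cfsg.Agent.StdL2.FieldStart.IsSyl.inf_normal {K R L : Subgroup G} (hR : IsSyl K R)
    (Ln : L.Normal) : IsSyl (K ⊓ L) (R ⊓ L) := by
  refine ⟨hR.1.to_le inf_le_left, inf_le_inf_right L hR.2.1, ?_⟩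
  intro Q hQ h1 h2
  obtain ⟨c, hc, hcR⟩ := hR.conj hQ (h2.trans inf_le_left)
  have h3 : Nat.card Q ≤ Nat.card (R ⊓ L : Subgroup G) := by
    refine Nat.card_le_card_of_injective
      (fun y : Q => (⟨c * y * c⁻¹, hcR y y.2, Ln.conj_mem _ (h2 y.2).2 c⟩ :
        (R ⊓ L : Subgroup G))) ?_
    intro a b hab
    have : c * (a : G) * c⁻¹ = c * (b : G) * c⁻¹ :=
      congrArg (fun z : (R ⊓ L : Subgroup G) => (z : G)) hab
    exact Subtype.ext (mul_left_cancel (mul_right_cancel this))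
  exact (Subgroup.eq_of_le_of_card_ge h1 h3).ge

/-- a Sylow 2-subgroup of `G` -/
def toSylow {S : Subgroup G} (h : IsSyl ⊤ S) : Sylow 2 G where
  toSubgroup := S
  isPGroup' := h.1
  is_maximal' := fun {Q} hQ hSQ => le_antisymm (h.2.2 Q hQ hSQ le_top) hSQ

theorem toSylow_coe {S : Subgroup G} (h : IsSyl ⊤ S) : ((toSylow h : Sylow 2 G) : Subgroup G) = S :=
  rfl

theorem odd_index {S : Subgroup G} (h : IsSyl ⊤ S) : Odd S.index := by
  have : Fact (Nat.Prime 2) := ⟨Nat.prime_two⟩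
  have h1 := (toSylow h).not_dvd_index
  rw [toSylow_coe] at h1
  rwa [← Nat.not_even_iff_odd, even_iff_two_dvd]

/-- **ALPHA**: `t ∉ L`. -/
theorem alpha {A : Subgroup G} (H : Fin5 t V T C₀ U V1 V2 S) (C : Setup.Conf L A t) : t ∉ L := by
  have W := H.W
  refine Ends.not_mem (U := W.N0) C (toSylow H.Syl) W.N0S ?_ ?_
  · change W.N0.relIndex S = 2
    rw [relIndex_eq_two_iff]
    refine ⟨t, W.tS, fun b hb => ?_⟩
    by_cases h : b ∈ W.N0
    · right
      refine ⟨h, fun h1 => W.t_not ?_⟩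
      have := W.N0.mul_mem (W.N0.inv_mem h) h1
      rwa [inv_mul_cancel_left] at this
    · left
      exact ⟨W.mul_mem_of_sw hb W.tS h W.t_not, h⟩
  · intro g hg
    exact W.no g (W.N0S hg) (W.n1 hg)

/-- commutators in `N₀` lie in `U` -/
theorem _root_.Cfsg.Agent.StdL2.FWr.Wr.comm_mem (W : Wr t U V1 V2 S) {x y : G} (hx : x ∈ W.N0)
    (hy : y ∈ W.N0) : x * y * x⁻¹ * y⁻¹ ∈ U := by
  have hxS := W.N0S hx
  have hyS := W.N0S hy
  exact W.mem_U (S.mul_mem (S.mul_mem (S.mul_mem hxS hyS) (S.inv_mem hxS)) (S.inv_mem hyS))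
    (W.gal.abel x hxS y hyS (W.n1 hx) (W.n1 hy)) (W.symm.gal.abel x hxS y hyS (W.n2 hx) (W.n2 hy))

theorem _root_.Cfsg.Agent.StdL2.FWr.Wr.N0_symm (W : Wr t U V1 V2 S) : W.symm.N0 = W.N0 := by
  ext x
  rw [W.mem_N0, W.symm.mem_N0]
  tauto

/-- the symmetric input -/
theorem symm (H : Fin5 t V T C₀ U V1 V2 S) : Fin5 t V T C₀ U V2 V1 S where
  F := H.F
  W := H.W.symm
  TS := H.TS
  Syl := H.Syl
  VU := H.VU
  card := H.card
  fix := H.fix
  bad := H.bad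

theorem fu_symm (H : Fin5 t V T C₀ U V1 V2 S) {u : G} (h : Fu H.W T V L u) :
    Fu H.symm.W T V L u where
  mT := h.mT
  mL := h.mL
  mN := by rw [H.W.N0_symm]; exact h.mN
  sq := h.sq
  nV := h.nV
  ntV := h.ntV

/-- lower bound for `C_U(y)` when `y` centralises `V₂` -/
theorem _root_.Cfsg.Agent.StdL2.FWr.Wr.le_cent (W : Wr t U V1 V2 S) {y : G}
    (h2 : ∀ b ∈ V2, y * b = b * y) :
    Nat.card V1 * Nat.card (V1 ⊓ centralizer {y} : Subgroup G) ≤
      Nat.card (U ⊓ centralizer {y} : Subgroup G) := by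
  rw [← W.card_V2, mul_comm, ← Nat.card_prod]
  refine Nat.card_le_card_of_injective (fun p : (V1 ⊓ centralizer {y} : Subgroup G) × V2 =>
    (⟨p.1 * p.2, U.mul_mem (W.V1U p.1.2.1) (W.V2U p.2.2), mem_centralizer_singleton_iff.2 ?_⟩ :
      (U ⊓ centralizer {y} : Subgroup G))) ?_
  · have h3 := mem_centralizer_singleton_iff.1 p.1.2.2
    rw [mul_assoc, ← h2 _ p.2.2, ← mul_assoc, h3, mul_assoc]
  · intro p p' h
    have h3 : (p.1 : G) * p.2 = p'.1 * p'.2 := congrArg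
      (fun z : (U ⊓ centralizer {y} : Subgroup G) => (z : G)) h
    obtain ⟨h4, h5⟩ := W.dec p.1.2.1 p'.1.2.1 p.2.2 p'.2.2 h3
    exact Prod.ext (Subtype.ext h4) (Subtype.ext h5)

/-- `q ≤ c²` for an involution -/
theorem _root_.Cfsg.Agent.StdL2.FWr.Wr.q_le (W : Wr t U V1 V2 S) {y : G} (hy : y ∈ W.N0)
    (hyy : y * y = 1) :
    Nat.card V1 ≤ Nat.card (V1 ⊓ centralizer {y} : Subgroup G) ^ 2 :=
  EOneFusion.card_le_cent_sq hyy (fun v hv => W.usq v (W.V1U hv)) (W.n1 hy)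

/-- the order argument of TE -/
theorem te_end (H : Fin5 t V T C₀ U V1 V2 S) {u : G} (h : Fu H.W T V L u) {y z : G}
    (hy : y ∈ H.W.N0) (hyy : y * y = 1) (hyU : y ∉ U) (h2 : ∀ b ∈ V2, y * b = b * y)
    (hz : ∀ w ∈ U, w * y = y * w → z * w * z⁻¹ ∈ H.W.N0) (hzy : z * y * z⁻¹ ∈ H.W.N0)
    (hu : u⁻¹ * (z * y * z⁻¹) ∈ U) : False := by
  have W := H.W
  have hq := W.card16
  set y0 := z * y * z⁻¹ with hy0
  set X : Subgroup G := U ⊓ centralizer {y} with hX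
  have hyX : ∀ x ∈ X, y * x * y⁻¹ ∈ X := by
    intro x hx
    rw [← mem_centralizer_singleton_iff.1 hx.2, mul_inv_cancel_right]; exact hx
  have hXc : ∀ x ∈ X, y * x = x * y := fun x hx => (mem_centralizer_singleton_iff.1 hx.2).symm
  have hF2 : Nat.card (rr y X) = 2 * Nat.card X := card_rr_two hyy hyX (fun hh => hyU hh.1)
  have hF3 : ∀ x ∈ rr y X, x * x = 1 ∧ x * y = y * x ∧ z * x * z⁻¹ ∈ W.N0 := by
    have key : ∀ x ∈ X, x * x = 1 ∧ x * y = y * x ∧ z * x * z⁻¹ ∈ W.N0 := by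
      intro x hx
      exact ⟨W.usq x hx.1, (hXc x hx).symm, hz x hx.1 (hXc x hx).symm⟩
    intro x hx
    rcases (mem_rr hyy hyX).1 hx with hx | hx
    · exact key x hx
    · obtain ⟨k1, k2, k3⟩ := key _ hx
      have e : x = y * (y * x) := by rw [← mul_assoc, hyy, one_mul]
      have k4 : x * y = y * x := by
        apply mul_left_cancel (a := y)
        rw [← mul_assoc, k2]
      refine ⟨?_, k4, ?_⟩
      · calc x * x = (y * y) * (x * x) := by rw [hyy, one_mul]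
          _ = y * (y * x) * x := by group
          _ = y * (x * y) * x := by rw [k4]
          _ = (y * x) * (y * x) := by group
          _ = 1 := k1
      · have e2 : z * x * z⁻¹ = y0 * (z * (y * x) * z⁻¹) := by
          conv_lhs => rw [e]
          rw [hy0]; group
        rw [e2]
        exact W.N0.mul_mem hzy k3
  let F' : Subgroup G := (rr y X).map (MulAut.conj z).toMonoidHom
  have hF' : F' ≤ W.N0 := by
    rintro _ ⟨x, hx, rfl⟩
    exact (hF3 x hx).2.2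
  have hF'c : Nat.card F' = Nat.card (rr y X) :=
    (Nat.card_congr (Subgroup.equivMapOfInjective _ _ (MulAut.conj z).injective).toEquiv).symm
  have hF'sq : ∀ x ∈ F', x * x ∈ U := by
    rintro _ ⟨x, hx, rfl⟩
    have e : (MulAut.conj z).toMonoidHom x * (MulAut.conj z).toMonoidHom x = 1 := by
      rw [← map_mul, (hF3 x hx).1, map_one]
    rw [e]; exact U.one_mem
  have hF'y : ∀ x ∈ F', x * y0 = y0 * x := by
    rintro _ ⟨x, hx, rfl⟩
    change z * x * z⁻¹ * y0 = y0 * (z * x * z⁻¹)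
    have e1 : z * x * z⁻¹ * y0 = z * (x * y) * z⁻¹ := by rw [hy0]; group
    have e2 : y0 * (z * x * z⁻¹) = z * (y * x) * z⁻¹ := by rw [hy0]; group
    rw [e1, e2, (hF3 x hx).2.1]
  have h4 := W.quarter hF' hF'sq
  -- `y0` acts nontrivially on both factors
  have hyu : ∀ v ∈ U, y0 * v = v * y0 → u * v = v * u := by
    intro v hv hyv
    have h5 := W.ucomm hu hv
    have e : u = y0 * (u⁻¹ * y0)⁻¹ := by group
    have h6 : (u⁻¹ * y0)⁻¹ * v = v * (u⁻¹ * y0)⁻¹ := by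
      rw [inv_mul_eq_iff_eq_mul, ← mul_assoc, h5, mul_inv_cancel_right]
    rw [e, mul_assoc, h6, ← mul_assoc, hyv, mul_assoc]
  have hne1 : ∃ a ∈ V1, y0 * a ≠ a * y0 := by
    obtain ⟨a, ha, hne⟩ := H.fu_ne1 h
    exact ⟨a, ha, fun e => hne (hyu a (W.V1U ha) e)⟩
  have hne2 : ∃ b ∈ V2, y0 * b ≠ b * y0 := by
    obtain ⟨b, hb, hne⟩ := H.fu_ne2 h
    exact ⟨b, hb, fun e => hne (hyu b (W.V2U hb) e)⟩
  have h5 := W.prod_le hzy hzy (X := F' ⊓ U) inf_le_right (fun x hx => hF'y x hx.1)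
    (fun x hx => hF'y x hx.1)
  have h6 := W.fix1 hzy hne1
  have h7 := W.fix2 hzy hne2
  have h8 := W.le_cent h2
  have h9 := W.q_le hy hyy
  rw [← hX] at h8
  rw [hF'c, hF2] at h4
  set c1 := Nat.card (V1 ⊓ centralizer {y0} : Subgroup G)
  set c2 := Nat.card (V2 ⊓ centralizer {y0} : Subgroup G)
  set c := Nat.card (V1 ⊓ centralizer {y} : Subgroup G)
  set q := Nat.card V1
  have h10 : c1 * c2 ≤ q := by
    have : (c1 * c2) ^ 2 ≤ q ^ 2 := by
      calc (c1 * c2) ^ 2 = c1 ^ 2 * c2 ^ 2 := by ring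
        _ ≤ q * q := Nat.mul_le_mul h6 h7
        _ = q ^ 2 := by ring
    exact (Nat.pow_le_pow_iff_left (by norm_num)).1 this
  have h11 : 2 * (q * c) ≤ 4 * q := by
    calc 2 * (q * c) ≤ 2 * Nat.card X := Nat.mul_le_mul_left 2 h8
      _ ≤ 4 * Nat.card (F' ⊓ U : Subgroup G) := h4
      _ ≤ 4 * (c1 * c2) := Nat.mul_le_mul_left 4 h5
      _ ≤ 4 * q := Nat.mul_le_mul_left 4 h10
  have h12 : c ≤ 2 := by
    have h13 : q * (2 * c) ≤ q * 4 := by linarith
    have := Nat.le_of_mul_le_mul_left h13 (by omega)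
    omega
  have h14 : c ^ 2 ≤ 2 ^ 2 := Nat.pow_le_pow_left h12 2
  omega

/-- **BETA, S ∩ L ≤ N₀**: equivariant transfer. -/
theorem beta_one (H : Fin5 t V T C₀ U V1 V2 S) {u : G} (h : Fu H.W T V L u) (Ln : L.Normal)
    (UL : U ≤ L) (hcase : ∀ s ∈ S, s ∈ L → s ∈ H.W.N0)
    (perf : (⟨u, h.mL⟩ : L) ∈ commutator L) : False := by
  have W := H.W
  have hcom := H.fcomm h
  obtain ⟨R0, hR0, hTR0⟩ := exists_isSyl (centralizer {u}) (T ⊓ centralizer {u})
    (H.F.T2.to_le inf_le_left) inf_le_right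
  have hR0c : ∀ r ∈ R0, r * u = u * r := fun r hr => mem_centralizer_singleton_iff.1 (hR0.2.1 hr)
  have htR0 : t ∈ R0 := hTR0 ⟨H.F.tT, mem_centralizer_singleton_iff.2 hcom.symm⟩
  have huR0 : u ∈ R0 := hTR0 ⟨h.mT, mem_centralizer_singleton_iff.2 rfl⟩
  have hR := hR0.inf_normal Ln
  set R : Subgroup G := R0 ⊓ L with hRdef
  have hRt : ∀ r ∈ R, t * r * t⁻¹ ∈ R := fun r hr =>
    ⟨R0.mul_mem (R0.mul_mem htR0 hr.1) (R0.inv_mem htR0), Ln.conj_mem _ hr.2 t⟩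
  have hodd := Cfsg.Agent.StdU3.TransferTE.odd_index_subgroupOf L S (odd_index H.Syl)
  obtain ⟨x1, hx1L, hx1, hbad⟩ := Cfsg.Agent.StdU3.TransferTE.exists_bad L S U hodd t W.tS W.t2 u
    (H.TS h.mT) h.mL h.sq hcom.symm R inf_le_right hR.1 hRt ⟨huR0, h.mL⟩
    (fun r hr => hR0c r hr.1)
    (fun x hx y hy => W.comm_mem (hcase x hx.1 hx.2) (hcase y hy.1 hy.2))
    (fun x hx hxu hxt => H.fused h (hcase _ hxu
      (L.mul_mem (L.mul_mem (L.inv_mem hx) h.mL) hx)) hxt)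
    (H.fu_notU h) perf
  obtain ⟨x0, hx0L, hx0, hx0t⟩ := Cfsg.Agent.StdU3.TransferTE.exists_fixed_conj L S hodd t W.tS W.t2
    R inf_le_right hR.1 hRt
  set y := x1⁻¹ * u * x1 with hy
  have hyS : y ∈ S := hx1 u ⟨huR0, h.mL⟩
  have hyL : y ∈ L := L.mul_mem (L.mul_mem (L.inv_mem hx1L) h.mL) hx1L
  have hyN := hcase y hyS hyL
  have hyy : y * y = 1 := by
    have e : y * y = x1⁻¹ * (u * u) * x1 := by rw [hy]; group
    rw [e, h.sq]; group
  have hyU : y ∉ U := fun hU => hbad (U.mul_mem hU (W.SU t W.tS y hU))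
  -- `R` conjugated contains the centralizer of `y` in `U`
  have hRU : ∀ w ∈ U, w * y = y * w → x1 * w * x1⁻¹ ∈ R := by
    let X : Subgroup G := (U ⊓ centralizer {y} : Subgroup G).map (MulAut.conj x1).toMonoidHom
    have hX2 : IsPGroup 2 X := by
      apply isPGroup_of_sq
      rintro _ ⟨w, hw, rfl⟩
      rw [← map_mul, W.usq w hw.1, map_one]
    have hXn : R ≤ normalizer (X : Set G) := by
      intro r hr
      apply conj_mem_norm
      rintro _ ⟨w, ⟨hw, hwy⟩, rfl⟩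
      have hwy' := mem_centralizer_singleton_iff.1 hwy
      have hrS := hx1 r hr
      have hry : (x1⁻¹ * r * x1) * y = y * (x1⁻¹ * r * x1) := by
        have e1 : (x1⁻¹ * r * x1) * y = x1⁻¹ * (r * u) * x1 := by rw [hy]; group
        have e2 : y * (x1⁻¹ * r * x1) = x1⁻¹ * (u * r) * x1 := by rw [hy]; group
        rw [e1, e2, hR0c r hr.1]
      refine ⟨(x1⁻¹ * r * x1) * w * (x1⁻¹ * r * x1)⁻¹,
        ⟨W.SU _ hrS w hw, mem_centralizer_singleton_iff.2 ?_⟩, ?_⟩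
      · have h3 : (x1⁻¹ * r * x1)⁻¹ * y = y * (x1⁻¹ * r * x1)⁻¹ := by
          rw [inv_mul_eq_iff_eq_mul, ← mul_assoc, hry, mul_inv_cancel_right]
        calc (x1⁻¹ * r * x1) * w * (x1⁻¹ * r * x1)⁻¹ * y
            = (x1⁻¹ * r * x1) * w * ((x1⁻¹ * r * x1)⁻¹ * y) := by group
          _ = (x1⁻¹ * r * x1) * w * (y * (x1⁻¹ * r * x1)⁻¹) := by rw [h3]
          _ = (x1⁻¹ * r * x1) * (w * y) * (x1⁻¹ * r * x1)⁻¹ := by group
          _ = (x1⁻¹ * r * x1) * (y * w) * (x1⁻¹ * r * x1)⁻¹ := by rw [hwy']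
          _ = ((x1⁻¹ * r * x1) * y) * w * (x1⁻¹ * r * x1)⁻¹ := by group
          _ = y * ((x1⁻¹ * r * x1) * w * (x1⁻¹ * r * x1)⁻¹) := by rw [hry]; group
      · change x1 * ((x1⁻¹ * r * x1) * w * (x1⁻¹ * r * x1)⁻¹) * x1⁻¹ = r * (x1 * w * x1⁻¹) * r⁻¹
        group
    have hsup := FieldStart.isPGroup_sup hX2 hR.1 hXn
    have hle : X ⊔ R ≤ centralizer {u} ⊓ L := by
      refine sup_le ?_ hR.2.1
      rintro _ ⟨w, ⟨hw, hwy⟩, rfl⟩
      have hwy' := mem_centralizer_singleton_iff.1 hwy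
      refine ⟨mem_centralizer_singleton_iff.2 ?_, Ln.conj_mem _ (UL hw) x1⟩
      change x1 * w * x1⁻¹ * u = u * (x1 * w * x1⁻¹)
      have e1 : x1 * w * x1⁻¹ * u = x1 * (w * y) * x1⁻¹ := by rw [hy]; group
      have e2 : u * (x1 * w * x1⁻¹) = x1 * (y * w) * x1⁻¹ := by rw [hy]; group
      rw [e1, e2, hwy']
    have hmax := hR.2.2 _ hsup le_sup_right hle
    intro w hw hwy
    exact hmax (le_sup_left (a := X) ⟨w, ⟨hw, mem_centralizer_singleton_iff.2 hwy⟩, rfl⟩)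
  set z := x0⁻¹ * x1 with hz
  have hzR : ∀ w, x1 * w * x1⁻¹ ∈ R → z * w * z⁻¹ ∈ W.N0 := by
    intro w hw
    have e : z * w * z⁻¹ = x0⁻¹ * (x1 * w * x1⁻¹) * x0 := by rw [hz]; group
    rw [e]
    exact hcase _ (hx0 _ hw) (L.mul_mem (L.mul_mem (L.inv_mem hx0L) hw.2) hx0L)
  have hxy : x1 * y * x1⁻¹ = u := by rw [hy]; group
  have hzy : z * y * z⁻¹ ∈ W.N0 := hzR y (by rw [hxy]; exact ⟨huR0, h.mL⟩)
  have hzU : ∀ w ∈ U, w * y = y * w → z * w * z⁻¹ ∈ W.N0 := fun w hw hwy => hzR w (hRU w hw hwy)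
  have hzu : z * y * z⁻¹ = x0⁻¹ * u * x0 := by rw [hz, ← hxy]; group
  have hu : u⁻¹ * (z * y * z⁻¹) ∈ U := by
    rw [hzu]
    rw [hzu] at hzy
    exact H.fused h hzy hx0t
  by_cases hc1 : ∀ a ∈ V1, y * a = a * y
  · -- `y` centralises `V₁`
    exact H.symm.te_end (H.fu_symm h) (y := y) (z := z) (by rw [W.N0_symm]; exact hyN) hyy hyU hc1
      (by rw [W.N0_symm]; exact hzU) (by rw [W.N0_symm]; exact hzy) hu
  by_cases hc2 : ∀ b ∈ V2, y * b = b * y
  · exact H.te_end h hyN hyy hyU hc2 hzU hzy hu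
  -- type `(f, f)`: not bad
  push Not at hc1 hc2
  apply hbad
  have h3 := H.type h hyN (by rw [hyy]; exact U.one_mem) hc1 hc2
  have h4 := W.SU t W.tS _ h3
  have h5 : t * (u⁻¹ * y) * t⁻¹ = u⁻¹ * (t * y * t⁻¹) := by
    have h6 : t * u⁻¹ = u⁻¹ * t := by
      rw [eq_inv_mul_iff_mul_eq, ← mul_assoc, hcom, mul_inv_cancel_right]
    calc t * (u⁻¹ * y) * t⁻¹ = (t * u⁻¹) * y * t⁻¹ := by group
      _ = u⁻¹ * (t * y * t⁻¹) := by rw [h6]; group
  rw [h5] at h4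
  have h6 := W.SU u (H.TS h.mT) _ h3
  have e : y * (t * y * t⁻¹) = (u * (u⁻¹ * y) * u⁻¹) * (u * u) * (u⁻¹ * (t * y * t⁻¹)) := by group
  rw [e, h.sq, mul_one]
  exact U.mul_mem h6 h4

end Fin5

end Cfsg.Agent.StdL2.FEnd
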