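import Mathlib
import Cfsg.Agent.StdL2.FFour

/-!
# S1773, case (f), item (4): a Sylow 2-subgroup of `X` normalising `B₀`
-/

set_option autoImplicit false
set_option linter.unusedSectionVars false

open Subgroup

namespace Cfsg.Agent.StdL2.FFourSyl

open Cfsg.Agent.StdL2.F Cfsg.Agent.StdL2.F.XC Cfsg.Agent.StdL2.FRel Cfsg.Agent.StdL2.FieldStart
open Cfsg.Agent.StdL2.FieldStart.Fld (conj_mem_norm norm_conj norm_conj')
open Cfsg.Agent.StdL2.FFour

variable {X W F : Type*} [Group X] [Finite X] [AddCommGroup W] [DistribMulAction X W] [Field F]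
  [Finite F] {κ : F →+* AddMonoid.End W} {d : Fˣ →* X} {σ : F ≃+* F} {t f : X} {w₁ : W}
  {y : X} {e : AddMonoid.End W} {C : XC κ d σ t f w₁} {Y : YC κ t f y e}

theorem t_norm : t ∈ normalizer (B0 Y C : Set X) := by
  refine conj_mem_norm ?_
  rintro _ ⟨a, ha, b, hb, rfl⟩
  have h1 : t * d a * t⁻¹ = d a := by rw [C.td, mul_inv_cancel_right]
  have h0 := Y.yt' C
  have h2 : t * y = y * (t * f) := by rw [← h0]; group
  have h3 : t * (y * d b * y⁻¹) * t⁻¹ = y * (d b)⁻¹ * y⁻¹ := by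
    have h4 : t * y * d b * (t * y)⁻¹ = y * (t * (f * d b * f⁻¹) * t⁻¹) * y⁻¹ := by
      rw [h2]; group
    have h5 : t * (d b)⁻¹ * t⁻¹ = (d b)⁻¹ := by
      rw [← map_inv, C.td, mul_inv_cancel_right]
    calc t * (y * d b * y⁻¹) * t⁻¹ = t * y * d b * (t * y)⁻¹ := by group
      _ = y * (t * (d b)⁻¹ * t⁻¹) * y⁻¹ := by rw [h4, f_inv_d C hb]
      _ = _ := by rw [h5]
  refine ⟨a, ha, b⁻¹, inv_mem hb, ?_⟩
  calc t * (d a * (y * d b * y⁻¹)) * t⁻¹ = (t * d a * t⁻¹) * (t * (y * d b * y⁻¹) * t⁻¹) := by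
        group
    _ = _ := by rw [h1, h3, map_inv]

theorem y_norm : y ∈ normalizer (B0 Y C : Set X) := by
  refine norm_of Y.yf' ?_
  rw [Y.yt]
  exact mul_mem t_norm f_norm

/-- powers of an element -/
theorem exists_two_part (g : X) : ∃ m : ℕ, Odd m ∧ IsPGroup 2 (zpowers (g ^ m)) := by
  haveI : Fact (Nat.Prime 2) := ⟨Nat.prime_two⟩
  obtain ⟨k, m, hm, h⟩ := Nat.exists_eq_two_pow_mul_odd (orderOf_pos g).ne'
  refine ⟨m, hm, ?_⟩
  rw [IsPGroup.iff_card, Nat.card_zpowers]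
  refine ⟨k, ?_⟩
  rw [orderOf_pow, h]
  have : Nat.gcd (2 ^ k * m) m = m := Nat.gcd_eq_right (Dvd.intro_left _ rfl)
  rw [this, Nat.mul_div_cancel _ hm.pos]

theorem isPGroup_zpowers_inv {g : X} (h : g * g = 1) : IsPGroup 2 (zpowers g) := by
  haveI : Fact (Nat.Prime 2) := ⟨Nat.prime_two⟩
  intro x
  obtain ⟨x, n, rfl⟩ := x
  refine ⟨1, Subtype.ext ?_⟩
  simp only [SubmonoidClass.mk_pow, pow_one, OneMemClass.coe_one]
  change (g ^ n) ^ 2 = 1
  rw [← zpow_natCast, ← zpow_mul, mul_comm, zpow_mul, zpow_natCast, pow_two, h, one_zpow]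

/-- the Sylow 2-subgroup -/
theorem exists_syl (C : XC κ d σ t f w₁) (Y : YC κ t f y e) :
    ∃ (P : Subgroup X) (y' : X), IsSyl ⊤ P ∧ (∀ s ∈ P, s ∈ normalizer (B0 Y C : Set X)) ∧
      (∀ s ∈ P, s * f = f * s) ∧ t ∈ P ∧ f ∈ P ∧ y' ∈ P ∧ y' * t * y'⁻¹ = t * f := by
  haveI : Fact (Nat.Prime 2) := ⟨Nat.prime_two⟩
  -- the 2-part of y
  obtain ⟨m, hm, hm2⟩ := exists_two_part y
  have hy2t : y * y * t * (y * y)⁻¹ = t := by
    calc y * y * t * (y * y)⁻¹ = y * (y * t * y⁻¹) * y⁻¹ := by group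
      _ = y * (t * f) * y⁻¹ := by rw [Y.yt]
      _ = (y * t * y⁻¹) * (y * f * y⁻¹) := by group
      _ = t * f * f := by rw [Y.yt, Y.yf]
      _ = t := by rw [mul_assoc, C.ff, mul_one]
  have hypow : ∀ k : ℕ, (y * y) ^ k * t * ((y * y) ^ k)⁻¹ = t := by
    intro k
    induction k with
    | zero => simp
    | succ k ih =>
      calc (y * y) ^ (k + 1) * t * ((y * y) ^ (k + 1))⁻¹ =
          (y * y) ^ k * ((y * y) * t * (y * y)⁻¹) * ((y * y) ^ k)⁻¹ := by
            rw [pow_succ]; group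
        _ = t := by rw [hy2t, ih]
  set y' := y ^ m with hy'
  have hy't : y' * t * y'⁻¹ = t * f := by
    obtain ⟨k, hk⟩ := hm
    have h1 : y' = y * (y * y) ^ k := by
      rw [hy', hk, pow_succ', pow_mul, pow_two]
    calc y' * t * y'⁻¹ = y * ((y * y) ^ k * t * ((y * y) ^ k)⁻¹) * y⁻¹ := by rw [h1]; group
      _ = t * f := by rw [hypow, Y.yt]
  have hy'f : y' * f = f * y' := (Commute.pow_left (show Commute y f from Y.yf') m).eq
  have hy'N : y' ∈ normalizer (B0 Y C : Set X) := Subgroup.pow_mem _ y_norm _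
  -- the four-group
  have hfE : IsPGroup 2 (zpowers t ⊔ zpowers f : Subgroup X) := by
    refine isPGroup_sup (isPGroup_zpowers_inv C.tt) (isPGroup_zpowers_inv C.ff) ?_
    rw [zpowers_le]
    refine conj_mem_norm ?_
    rintro _ ⟨n, rfl⟩
    have : f * t * f⁻¹ = t := by rw [← C.tf, mul_inv_cancel_right]
    refine ⟨n, ?_⟩
    change t ^ n = f * t ^ n * f⁻¹
    rw [← conj_zpow, this]
  set E : Subgroup X := zpowers t ⊔ zpowers f with hE
  have htE : t ∈ E := le_sup_left (a := zpowers t) (mem_zpowers t)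
  have hfE' : f ∈ E := le_sup_right (a := zpowers t) (mem_zpowers f)
  have hQ : IsPGroup 2 (E ⊔ zpowers y' : Subgroup X) := by
    refine isPGroup_sup hfE hm2 ?_
    rw [zpowers_le]
    have hle : E ≤ E.comap (MulAut.conj y').toMonoidHom := by
      rw [hE, sup_le_iff, zpowers_le, zpowers_le]
      constructor
      · change y' * t * y'⁻¹ ∈ E
        rw [hy't]; exact mul_mem htE hfE'
      · change y' * f * y'⁻¹ ∈ E
        rw [hy'f, mul_inv_cancel_right]; exact hfE'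
    exact conj_mem_norm fun w hw => hle hw
  set Q : Subgroup X := E ⊔ zpowers y' with hQdef
  set K : Subgroup X := centralizer {f} ⊓ normalizer (B0 Y C : Set X) with hK
  have hQK : Q ≤ K := by
    rw [hQdef, hE, sup_le_iff, sup_le_iff, zpowers_le, zpowers_le, zpowers_le, hK]
    refine ⟨⟨⟨?_, t_norm⟩, ⟨?_, f_norm⟩⟩, ⟨?_, hy'N⟩⟩
    · exact mem_centralizer_singleton_iff.2 C.tf
    · exact mem_centralizer_singleton_iff.2 rfl
    · exact mem_centralizer_singleton_iff.2 hy'f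
  obtain ⟨P, hP, hQP⟩ := exists_isSyl K Q hQ hQK
  have htP : t ∈ P := hQP (le_sup_left (a := E) htE)
  have hfP : f ∈ P := hQP (le_sup_left (a := E) hfE')
  have hyP : y' ∈ P := hQP (le_sup_right (a := E) (mem_zpowers y'))
  have hPf : ∀ s ∈ P, s * f = f * s := fun s hs => mem_centralizer_singleton_iff.1 (hP.2.1 hs).1
  have hPN : ∀ s ∈ P, s ∈ normalizer (B0 Y C : Set X) := fun s hs => (hP.2.1 hs).2
  refine ⟨P, y', ⟨hP.1, le_top, ?_⟩, hPN, hPf, htP, hfP, hyP, hy't⟩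
  intro R hR hPR _
  by_contra hRP
  have hlt : P < R := lt_of_le_of_ne hPR (fun h => hRP h.ge)
  obtain ⟨n, hnR, hnP, hnn⟩ := exists_normalizer_gt hR hlt
  -- `n` centralises `f`
  have hnf : n * f * n⁻¹ = f := by
    have hu : n * f * n⁻¹ ∈ P := norm_conj hnn hfP
    have hcen : ∀ s ∈ P, n * f * n⁻¹ * s = s * (n * f * n⁻¹) := by
      intro s hs
      have h1 := hPf _ (norm_conj' hnn hs)
      calc n * f * n⁻¹ * s = n * (f * (n⁻¹ * s * n)) * n⁻¹ := by group
        _ = n * ((n⁻¹ * s * n) * f) * n⁻¹ := by rw [h1]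
        _ = s * (n * f * n⁻¹) := by group
    have huu : n * f * n⁻¹ * (n * f * n⁻¹) = 1 := by
      calc n * f * n⁻¹ * (n * f * n⁻¹) = n * (f * f) * n⁻¹ := by group
        _ = 1 := by rw [C.ff]; group
    rcases inv_cases C (hcen t htP) (hcen f hfP) huu with h | h | h | h
    · exfalso
      apply C.f_ne_one
      calc f = n⁻¹ * (n * f * n⁻¹) * n := by group
        _ = 1 := by rw [h]; group
    · exfalso
      have h1 := hcen y' hyP
      rw [h] at h1
      have h2 : y' * t * y'⁻¹ = t := by rw [← h1, mul_inv_cancel_right]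
      rw [hy't] at h2
      exact C.f_ne_one (mul_left_cancel (h2.trans (mul_one t).symm))
    · exact h
    · exfalso
      have h1 := hcen y' hyP
      rw [h] at h1
      have h2 : y' * (t * f) * y'⁻¹ = t * f := by rw [← h1, mul_inv_cancel_right]
      have h3 : y' * (t * f) * y'⁻¹ = t := by
        calc y' * (t * f) * y'⁻¹ = (y' * t * y'⁻¹) * (y' * f * y'⁻¹) := by group
          _ = t * f * f := by rw [hy't, hy'f, mul_inv_cancel_right]
          _ = t := by rw [mul_assoc, C.ff, mul_one]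
      rw [h3] at h2
      exact C.f_ne_one (mul_left_cancel ((mul_one t).trans h2)).symm
  have hnf' : n * f = f * n := by rw [mul_inv_eq_iff_eq_mul] at hnf; exact hnf
  have hnN : n ∈ normalizer (B0 Y C : Set X) := norm_of hnf' (hPN _ (norm_conj hnn htP))
  have hnK : n ∈ K := ⟨mem_centralizer_singleton_iff.2 hnf', hnN⟩
  have h1 : P ⊔ zpowers n ≤ R := sup_le hPR ((zpowers_le).2 hnR)
  have h2 := hP.2.2 (P ⊔ zpowers n) (hR.to_le h1) le_sup_left
    (sup_le hP.2.1 ((zpowers_le).2 hnK))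
  exact hnP (h2 (le_sup_right (a := P) (mem_zpowers n)))

end Cfsg.Agent.StdL2.FFourSyl
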