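import Mathlib
import Cfsg.Agent.StdL2.FFourSyl

/-!
# S1773, case (f), item (4): the two lines, and the wreathed structure on `X`
-/

set_option autoImplicit false
set_option linter.unusedSectionVars false

open Subgroup

namespace Cfsg.Agent.StdL2.FFourLines

open Cfsg.Agent.StdL2.F Cfsg.Agent.StdL2.F.XC Cfsg.Agent.StdL2.FRel Cfsg.Agent.StdL2.FieldStart
open Cfsg.Agent.StdL2.FieldStart.Fld (conj_mem_norm norm_conj norm_conj')
open Cfsg.Agent.StdL2.FFour Cfsg.Agent.StdL2.FFourSyl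

variable {X W F : Type*} [Group X] [Finite X] [AddCommGroup W] [DistribMulAction X W] [Field F]
  [Finite F] {κ : F →+* AddMonoid.End W} {d : Fˣ →* X} {σ : F ≃+* F} {t f : X} {w₁ : W}
  {y : X} {e : AddMonoid.End W} {C : XC κ d σ t f w₁} {Y : YC κ t f y e}

/-- the first line -/
def L1 (e : AddMonoid.End W) : AddSubgroup W where
  carrier := {v | e v = v}
  zero_mem' := map_zero e
  add_mem' := by
    intro a b ha hb
    change e (a + b) = a + b
    rw [map_add, show e a = a from ha, show e b = b from hb]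
  neg_mem' := by
    intro a ha
    change e (-a) = -a
    rw [map_neg, show e a = a from ha]

/-- the second line -/
def L2 (e : AddMonoid.End W) : AddSubgroup W where
  carrier := {v | e v = 0}
  zero_mem' := map_zero e
  add_mem' := by
    intro a b ha hb
    change e (a + b) = 0
    rw [map_add, show e a = 0 from ha, show e b = 0 from hb, add_zero]
  neg_mem' := by
    intro a ha
    change e (-a) = 0
    rw [map_neg, show e a = 0 from ha, neg_zero]

theorem mem_L1 {v : W} : v ∈ L1 e ↔ e v = v := Iff.rfl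
theorem mem_L2 {v : W} : v ∈ L2 e ↔ e v = 0 := Iff.rfl

theorem disj {v : W} (h1 : v ∈ L1 e) (h2 : v ∈ L2 e) : v = 0 := by
  rw [← mem_L1.1 h1, mem_L2.1 h2]

theorem gen (Y : YC κ t f y e) (w : W) : ∃ a ∈ L1 e, ∃ b ∈ L2 e, w = a + b := by
  have he : ∀ v, e (e v) = e v := fun v => DFunLike.congr_fun Y.e2 v
  refine ⟨e w, he w, w - e w, ?_, by abel⟩
  rw [mem_L2, map_sub, he, sub_self]

/-- uniqueness of the decomposition -/
theorem uniq {a a' b b' : W} (ha : a ∈ L1 e) (ha' : a' ∈ L1 e) (hb : b ∈ L2 e) (hb' : b' ∈ L2 e)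
    (h : a + b = a' + b') : a = a' ∧ b = b' := by
  have h1 := congrArg e h
  rw [map_add, map_add, mem_L1.1 ha, mem_L1.1 ha', mem_L2.1 hb, mem_L2.1 hb', add_zero,
    add_zero] at h1
  subst h1
  exact ⟨rfl, add_left_cancel h⟩

theorem te' (Y : YC κ t f y e) (v : W) : t • e v = e (t • v) + t • v :=
  DFunLike.congr_fun Y.te v

theorem t1 (Y : YC κ t f y e) {v : W} (h : v ∈ L1 e) : t • v ∈ L2 e := by
  have h1 := te' Y v
  rw [mem_L1.1 h] at h1
  rw [mem_L2]
  exact (add_eq_right.1 h1.symm)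

theorem t2 (C : XC κ d σ t f w₁) (Y : YC κ t f y e) {v : W} (h : v ∈ L2 e) : t • v ∈ L1 e := by
  have h1 := te' Y v
  rw [mem_L2.1 h, smul_zero] at h1
  rw [mem_L1]
  exact (C.add_eq_zero_iff_W.1 h1.symm)

theorem k1 (Y : YC κ t f y e) (a : F) {v : W} (h : v ∈ L1 e) : κ a v ∈ L1 e := by
  have h1 : e (κ a v) = κ a (e v) := DFunLike.congr_fun (Y.ek a) v
  rw [mem_L1, h1, mem_L1.1 h]

theorem k2 (Y : YC κ t f y e) (a : F) {v : W} (h : v ∈ L2 e) : κ a v ∈ L2 e := by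
  have h1 : e (κ a v) = κ a (e v) := DFunLike.congr_fun (Y.ek a) v
  rw [mem_L2, h1, mem_L2.1 h, map_zero]

theorem f1 (Y : YC κ t f y e) {v : W} (h : v ∈ L1 e) : f • v ∈ L1 e := by
  have h1 : e (f • v) = f • (e v) := DFunLike.congr_fun Y.ef v
  rw [mem_L1, h1, mem_L1.1 h]

theorem f2 (Y : YC κ t f y e) {v : W} (h : v ∈ L2 e) : f • v ∈ L2 e := by
  have h1 : e (f • v) = f • (e v) := DFunLike.congr_fun Y.ef v
  rw [mem_L2, h1, mem_L2.1 h, smul_zero]

theorem rho_yd (C : XC κ d σ t f w₁) (b : Fˣ) :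
    rho X W (y * d b * y⁻¹) = rho X W y * κ b * rho X W y⁻¹ := by
  rw [map_mul, map_mul, C.rho_d]

theorem B1 {z : X} (hz : z ∈ B0 Y C) {v : W} (h : v ∈ L1 e) : z • v ∈ L1 e := by
  obtain ⟨a, _, b, _, rfl⟩ := hz
  have h1 : e ((y * d b * y⁻¹) • v) = (y * d b * y⁻¹) • (e v) := by
    have := DFunLike.congr_fun (Y.ek' b) v
    rw [← rho_yd C b] at this
    exact this
  rw [mul_smul, C.act]
  apply k1 Y
  rw [mem_L1, h1, mem_L1.1 h]

theorem B2 {z : X} (hz : z ∈ B0 Y C) {v : W} (h : v ∈ L2 e) : z • v ∈ L2 e := by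
  obtain ⟨a, _, b, _, rfl⟩ := hz
  have h1 : e ((y * d b * y⁻¹) • v) = (y * d b * y⁻¹) • (e v) := by
    have := DFunLike.congr_fun (Y.ek' b) v
    rw [← rho_yd C b] at this
    exact this
  rw [mul_smul, C.act]
  apply k2 Y
  rw [mem_L2, h1, mem_L2.1 h, smul_zero]

theorem Bk {z : X} (hz : z ∈ B0 Y C) (a : F) (v : W) : z • κ a v = κ a (z • v) := by
  obtain ⟨a', _, b, _, rfl⟩ := hz
  have h1 : rho X W (d a' * (y * d b * y⁻¹)) * κ a = κ a * rho X W (d a' * (y * d b * y⁻¹)) := by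
    have h2 : κ (a' : F) * κ a = κ a * κ a' := by rw [← map_mul, ← map_mul, mul_comm]
    rw [map_mul, C.rho_d, rho_yd C, mul_assoc (κ (a' : F)), ← Y.kk' a b, ← mul_assoc, h2,
      mul_assoc]
  exact DFunLike.congr_fun h1 v

/-! ### the lines are lines -/

theorem finite_W (C : XC κ d σ t f w₁) : Finite W := by
  refine Finite.of_surjective (fun p : F × F => κ p.1 w₁ + κ p.2 (t • w₁ + w₁)) ?_
  intro w
  obtain ⟨a, b, h⟩ := C.span w
  exact ⟨(a, b), h.symm⟩

theorem card_W (C : XC κ d σ t f w₁) : Nat.card W = Nat.card F ^ 2 := by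
  have h : Function.Bijective (fun p : F × F => κ p.1 w₁ + κ p.2 (t • w₁ + w₁)) := by
    constructor
    · rintro ⟨a, b⟩ ⟨a', b'⟩ hab
      have h1 : κ (a - a') w₁ + κ (b - b') (t • w₁ + w₁) = 0 := by
        rw [map_sub, map_sub]
        change κ a w₁ - κ a' w₁ + (κ b (t • w₁ + w₁) - κ b' (t • w₁ + w₁)) = 0
        have : κ a w₁ + κ b (t • w₁ + w₁) = κ a' w₁ + κ b' (t • w₁ + w₁) := hab
        rw [sub_add_sub_comm, this, sub_self]
      obtain ⟨h2, h3⟩ := C.indep _ _ h1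
      exact Prod.ext (sub_eq_zero.1 h2) (sub_eq_zero.1 h3)
    · intro w
      obtain ⟨a, b, h⟩ := C.span w
      exact ⟨(a, b), h.symm⟩
  rw [← Nat.card_eq_of_bijective _ h, Nat.card_prod, pow_two]

theorem card_L1 (C : XC κ d σ t f w₁) (Y : YC κ t f y e) : Nat.card (L1 e) = Nat.card F := by
  haveI := finite_W C
  have h1 : Nat.card W = Nat.card (L1 e) * Nat.card (L2 e) := by
    have h : Function.Bijective (fun p : L1 e × L2 e => (p.1 : W) + (p.2 : W)) := by
      constructor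
      · rintro ⟨a, b⟩ ⟨a', b'⟩ hab
        obtain ⟨h2, h3⟩ := uniq a.2 a'.2 b.2 b'.2 hab
        exact Prod.ext (Subtype.ext h2) (Subtype.ext h3)
      · intro w
        obtain ⟨a, ha, b, hb, h⟩ := gen Y w
        exact ⟨(⟨a, ha⟩, ⟨b, hb⟩), h.symm⟩
    rw [← Nat.card_eq_of_bijective _ h, Nat.card_prod]
  have h2 : Nat.card (L1 e) = Nat.card (L2 e) := by
    refine Nat.card_eq_of_bijective (fun v : L1 e => (⟨t • (v : W), t1 Y v.2⟩ : L2 e)) ⟨?_, ?_⟩
    · intro a b h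
      have := congrArg Subtype.val h
      exact Subtype.ext (smul_left_cancel t this)
    · intro b
      refine ⟨⟨t • (b : W), t2 C Y b.2⟩, Subtype.ext ?_⟩
      change t • t • (b : W) = b
      rw [smul_smul, C.tt, one_smul]
  rw [← h2, card_W C, ← pow_two] at h1
  exact (Nat.pow_left_injective (n := 2) (by norm_num) h1).symm

theorem card_L1_sq (C : XC κ d σ t f w₁) (Y : YC κ t f y e) :
    Nat.card (L1 e) ^ 2 = Nat.card W := by
  rw [card_L1 C Y, card_W C]

theorem exists_v0 (C : XC κ d σ t f w₁) (Y : YC κ t f y e) : ∃ v ∈ L1 e, v ≠ 0 := by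
  haveI := finite_W C
  by_contra hcon
  push Not at hcon
  have h1 := card_L1 C Y
  have h2 : 1 < Nat.card F := Finite.one_lt_card
  have h3 : L1 e = ⊥ := (AddSubgroup.eq_bot_iff_forall _).2 hcon
  rw [h3] at h1
  rw [AddSubgroup.card_bot] at h1
  omega

theorem line (C : XC κ d σ t f w₁) (Y : YC κ t f y e) {v₀ : W} (h0 : v₀ ∈ L1 e) (hne : v₀ ≠ 0) :
    Function.Bijective (fun a : F => (⟨κ a v₀, k1 Y a h0⟩ : L1 e)) := by
  haveI := finite_W C
  rw [Nat.bijective_iff_injective_and_card]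
  refine ⟨?_, (card_L1 C Y).symm⟩
  intro a b h
  exact kappa_uniq κ hne (congrArg Subtype.val h)

/-- a `κ`-linear element preserving `L₁` acts as a scalar -/
theorem exists_scal (C : XC κ d σ t f w₁) (Y : YC κ t f y e) {z : X}
    (hz : ∀ a, ∀ v ∈ L1 e, z • κ a v = κ a (z • v)) (h1 : ∀ v ∈ L1 e, z • v ∈ L1 e) :
    ∃ α : F, ∀ v ∈ L1 e, z • v = κ α v := by
  obtain ⟨v₀, h0, hne⟩ := exists_v0 C Y
  have hl := (line C Y h0 hne).2
  obtain ⟨α, hα⟩ := hl ⟨z • v₀, h1 _ h0⟩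
  have hα' : κ α v₀ = z • v₀ := congrArg Subtype.val hα
  refine ⟨α, fun v hv => ?_⟩
  obtain ⟨a, ha⟩ := hl ⟨v, hv⟩
  have ha' : κ a v₀ = v := congrArg Subtype.val ha
  rw [← ha', hz a _ h0, ← hα', ← kappa_mul_apply, ← kappa_mul_apply, mul_comm]

theorem B_scal1 {z : X} (hz : z ∈ B0 Y C) : ∃ α : F, ∀ v ∈ L1 e, z • v = κ α v :=
  exists_scal C Y (fun a v _ => Bk hz a v) fun _ hv => B1 hz hv

theorem B_scal2 {z : X} (hz : z ∈ B0 Y C) : ∃ α : F, ∀ v ∈ L2 e, z • v = κ α v := by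
  have h1 : t * z * t⁻¹ ∈ B0 Y C := norm_conj t_norm hz
  obtain ⟨α, hα⟩ := B_scal1 h1
  refine ⟨α, fun v hv => ?_⟩
  have h2 := hα _ (t2 C Y hv)
  have h3 : (t * z * t⁻¹) • t • v = t • z • v := by
    rw [smul_smul, smul_smul, inv_mul_cancel_right]
  rw [h3, ← C.t_smul_kappa] at h2
  exact smul_left_cancel t h2

/-- `t` inverts `y d y⁻¹` -/
theorem t_inv_yd {b : Fˣ} (Y : YC κ t f y e) (C : XC κ d σ t f w₁) (hb : b ∈ N1 σ) :
    t * (y * d b * y⁻¹) * t⁻¹ = (y * d b * y⁻¹)⁻¹ := by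
  have h0 := Y.yt' C
  have h2 : t * y = y * (t * f) := by rw [← h0]; group
  have h4 : t * y * d b * (t * y)⁻¹ = y * (t * (f * d b * f⁻¹) * t⁻¹) * y⁻¹ := by
    rw [h2]; group
  have h5 : t * (d b)⁻¹ * t⁻¹ = (d b)⁻¹ := by
    rw [← map_inv, C.td, mul_inv_cancel_right]
  calc t * (y * d b * y⁻¹) * t⁻¹ = t * y * d b * (t * y)⁻¹ := by group
    _ = y * (t * (d b)⁻¹ * t⁻¹) * y⁻¹ := by rw [h4, f_inv_d C hb]
    _ = y * (d b)⁻¹ * y⁻¹ := by rw [h5]
    _ = _ := by group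

theorem exists_N1 (C : XC κ d σ t f w₁) : ∃ b ∈ N1 σ, b ≠ 1 := by
  obtain ⟨a, ha⟩ := C.sig1
  have ha0 : a ≠ 0 := fun h => ha (by rw [h, map_zero])
  have hs0 : σ a ≠ 0 := (map_ne_zero_iff σ σ.injective).2 ha0
  refine ⟨Units.mk0 (a / σ a) (div_ne_zero ha0 hs0), ?_, ?_⟩
  · rw [mem_N1, Units.val_mk0, map_div₀, C.sig]
    field_simp
  · intro h
    have h1 := congrArg (fun u : Fˣ => (u : F)) h
    simp only [Units.val_mk0, Units.val_one] at h1
    rw [div_eq_one_iff_eq hs0] at h1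
    exact ha h1.symm

/-- an element of `B₀` trivial on `L₁` and a nontrivial scalar on `L₂` -/
theorem exists_z2 (C : XC κ d σ t f w₁) (Y : YC κ t f y e) :
    ∃ z ∈ B0 Y C, (∀ v ∈ L1 e, z • v = v) ∧ ∃ β : F, β ≠ 1 ∧ ∀ v ∈ L2 e, z • v = κ β v := by
  obtain ⟨b, hb, hb1⟩ := exists_N1 C
  obtain ⟨v₀, h0, hne⟩ := exists_v0 C Y
  have hc : y * d b * y⁻¹ ∈ B0 Y C := yd_mem hb
  set c := y * d b * y⁻¹ with hcdef
  have hc1 : c ≠ 1 := by
    intro h
    apply hb1
    apply C.d_inj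
    rw [map_one]
    calc d b = y⁻¹ * c * y := by rw [hcdef]; group
      _ = 1 := by rw [h]; group
  obtain ⟨l, hl⟩ := B_scal1 hc
  have hl0 : l ≠ 0 := by
    intro h
    have h1 := hl v₀ h0
    rw [h, map_zero] at h1
    apply hne
    have h2 : c • v₀ = 0 := h1
    rwa [smul_eq_zero_iff_eq] at h2
  have hinv1 : ∀ v ∈ L1 e, c⁻¹ • v = κ l⁻¹ v := by
    intro v hv
    rw [inv_smul_eq_iff, hl _ (k1 Y _ hv), ← kappa_mul_apply, mul_inv_cancel₀ hl0,
      kappa_one_apply]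
  have hct : t * c = c⁻¹ * t := by
    have := t_inv_yd Y C hb
    rw [← hcdef] at this
    rw [← this]; group
  have hct' : c * t = t * c⁻¹ := by
    calc c * t = c * (t * c) * c⁻¹ := by group
      _ = c * (c⁻¹ * t) * c⁻¹ := by rw [hct]
      _ = t * c⁻¹ := by group
  have hl2 : ∀ v ∈ L2 e, c • v = κ l⁻¹ v := by
    intro v hv
    have h1 : v = t • t • v := by rw [smul_smul, C.tt, one_smul]
    rw [h1, smul_smul, hct', mul_smul, hinv1 _ (t2 C Y hv), C.t_smul_kappa]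
  have hl1 : l ≠ 1 := by
    intro h
    apply hc1
    apply C.faithful
    intro w
    obtain ⟨a, ha, b, hb, rfl⟩ := gen Y w
    rw [smul_add, hl a ha, hl2 b hb, h, inv_one, kappa_one_apply, kappa_one_apply]
  -- `l` has norm one
  have hlN : σ l = l⁻¹ := by
    have hfc : f * c = c⁻¹ * f := by
      have := B0_f hc
      rw [mul_inv_eq_iff_eq_mul] at this
      exact this
    have h1 : (f * c) • v₀ = κ (σ l) (f • v₀) := by
      rw [mul_smul, hl _ h0, C.f_smul_kappa]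
    have h2 : (f * c) • v₀ = κ l⁻¹ (f • v₀) := by
      rw [hfc, mul_smul, hinv1 _ (f1 Y h0)]
    have hfn : f • v₀ ≠ 0 := by
      intro h
      exact hne ((smul_eq_zero_iff_eq f).1 h)
    exact kappa_uniq κ hfn (h1.symm.trans h2)
  have hlm : Units.mk0 l hl0 ∈ N1 σ := by
    rw [mem_N1, Units.val_mk0, hlN, mul_inv_cancel₀ hl0]
  have hd : ∀ v : W, (d (Units.mk0 l hl0))⁻¹ • v = κ l⁻¹ v := by
    intro v
    rw [inv_smul_eq_iff, C.act, Units.val_mk0, ← kappa_mul_apply, mul_inv_cancel₀ hl0,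
      kappa_one_apply]
  refine ⟨(d (Units.mk0 l hl0))⁻¹ * c, mul_mem (inv_mem (d_mem hlm)) hc, ?_, l⁻¹ * l⁻¹, ?_, ?_⟩
  · intro v hv
    rw [mul_smul, hl v hv, hd, ← kappa_mul_apply, inv_mul_cancel₀ hl0, kappa_one_apply]
  · intro h
    apply hl1
    have h1 := unit_sq C h
    rwa [inv_eq_one] at h1
  · intro v hv
    rw [mul_smul, hl2 v hv, hd, ← kappa_mul_apply]

/-! ### the permutation of the lines -/

theorem perm_one {n : X} (hn : n ∈ normalizer (B0 Y C : Set X)) :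
    (∀ v ∈ L1 e, n • v ∈ L1 e) ∨ (∀ v ∈ L1 e, n • v ∈ L2 e) := by
  obtain ⟨z, hz, hz1, β, hβ, hzβ⟩ := exists_z2 C Y
  obtain ⟨v₀, h0, hne⟩ := exists_v0 C Y
  have hz' : n * z * n⁻¹ ∈ B0 Y C := norm_conj hn hz
  obtain ⟨a1, ha1⟩ := B_scal1 hz'
  obtain ⟨a2, ha2⟩ := B_scal2 hz'
  have hfix : ∀ v ∈ L1 e, ∀ a ∈ L1 e, ∀ b ∈ L2 e, n • v = a + b → κ a1 a = a ∧ κ a2 b = b := by
    intro v hv a ha b hb h
    have h1 : (n * z * n⁻¹) • n • v = n • v := by
      rw [smul_smul, inv_mul_cancel_right, mul_smul, hz1 v hv]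
    rw [h, smul_add, ha1 a ha, ha2 b hb] at h1
    exact uniq (k1 Y _ ha) ha (k2 Y _ hb) hb h1
  by_cases h1 : a1 = 1
  · left
    have h2 : a2 ≠ 1 := by
      intro h2
      have h3 : n * z * n⁻¹ = 1 := by
        apply C.faithful
        intro w
        obtain ⟨a, ha, b, hb, rfl⟩ := gen Y w
        rw [smul_add, ha1 a ha, ha2 b hb, h1, h2, kappa_one_apply, kappa_one_apply]
      have h4 : z = 1 := by
        calc z = n⁻¹ * (n * z * n⁻¹) * n := by group
          _ = 1 := by rw [h3]; group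
      have h5 := hzβ _ (t1 Y h0)
      rw [h4, one_smul] at h5
      have h6 : t • v₀ ≠ 0 := fun h => hne ((smul_eq_zero_iff_eq t).1 h)
      exact hβ (kappa_uniq κ h6 (h5.symm.trans (kappa_one_apply κ _).symm))
    intro v hv
    obtain ⟨a, ha, b, hb, h⟩ := gen Y (n • v)
    have h3 := (hfix v hv a ha b hb h).2
    have h4 : b = 0 := by
      by_contra hb0
      exact h2 (kappa_uniq κ hb0 (h3.trans (kappa_one_apply κ _).symm))
    rw [h, h4, add_zero]; exact ha
  · right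
    intro v hv
    obtain ⟨a, ha, b, hb, h⟩ := gen Y (n • v)
    have h3 := (hfix v hv a ha b hb h).1
    have h4 : a = 0 := by
      by_contra ha0
      exact h1 (kappa_uniq κ ha0 (h3.trans (kappa_one_apply κ _).symm))
    rw [h, h4, zero_add]; exact hb

theorem perm {n : X} (hn : n ∈ normalizer (B0 Y C : Set X)) :
    ((∀ v ∈ L1 e, n • v ∈ L1 e) ∧ (∀ v ∈ L2 e, n • v ∈ L2 e)) ∨
      ((∀ v ∈ L1 e, n • v ∈ L2 e) ∧ (∀ v ∈ L2 e, n • v ∈ L1 e)) := by
  obtain ⟨v₀, h0, hne⟩ := exists_v0 C Y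
  have htn : t • v₀ ≠ 0 := fun h => hne ((smul_eq_zero_iff_eq t).1 h)
  have hnt : n * t ∈ normalizer (B0 Y C : Set X) := mul_mem hn t_norm
  have e1 : ∀ v : W, (n * t) • t • v = n • v := by
    intro v
    rw [smul_smul, mul_assoc, C.tt, mul_one]
  have himp : ∀ A : AddSubgroup W, (∀ v ∈ L1 e, n • v ∈ A) → (∀ v ∈ L2 e, n • v ∈ A) →
      ∀ w : W, w ∈ A := by
    intro A h1 h2 w
    obtain ⟨a, ha, b, hb, h⟩ := gen Y (n⁻¹ • w)
    have h3 : w = n • a + n • b := by rw [← smul_add, ← h, smul_inv_smul]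
    rw [h3]
    exact A.add_mem (h1 a ha) (h2 b hb)
  have h2 : (∀ v ∈ L2 e, n • v ∈ L1 e) ∨ (∀ v ∈ L2 e, n • v ∈ L2 e) := by
    rcases perm_one hnt with h | h
    · left
      intro v hv
      have := h _ (t2 C Y hv)
      rwa [e1] at this
    · right
      intro v hv
      have := h _ (t2 C Y hv)
      rwa [e1] at this
  rcases perm_one hn with h | h <;> rcases h2 with h' | h'
  · exact absurd (disj (himp _ h h' _) (t1 Y h0)) htn
  · exact Or.inl ⟨h, h'⟩
  · exact Or.inr ⟨h, h'⟩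
  · exact absurd (disj h0 (himp _ h h' _)) hne

/-! ### the field automorphism on `L₁` -/

/-- a subring containing the elements of norm 1 is everything -/
theorem N1_gen (C : XC κ d σ t f w₁) (R : Subring F) (h : ∀ a ∈ N1 σ, (a : F) ∈ R) (x : F) :
    x ∈ R := by
  classical
  have hinv : ∀ a ∈ R, a⁻¹ ∈ R := by
    intro a ha
    by_cases h0 : a = 0
    · rw [h0, inv_zero]; exact R.zero_mem
    haveI := Fintype.ofFinite F
    have h1 : a ^ (Fintype.card F - 1) = 1 := FiniteField.pow_card_sub_one_eq_one a h0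
    have h2 : 1 < Fintype.card F := Fintype.one_lt_card
    have h3 : a ^ (Fintype.card F - 2) * a = 1 := by
      rw [← pow_succ, ← h1]; congr 1; omega
    have h4 : a⁻¹ = a ^ (Fintype.card F - 2) := (eq_inv_of_mul_eq_one_left h3).symm
    rw [h4]
    exact R.pow_mem ha _
  obtain ⟨ω, hω⟩ := C.exists_omega
  have hω' : ∀ u : F, σ u = u → ω + u ∈ R := by
    intro u hu
    have h1 : ω + u ≠ 0 := by
      intro h1
      have h2 := congrArg σ h1
      rw [map_add, hω, hu, map_zero] at h2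
      have : (1 : F) = 0 := by linear_combination h2 - h1
      exact one_ne_zero this
    have h2 : σ (ω + u) = ω + u + 1 := by rw [map_add, hω, hu]; ring
    have h3 : ω + u + 1 ≠ 0 := by
      rw [← h2]; exact (map_ne_zero_iff σ σ.injective).2 h1
    have h4 : (ω + u + 1) / (ω + u) ∈ R := by
      have := h (Units.mk0 ((ω + u + 1) / (ω + u)) (div_ne_zero h3 h1)) (by
        have h5 := C.add_self_F (1 : F)
        rw [mem_N1, Units.val_mk0, map_div₀, map_add, h2, map_one]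
        field_simp
        linear_combination h5)
      exact this
    have h5 : (ω + u)⁻¹ = (ω + u + 1) / (ω + u) - 1 := by field_simp; ring
    have h6 := hinv _ (R.sub_mem h4 R.one_mem)
    rwa [← h5, inv_inv] at h6
  have h0 : ω ∈ R := by
    have := hω' 0 (map_zero σ)
    rwa [add_zero] at this
  have hF0 : ∀ u : F, σ u = u → u ∈ R := by
    intro u hu
    have := R.sub_mem (hω' u hu) h0
    rwa [add_sub_cancel_left] at this
  obtain ⟨u, v, hu, hv, hx⟩ := C.decomp hω x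
  rw [hx]
  exact R.add_mem (hF0 u hu) (R.mul_mem (hF0 v hv) h0)

/-- `s` acts on `L₁` through the field automorphism `τ` -/
def IsTau1 (κ : F →+* AddMonoid.End W) (e : AddMonoid.End W) (s : X) (τ : F ≃+* F) : Prop :=
  ∀ a, ∀ v ∈ L1 e, s • κ a v = κ (τ a) (s • v)

theorem exists_tau1 {s : X} (hs : s ∈ normalizer (B0 Y C : Set X))
    (h : ∀ v ∈ L1 e, s • v ∈ L1 e) : ∃ τ : F ≃+* F, IsTau1 κ e s τ := by
  obtain ⟨v₀, h0, hne⟩ := exists_v0 C Y
  have hsn : s • v₀ ≠ 0 := fun h => hne ((smul_eq_zero_iff_eq s).1 h)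
  have hG : Good (fun a b => ∀ v ∈ L1 e, s • κ a v = κ b (s • v)) :=
    { add := fun a b a' b' h h' v hv => by
        rw [kappa_add_apply, smul_add, h v hv, h' v hv, ← kappa_add_apply]
      mul := fun a b a' b' h h' v hv => by
        rw [kappa_mul_apply, h _ (k1 Y _ hv), h' v hv, ← kappa_mul_apply]
      one := fun v hv => by rw [kappa_one_apply, kappa_one_apply]
      neg := fun a b h v hv => by
        rw [kappa_neg_apply, kappa_neg_apply, smul_neg, h v hv]
      uniq := fun a b b' h h' => kappa_uniq κ hsn ((h _ h0).symm.trans (h' _ h0))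
      inj := fun a h => by
        have h1 := h _ h0
        rw [map_zero] at h1
        have h2 : s • κ a v₀ = 0 := h1
        rw [smul_eq_zero_iff_eq] at h2
        exact kappa_eq_zero κ hne h2 }
  refine hG.exists_aut fun a => ?_
  refine N1_gen C hG.dom ?_ a
  intro b hb
  obtain ⟨α, hα⟩ := B_scal1 (norm_conj hs (d_mem (C := C) (Y := Y) hb))
  refine ⟨α, fun v hv => ?_⟩
  rw [← hα _ (h v hv), smul_smul, inv_mul_cancel_right, mul_smul, C.act]

end Cfsg.Agent.StdL2.FFourLines
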