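import Mathlib
import Cfsg.Agent.StdL2.FFourLines

/-!
# S1773, case (f), item (4): the wreathed structure on `X`

Output: `xwr`: for every 2-subgroup `P` of `X` containing `t` there are two lines `L₁`, `L₂`.
-/

set_option autoImplicit false
set_option linter.unusedSectionVars false

open Subgroup

namespace Cfsg.Agent.StdL2.FFourWr

open Cfsg.Agent.StdL2.F Cfsg.Agent.StdL2.F.XC Cfsg.Agent.StdL2.FRel Cfsg.Agent.StdL2.FieldStart
open Cfsg.Agent.StdL2.FieldStart.Fld (conj_mem_norm norm_conj norm_conj')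
open Cfsg.Agent.StdL2.FFour Cfsg.Agent.StdL2.FFourSyl Cfsg.Agent.StdL2.FFourLines

/-- The wreathed structure on `X` acting on `W`. -/
structure XWr {X W : Type*} [Group X] [AddCommGroup W] [DistribMulAction X W] (t : X)
    (F : Type*) [Field F] (L1 L2 : AddSubgroup W) (P : Subgroup X) : Prop where
  disj : ∀ v ∈ L1, v ∈ L2 → v = 0
  gen : ∀ w : W, ∃ a ∈ L1, ∃ b ∈ L2, w = a + b
  tsw : ∀ v ∈ L1, t • v ∈ L2
  tsw' : ∀ v ∈ L2, t • v ∈ L1
  perm : ∀ s ∈ P, ((∀ v ∈ L1, s • v ∈ L1) ∧ (∀ v ∈ L2, s • v ∈ L2)) ∨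
    ((∀ v ∈ L1, s • v ∈ L2) ∧ (∀ v ∈ L2, s • v ∈ L1))
  no : ∀ x : X, x * t * x⁻¹ ∈ P → ¬ ∀ v ∈ L1, (x * t * x⁻¹) • v ∈ L1
  card : Nat.card L1 = Nat.card F
  cardW : Nat.card L1 ^ 2 = Nat.card W
  gal : ∃ g : L1 ≃ F, ∀ s ∈ P, (∀ v ∈ L1, s • v ∈ L1) → ∃ τ : F ≃+* F,
    ∀ a b : L1, (b : W) = s • (a : W) → g b = τ (g a)

variable {X W F : Type*} [Group X] [Finite X] [AddCommGroup W] [DistribMulAction X W] [Field F]
  [Finite F] {κ : F →+* AddMonoid.End W} {d : Fˣ →* X} {σ : F ≃+* F} {t f : X} {w₁ : W}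
  {y : X} {e : AddMonoid.End W} {C : XC κ d σ t f w₁} {Y : YC κ t f y e}

/-! ### no conjugate of `t` fixes the lines -/

theorem conj_tt (C : XC κ d σ t f w₁) (x : X) : x * t * x⁻¹ * (x * t * x⁻¹) = 1 := by
  calc x * t * x⁻¹ * (x * t * x⁻¹) = x * (t * t) * x⁻¹ := by group
    _ = 1 := by rw [C.tt]; group

/-- the fixed vectors of a conjugate of `t` -/
theorem fix_conj (C : XC κ d σ t f w₁) (x : X) {v : W} (h : (x * t * x⁻¹) • v = v) :
    ∃ w, v = (x * t * x⁻¹) • w + w := by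
  have h1 : t • (x⁻¹ • v) = x⁻¹ • v := by
    have := congrArg (x⁻¹ • ·) h
    simp only [smul_smul] at this
    rw [smul_smul, ← this]
    congr 1
    group
  obtain ⟨a, b, hab⟩ := C.span (x⁻¹ • v)
  have h2 : t • κ a w₁ = κ a w₁ + κ a (t • w₁ + w₁) := by
    rw [C.t_smul_kappa, ← map_add]
    congr 1
    exact C.t_w
  have h3 : t • κ b (t • w₁ + w₁) = κ b (t • w₁ + w₁) := by
    rw [C.t_smul_kappa, C.t_v]
  rw [hab, smul_add, h2, h3] at h1
  have h4 : κ a (t • w₁ + w₁) = 0 := by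
    exact add_eq_left.1 (add_right_cancel h1)
  have h5 : a = 0 := kappa_eq_zero κ C.v_ne h4
  rw [h5, map_zero] at hab
  have h6 : x⁻¹ • v = t • κ b w₁ + κ b w₁ := by
    rw [hab, C.t_smul_kappa, ← map_add]
    exact zero_add _
  refine ⟨x • κ b w₁, ?_⟩
  rw [smul_smul, inv_mul_cancel_right, mul_smul, ← smul_add, ← h6, smul_inv_smul]

/-- the automorphism of a conjugate of `t` on `L₁` is nontrivial -/
theorem tau_ne (C : XC κ d σ t f w₁) (Y : YC κ t f y e) {x : X}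
    (h1 : ∀ v ∈ L1 e, (x * t * x⁻¹) • v ∈ L1 e)
    (h2 : ∀ v ∈ L2 e, (x * t * x⁻¹) • v ∈ L2 e) {τ : F ≃+* F}
    (hτ : IsTau1 κ e (x * t * x⁻¹) τ) : τ ≠ 1 := by
  rintro rfl
  obtain ⟨v₀, h0, hne⟩ := exists_v0 C Y
  obtain ⟨α, hα⟩ := exists_scal C Y (z := x * t * x⁻¹) hτ h1
  have h3 : α * α = 1 := by
    apply kappa_uniq κ hne
    rw [kappa_mul_apply, kappa_one_apply, ← hα _ h0, ← hα _ (h1 _ h0), smul_smul, conj_tt C,
      one_smul]
  have h4 := unit_sq C h3
  have hfix : ∀ v ∈ L1 e, (x * t * x⁻¹) • v = v := by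
    intro v hv
    rw [hα v hv, h4, kappa_one_apply]
  obtain ⟨w, hw⟩ := fix_conj C x (hfix _ h0)
  obtain ⟨a, ha, b, hb, rfl⟩ := gen Y w
  rw [smul_add, hfix a ha] at hw
  have h5 : v₀ = (x * t * x⁻¹) • b + b := by
    rw [hw]
    have := C.add_self_W a
    calc a + (x * t * x⁻¹) • b + (a + b) = (a + a) + ((x * t * x⁻¹) • b + b) := by abel
      _ = _ := by rw [this, zero_add]
  apply hne
  apply FFourLines.disj h0
  rw [h5]
  exact (L2 e).add_mem (h2 b hb) hb

/-- a Sylow 2-subgroup of `X` inside `C(t)` is commutative -/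
theorem comm_of_cent (C : XC κ d σ t f w₁) {P : Subgroup X} (hP : IsPGroup 2 P)
    (hPt : ∀ s ∈ P, s * t = t * s) : ∀ a ∈ P, ∀ b ∈ P, a * b = b * a := by
  choose g hg using fun p : P => exists_tau C (hPt p p.2)
  let G : P →* (F ≃+* F) := MonoidHom.mk' g
    (fun a b => IsTau.uniq C (hg (a * b)) ((hg a).mul (hg b)))
  haveI := isCyclic_aut (F := F) C.two
  have hker : G.ker ≤ center P := by
    intro p hp
    have h1 : IsTau κ (p : X) 1 := by
      have : g p = 1 := hp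
      rw [← this]; exact hg p
    have hcen : ∀ q ∈ P, (p : X) * q = q * p := by
      obtain ⟨a, ha⟩ := C.centD p (hPt p p.2) (comm_d C h1)
      -- `p` is `d a` or `t * d a`, so `d a = 1`
      have key : ∀ u : X, (∃ k : ℕ, u ^ 2 ^ k = 1) → u = d a → d a = 1 := by
        rintro u ⟨k, hk⟩ rfl
        have h2 : a ^ 2 ^ k = 1 := C.d_inj (by rw [map_pow, hk, map_one])
        have h3 : orderOf a ∣ 2 ^ k := orderOf_dvd_of_pow_eq_one h2
        have h4 : orderOf a ∣ Nat.card Fˣ := orderOf_dvd_natCard a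
        have h5 : Nat.Coprime (2 ^ k) (Nat.card Fˣ) :=
          Nat.Coprime.pow_left k ((Nat.coprime_two_left).2 (odd_units C))
        have h6 : orderOf a = 1 := Nat.eq_one_of_dvd_coprimes h5 h3 h4
        rw [orderOf_eq_one_iff.1 h6, map_one]
      obtain ⟨k, hk⟩ := hP p
      have hk' : (p : X) ^ 2 ^ k = 1 := by
        have := congrArg Subtype.val hk
        simpa using this
      rcases ha with ha | ha
      · have h2 := key p ⟨k, hk'⟩ ha
        intro q _
        rw [ha, h2, one_mul, mul_one]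
      · have h2 : d a = 1 := by
          refine key (t * p) ⟨k + 1, ?_⟩ ?_
          · have h3 : Commute t (p : X) := (hPt p p.2).symm
            rw [h3.mul_pow, pow_succ, pow_mul, pow_mul, hk', one_pow, mul_one, ← pow_mul,
              mul_comm, pow_mul, pow_two, C.tt, one_pow]
          · rw [ha, ← mul_assoc, C.tt, one_mul]
        intro q hq
        rw [ha, h2, mul_one, hPt q hq]
    rw [mem_center_iff]
    intro q
    exact Subtype.ext (hcen q q.2).symm
  have := commutative_of_cyclic_center_quotient G hker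
  intro a ha b hb
  exact congrArg Subtype.val (this ⟨a, ha⟩ ⟨b, hb⟩)

theorem no_conj (C : XC κ d σ t f w₁) (Y : YC κ t f y e) {P : Subgroup X} (hP : IsPGroup 2 P)
    (hPN : ∀ s ∈ P, s ∈ normalizer (B0 Y C : Set X)) (hPf : ∀ s ∈ P, s * f = f * s)
    (htP : t ∈ P) {y' : X} (hyP : y' ∈ P) (hy : y' * t * y'⁻¹ = t * f) {x : X}
    (hx : x * t * x⁻¹ ∈ P) : ¬ ∀ v ∈ L1 e, (x * t * x⁻¹) • v ∈ L1 e := by
  intro h1
  obtain ⟨v₀, h0, hne⟩ := exists_v0 C Y
  have h2 : ∀ v ∈ L2 e, (x * t * x⁻¹) • v ∈ L2 e := by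
    rcases perm (hPN _ hx) with h | h
    · exact h.2
    · exfalso
      have h3 := FFourLines.disj (h1 _ h0) (h.1 _ h0)
      exact hne ((smul_eq_zero_iff_eq _).1 h3)
  obtain ⟨τ1, hτ1⟩ := exists_tau1 (hPN _ hx) h1
  have hn1 := tau_ne C Y h1 h2 hτ1
  -- the conjugate under `t`
  have hxt : t * x * t * (t * x)⁻¹ ∈ P := by
    have : t * x * t * (t * x)⁻¹ = t * (x * t * x⁻¹) * t⁻¹ := by group
    rw [this]
    exact P.mul_mem (P.mul_mem htP hx) (P.inv_mem htP)
  have hact : ∀ v : W, (t * x * t * (t * x)⁻¹) • v = t • (x * t * x⁻¹) • t • v := by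
    intro v
    rw [smul_smul, smul_smul]
    congr 1
    calc t * x * t * (t * x)⁻¹ = t * (x * t * x⁻¹) * t⁻¹ := by group
      _ = t * (x * t * x⁻¹) * t := by rw [C.t_inv]
  have h1' : ∀ v ∈ L1 e, (t * x * t * (t * x)⁻¹) • v ∈ L1 e := by
    intro v hv
    rw [hact]
    exact t2 C Y (h2 _ (t1 Y hv))
  have h2' : ∀ v ∈ L2 e, (t * x * t * (t * x)⁻¹) • v ∈ L2 e := by
    intro v hv
    rw [hact]
    exact t1 Y (h1 _ (t2 C Y hv))
  obtain ⟨τ2, hτ2⟩ := exists_tau1 (hPN _ hxt) h1'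
  have hn2 := tau_ne C Y h1' h2' hτ2
  have hsq : ∀ (z : X) (τ : F ≃+* F), z * z = 1 → (∀ v ∈ L1 e, z • v ∈ L1 e) →
      IsTau1 κ e z τ → τ * τ = 1 := by
    intro z τ hzz hz hτ
    ext a
    apply kappa_uniq κ hne
    change κ (τ (τ a)) v₀ = κ a v₀
    have h3 := hτ a v₀ h0
    have h4 : z • z • κ a v₀ = κ (τ (τ a)) (z • z • v₀) := by
      rw [h3, hτ _ _ (hz _ h0)]
    rw [smul_smul, hzz, one_smul, smul_smul, hzz, one_smul] at h4
    exact h4.symm
  have e1 : τ1 = σ := inv_unique C.two (hsq _ _ (conj_tt C x) h1 hτ1) (sigma_mul C) hn1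
    (sigma_ne C)
  have e2 : τ2 = σ := inv_unique C.two (hsq _ _ (conj_tt C (t * x)) h1' hτ2) (sigma_mul C) hn2
    (sigma_ne C)
  subst e1
  subst e2
  -- `u = t₁ f` is linear
  have hfx : x * t * x⁻¹ * f = f * (x * t * x⁻¹) := hPf _ hx
  have huu : (x * t * x⁻¹ * f) * (x * t * x⁻¹ * f) = 1 := by
    calc (x * t * x⁻¹ * f) * (x * t * x⁻¹ * f) = (x * t * x⁻¹ * f) * (f * (x * t * x⁻¹)) := by
          rw [hfx]
      _ = x * t * x⁻¹ * (f * f) * (x * t * x⁻¹) := by group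
      _ = 1 := by rw [C.ff, mul_one, conj_tt C]
  have hu1 : ∀ v ∈ L1 e, (x * t * x⁻¹ * f) • v ∈ L1 e := by
    intro v hv
    rw [mul_smul]; exact h1 _ (f1 Y hv)
  have hul1 : ∀ a, ∀ v ∈ L1 e, (x * t * x⁻¹ * f) • κ a v = κ a ((x * t * x⁻¹ * f) • v) := by
    intro a v hv
    rw [mul_smul, C.f_smul_kappa, hτ1 _ _ (f1 Y hv), C.sig, ← mul_smul]
  have hone : ∀ z : X, z * z = 1 → (∀ v ∈ L1 e, z • v ∈ L1 e) →
      (∀ a, ∀ v ∈ L1 e, z • κ a v = κ a (z • v)) → ∀ v ∈ L1 e, z • v = v := by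
    intro z hzz hz hzl
    obtain ⟨α, hα⟩ := exists_scal C Y hzl hz
    have h3 : α * α = 1 := by
      apply kappa_uniq κ hne
      rw [kappa_mul_apply, kappa_one_apply, ← hα _ h0, ← hα _ (hz _ h0), smul_smul, hzz, one_smul]
    intro v hv
    rw [hα v hv, unit_sq C h3, kappa_one_apply]
  have hfixL1 := hone _ huu hu1 hul1
  -- on `L₂`
  set u := x * t * x⁻¹ * f with hu
  have hact2 : ∀ v : W, (t * u * t) • v = (t * x * t * (t * x)⁻¹) • f • v := by
    intro v
    rw [smul_smul]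
    congr 1
    rw [hu]
    calc t * (x * t * x⁻¹ * f) * t = t * (x * t * x⁻¹) * (f * t) := by group
      _ = t * (x * t * x⁻¹) * (t * f) := by rw [C.tf]
      _ = t * (x * t * x⁻¹) * t * f := by group
      _ = t * (x * t * x⁻¹) * t⁻¹ * f := by rw [C.t_inv]
      _ = t * x * t * (t * x)⁻¹ * f := by group
  have hfixL1' : ∀ v ∈ L1 e, (t * u * t) • v = v := by
    refine hone _ ?_ ?_ ?_
    · calc t * u * t * (t * u * t) = t * u * (t * t) * u * t := by group
        _ = t * (u * u) * t := by rw [C.tt]; group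
        _ = 1 := by rw [huu, mul_one, C.tt]
    · intro v hv
      rw [hact2]; exact h1' _ (f1 Y hv)
    · intro a v hv
      rw [hact2, hact2, C.f_smul_kappa, hτ2 _ _ (f1 Y hv), C.sig]
  have hu1 : u = 1 := by
    apply C.faithful
    intro w
    obtain ⟨a, ha, b, hb, rfl⟩ := gen Y w
    have h3 : u • b = b := by
      have h4 := hfixL1' _ (t2 C Y hb)
      rw [smul_smul] at h4
      have h5 : t * u * t * t = t * u := by rw [mul_assoc (t * u), C.tt, mul_one]
      rw [h5, mul_smul] at h4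
      exact smul_left_cancel t h4
    rw [smul_add, hfixL1 a ha, h3]
  have htf : x * t * x⁻¹ = f := by
    have : x * t * x⁻¹ = u * f := by rw [hu, mul_assoc (x * t * x⁻¹), C.ff, mul_one]
    rw [this, hu1, one_mul]
  -- so `x⁻¹ P x ≤ C(t)` is commutative
  let P1 : Subgroup X := P.comap (MulAut.conj x).toMonoidHom
  have hP1 : IsPGroup 2 P1 := hP.comap_of_injective _ (MulAut.conj x).injective
  have hmem : ∀ s ∈ P, x⁻¹ * s * x ∈ P1 := by
    intro s hs
    change x * (x⁻¹ * s * x) * x⁻¹ ∈ P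
    have : x * (x⁻¹ * s * x) * x⁻¹ = s := by group
    rw [this]; exact hs
  have hP1t : ∀ s ∈ P1, s * t = t * s := by
    intro s hs
    have h3 : x * s * x⁻¹ * f = f * (x * s * x⁻¹) := hPf _ hs
    rw [← htf] at h3
    calc s * t = x⁻¹ * (x * s * x⁻¹ * (x * t * x⁻¹)) * x := by group
      _ = x⁻¹ * (x * t * x⁻¹ * (x * s * x⁻¹)) * x := by rw [h3]
      _ = t * s := by group
  have hcomm := comm_of_cent C hP1 hP1t _ (hmem _ hyP) _ (hmem _ htP)
  have h3 : y' * t = t * y' := by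
    calc y' * t = x * (x⁻¹ * y' * x * (x⁻¹ * t * x)) * x⁻¹ := by group
      _ = x * (x⁻¹ * t * x * (x⁻¹ * y' * x)) * x⁻¹ := by rw [hcomm]
      _ = t * y' := by group
  rw [h3, mul_inv_cancel_right] at hy
  exact C.f_ne_one (mul_left_cancel (a := t) (by rw [← hy, mul_one]))

/-! ### the base point -/

theorem exists_gal (C : XC κ d σ t f w₁) (Y : YC κ t f y e) {P : Subgroup X} (hP : IsPGroup 2 P)
    (hPN : ∀ s ∈ P, s ∈ normalizer (B0 Y C : Set X)) :
    ∃ g : L1 e ≃ F, ∀ s ∈ P, (∀ v ∈ L1 e, s • v ∈ L1 e) → ∃ τ : F ≃+* F,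
      ∀ a b : L1 e, (b : W) = s • (a : W) → g b = τ (g a) := by
  haveI : Fact (Nat.Prime 2) := ⟨Nat.prime_two⟩
  haveI := finite_W C
  -- the stabiliser of `L₁` in `P`
  let P0 : Subgroup X :=
    { carrier := {s | s ∈ P ∧ ∀ v ∈ L1 e, s • v ∈ L1 e}
      one_mem' := ⟨P.one_mem, fun v hv => by rwa [one_smul]⟩
      mul_mem' := fun {a b} ha hb => ⟨P.mul_mem ha.1 hb.1, fun v hv => by
        rw [mul_smul]; exact ha.2 _ (hb.2 _ hv)⟩
      inv_mem' := fun {a} ha => ⟨P.inv_mem ha.1, fun v hv => by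
        obtain ⟨v₀, h0, hne⟩ := exists_v0 C Y
        have hinj : Function.Injective (fun v : L1 e => (⟨a • (v : W), ha.2 _ v.2⟩ : L1 e)) := by
          intro u w h
          exact Subtype.ext (smul_left_cancel a (congrArg Subtype.val h))
        obtain ⟨u, hu⟩ := (Finite.injective_iff_surjective.1 hinj) ⟨v, hv⟩
        have hu' : a • (u : W) = v := congrArg Subtype.val hu
        rw [← hu', inv_smul_smul]
        exact u.2⟩ }
  have hP0 : IsPGroup 2 P0 := hP.to_le (fun s hs => hs.1)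
  letI : MulAction P0 (L1 e) :=
    { smul := fun s v => ⟨(s : X) • (v : W), s.2.2 _ v.2⟩
      one_smul := fun v => Subtype.ext (one_smul X (v : W))
      mul_smul := fun a b v => Subtype.ext (mul_smul (a : X) (b : X) (v : W)) }
  have hmod := hP0.card_modEq_card_fixedPoints (L1 e)
  have heven : Even (Nat.card F) := by
    have h1 := odd_units C
    have h2 : Nat.card F = Nat.card Fˣ + 1 := by
      classical
      haveI := Fintype.ofFinite F
      rw [Nat.card_eq_fintype_card, Nat.card_eq_fintype_card, Fintype.card_units]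
      have : 0 < Fintype.card F := Fintype.card_pos
      omega
    rw [h2]
    exact h1.add_one
  have h0fix : (0 : L1 e) ∈ MulAction.fixedPoints P0 (L1 e) := by
    intro s
    exact Subtype.ext (smul_zero (s : X))
  have hcard : ∃ v ∈ MulAction.fixedPoints P0 (L1 e), v ≠ 0 := by
    by_contra hcon
    push Not at hcon
    have h1 : MulAction.fixedPoints P0 (L1 e) = {0} := by
      ext v
      constructor
      · intro h; exact hcon v h
      · rintro rfl; exact h0fix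
    rw [h1, card_L1 C Y] at hmod
    have h2 : Nat.card ({0} : Set (L1 e)) = 1 := by simp
    rw [h2] at hmod
    rw [Nat.ModEq, Nat.even_iff.1 heven] at hmod
    norm_num at hmod
  obtain ⟨⟨v₀, h0⟩, hfix, hne⟩ := hcard
  have hne' : v₀ ≠ 0 := fun h => hne (Subtype.ext h)
  have hbij := line C Y h0 hne'
  let g := Equiv.ofBijective _ hbij
  refine ⟨g.symm, fun s hs hsL => ?_⟩
  obtain ⟨τ, hτ⟩ := exists_tau1 (hPN s hs) hsL
  refine ⟨τ, fun a b hab => ?_⟩
  rw [Equiv.symm_apply_eq]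
  apply Subtype.ext
  change (b : W) = κ (τ (g.symm a)) v₀
  have h1 : κ (g.symm a) v₀ = (a : W) := congrArg Subtype.val (g.apply_symm_apply a)
  have h2 : s • v₀ = v₀ := congrArg Subtype.val (hfix (⟨s, hs, hsL⟩ : P0))
  have h3 := hτ (g.symm a) v₀ h0
  rw [h1, h2] at h3
  rw [hab, h3]

/-- **the wreathed structure** for every 2-subgroup containing `t` -/
theorem xwr (C : XC κ d σ t f w₁) (Y : YC κ t f y e) {P : Subgroup X} (hP : IsPGroup 2 P)
    (htP : t ∈ P) : ∃ L1 L2 : AddSubgroup W, XWr t F L1 L2 P := by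
  haveI := finite_W C
  obtain ⟨P', y', hP', hPN, hPf, htP', -, hyP, hy⟩ := exists_syl C Y
  obtain ⟨c, -, hc⟩ := hP'.conj hP le_top
  obtain ⟨v₀, h0, hne⟩ := exists_v0 C Y
  have hmap : ∀ (L : AddSubgroup W) (v : W),
      v ∈ L.comap (DistribMulAction.toAddMonoidEnd X W c) ↔ c • v ∈ L := fun L v => Iff.rfl
  set M1 := (L1 e).comap (DistribMulAction.toAddMonoidEnd X W c) with hM1
  set M2 := (L2 e).comap (DistribMulAction.toAddMonoidEnd X W c) with hM2
  have m1 : ∀ v, v ∈ M1 ↔ c • v ∈ L1 e := fun v => Iff.rfl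
  have m2 : ∀ v, v ∈ M2 ↔ c • v ∈ L2 e := fun v => Iff.rfl
  have hcs : ∀ (s : X) (v : W), c • s • v = (c * s * c⁻¹) • c • v := by
    intro s v
    rw [smul_smul, smul_smul, inv_mul_cancel_right]
  have hperm : ∀ s ∈ P, ((∀ v ∈ M1, s • v ∈ M1) ∧ (∀ v ∈ M2, s • v ∈ M2)) ∨
      ((∀ v ∈ M1, s • v ∈ M2) ∧ (∀ v ∈ M2, s • v ∈ M1)) := by
    intro s hs
    rcases perm (hPN _ (hc s hs)) with h | h
    · left
      refine ⟨fun v hv => ?_, fun v hv => ?_⟩
      · rw [m1, hcs]; exact h.1 _ hv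
      · rw [m2, hcs]; exact h.2 _ hv
    · right
      refine ⟨fun v hv => ?_, fun v hv => ?_⟩
      · rw [m2, hcs]; exact h.1 _ hv
      · rw [m1, hcs]; exact h.2 _ hv
  have hback : ∀ s : X, (∀ v ∈ M1, s • v ∈ M1) → ∀ v ∈ L1 e, (c * s * c⁻¹) • v ∈ L1 e := by
    intro s h v hv
    have h1 : c⁻¹ • v ∈ M1 := by rw [m1, smul_inv_smul]; exact hv
    have h2 := h _ h1
    rw [m1, hcs, smul_inv_smul] at h2
    exact h2
  have hno : ∀ x : X, x * t * x⁻¹ ∈ P → ¬ ∀ v ∈ M1, (x * t * x⁻¹) • v ∈ M1 := by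
    intro x hx h
    have h1 := hback _ h
    have h2 : c * (x * t * x⁻¹) * c⁻¹ = c * x * t * (c * x)⁻¹ := by group
    have h3 := hc _ hx
    rw [h2] at h1 h3
    exact no_conj C Y hP'.1 hPN hPf htP' hyP hy h3 h1
  have ht : (∀ v ∈ M1, t • v ∈ M2) ∧ (∀ v ∈ M2, t • v ∈ M1) := by
    rcases hperm t htP with h | h
    · exfalso
      refine hno 1 ?_ ?_
      · simpa using htP
      · simpa using h.1
    · exact h
  have hcard : Nat.card M1 = Nat.card (L1 e) := by
    refine Nat.card_eq_of_bijective (fun v : M1 => (⟨c • (v : W), v.2⟩ : L1 e)) ⟨?_, ?_⟩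
    · intro a b h
      exact Subtype.ext (smul_left_cancel c (congrArg Subtype.val h))
    · intro b
      refine ⟨⟨c⁻¹ • (b : W), ?_⟩, ?_⟩
      · rw [m1, smul_inv_smul]; exact b.2
      · exact Subtype.ext (smul_inv_smul c (b : W))
  obtain ⟨g, hg⟩ := exists_gal C Y hP'.1 hPN
  let g' : M1 ≃ L1 e :=
    { toFun := fun v => ⟨c • (v : W), v.2⟩
      invFun := fun v => ⟨c⁻¹ • (v : W), by rw [m1, smul_inv_smul]; exact v.2⟩
      left_inv := fun v => Subtype.ext (inv_smul_smul c (v : W))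
      right_inv := fun v => Subtype.ext (smul_inv_smul c (v : W)) }
  refine ⟨M1, M2, ?_, ?_, ht.1, ht.2, hperm, hno, ?_, ?_, g'.trans g, ?_⟩
  · intro v h1 h2
    have := FFourLines.disj h1 h2
    exact (smul_eq_zero_iff_eq c).1 this
  · intro w
    obtain ⟨a, ha, b, hb, h⟩ := gen Y (c • w)
    refine ⟨c⁻¹ • a, ?_, c⁻¹ • b, ?_, ?_⟩
    · rw [m1, smul_inv_smul]; exact ha
    · rw [m2, smul_inv_smul]; exact hb
    · rw [← smul_add, ← h, inv_smul_smul]
  · rw [hcard, card_L1 C Y]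
  · rw [hcard, card_L1_sq C Y]
  · intro s hs hsL
    obtain ⟨τ, hτ⟩ := hg _ (hc s hs) (hback s hsL)
    refine ⟨τ, fun a b hab => ?_⟩
    apply hτ
    change c • (b : W) = (c * s * c⁻¹) • c • (a : W)
    rw [← hcs, ← hab]

end Cfsg.Agent.StdL2.FFourWr
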