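import Mathlib

/-!
# Automorphisms of a finite field of characteristic two acting on an elementary abelian group
-/

set_option autoImplicit false

namespace Cfsg.Agent.StdL2.FGal

open FixedPoints

section Field

variable {F : Type*} [Field F] [Finite F]

/-- `|F| = |F^A|^|A|`. -/
theorem card_fixed_sub (A : Subgroup (F ≃+* F)) :
    Nat.card F = Nat.card {x : F // ∀ σ ∈ A, σ x = x} ^ Nat.card A := by
  classical
  have : Finite (F ≃+* F) := Finite.of_injective (fun σ : F ≃+* F => (σ : F → F))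
    DFunLike.coe_injective
  have := Fintype.ofFinite A
  have : FaithfulSMul A F := ⟨fun {a b} h => Subtype.ext (RingEquiv.ext h)⟩
  have h1 := FixedPoints.finrank_eq_card A F
  have h2 := Module.natCard_eq_pow_finrank (K := FixedPoints.subfield A F) (V := F)
  rw [h1, ← Nat.card_eq_fintype_card] at h2
  rw [h2]
  congr 1
  apply Nat.card_congr
  refine Equiv.subtypeEquivRight fun x => ?_
  constructor
  · intro h σ hσ
    exact h ⟨σ, hσ⟩
  · intro h σ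
    exact h σ.1 σ.2

theorem card_fixed (σ : F ≃+* F) :
    Nat.card F = Nat.card {x : F // σ x = x} ^ orderOf σ := by
  rw [← Nat.card_zpowers, card_fixed_sub (Subgroup.zpowers σ)]
  congr 1
  apply Nat.card_congr
  refine Equiv.subtypeEquivRight fun x => ?_
  constructor
  · intro h
    exact h σ (Subgroup.mem_zpowers σ)
  · rintro h τ ⟨n, rfl⟩
    have hmem : σ ∈ MulAction.stabilizer (F ≃+* F) x := h
    exact (MulAction.stabilizer (F ≃+* F) x).zpow_mem hmem n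

theorem one_lt_card_fixed (σ : F ≃+* F) : 2 ≤ Nat.card {x : F // σ x = x} := by
  have : Nontrivial {x : F // σ x = x} :=
    ⟨⟨⟨0, map_zero σ⟩, ⟨1, map_one σ⟩, fun h => zero_ne_one (congrArg Subtype.val h)⟩⟩
  exact Finite.one_lt_card

theorem sq_le (σ : F ≃+* F) (hσ : σ ≠ 1) : Nat.card {x : F // σ x = x} ^ 2 ≤ Nat.card F := by
  have : Finite (F ≃+* F) := Finite.of_injective (fun σ : F ≃+* F => (σ : F → F))
    DFunLike.coe_injective
  have h1 := card_fixed σ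
  have h2 := one_lt_card_fixed σ
  have h3 : 0 < orderOf σ := orderOf_pos σ
  have h4 : orderOf σ ≠ 1 := fun h => hσ (orderOf_eq_one_iff.1 h)
  rw [h1]
  exact Nat.pow_le_pow_right (by omega) (by omega)

theorem pow_four_le (σ : F ≃+* F) {k : ℕ} (hk : σ ^ 2 ^ k = 1) (hσ : σ * σ ≠ 1) :
    Nat.card {x : F // σ x = x} ^ 4 ≤ Nat.card F := by
  have : Finite (F ≃+* F) := Finite.of_injective (fun σ : F ≃+* F => (σ : F → F))
    DFunLike.coe_injective
  have h1 := card_fixed σ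
  have h2 := one_lt_card_fixed σ
  have h5 : orderOf σ ∣ 2 ^ k := orderOf_dvd_of_pow_eq_one hk
  obtain ⟨j, -, hj⟩ := (Nat.dvd_prime_pow Nat.prime_two).1 h5
  have h6 : 2 ≤ j := by
    by_contra hcon
    apply hσ
    rw [← pow_two]
    have h7 : orderOf σ ∣ 2 := by
      rw [hj]
      have : j = 0 ∨ j = 1 := by omega
      rcases this with rfl | rfl
      · exact one_dvd _
      · exact dvd_refl _
    exact orderOf_dvd_iff_pow_eq_one.1 h7
  rw [h1, hj]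
  refine Nat.pow_le_pow_right (by omega) ?_
  calc 4 = 2 ^ 2 := by norm_num
    _ ≤ 2 ^ j := Nat.pow_le_pow_right (by norm_num) h6

/-- an automorphism with at most two fixed points generates the automorphism group. -/
theorem generates (σ : F ≃+* F) (hσ : Nat.card {x : F // σ x = x} ≤ 2) (τ : F ≃+* F) :
    τ ∈ Subgroup.zpowers σ := by
  have : Finite (F ≃+* F) := Finite.of_injective (fun σ : F ≃+* F => (σ : F → F))
    DFunLike.coe_injective
  have h1 := card_fixed σ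
  have h2 := one_lt_card_fixed σ
  have h3 := card_fixed_sub (⊤ : Subgroup (F ≃+* F))
  have h4 : 2 ≤ Nat.card {x : F // ∀ σ ∈ (⊤ : Subgroup (F ≃+* F)), σ x = x} := by
    have : Nontrivial {x : F // ∀ σ ∈ (⊤ : Subgroup (F ≃+* F)), σ x = x} :=
      ⟨⟨⟨0, fun σ _ => map_zero σ⟩, ⟨1, fun σ _ => map_one σ⟩,
        fun h => zero_ne_one (congrArg Subtype.val h)⟩⟩
    exact Finite.one_lt_card
  have h5 : Nat.card {x : F // σ x = x} = 2 := by omega
  rw [h5] at h1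
  have h6 : 2 ^ Nat.card (⊤ : Subgroup (F ≃+* F)) ≤ 2 ^ orderOf σ := by
    rw [← h1, h3]
    exact Nat.pow_le_pow_left h4 _
  have h7 := (Nat.pow_le_pow_iff_right (by norm_num : 1 < 2)).1 h6
  rw [← Nat.card_zpowers] at h7
  have h8 : Subgroup.zpowers σ = ⊤ := Subgroup.eq_of_le_of_card_ge le_top h7
  rw [h8]
  exact Subgroup.mem_top τ

variable [CharP F 2]

theorem isCyclic : IsCyclic (F ≃+* F) := by
  classical
  have : Fact (Nat.Prime 2) := ⟨Nat.prime_two⟩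
  have : PerfectRing F 2 := PerfectRing.ofFiniteOfIsReduced 2 F
  let φ : F ≃+* F := frobeniusEquiv F 2
  refine ⟨⟨φ, generates φ ?_⟩⟩
  -- the fixed points of the Frobenius map
  have h1 : ∀ x : F, φ x = x → x = 0 ∨ x = 1 := by
    intro x hx
    have h2 : x ^ 2 = x := by
      rw [← hx]
      have h3 : φ x = x ^ 2 := rfl
      rw [hx] at h3
      rw [hx, ← h3]
    have h3 : x * (x - 1) = 0 := by rw [mul_sub, mul_one, ← pow_two, h2, sub_self]
    rcases mul_eq_zero.1 h3 with h | h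
    · exact Or.inl h
    · exact Or.inr (sub_eq_zero.1 h)
  have h2 : Function.Injective (fun x : {x : F // φ x = x} => decide (x.1 = 0)) := by
    intro a b hab
    apply Subtype.ext
    have h3 := h1 _ a.2
    have h4 := h1 _ b.2
    have h5 : (a.1 = 0) ↔ (b.1 = 0) := by simpa using hab
    rcases h3 with h3 | h3
    · rw [h3, h5.1 h3]
    · have : b.1 ≠ 0 := fun h => one_ne_zero (h3 ▸ h5.2 h)
      rw [h3, h4.resolve_left this]
  have h3 := Nat.card_le_card_of_injective _ h2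
  rwa [Nat.card_eq_fintype_card (α := Bool), Fintype.card_bool] at h3

theorem comm (σ τ : F ≃+* F) : σ * τ = τ * σ := by
  have := isCyclic (F := F)
  exact (IsCyclic.commGroup (α := F ≃+* F)).mul_comm σ τ

theorem uniq {σ τ : F ≃+* F} (h1 : σ * σ = 1) (h2 : τ * τ = 1) (hσ : σ ≠ 1) (hτ : τ ≠ 1) :
    σ = τ := by
  classical
  have hc := isCyclic (F := F)
  have : Finite (F ≃+* F) := Finite.of_injective (fun σ : F ≃+* F => (σ : F → F))
    DFunLike.coe_injective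
  have := Fintype.ofFinite (F ≃+* F)
  have h5 : orderOf σ = 2 := orderOf_eq_prime (by rw [pow_two]; exact h1) hσ
  have h6 : orderOf τ = 2 := orderOf_eq_prime (by rw [pow_two]; exact h2) hτ
  have h8 := IsCyclic.card_orderOf_eq_totient (α := F ≃+* F) (d := 2) (by
    rw [← h5]
    exact orderOf_dvd_card)
  rw [Nat.totient_two, Finset.card_eq_one] at h8
  obtain ⟨z, hz⟩ := h8
  have h9 : σ ∈ ({z} : Finset _) := by
    rw [← hz, Finset.mem_filter]
    exact ⟨Finset.mem_univ _, h5⟩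
  have h10 : τ ∈ ({z} : Finset _) := by
    rw [← hz, Finset.mem_filter]
    exact ⟨Finset.mem_univ _, h6⟩
  rw [Finset.mem_singleton] at h9 h10
  rw [h9, h10]

end Field

section Act

open Subgroup

variable {G : Type*} [Group G] [Finite G] {S V : Subgroup G} {F : Type*} [Field F] [Finite F]

/-- `s` acts on `V ≃ F` as `σ`. -/
def Acts (e : V ≃ F) (s : G) (σ : F ≃+* F) : Prop :=
  ∀ a b : V, (b : G) = s * a * s⁻¹ → e b = σ (e a)

variable {e : V ≃ F} {s s' : G} {σ σ' : F ≃+* F}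

omit [Finite G] [Finite F] in
theorem Acts.mul (h : Acts e s σ) (h' : Acts e s' σ') (hs' : ∀ a ∈ V, s' * a * s'⁻¹ ∈ V) :
    Acts e (s * s') (σ * σ') := by
  intro a b hb
  have h1 := h' a ⟨_, hs' a a.2⟩ rfl
  have h2 := h ⟨_, hs' a a.2⟩ b (by
    rw [hb]
    change _ = s * (s' * a * s'⁻¹) * s⁻¹
    group)
  rw [h2, h1]
  rfl

omit [Finite G] [Finite F] in
theorem Acts.eq (h : Acts e s σ) (h' : Acts e s σ') (hs : ∀ a ∈ V, s * a * s⁻¹ ∈ V) : σ = σ' := by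
  ext x
  obtain ⟨a, rfl⟩ := e.surjective x
  rw [← h a ⟨_, hs a a.2⟩ rfl, ← h' a ⟨_, hs a a.2⟩ rfl]

omit [Finite G] [Finite F] in
theorem Acts.cent (h : Acts e s 1) (hs : ∀ a ∈ V, s * a * s⁻¹ ∈ V) {a : G} (ha : a ∈ V) :
    s * a = a * s := by
  have h1 := h ⟨a, ha⟩ ⟨_, hs a ha⟩ rfl
  have h2 : (⟨s * a * s⁻¹, hs a ha⟩ : V) = ⟨a, ha⟩ := e.injective h1
  have h3 : s * a * s⁻¹ = a := congrArg Subtype.val h2
  rwa [mul_inv_eq_iff_eq_mul] at h3

omit [Finite G] [Finite F] in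
theorem Acts.one (h : Acts e s σ) (hs : ∀ a ∈ V, s * a = a * s) : σ = 1 := by
  ext x
  obtain ⟨a, rfl⟩ := e.surjective x
  rw [← h a a (by rw [hs a a.2, mul_inv_cancel_right])]
  rfl

omit [Finite G] [Finite F] in
theorem Acts.card (h : Acts e s σ) (hs : ∀ a ∈ V, s * a * s⁻¹ ∈ V) :
    Nat.card (V ⊓ centralizer {s} : Subgroup G) = Nat.card {x : F // σ x = x} := by
  apply Nat.card_congr
  refine Equiv.ofBijective (fun a => ⟨e ⟨a.1, a.2.1⟩, ?_⟩) ⟨?_, ?_⟩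
  · rw [← h ⟨a.1, a.2.1⟩ ⟨a.1, a.2.1⟩]
    have h1 := mem_centralizer_singleton_iff.1 a.2.2
    change a.1 = s * a.1 * s⁻¹
    rw [← h1, mul_inv_cancel_right]
  · intro a b hab
    have h1 : e ⟨a.1, a.2.1⟩ = e ⟨b.1, b.2.1⟩ := congrArg Subtype.val hab
    have h2 : (⟨a.1, a.2.1⟩ : V) = ⟨b.1, b.2.1⟩ := e.injective h1
    exact Subtype.ext (congrArg (fun z : V => (z : G)) h2)
  · rintro ⟨x, hx⟩
    obtain ⟨a, rfl⟩ := e.surjective x
    rw [← h a ⟨_, hs a a.2⟩ rfl] at hx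
    have h1 := e.injective hx
    have h2 : s * (a : G) * s⁻¹ = a := congrArg Subtype.val h1
    rw [mul_inv_eq_iff_eq_mul] at h2
    exact ⟨⟨a.1, a.2, mem_centralizer_singleton_iff.2 h2.symm⟩, rfl⟩

/-- The action of `S` on `V` is of Galois type. -/
structure GalAct (V S : Subgroup G) : Prop where
  uniq : ∀ x ∈ S, ∀ y ∈ S, (∀ a ∈ V, x * a * x⁻¹ ∈ V) → (∀ a ∈ V, y * a * y⁻¹ ∈ V) →
    (∀ a ∈ V, (x * x) * a = a * (x * x)) → (∀ a ∈ V, (y * y) * a = a * (y * y)) →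
    (∃ a ∈ V, x * a ≠ a * x) → (∃ a ∈ V, y * a ≠ a * y) →
    ∀ a ∈ V, (x⁻¹ * y) * a = a * (x⁻¹ * y)
  abel : ∀ x ∈ S, ∀ y ∈ S, (∀ a ∈ V, x * a * x⁻¹ ∈ V) → (∀ a ∈ V, y * a * y⁻¹ ∈ V) →
    ∀ a ∈ V, (x * y * x⁻¹ * y⁻¹) * a = a * (x * y * x⁻¹ * y⁻¹)
  fix : ∀ x ∈ S, (∀ a ∈ V, x * a * x⁻¹ ∈ V) → (∃ a ∈ V, x * a ≠ a * x) →
    Nat.card (V ⊓ centralizer {x} : Subgroup G) ^ 2 ≤ Nat.card V
  fix4 : ∀ x ∈ S, (∀ a ∈ V, x * a * x⁻¹ ∈ V) → (∃ a ∈ V, (x * x) * a ≠ a * (x * x)) →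
    Nat.card (V ⊓ centralizer {x} : Subgroup G) ^ 4 ≤ Nat.card V
  gen2 : ∀ x ∈ S, (∀ a ∈ V, x * a * x⁻¹ ∈ V) →
    Nat.card (V ⊓ centralizer {x} : Subgroup G) ≤ 2 →
    ∀ y ∈ S, (∀ a ∈ V, y * a * y⁻¹ ∈ V) → ∃ n : ℕ, ∀ a ∈ V, (x ^ n * y) * a = a * (x ^ n * y)

omit [Finite G] in
theorem mul_norm {x y : G} (hx : ∀ a ∈ V, x * a * x⁻¹ ∈ V) (hy : ∀ a ∈ V, y * a * y⁻¹ ∈ V) :
    ∀ a ∈ V, (x * y) * a * (x * y)⁻¹ ∈ V := by
  intro a ha
  have e : (x * y) * a * (x * y)⁻¹ = x * (y * a * y⁻¹) * x⁻¹ := by group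
  rw [e]
  exact hx _ (hy a ha)

theorem inv_norm {x : G} (hx : ∀ a ∈ V, x * a * x⁻¹ ∈ V) : ∀ a ∈ V, x⁻¹ * a * x⁻¹⁻¹ ∈ V := by
  have h1 : V.map (MulAut.conj x).toMonoidHom ≤ V := by
    rintro _ ⟨a, ha, rfl⟩
    exact hx a ha
  have h2 : V.map (MulAut.conj x).toMonoidHom = V := by
    refine Subgroup.eq_of_le_of_card_ge h1 ?_
    rw [Nat.card_congr (V.equivMapOfInjective _ (MulAut.conj x).injective).symm.toEquiv]
  intro a ha
  rw [← h2] at ha
  obtain ⟨b, hb, rfl⟩ := ha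
  have e : x⁻¹ * (MulAut.conj x).toMonoidHom b * x⁻¹⁻¹ = b := by
    change x⁻¹ * (x * b * x⁻¹) * x⁻¹⁻¹ = b
    group
  rw [e]; exact hb

omit [Finite G] in
theorem pow_norm {x : G} (hx : ∀ a ∈ V, x * a * x⁻¹ ∈ V) (n : ℕ) :
    ∀ a ∈ V, x ^ n * a * (x ^ n)⁻¹ ∈ V := by
  induction n with
  | zero => intro a ha; rw [pow_zero, one_mul, inv_one, mul_one]; exact ha
  | succ n ih => rw [pow_succ]; exact mul_norm ih hx

/-- a 2-group acting on `V ≃ F` through field automorphisms. -/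
theorem galAct [CharP F 2] (hS : IsPGroup 2 S) (e : V ≃ F)
    (h : ∀ s ∈ S, (∀ a ∈ V, s * a * s⁻¹ ∈ V) → ∃ σ : F ≃+* F, Acts e s σ) : GalAct V S := by
  have hF : Finite (F ≃+* F) := Finite.of_injective (fun σ : F ≃+* F => (σ : F → F))
    DFunLike.coe_injective
  -- inverse
  have hinv : ∀ s ∈ S, (∀ a ∈ V, s * a * s⁻¹ ∈ V) → ∀ σ : F ≃+* F, Acts e s σ →
      Acts e s⁻¹ σ⁻¹ := by
    intro s hs hn σ hσ
    obtain ⟨τ, hτ⟩ := h s⁻¹ (S.inv_mem hs) (inv_norm hn)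
    have h1 := hσ.mul hτ (inv_norm hn)
    rw [mul_inv_cancel] at h1
    have h2 : σ * τ = 1 := h1.one (fun a _ => by rw [one_mul, mul_one])
    rwa [eq_inv_of_mul_eq_one_right h2] at hτ
  have hpow : ∀ s, (∀ a ∈ V, s * a * s⁻¹ ∈ V) → ∀ σ : F ≃+* F, Acts e s σ →
      ∀ n : ℕ, Acts e (s ^ n) (σ ^ n) := by
    intro s hn σ hσ n
    induction n with
    | zero =>
      rw [pow_zero, pow_zero]
      intro a b hb
      have : b = a := Subtype.ext (by rw [hb]; group)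
      rw [this]; rfl
    | succ n ih =>
      rw [pow_succ, pow_succ]
      exact ih.mul hσ hn
  refine ⟨?_, ?_, ?_, ?_, ?_⟩
  · intro x hx y hy nx ny hxx hyy ⟨a, ha, hax⟩ ⟨b, hb, hby⟩ c hc
    obtain ⟨σ, hσ⟩ := h x hx nx
    obtain ⟨τ, hτ⟩ := h y hy ny
    have h1 : σ * σ = 1 := (hσ.mul hσ nx).one hxx
    have h2 : τ * τ = 1 := (hτ.mul hτ ny).one hyy
    have h3 : σ ≠ 1 := fun e1 => hax ((e1 ▸ hσ).cent nx ha)
    have h4 : τ ≠ 1 := fun e1 => hby ((e1 ▸ hτ).cent ny hb)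
    have h5 := uniq h1 h2 h3 h4
    have h6 := (hinv x hx nx σ hσ).mul hτ ny
    rw [← h5, inv_mul_cancel] at h6
    exact h6.cent (mul_norm (inv_norm nx) ny) hc
  · intro x hx y hy nx ny a ha
    obtain ⟨σ, hσ⟩ := h x hx nx
    obtain ⟨τ, hτ⟩ := h y hy ny
    have h1 := ((hσ.mul hτ ny).mul (hinv x hx nx σ hσ) (inv_norm nx)).mul
      (hinv y hy ny τ hτ) (inv_norm ny)
    rw [comm σ τ, mul_inv_cancel_right, mul_inv_cancel] at h1
    exact h1.cent (mul_norm (mul_norm (mul_norm nx ny) (inv_norm nx)) (inv_norm ny)) ha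
  · intro x hx nx ⟨a, ha, hax⟩
    obtain ⟨σ, hσ⟩ := h x hx nx
    have h3 : σ ≠ 1 := fun e1 => hax ((e1 ▸ hσ).cent nx ha)
    rw [hσ.card nx, Nat.card_congr e]
    exact sq_le σ h3
  · intro x hx nx ⟨a, ha, hax⟩
    obtain ⟨σ, hσ⟩ := h x hx nx
    have h3 : σ * σ ≠ 1 := fun e1 => hax ((e1 ▸ hσ.mul hσ nx).cent (mul_norm nx nx) ha)
    obtain ⟨k, hk⟩ := hS ⟨x, hx⟩
    have hk' : x ^ 2 ^ k = 1 := congrArg Subtype.val hk
    rw [hσ.card nx, Nat.card_congr e]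
    refine pow_four_le σ (k := k) ?_ h3
    have h4 := hpow x nx σ hσ (2 ^ k)
    rw [hk'] at h4
    exact h4.one (fun a _ => by rw [one_mul, mul_one])
  · intro x hx nx hc y hy ny
    obtain ⟨σ, hσ⟩ := h x hx nx
    obtain ⟨τ, hτ⟩ := h y hy ny
    rw [hσ.card nx] at hc
    have h1 : τ⁻¹ ∈ Submonoid.powers σ := by
      rw [mem_powers_iff_mem_zpowers]
      exact generates σ hc τ⁻¹
    obtain ⟨n, hn⟩ := h1
    refine ⟨n, fun a ha => ?_⟩
    have h2 := (hpow x nx σ hσ n).mul hτ ny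
    have hn' : σ ^ n = τ⁻¹ := hn
    rw [hn', inv_mul_cancel] at h2
    exact h2.cent (mul_norm (pow_norm nx n) ny) ha

end Act

end Cfsg.Agent.StdL2.FGal
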