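import Cfsg.Agent.StdL2.FCase

/-!
# S1773, case (f): the two tori commute
-/

set_option autoImplicit false
set_option linter.unusedSectionVars false

namespace Cfsg.Agent.StdL2.F

open Subgroup

namespace XC

variable {X W F : Type*} [Group X] [Finite X] [AddCommGroup W] [DistribMulAction X W] [Field F]
  [Finite F] {κ : F →+* AddMonoid.End W} {d : Fˣ →* X} {σ : F ≃+* F} {t f : X} {w₁ : W}

/-- if `ω` and `ω'` commute then the two fields commute -/
theorem comm_of_omega (C : XC κ d σ t f w₁) {y : X} (hyt : y * t * y⁻¹ = t * f)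
    (hyf : y * f * y⁻¹ = f ∨ y * f * y⁻¹ = t) {ω : F} (hω : σ ω = ω + 1)
    (h : κ ω * (rho X W y * κ ω * rho X W y⁻¹) = (rho X W y * κ ω * rho X W y⁻¹) * κ ω) :
    ∀ a b, κ a * (rho X W y * κ b * rho X W y⁻¹) = rho X W y * κ b * rho X W y⁻¹ * κ a := by
  have h1 : ∀ b, κ ω * (rho X W y * κ b * rho X W y⁻¹) =
      (rho X W y * κ b * rho X W y⁻¹) * κ ω := by
    intro b
    obtain ⟨u, v, hu, hv, rfl⟩ := C.decomp hω b
    obtain ⟨u', hu', e1⟩ := norm_y C hyt hyf u hu
    obtain ⟨v', hv', e2⟩ := norm_y C hyt hyf v hv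
    have e3 : rho X W y * κ (u + v * ω) * rho X W y⁻¹ =
        κ u' + κ v' * (rho X W y * κ ω * rho X W y⁻¹) := by
      rw [map_add, map_mul, mul_add, add_mul, e1, ← mul_assoc, e2, mul_assoc (κ u'), rho_mul_inv,
        mul_one]
      simp only [mul_assoc]
    have hKω : ∀ a : F, κ ω * κ a = κ a * κ ω := fun a => by rw [← map_mul, ← map_mul, mul_comm]
    rw [e3]
    generalize rho X W y * κ ω * rho X W y⁻¹ = O' at h ⊢
    rw [mul_add, add_mul, hKω, ← mul_assoc, hKω, mul_assoc, h, mul_assoc]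
  intro a b
  obtain ⟨u, v, hu, hv, rfl⟩ := C.decomp hω a
  have h2 := conj_comm_K0 C hyt hyf b
  have h3 := h1 b
  generalize rho X W y * κ b * rho X W y⁻¹ = O' at h2 h3 ⊢
  rw [map_add, map_mul, add_mul, mul_add, h2 u hu, mul_assoc, h3, ← mul_assoc, h2 v hv, mul_assoc]

theorem add_zero_comm (C : XC κ d σ t f w₁) {a b : AddMonoid.End W} (h : a + b = 0) : a = b := by
  have h1 := eq_neg_of_add_eq_zero_left h
  have h2 : -b = b := neg_eq_of_add_eq_zero_left (C.add_self_R b)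
  rwa [h2] at h1

/-- the case `D₈`, as a hypothesis -/
theorem commute_tori_of (C : XC κ d σ t f w₁)
    (k8 : ∀ (ω δ : F), σ ω = ω + 1 → σ δ = δ → δ ≠ 0 → ∀ x ∈ N1 κ σ, x * x = 1 →
      x * t * x⁻¹ = t * f → x * f = f * x →
      κ ω * (rho X W x * κ ω * rho X W x⁻¹) + (rho X W x * κ ω * rho X W x⁻¹) * κ ω =
        κ δ * rho X W f →
      (∀ S : Subgroup X, IsPGroup 2 S → S ≤ N1 κ σ → Nat.card S ≤ 8) → False)
    {y : X} (hyt : y * t * y⁻¹ = t * f) (hyf : y * f * y⁻¹ = f ∨ y * f * y⁻¹ = t) :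
    ∀ a b, κ a * (rho X W y * κ b * rho X W y⁻¹) = rho X W y * κ b * rho X W y⁻¹ * κ a := by
  obtain ⟨ω, hω⟩ := C.exists_omega
  rcases syl_cases C hyt hyf with hS | ⟨x, hxN, hxx, hxt, hxf, hS⟩
  · obtain ⟨δ, hδ, hz⟩ := z_form C hyt hyf hω
    by_cases hδ0 : δ = 0
    · rw [hδ0, map_zero, zero_mul] at hz
      exact C.comm_of_omega hyt hyf hω (C.add_zero_comm hz)
    · exact (kill_four C hyt hyf hω hδ hδ0 hz hS).elim
  · have hxf' : x * f * x⁻¹ = f ∨ x * f * x⁻¹ = t := Or.inl (mul_inv_eq_iff_eq_mul.mpr hxf)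
    obtain ⟨δ, hδ, hz⟩ := z_form C hxt hxf' hω
    have hcomm : ∀ a b, κ a * (rho X W x * κ b * rho X W x⁻¹) =
        rho X W x * κ b * rho X W x⁻¹ * κ a := by
      by_cases hδ0 : δ = 0
      · rw [hδ0, map_zero, zero_mul] at hz
        exact C.comm_of_omega hxt hxf' hω (C.add_zero_comm hz)
      · exact (k8 ω δ hω hδ hδ0 x hxN hxx hxt hxf hz hS).elim
    -- `y = x c` with `c ∈ C(t)`
    obtain ⟨c, hc⟩ : ∃ c, c = x⁻¹ * y := ⟨_, rfl⟩
    have hct : c * t = t * c := by
      have e1 : y * t = t * f * y := mul_inv_eq_iff_eq_mul.mp hyt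
      have e2 : x * t = t * f * x := mul_inv_eq_iff_eq_mul.mp hxt
      have e3 : x * (c * t) = x * (t * c) := by
        calc x * (c * t) = y * t := by rw [hc]; group
          _ = (t * f * x) * c := by rw [e1, hc]; group
          _ = x * (t * c) := by rw [← e2, mul_assoc]
      exact mul_left_cancel e3
    have hyc : y = x * c := by rw [hc]; group
    intro a b
    obtain ⟨b', hb'⟩ := C.conj_kappa hct b
    have e4 : rho X W y * κ b * rho X W y⁻¹ = rho X W x * κ b' * rho X W x⁻¹ := by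
      rw [hyc, mul_inv_rev, map_mul, map_mul]
      calc rho X W x * rho X W c * κ b * (rho X W c⁻¹ * rho X W x⁻¹) =
            rho X W x * (rho X W c * κ b) * rho X W c⁻¹ * rho X W x⁻¹ := by simp only [mul_assoc]
        _ = rho X W x * κ b' * (rho X W c * rho X W c⁻¹) * rho X W x⁻¹ := by
            rw [hb']; simp only [mul_assoc]
        _ = rho X W x * κ b' * rho X W x⁻¹ := by rw [rho_mul_inv, mul_one]
    rw [e4]
    exact hcomm a b'

end XC

end Cfsg.Agent.StdL2.F
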