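import Cfsg.Agent.StdL2.FKill

/-!
# S1773, case (f): centralizers, and the torus of the fixed field is normalized
-/

set_option autoImplicit false
set_option linter.unusedSectionVars false

namespace Cfsg.Agent.StdL2.F

theorem card_fixed (K : Type*) [Field K] [Finite K] (τ : RingAut K) :
    Nat.card K = (Nat.card {a : K // τ a = a}) ^ (orderOf τ) := by
  classical
  have : Finite (RingAut K) :=
    Finite.of_injective (fun τ : RingAut K => (τ : K → K))
      (fun a b h => RingEquiv.ext (fun x => congrFun h x))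
  have : Fintype (Subgroup.zpowers τ) := Fintype.ofFinite _
  have h1 := FixedPoints.finrank_eq_card (Subgroup.zpowers τ) K
  have h2 := Module.natCard_eq_pow_finrank (K := FixedPoints.subfield (Subgroup.zpowers τ) K) (V := K)
  rw [h1] at h2
  rw [← Nat.card_zpowers, Nat.card_eq_fintype_card (α := Subgroup.zpowers τ), h2]
  congr 1
  apply Nat.card_congr
  refine Equiv.subtypeEquivRight ?_
  intro a
  constructor
  · intro h
    exact h ⟨τ, Subgroup.mem_zpowers τ⟩
  · intro h g
    obtain ⟨g, n, rfl⟩ := g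
    have h3 : τ ∈ MulAction.stabilizer (RingAut K) a := h
    exact (MulAction.stabilizer (RingAut K) a).zpow_mem h3 n

theorem pow_gt {r k : ℕ} (hr : 2 ≤ r) (hk : 2 ≤ k) : k * (r - 1) < r ^ k - 1 := by
  obtain ⟨s, rfl⟩ : ∃ s, r = s + 1 := ⟨r - 1, by omega⟩
  have h1 : 1 ≤ s := by omega
  rw [Nat.add_sub_cancel]
  have key : ∀ k, 2 ≤ k → k * s + 1 < (s + 1) ^ k := by
    intro k hk
    induction k, hk using Nat.le_induction with
    | base => nlinarith
    | succ n hn ih =>
      rw [pow_succ]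
      calc (n + 1) * s + 1 = n * s + 1 + s := by ring
        _ ≤ (n * s + 1) * (s + 1) := by nlinarith [Nat.zero_le (n * s)]
        _ < (s + 1) ^ n * (s + 1) := by
          apply Nat.mul_lt_mul_of_pos_right ih; omega
  have := key k hk
  omega

namespace XC

variable {X W F : Type*} [Group X] [Finite X] [AddCommGroup W] [DistribMulAction X W] [Field F]
  [Finite F] {κ : F →+* AddMonoid.End W} {d : Fˣ →* X} {σ : F ≃+* F} {t f : X} {w₁ : W}

theorem rho_mul_inv (x : X) : rho X W x * rho X W x⁻¹ = 1 := by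
  rw [← map_mul, mul_inv_cancel, map_one]

theorem rho_inv_mul (x : X) : rho X W x⁻¹ * rho X W x = 1 := by
  rw [← map_mul, inv_mul_cancel, map_one]

/-- elements of `C(t)` act on `κ(F)` -/
theorem conj_kappa (C : XC κ d σ t f w₁) {x : X} (hx : x * t = t * x) (a : F) :
    ∃ b : F, rho X W x * κ a = κ b * rho X W x := by
  by_cases ha : a = 0
  · subst ha; exact ⟨0, by rw [map_zero, mul_zero, zero_mul]⟩
  · obtain ⟨b, hb⟩ := C.normD x hx (Units.mk0 a ha)
    refine ⟨b, ?_⟩
    have h := congrArg (rho X W) hb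
    rw [map_mul, map_mul, C.rho_d, C.rho_d] at h
    exact h

theorem commute_d (C : XC κ d σ t f w₁) {x : X} {a : Fˣ}
    (h : rho X W x * κ (a : F) = κ (a : F) * rho X W x) : x * d a = d a * x := by
  apply C.rho_inj
  rw [map_mul, map_mul, C.rho_d, h]

theorem kappa_eq {C : XC κ d σ t f w₁} {x : X} {a b : F}
    (h : κ a * rho X W x = κ b * rho X W x) : a = b := by
  apply C.kappa_injective
  calc κ a = κ a * rho X W x * rho X W x⁻¹ := by rw [mul_assoc, rho_mul_inv, mul_one]
    _ = κ b := by rw [h, mul_assoc, rho_mul_inv, mul_one]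

/-- the centralizer of `t` and of the fixed field. -/
theorem cent_tK (C : XC κ d σ t f w₁) {x : X} (hx : x * t = t * x)
    (hK : ∀ a, σ a = a → rho X W x * κ a = κ a * rho X W x) :
    ∃ a : Fˣ, x = d a ∨ x = t * d a ∨ x = d a * f ∨ x = t * d a * f := by
  obtain ⟨ω, hω⟩ := C.exists_omega
  obtain ⟨b, hb⟩ := C.conj_kappa hx ω
  have h2 : ∀ x : AddMonoid.End W, x + x = 0 := C.add_self_R
  -- `b ^ 2 + b = ω ^ 2 + ω`
  have h1 : b * b + b = ω * ω + ω := by
    have e1 : rho X W x * κ (ω * ω + ω) = κ (b * b + b) * rho X W x := by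
      rw [map_add, map_mul, mul_add, ← mul_assoc, hb, mul_assoc, hb, ← mul_assoc, map_add, map_mul,
        add_mul]
    rw [hK _ (C.omega_sq hω)] at e1
    exact (kappa_eq (C := C) e1).symm
  have h3 : (b - ω) * (b - ω - 1) = 0 := by
    have h4 := C.add_self_F ω
    have h5 := C.add_self_F (b * ω)
    linear_combination h1 + (ω + 1) * h4 - h5 - b * C.two
  have hall : ∀ y : X, rho X W y * κ ω = κ ω * rho X W y →
      (∀ a, σ a = a → rho X W y * κ a = κ a * rho X W y) → ∀ a, y * d a = d a * y := by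
    intro y hy hyK a
    apply C.commute_d
    obtain ⟨u, v, hu, hv, huv⟩ := C.decomp hω (a : F)
    rw [huv, map_add, map_mul, mul_add, add_mul, hyK u hu, ← mul_assoc, hyK v hv, mul_assoc, hy,
      mul_assoc]
  rcases mul_eq_zero.mp h3 with h4 | h4
  · have hbω : b = ω := sub_eq_zero.mp h4
    rw [hbω] at hb
    obtain ⟨a, ha | ha⟩ := C.centD x hx (hall x hb hK)
    · exact ⟨a, Or.inl ha⟩
    · exact ⟨a, Or.inr (Or.inl ha)⟩
  · have hbω : b = ω + 1 := by linear_combination h4
    rw [hbω] at hb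
    have hxf : (x * f) * t = t * (x * f) := by
      rw [mul_assoc, ← C.tf, ← mul_assoc, hx, mul_assoc]
    have h5 : rho X W (x * f) * κ ω = κ ω * rho X W (x * f) := by
      have e1 : rho X W x * κ (ω + 1) = κ ω * rho X W x := by
        rw [map_add, map_one, mul_add, mul_one, hb, map_add, map_one, add_mul, one_mul, add_assoc,
          h2, add_zero]
      rw [map_mul, mul_assoc, C.f_kappa, hω, ← mul_assoc, e1, mul_assoc]
    have h6 : ∀ a, σ a = a → rho X W (x * f) * κ a = κ a * rho X W (x * f) := by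
      intro a ha
      rw [map_mul, mul_assoc, C.f_kappa, ha, ← mul_assoc, hK a ha, mul_assoc]
    obtain ⟨a, ha | ha⟩ := C.centD _ hxf (hall _ h5 h6)
    · refine ⟨a, Or.inr (Or.inr (Or.inl ?_))⟩
      rw [← ha, mul_assoc, C.ff, mul_one]
    · refine ⟨a, Or.inr (Or.inr (Or.inr ?_))⟩
      rw [← ha, mul_assoc, C.ff, mul_one]

/-- the centralizer of `t`, `f` and the fixed field -/
theorem cent_tfK (C : XC κ d σ t f w₁) {x : X} (hx : x * t = t * x) (hxf : x * f = f * x)
    (hK : ∀ a, σ a = a → rho X W x * κ a = κ a * rho X W x) :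
    ∃ a : Fˣ, σ a = a ∧ (x = d a ∨ x = t * d a ∨ x = f * d a ∨ x = t * f * d a) := by
  have key : ∀ a : Fˣ, d a * f = f * d a → σ a = a := by
    intro a ha
    have h1 := C.fd a
    rw [← ha] at h1
    have h2 := C.d_inj (mul_right_cancel h1)
    have h3 := congrArg (fun u : Fˣ => (u : F)) h2
    exact h3.symm
  obtain ⟨a, h | h | h | h⟩ := C.cent_tK hx hK
  · exact ⟨a, key a (by rw [← h, hxf]), Or.inl h⟩
  · have h1 : d a * f = f * d a := by
      have : t * (d a * f) = t * (f * d a) := by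
        rw [← mul_assoc, ← h, hxf, h, ← mul_assoc, ← C.tf, mul_assoc]
      exact mul_left_cancel this
    exact ⟨a, key a h1, Or.inr (Or.inl h)⟩
  · have h1 : d a * f = f * d a := by
      have : (d a * f) * f = (f * d a) * f := by
        rw [← h, hxf, h]; simp only [mul_assoc]
      exact mul_right_cancel this
    exact ⟨a, key a h1, Or.inr (Or.inr (Or.inl (by rw [h, h1])))⟩
  · have h1 : d a * f = f * d a := by
      have e1 : t * (d a * f * f) = t * (f * d a * f) := by
        have e2 : t * (d a * f * f) = x * f := by rw [h]; simp only [mul_assoc]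
        have e3 : t * (f * d a * f) = f * x := by
          rw [h]; simp only [← mul_assoc]; rw [C.tf]
        rw [e2, e3, hxf]
      exact mul_right_cancel (mul_left_cancel e1)
    exact ⟨a, key a h1, Or.inr (Or.inr (Or.inr (by rw [h, mul_assoc, h1, mul_assoc])))⟩

/-- none of `t`, `f`, `t f` is a scalar -/
theorem not_scalar (C : XC κ d σ t f w₁) (a : Fˣ) : t ≠ d a ∧ f ≠ d a ∧ t * f ≠ d a := by
  have key : ∀ b : F, t • w₁ ≠ κ b w₁ := by
    intro b hb
    have h1 := C.indep (1 - b) 1 (by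
      rw [map_sub, map_one]
      change (w₁ - κ b w₁) + (t • w₁ + w₁) = 0
      rw [← hb]
      have := C.add_self_W w₁
      calc w₁ - t • w₁ + (t • w₁ + w₁) = w₁ + w₁ := by abel
        _ = 0 := this)
    exact one_ne_zero h1.2
  refine ⟨?_, ?_, ?_⟩
  · intro h
    exact key a (by rw [← C.act, ← h])
  · intro h
    have h1 : κ (a : F) w₁ = w₁ := by rw [← C.act, ← h, C.fw]
    have h3 := C.indep ((a : F) - 1) 0 (by
      rw [map_sub, map_one, map_zero]
      change (κ (a : F) w₁ - w₁) + (0 : W) = 0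
      rw [h1, sub_self, add_zero])
    have h4 : a = 1 := Units.ext (sub_eq_zero.mp h3.1)
    rw [h4, map_one] at h
    exact C.f_ne_one h
  · intro h
    exact key a (by rw [← C.act, ← h, mul_smul, C.fw])

/-- elements of odd order in `⟨t, f⟩ d(K₀ˣ)` lie in `d(K₀ˣ)`. -/
theorem odd_mem (C : XC κ d σ t f w₁) {x : X} {n : ℕ} (hn : Odd n) (hxn : x ^ n = 1) {a : Fˣ}
    (ha : σ a = a) (h : x = d a ∨ x = t * d a ∨ x = f * d a ∨ x = t * f * d a) : x = d a := by
  have hfd : f * d a = d a * f := by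
    rw [C.fd]
    congr 2
    exact Units.ext ha
  have key : ∀ e : X, e * e = 1 → Commute e (d a) → x = e * d a → ∃ b, e = d b := by
    intro e he hc hx
    rw [hx, hc.mul_pow, ← map_pow] at hxn
    obtain ⟨k, hk⟩ := hn
    have h1 : e ^ n = e := by rw [hk, pow_succ, pow_mul, pow_two, he, one_pow, one_mul]
    rw [h1] at hxn
    refine ⟨(a ^ n)⁻¹, ?_⟩
    rw [map_inv]
    exact eq_inv_of_mul_eq_one_left hxn
  rcases h with h | h | h | h
  · exact h
  · obtain ⟨b, hb⟩ := key t C.tt (C.td a) h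
    exact absurd hb (C.not_scalar b).1
  · obtain ⟨b, hb⟩ := key f C.ff hfd h
    exact absurd hb (C.not_scalar b).2.1
  · obtain ⟨b, hb⟩ := key (t * f) (by
      rw [mul_assoc, ← mul_assoc f t f, ← C.tf, mul_assoc t f f, C.ff, mul_one, C.tt])
      (by
        change t * f * d a = d a * (t * f)
        rw [mul_assoc, hfd, ← mul_assoc, C.td, mul_assoc]) h
    exact absurd hb (C.not_scalar b).2.2

/-- an element normalizing `⟨t, f⟩` normalizes the torus `d(K₀ˣ)` of the fixed field. -/
theorem norm_K0 (C : XC κ d σ t f w₁) {y : X}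
    (hyt : y * t * y⁻¹ = t ∨ y * t * y⁻¹ = f ∨ y * t * y⁻¹ = t * f)
    (hyf : y * f * y⁻¹ = t ∨ y * f * y⁻¹ = f ∨ y * f * y⁻¹ = t * f) :
    ∀ a : Fˣ, σ a = a → ∃ b : Fˣ, σ b = b ∧ y * d a = d b * y := by
  classical
  obtain ⟨g, hg⟩ := IsCyclic.exists_generator (α := (K0 σ)ˣ)
  set a₀ : Fˣ := Units.map ((K0 σ).subtype : K0 σ →* F) g with ha₀
  have ha₀σ : σ (a₀ : F) = a₀ := (g : K0 σ).2
  obtain ⟨h, hh⟩ : ∃ h, h = y * d a₀ * y⁻¹ := ⟨_, rfl⟩
  have hdf : d a₀ * f = f * d a₀ := by
    rw [C.fd]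
    congr 2
    exact Units.ext ha₀σ.symm
  have hc : ∀ e : X, d a₀ * e = e * d a₀ → h * (y * e * y⁻¹) = (y * e * y⁻¹) * h := by
    intro e he
    have e1 : h * (y * e * y⁻¹) = y * (d a₀ * e) * y⁻¹ := by rw [hh]; group
    have e2 : (y * e * y⁻¹) * h = y * (e * d a₀) * y⁻¹ := by rw [hh]; group
    rw [e1, e2, he]
  have h1 : Commute h (y * t * y⁻¹) := hc t (C.td a₀).symm
  have h2 : Commute h (y * f * y⁻¹) := hc f hdf
  have hne : y * t * y⁻¹ ≠ y * f * y⁻¹ := by
    intro h
    exact C.f_ne_t (mul_left_cancel (mul_right_cancel h)).symm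
  have etf1 : t * (t * f) = f := by rw [← mul_assoc, C.tt, one_mul]
  have etf2 : (t * f) * f = t := by rw [mul_assoc, C.ff, mul_one]
  have hcomm : Commute h t ∧ Commute h f := by
    rcases hyt with e1 | e1 | e1 <;> rcases hyf with e2 | e2 | e2 <;> rw [e1] at h1 hne <;>
      rw [e2] at h2 hne
    · exact absurd rfl hne
    · exact ⟨h1, h2⟩
    · exact ⟨h1, etf1 ▸ h1.mul_right h2⟩
    · exact ⟨h2, h1⟩
    · exact absurd rfl hne
    · exact ⟨etf2 ▸ h2.mul_right h1, h1⟩
    · exact ⟨h2, etf1 ▸ h2.mul_right h1⟩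
    · exact ⟨etf2 ▸ h1.mul_right h2, h2⟩
    · exact absurd rfl hne
  obtain ⟨hht, hhf⟩ := hcomm
  -- the automorphism of the fixed field
  have hτ : ∀ a : K0 σ, ∃ b : K0 σ, rho X W h * κ (a : F) = κ (b : F) * rho X W h := by
    intro a
    obtain ⟨b, hb⟩ := C.conj_kappa hht a
    have e1 : κ (σ b) * (rho X W f * rho X W h) = κ b * (rho X W f * rho X W h) := by
      have e2 : rho X W f * rho X W h = rho X W h * rho X W f := by
        rw [← map_mul, ← map_mul]; exact congrArg _ hhf.symm.eq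
      have e3 : σ (a : F) = a := a.2
      calc κ (σ b) * (rho X W f * rho X W h) = rho X W f * (κ b * rho X W h) := by
            rw [← mul_assoc, ← C.f_kappa, mul_assoc]
        _ = (rho X W f * rho X W h) * κ (a : F) := by rw [← hb, mul_assoc]
        _ = rho X W h * (rho X W f * κ (a : F)) := by rw [e2, mul_assoc]
        _ = (rho X W h * κ (a : F)) * rho X W f := by rw [C.f_kappa, e3, mul_assoc]
        _ = κ b * (rho X W f * rho X W h) := by rw [hb, mul_assoc, e2]
    have e4 : σ b = b := by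
      rw [← map_mul] at e1
      exact kappa_eq (C := C) e1
    exact ⟨⟨b, e4⟩, hb⟩
  choose τf hτf using hτ
  have huniq : ∀ {a b : K0 σ}, κ (a : F) * rho X W h = κ (b : F) * rho X W h → a = b :=
    fun hab => Subtype.ext (kappa_eq (C := C) hab)
  let τh : K0 σ →+* K0 σ :=
    { toFun := τf
      map_one' := huniq (by
        rw [← hτf]
        change rho X W h * κ 1 = κ 1 * rho X W h
        rw [map_one, mul_one, one_mul])
      map_zero' := huniq (by
        rw [← hτf]
        change rho X W h * κ 0 = κ 0 * rho X W h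
        rw [map_zero, mul_zero, zero_mul])
      map_mul' := fun a b => huniq (by
        rw [← hτf]
        change rho X W h * κ ((a : F) * b) = κ ((τf a : F) * τf b) * rho X W h
        rw [map_mul, map_mul, ← mul_assoc, hτf, mul_assoc, hτf, ← mul_assoc])
      map_add' := fun a b => huniq (by
        rw [← hτf]
        change rho X W h * κ ((a : F) + b) = κ ((τf a : F) + τf b) * rho X W h
        rw [map_add, map_add, mul_add, hτf, hτf, add_mul]) }
  have hbij : Function.Bijective τh := by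
    rw [← Finite.injective_iff_bijective]
    exact τh.injective
  let τ : RingAut (K0 σ) := RingEquiv.ofBijective τh hbij
  have hτ : ∀ a : K0 σ, rho X W h * κ (a : F) = κ (τ a : F) * rho X W h := hτf
  have hτpow : ∀ n : ℕ, ∀ a : K0 σ,
      rho X W (h ^ n) * κ (a : F) = κ ((τ ^ n) a : F) * rho X W (h ^ n) := by
    intro n
    induction n with
    | zero =>
      intro a
      rw [pow_zero, pow_zero, map_one, one_mul, mul_one]
      rfl
    | succ n ih =>
      intro a
      rw [pow_succ, pow_succ, map_mul, mul_assoc, hτ, ← mul_assoc, ih, mul_assoc]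
      rfl
  -- odd order
  have hcardK : Nat.card (K0 σ)ˣ = Nat.card (K0 σ) - 1 := by
    rw [Nat.card_units]
  have h2K : (2 : K0 σ) = 0 := Subtype.ext C.two
  have heven : Even (Nat.card (K0 σ)) := by
    haveI : CharP (K0 σ) 2 := CharTwo.of_one_ne_zero_of_two_eq_zero one_ne_zero h2K
    haveI := Fintype.ofFinite (K0 σ)
    rw [Nat.card_eq_fintype_card]
    obtain ⟨n, hn1, hn2⟩ := FiniteField.card (K0 σ) 2
    rw [hn2]
    exact (Nat.even_pow.mpr ⟨even_two, n.pos.ne'⟩)
  have hpos : 2 ≤ Nat.card (K0 σ) := by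
    have := Finite.one_lt_card (α := K0 σ)
    omega
  set N := Nat.card (K0 σ)ˣ with hN
  have hNodd : Odd N := by
    rw [hcardK]
    exact Nat.Even.sub_odd (by omega) heven odd_one
  have hhN : h ^ N = 1 := by
    have e1 : h ^ N = y * (d a₀) ^ N * y⁻¹ := by rw [hh]; exact conj_pow
    have e2 : g ^ N = 1 := pow_card_eq_one'
    rw [e1, ← map_pow, ha₀, ← map_pow, e2, map_one, map_one, mul_one, mul_inv_cancel]
  -- a power of `h` centralizing the fixed field
  have hcent : ∀ n : ℕ, (∀ a, (τ ^ n) a = a) → ∃ b : Fˣ, σ b = b ∧ h ^ n = d b := by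
    intro n hn
    obtain ⟨b, hb, hb'⟩ := C.cent_tfK (x := h ^ n) (hht.pow_left n) (hhf.pow_left n) (by
      intro a ha
      have := hτpow n ⟨a, ha⟩
      rw [hn] at this
      exact this)
    refine ⟨b, hb, C.odd_mem hNodd ?_ hb hb'⟩
    rw [← pow_mul, mul_comm, pow_mul, hhN, one_pow]
  set k := orderOf τ with hk
  have hfinR : Finite (RingAut (K0 σ)) :=
    Finite.of_injective (fun τ : RingAut (K0 σ) => (τ : K0 σ → K0 σ))
      (fun a b h => RingEquiv.ext (fun x => congrFun h x))
  have hkpos : 0 < k := orderOf_pos τ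
  obtain ⟨b, hb, hbk⟩ := hcent k (fun a => by rw [hk, pow_orderOf_eq_one]; rfl)
  -- the fixed field of `τ`
  set r := Nat.card (K0 (F := K0 σ) τ) with hr
  have hcard : Nat.card (K0 σ) = r ^ k := card_fixed (K0 σ) τ
  have hr2 : 2 ≤ r := by
    have := Finite.one_lt_card (α := K0 (F := K0 σ) τ)
    omega
  have hbτ : τ ⟨b, hb⟩ = ⟨b, hb⟩ := by
    apply huniq
    rw [← hτ]
    change rho X W h * κ (b : F) = κ (b : F) * rho X W h
    rw [← C.rho_d, ← map_mul, ← map_mul, ← hbk, ← pow_succ, ← pow_succ']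
  have hbr : b ^ (r - 1) = 1 := by
    haveI := Fintype.ofFinite (K0 (F := K0 σ) τ)
    have e1 := FiniteField.pow_card_sub_one_eq_one
      (⟨⟨b, hb⟩, hbτ⟩ : K0 (F := K0 σ) τ) (by
        intro h0
        exact b.ne_zero (congrArg (fun z : K0 (F := K0 σ) τ => ((z : K0 σ) : F)) h0))
    rw [← Nat.card_eq_fintype_card] at e1
    have e2 := congrArg (fun z : K0 (F := K0 σ) τ => ((z : K0 σ) : F)) e1
    exact Units.ext e2
  have hdvd : orderOf h ∣ k * (r - 1) := by
    apply orderOf_dvd_of_pow_eq_one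
    rw [pow_mul, hbk, ← map_pow, hbr, map_one]
  have hord : orderOf h = N := by
    have e1 : orderOf h = orderOf (d a₀) := by
      rw [hh]
      exact orderOf_injective (MulAut.conj y).toMonoidHom (MulAut.conj y).injective (d a₀)
    rw [e1, orderOf_injective d C.d_inj, ha₀]
    rw [orderOf_injective (Units.map ((K0 σ).subtype : K0 σ →* F))
      (Units.map_injective Subtype.val_injective)]
    exact orderOf_eq_card_of_forall_mem_zpowers hg
  have hk1 : k = 1 := by
    by_contra hne1
    have h3 : 2 ≤ k := by omega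
    have h4 := pow_gt hr2 h3
    have h5 := Nat.le_of_dvd (Nat.mul_pos hkpos (by omega)) hdvd
    rw [hord, hcardK, hcard] at h5
    omega
  obtain ⟨b', hb', hb1⟩ := hcent 1 (fun a => by
    have : τ ^ 1 = 1 := by rw [← hk1, hk, pow_orderOf_eq_one]
    rw [this]; rfl)
  rw [pow_one] at hb1
  intro a ha
  let a' : (K0 σ)ˣ := Units.mk0 ⟨a, ha⟩ (by
    intro h0
    exact a.ne_zero (congrArg (fun z : K0 σ => (z : F)) h0))
  obtain ⟨n, hn⟩ := hg a'
  have haa : a = a₀ ^ n := by
    apply Units.ext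
    have e1 : (a : F) = ((a' : K0 σ) : F) := rfl
    rw [e1, ← hn, ha₀, ← map_zpow]
    rfl
  refine ⟨b' ^ n, ?_, ?_⟩
  · have : Units.map (σ : F →* F) b' = b' := Units.ext hb'
    have e2 : Units.map (σ : F →* F) (b' ^ n) = b' ^ n := by rw [map_zpow, this]
    exact congrArg (fun u : Fˣ => (u : F)) e2
  · rw [map_zpow, ← hb1, haa, map_zpow, hh, conj_zpow, inv_mul_cancel_right]

end XC

end Cfsg.Agent.StdL2.F
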