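import Mathlib

/-!
# Odd order subgroups of `SL₂(C)`, `C` a commutative ring of characteristic 2

If `H` is a finite group of odd order, `φ : H → M₂(C)` a homomorphism with `det = 1` and
`∑ φ(h) = 0`, then the centralizer of `φ(H)` in `M₂(C)` is not reduced to the scalars.
-/

set_option autoImplicit false

namespace Cfsg.Agent.StdL2.F

open Matrix

variable {C : Type*} [CommRing C] {H : Type*} [Group H] [Fintype H]

private theorem sq_sum_char_two (h2 : (2 : C) = 0) {ι : Type*} (s : Finset ι) (g : ι → C) :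
    (∑ i ∈ s, g i) ^ 2 = ∑ i ∈ s, (g i) ^ 2 := by
  classical
  induction s using Finset.induction_on with
  | empty => simp
  | insert a s ha ih =>
    rw [Finset.sum_insert ha, Finset.sum_insert ha, add_sq, ih]
    have : 2 * g a * ∑ i ∈ s, g i = 0 := by rw [h2]; ring
    rw [this, add_zero]

theorem not_scalar_centralizer [Nontrivial C] (h2 : (2 : C) = 0) (hodd : Odd (Fintype.card H))
    (φ : H →* Matrix (Fin 2) (Fin 2) C) (hdet : ∀ h, (φ h).det = 1)
    (hsum : ∑ h : H, φ h = 0)
    (hcent : ∀ x : Matrix (Fin 2) (Fin 2) C, (∀ h, φ h * x = x * φ h) →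
      ∃ c : C, x = c • (1 : Matrix (Fin 2) (Fin 2) C)) :
    False := by
  classical
  -- the averaging operator
  let P : Matrix (Fin 2) (Fin 2) C → Matrix (Fin 2) (Fin 2) C := fun x => ∑ h : H, φ h * x * φ h⁻¹
  have hP : ∀ x, ∃ c : C, P x = c • (1 : Matrix (Fin 2) (Fin 2) C) := by
    intro x
    apply hcent
    intro g
    have h1 : φ g * P x * φ g⁻¹ = P x := by
      simp only [P]
      rw [Finset.mul_sum, Finset.sum_mul]
      apply Fintype.sum_equiv (Equiv.mulLeft g)
      intro h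
      simp only [Equiv.coe_mulLeft, map_mul, _root_.mul_inv_rev, mul_assoc]
    have h3 : φ g⁻¹ * φ g = 1 := by rw [← map_mul, inv_mul_cancel, map_one]
    calc φ g * P x = φ g * P x * (φ g⁻¹ * φ g) := by rw [h3, mul_one]
      _ = (φ g * P x * φ g⁻¹) * φ g := by simp only [mul_assoc]
      _ = P x * φ g := by rw [h1]
  -- trace of the inverse
  have htr : ∀ h, (φ h⁻¹).trace = (φ h).trace := by
    intro h
    have h1 : φ h⁻¹ = (φ h).adjugate := by
      have h3 : φ h⁻¹ * φ h = 1 := by rw [← map_mul, inv_mul_cancel, map_one]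
      calc φ h⁻¹ = φ h⁻¹ * (φ h * (φ h).adjugate) := by
            rw [Matrix.mul_adjugate, hdet, one_smul, mul_one]
        _ = (φ h).adjugate := by rw [← mul_assoc, h3, one_mul]
    rw [h1, Matrix.adjugate_fin_two, Matrix.trace_fin_two, Matrix.trace_fin_two]
    simp [add_comm]
  -- the trace of P
  have hTr : (P (Matrix.single 0 0 1)) 0 0 + (P (Matrix.single 0 1 1)) 0 1 +
      (P (Matrix.single 1 0 1)) 1 0 + (P (Matrix.single 1 1 1)) 1 1 = 0 := by
    have h1 : ∀ h : H, (φ h * (Matrix.single 0 0 (1 : C) : Matrix (Fin 2) (Fin 2) C) * φ h⁻¹) 0 0 +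
        (φ h * (Matrix.single 0 1 (1 : C) : Matrix (Fin 2) (Fin 2) C) * φ h⁻¹) 0 1 +
        (φ h * (Matrix.single 1 0 (1 : C) : Matrix (Fin 2) (Fin 2) C) * φ h⁻¹) 1 0 +
        (φ h * (Matrix.single 1 1 (1 : C) : Matrix (Fin 2) (Fin 2) C) * φ h⁻¹) 1 1 = (φ h).trace ^ 2 := by
      intro h
      have h4 : (φ h).trace ^ 2 = (φ h).trace * (φ h⁻¹).trace := by rw [htr, sq]
      rw [h4, Matrix.trace_fin_two, Matrix.trace_fin_two]
      simp only [Matrix.mul_apply, Fin.sum_univ_two, Matrix.single, Matrix.of_apply]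
      simp
      ring
    have h5 : (P (Matrix.single 0 0 1)) 0 0 + (P (Matrix.single 0 1 1)) 0 1 +
      (P (Matrix.single 1 0 1)) 1 0 + (P (Matrix.single 1 1 1)) 1 1 =
        ∑ h : H, (φ h).trace ^ 2 := by
      simp only [P, Matrix.sum_apply]
      rw [← Finset.sum_add_distrib, ← Finset.sum_add_distrib, ← Finset.sum_add_distrib]
      exact Finset.sum_congr rfl fun h _ => h1 h
    rw [h5, ← sq_sum_char_two h2, ← Matrix.trace_sum, hsum]
    simp
  -- P of the identity
  have hcard : ((Fintype.card H : ℕ) : C) = 1 := by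
    obtain ⟨k, hk⟩ := hodd
    rw [hk]
    push_cast
    rw [h2]
    ring
  have hone : P (Matrix.single 0 0 1) + P (Matrix.single 1 1 1) = 1 := by
    simp only [P]
    rw [← Finset.sum_add_distrib]
    have h1 : ∀ h : H, φ h * Matrix.single 0 0 (1 : C) * φ h⁻¹ +
        φ h * Matrix.single 1 1 (1 : C) * φ h⁻¹ = 1 := by
      intro h
      have h6 : Matrix.single (0 : Fin 2) (0 : Fin 2) (1 : C) + Matrix.single 1 1 (1 : C) = 1 := by
        ext i j
        fin_cases i <;> fin_cases j <;> simp [Matrix.single]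
      rw [← add_mul, ← mul_add, h6, mul_one, ← map_mul, mul_inv_cancel, map_one]
    rw [Finset.sum_congr rfl fun h _ => h1 h, Finset.sum_const, Finset.card_univ, nsmul_eq_mul,
      mul_one]
    ext i j
    have h7 : ((Fintype.card H : ℕ) : Matrix (Fin 2) (Fin 2) C) = 1 := by
      have := congrArg (algebraMap C (Matrix (Fin 2) (Fin 2) C)) hcard
      simpa using this
    rw [h7]
  obtain ⟨a, ha⟩ := hP (Matrix.single 0 0 1)
  obtain ⟨b, hb⟩ := hP (Matrix.single 0 1 1)
  obtain ⟨c, hc⟩ := hP (Matrix.single 1 0 1)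
  obtain ⟨e, he⟩ := hP (Matrix.single 1 1 1)
  rw [ha, hb, hc, he] at hTr
  rw [ha, he] at hone
  have h8 := congrFun (congrFun hone 0) 0
  simp at hTr h8
  rw [h8] at hTr
  exact one_ne_zero hTr

end Cfsg.Agent.StdL2.F
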