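import Cfsg.Agent.StdL2.FNorm

/-!
# S1773, case (f): 2-subgroups centralizing the fixed field
-/

set_option autoImplicit false
set_option linter.unusedSectionVars false

namespace Cfsg.Agent.StdL2.F

/-- the subgroup of elements commuting with the fixed field -/
def N1 {X W F : Type*} [Group X] [AddCommGroup W] [DistribMulAction X W] [Field F]
    (κ : F →+* AddMonoid.End W) (σ : F ≃+* F) : Subgroup X where
  carrier := {x | ∀ a, σ a = a → XC.rho X W x * κ a = κ a * XC.rho X W x}
  mul_mem' := by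
    intro x y hx hy a ha
    rw [map_mul, mul_assoc, hy a ha, ← mul_assoc, hx a ha, mul_assoc]
  one_mem' := by
    intro a _
    rw [map_one, one_mul, mul_one]
  inv_mem' := by
    intro x hx a ha
    have h1 : XC.rho X W x * XC.rho X W x⁻¹ = 1 := by rw [← map_mul, mul_inv_cancel, map_one]
    have h2 : XC.rho X W x⁻¹ * XC.rho X W x = 1 := by rw [← map_mul, inv_mul_cancel, map_one]
    calc XC.rho X W x⁻¹ * κ a = XC.rho X W x⁻¹ * (κ a * XC.rho X W x) * XC.rho X W x⁻¹ := by
          rw [mul_assoc, mul_assoc, h1, mul_one]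
      _ = XC.rho X W x⁻¹ * (XC.rho X W x * κ a) * XC.rho X W x⁻¹ := by rw [hx a ha]
      _ = κ a * XC.rho X W x⁻¹ := by rw [← mul_assoc, h2, one_mul]

namespace XC

variable {X W F : Type*} [Group X] [Finite X] [AddCommGroup W] [DistribMulAction X W] [Field F]
  [Finite F] {κ : F →+* AddMonoid.End W} {d : Fˣ →* X} {σ : F ≃+* F} {t f : X} {w₁ : W}

theorem mem_N1 {x : X} : x ∈ N1 κ σ ↔ ∀ a, σ a = a → rho X W x * κ a = κ a * rho X W x := Iff.rfl

theorem finite_W (C : XC κ d σ t f w₁) : Finite W := by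
  refine Finite.of_surjective (fun p : F × F => κ p.1 w₁ + κ p.2 (t • w₁ + w₁)) ?_
  intro w
  obtain ⟨a, b, h⟩ := C.span w
  exact ⟨(a, b), h.symm⟩

theorem t_mem (C : XC κ d σ t f w₁) : t ∈ N1 κ σ := fun a _ => C.t_kappa a

theorem f_mem (C : XC κ d σ t f w₁) : f ∈ N1 κ σ := fun a ha => by
  rw [C.f_kappa, ha]

theorem d_mem (C : XC κ d σ t f w₁) (a : Fˣ) : d a ∈ N1 κ σ := fun b _ => by
  rw [C.rho_d, ← map_mul, ← map_mul, mul_comm]

theorem smul_kappa {x : X} (hx : x ∈ N1 κ σ) {a : F} (ha : σ a = a) (w : W) :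
    x • κ a w = κ a (x • w) := DFunLike.congr_fun (hx a ha) w

theorem two_pow_one (C : XC κ d σ t f w₁) {a : F} {n : ℕ} (h : a ^ 2 ^ n = 1) : a = 1 := by
  haveI : CharP F 2 := CharTwo.of_one_ne_zero_of_two_eq_zero one_ne_zero C.two
  have h1 : (a - 1) ^ 2 ^ n = 0 := by
    rw [sub_pow_char_pow, h, one_pow, sub_self]
  exact sub_eq_zero.mp (pow_eq_zero_iff (by positivity) |>.mp h1)

theorem two_pow_one' (C : XC κ d σ t f w₁) {a : Fˣ} {n : ℕ} (h : a ^ 2 ^ n = 1) : a = 1 := by
  apply Units.ext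
  apply C.two_pow_one (n := n)
  have := congrArg (fun u : Fˣ => (u : F)) h
  simpa using this

theorem fd_comm (C : XC κ d σ t f w₁) {a : Fˣ} (ha : σ (a : F) = a) : f * d a = d a * f := by
  rw [C.fd]
  congr 2
  exact Units.ext ha

/-- 2-elements of `C(t, f)` centralizing the fixed field -/
theorem two_elt (C : XC κ d σ t f w₁) {s : X} (hs : s ∈ N1 κ σ) (hst : s * t = t * s)
    (hsf : s * f = f * s) {n : ℕ} (h2 : s ^ 2 ^ n = 1) :
    s = 1 ∨ s = t ∨ s = f ∨ s = t * f := by
  obtain ⟨a, ha, h⟩ := C.cent_tfK hst hsf hs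
  have key : ∀ e : X, e * e = 1 → Commute e (d a) → s = e * d a → s = e := by
    intro e he hc hx
    have h3 : s ^ 2 = d a ^ 2 := by
      rw [hx, hc.mul_pow, pow_two e, he, one_mul]
    have h4 : d (a ^ 2 ^ (n + 1)) = 1 := by
      rw [map_pow, pow_succ', pow_mul, ← h3, ← pow_mul, mul_comm, pow_mul, h2, one_pow]
    rw [← map_one d] at h4
    have h5 := C.two_pow_one' (C.d_inj h4)
    rw [hx, h5, map_one, mul_one]
  have hfd := C.fd_comm ha
  rcases h with h | h | h | h
  · exact Or.inl (key 1 (one_mul 1) (Commute.one_left _) (by rw [h, one_mul]))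
  · exact Or.inr (Or.inl (key t C.tt (C.td a) h))
  · exact Or.inr (Or.inr (Or.inl (key f C.ff hfd h)))
  · refine Or.inr (Or.inr (Or.inr (key (t * f) ?_ ?_ h)))
    · rw [mul_assoc, ← mul_assoc f t f, ← C.tf, mul_assoc t f f, C.ff, mul_one, C.tt]
    · change t * f * d a = d a * (t * f)
      rw [mul_assoc, hfd, ← mul_assoc, C.td, mul_assoc]

/-- an additive finite 2-group acted on by a 2-group has non-zero fixed points -/
theorem exists_fixed {S V : Type*} [Group S] [AddCommGroup V] [Finite V] [DistribMulAction S V]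
    (hS : IsPGroup 2 S) [Finite S] (hV : 2 ∣ Nat.card V) : ∃ v : V, v ≠ 0 ∧ ∀ s : S, s • v = v := by
  classical
  have h1 := hS.card_modEq_card_fixedPoints (α := V)
  have h2 : 2 ∣ Nat.card (MulAction.fixedPoints S V) :=
    (Nat.modEq_zero_iff_dvd.mp (h1.symm.trans (Nat.modEq_zero_iff_dvd.mpr hV)))
  have h3 : 0 < Nat.card (MulAction.fixedPoints S V) := by
    haveI : Nonempty (MulAction.fixedPoints S V) := ⟨⟨0, fun s => smul_zero s⟩⟩
    exact Nat.card_pos
  have h4 : 1 < Nat.card (MulAction.fixedPoints S V) := by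
    obtain ⟨k, hk⟩ := h2; omega
  haveI := Finite.one_lt_card_iff_nontrivial.mp h4
  obtain ⟨v, hv⟩ := exists_ne (⟨0, fun s => smul_zero s⟩ : MulAction.fixedPoints S V)
  exact ⟨v, fun h => hv (Subtype.ext h), v.2⟩

/-- the fixed points of `f`, as an additive subgroup -/
def W00 (f : X) : AddSubgroup W where
  carrier := {w | f • w = w}
  add_mem' := by
    intro a b ha hb
    change f • (a + b) = a + b
    rw [smul_add, ha, hb]
  zero_mem' := smul_zero f
  neg_mem' := by
    intro a ha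
    change f • (-a) = -a
    rw [smul_neg, ha]

section Two

variable (C : XC κ d σ t f w₁) {S : Subgroup X} (hS : IsPGroup 2 S) (hSN : S ≤ N1 κ σ)
  (htS : t ∈ S) (hSf : ∀ s ∈ S, s * f = f * s)

include C hS hSN htS hSf

theorem fix_v : ∀ s ∈ S, s • (t • w₁ + w₁) = t • w₁ + w₁ := by
  classical
  have := C.finite_W
  let W0 : AddSubgroup W := W00 f
  letI : DistribMulAction S W0 :=
    { smul := fun s w => ⟨(s : X) • (w : W), by
        change f • ((s : X) • (w : W)) = (s : X) • (w : W)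
        rw [smul_smul, ← hSf s s.2, ← smul_smul]
        exact congrArg _ w.2⟩
      one_smul := fun w => Subtype.ext (one_smul X (w : W))
      mul_smul := fun a b w => Subtype.ext (mul_smul (a : X) (b : X) (w : W))
      smul_zero := fun a => Subtype.ext (smul_zero (a : X))
      smul_add := fun a v w => Subtype.ext (smul_add (a : X) (v : W) (w : W)) }
  have h2 : 2 ∣ Nat.card W0 := by
    have h1 : addOrderOf (⟨t • w₁ + w₁, C.f_v⟩ : W0) = 2 := by
      apply addOrderOf_eq_prime
      · rw [two_nsmul]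
        exact Subtype.ext (C.add_self_W _)
      · intro h
        exact C.v_ne (congrArg Subtype.val h)
    rw [← h1]
    exact addOrderOf_dvd_natCard _
  obtain ⟨v, hv0, hv⟩ := exists_fixed (S := S) (V := W0) hS h2
  have hv' : ∀ s ∈ S, s • (v : W) = v := fun s hs => congrArg Subtype.val (hv ⟨s, hs⟩)
  obtain ⟨b, hb⟩ := C.fix_t (hv' t htS)
  have hbσ : σ b = b := by
    have h3 : f • (v : W) = v := v.2
    rw [hb, C.f_smul_kappa, C.f_v] at h3
    have h4 := C.indep 0 (σ b - b) (by
      rw [map_sub, k_zero, zero_add]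
      change κ (σ b) (t • w₁ + w₁) - κ b (t • w₁ + w₁) = 0
      rw [h3, sub_self])
    exact sub_eq_zero.mp h4.2
  have hb0 : b ≠ 0 := by
    rintro rfl
    rw [k_zero] at hb
    exact hv0 (Subtype.ext hb)
  intro s hs
  have h5 := hv' s hs
  rw [hb, smul_kappa (hSN hs) hbσ] at h5
  have h6 := congrArg (κ (b⁻¹)) h5
  rw [← k_mul, ← k_mul, inv_mul_cancel₀ hb0, k_one, k_one] at h6
  exact h6

theorem fix_w : ∀ s ∈ S, ∃ b : F, σ b = b ∧ s • w₁ = w₁ + κ b (t • w₁ + w₁) := by
  have hfv := fix_v C hS hSN htS hSf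
  intro s hs
  have h1 : f • (s • w₁) = s • w₁ := by
    rw [smul_smul, ← hSf s hs, ← smul_smul, C.fw]
  obtain ⟨a, b, ha, hb, hab⟩ := C.fix_f h1
  have hpow : ∀ k : ℕ, ∃ b', s ^ k • w₁ = κ (a ^ k) w₁ + κ b' (t • w₁ + w₁) := by
    intro k
    induction k with
    | zero => exact ⟨0, by rw [pow_zero, pow_zero, one_smul, k_one, k_zero, add_zero]⟩
    | succ k ih =>
      obtain ⟨b', hb'⟩ := ih
      refine ⟨a * b' + b, ?_⟩
      have hsk : s ^ k ∈ S := pow_mem hs k
      rw [pow_succ s k, mul_smul, hab, smul_add, smul_kappa (hSN hsk) ha, smul_kappa (hSN hsk) hb,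
        hfv _ hsk, hb', k_vadd, ← k_mul, ← k_mul, k_add, pow_succ', add_assoc]
  obtain ⟨n, hn⟩ := hS ⟨s, hs⟩
  have hn' : s ^ 2 ^ n = 1 := congrArg Subtype.val hn
  obtain ⟨b', hb'⟩ := hpow (2 ^ n)
  rw [hn', one_smul] at hb'
  have h2 := C.indep (a ^ 2 ^ n - 1) b' (by
    rw [map_sub, map_one]
    change (κ (a ^ 2 ^ n) w₁ - w₁) + κ b' (t • w₁ + w₁) = 0
    have : (κ (a ^ 2 ^ n) w₁ - w₁) + κ b' (t • w₁ + w₁) =
      (κ (a ^ 2 ^ n) w₁ + κ b' (t • w₁ + w₁)) - w₁ := by abel
    rw [this, ← hb', sub_self])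
  have h3 : a = 1 := C.two_pow_one (sub_eq_zero.mp h2.1)
  refine ⟨b, hb, ?_⟩
  rw [hab, h3, k_one]

/-- the conjugates of `t` -/
theorem conj_t : ∀ s ∈ S, s * t * s⁻¹ = t ∨ s * t * s⁻¹ = t * f := by
  have hfv := fix_v C hS hSN htS hSf
  intro s hs
  obtain ⟨b, hb, hsw⟩ := fix_w C hS hSN htS hSf s hs
  set v₁ := t • w₁ + w₁ with hv₁
  have hfv' : ∀ s ∈ S, s • v₁ = v₁ := hfv
  have htw : t • w₁ = w₁ + v₁ := C.t_w
  have hs' : s⁻¹ ∈ S := inv_mem hs
  have hsw' : s⁻¹ • w₁ = w₁ + κ b v₁ := by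
    have h1 : s⁻¹ • (s • w₁) = w₁ := inv_smul_smul s w₁
    rw [hsw, smul_add, smul_kappa (hSN hs') hb, hfv' _ hs'] at h1
    calc s⁻¹ • w₁ = s⁻¹ • w₁ + κ b v₁ + κ b v₁ := by rw [add_assoc, C.add_self_W, add_zero]
      _ = w₁ + κ b v₁ := by rw [h1]
  set k := s * t * s⁻¹ * t with hk
  have hkS : k ∈ S := mul_mem (mul_mem (mul_mem hs htS) hs') htS
  have hkw : k • w₁ = w₁ := by
    have e1 : s⁻¹ • (t • w₁) = w₁ + κ b v₁ + v₁ := by
      rw [htw, smul_add, hsw', hfv' _ hs']
    have e2 : t • (w₁ + κ b v₁ + v₁) = w₁ + κ b v₁ := by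
      rw [smul_add, smul_add, htw, C.t_smul_kappa, hfv' _ htS]
      calc w₁ + v₁ + κ b v₁ + v₁ = w₁ + κ b v₁ + (v₁ + v₁) := by abel
        _ = w₁ + κ b v₁ := by rw [C.add_self_W, add_zero]
    have e3 : s • (w₁ + κ b v₁) = w₁ := by
      rw [smul_add, hsw, smul_kappa (hSN hs) hb, hfv' _ hs, add_assoc, C.add_self_W, add_zero]
    rw [hk, mul_smul, mul_smul, mul_smul, e1, e2, e3]
  have hkv : k • v₁ = v₁ := hfv' _ hkS
  have hkf : k * f = f * k := hSf k hkS
  have hfix : ∀ w : W, f • w = w → k • w = w := by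
    intro w hw
    obtain ⟨a, b', ha, hb', rfl⟩ := C.fix_f hw
    rw [smul_add, smul_kappa (hSN hkS) ha, smul_kappa (hSN hkS) hb', hkw, hkv]
  have hk2 : k * k = 1 := by
    apply C.faithful
    intro w
    have h1 : k • (f • w + w) = f • w + w := by
      apply hfix
      rw [smul_add, smul_smul, C.ff, one_smul, add_comm]
    have h2 : f • (k • w + w) = k • w + w := by
      rw [smul_add, smul_smul, ← hkf, ← smul_smul]
      rw [smul_add] at h1
      have h3 := C.add_self_W (k • w)
      have h4 := C.add_self_W (f • w)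
      calc k • (f • w) + f • w = (k • (f • w) + k • w) + (k • w + f • w) := by
            rw [show (k • (f • w) + k • w) + (k • w + f • w) = k • (f • w) + f • w + (k • w + k • w)
              by abel, h3, add_zero]
        _ = (f • w + w) + (k • w + f • w) := by rw [h1]
        _ = k • w + w + (f • w + f • w) := by abel
        _ = k • w + w := by rw [h4, add_zero]
    have h5 := hfix _ h2
    rw [smul_add, smul_smul] at h5
    have h3 := C.add_self_W (k • w)
    calc (k * k) • w = (k * k) • w + k • w + k • w := by rw [add_assoc, h3, add_zero]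
      _ = w + (k • w + k • w) := by rw [h5]; abel
      _ = w := by rw [h3, add_zero]
  have hki : k⁻¹ = k := inv_eq_of_mul_eq_one_left hk2
  have hkt : k * t = t * k := by
    have h1 : t * k * t⁻¹ = k⁻¹ := by
      rw [hk, C.t_inv]
      simp only [mul_inv_rev, inv_inv, C.t_inv]
      rw [mul_assoc t, mul_assoc (s * t * s⁻¹), C.tt, mul_one]
      simp only [mul_assoc]
    rw [hki] at h1
    calc k * t = t * k * t⁻¹ * t := by rw [h1]
      _ = t * k := by rw [inv_mul_cancel_right]
  obtain ⟨n, hn⟩ := hS ⟨k, hkS⟩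
  have hn' : k ^ 2 ^ n = 1 := congrArg Subtype.val hn
  have hst : s * t * s⁻¹ = k * t := by rw [hk, mul_assoc (s * t * s⁻¹), C.tt, mul_one]
  have hno : t • w₁ ≠ w₁ := by
    intro h
    apply C.v_ne
    rw [h]; exact C.add_self_W _
  rcases C.two_elt (hSN hkS) hkt hkf hn' with h | h | h | h
  · left; rw [hst, h, one_mul]
  · exact absurd (h ▸ hkw) hno
  · right; rw [hst, h, C.tf]
  · rw [h, mul_smul, C.fw] at hkw
    exact absurd hkw hno

/-- the order -/
theorem card_le : Nat.card S ≤ 8 ∧ ((∀ s ∈ S, s * t = t * s) → Nat.card S ≤ 4) := by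
  classical
  have hE : ∀ s ∈ S, s * t = t * s → s = 1 ∨ s = t ∨ s = f ∨ s = t * f := by
    intro s hs hst
    obtain ⟨n, hn⟩ := hS ⟨s, hs⟩
    exact C.two_elt (hSN hs) hst (hSf s hs) (congrArg Subtype.val hn)
  let A : Finset X := {1, t, f, t * f}
  have hA : A.card ≤ 4 := Finset.card_le_four
  have h4 : (∀ s ∈ S, s * t = t * s) → Nat.card S ≤ 4 := by
    intro h
    have h1 : (S : Set X) ⊆ A := by
      intro s hs
      have := hE s hs (h s hs)
      simp only [A, Finset.coe_insert, Finset.coe_singleton, Set.mem_insert_iff,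
        Set.mem_singleton_iff]
      exact this
    calc Nat.card S = (S : Set X).ncard := rfl
      _ ≤ (A : Set X).ncard := Set.ncard_le_ncard h1 (Set.toFinite _)
      _ = A.card := Set.ncard_coe_finset A
      _ ≤ 4 := hA
  refine ⟨?_, h4⟩
  by_cases h : ∀ s ∈ S, s * t = t * s
  · exact (h4 h).trans (by norm_num)
  · push_neg at h
    obtain ⟨x, hx, hxt⟩ := h
    have hx' : x * t * x⁻¹ = t * f := by
      rcases conj_t C hS hSN htS hSf x hx with h1 | h1
      · exact absurd (mul_inv_eq_iff_eq_mul.mp h1) hxt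
      · exact h1
    have h1 : (S : Set X) ⊆ (A ∪ A.image (fun a => x * a) : Finset X) := by
      intro s hs
      rw [Finset.coe_union, Set.mem_union]
      rcases conj_t C hS hSN htS hSf s hs with h2 | h2
      · left
        have := hE s hs (mul_inv_eq_iff_eq_mul.mp h2)
        simp only [A, Finset.coe_insert, Finset.coe_singleton, Set.mem_insert_iff,
          Set.mem_singleton_iff]
        exact this
      · right
        have hsx : x⁻¹ * s ∈ S := mul_mem (inv_mem hx) hs
        have h3 : (x⁻¹ * s) * t = t * (x⁻¹ * s) := by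
          have e1 : s * t = (t * f) * s := by rw [← h2]; group
          have e2 : x * t = (t * f) * x := by rw [← hx']; group
          calc (x⁻¹ * s) * t = x⁻¹ * (s * t) := by group
            _ = x⁻¹ * ((t * f) * x) * x⁻¹ * s := by rw [e1]; group
            _ = x⁻¹ * (x * t) * x⁻¹ * s := by rw [e2]
            _ = t * (x⁻¹ * s) := by group
        have h4 := hE _ hsx h3
        rw [Finset.coe_image]
        refine ⟨x⁻¹ * s, ?_, by simp⟩
        simp only [A, Finset.coe_insert, Finset.coe_singleton, Set.mem_insert_iff,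
          Set.mem_singleton_iff]
        exact h4
    calc Nat.card S = (S : Set X).ncard := rfl
      _ ≤ ((A ∪ A.image (fun a => x * a) : Finset X) : Set X).ncard :=
        Set.ncard_le_ncard h1 (Set.toFinite _)
      _ = (A ∪ A.image (fun a => x * a)).card := Set.ncard_coe_finset _
      _ ≤ A.card + (A.image (fun a => x * a)).card := Finset.card_union_le _ _
      _ ≤ A.card + A.card := Nat.add_le_add_left Finset.card_image_le _
      _ ≤ 8 := by omega

end Two

end XC

end Cfsg.Agent.StdL2.F
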