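import Cfsg.Agent.StdL2.TowerU

/-!
# The tower with field automorphisms: one step

`TCV t V` : `⟨t⟩ × V` is a Sylow 2-subgroup of `C(t) ∩ C(V)`.  A 2-group `T ≤ C(t)` normalises all
levels of the tower.
-/

set_option autoImplicit false
set_option Elab.async false

namespace Cfsg.Agent.StdL2.FT

open scoped commutatorElement

open Cfsg.Agent.Lib.GoldschmidtFusion (exists_conj_le_in lt_inf_normalizer exists_sylow_in)
open Cfsg.Agent.StdL2 Cfsg.Agent.StdL2.Lv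

variable {G : Type*} [Group G]

/-- `⟨t⟩ × V` is a Sylow 2-subgroup of `C(t) ∩ C(V)`. -/
structure TCV (t : G) (V : Subgroup G) : Prop where
  t2 : t * t = 1
  tV : t ∉ V
  vsq : ∀ v ∈ V, v * v = 1
  vt : ∀ v ∈ V, t * v = v * t
  syl : ∀ P : Subgroup G, IsPGroup 2 P → (∀ x ∈ P, t * x = x * t) →
    (∀ x ∈ P, ∀ v ∈ V, x * v = v * x) → V ≤ P → t ∈ P → ∀ x ∈ P, x ∈ V ∨ t * x ∈ V

variable {t d : G} {V W : Subgroup G} {k : ℕ}

theorem conj_eq_iff_comm {a b : G} : a * b * a⁻¹ = b ↔ a * b = b * a := by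
  rw [mul_inv_eq_iff_eq_mul]

/-- `stg` for `TCV`. -/
theorem stg (L : Lv t d V W k) (H : TCV t V) {S : Subgroup G}
    (hSM : S ≤ towerM t W k L.comm) (hS : IsPGroup 2 S) (hWS : W ≤ S) (htS : t ∈ S)
    (htr : ∀ w ∈ W, ∃ s ∈ S, s * t * s⁻¹ = t * w)
    (hdt : d * t = t * d) (hdS : ∀ x ∈ S, d * x * d⁻¹ ∈ S) :
    Stg t d V W S k := by
  have ht2 := H.t2
  have hnW : ∀ x ∈ S, ∀ w ∈ W, x * w * x⁻¹ ∈ W := fun x hx w hw =>
    (Subgroup.mem_normalizer_iff.1 (hSM hx).1 w).1 hw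
  have htc : ∀ x ∈ S, ⁅t, x⁆ ∈ W := by
    intro x hx
    rw [← commutatorElement_inv]
    exact inv_mem (hSM hx).2.1
  have hfix : ∀ x ∈ S, ∀ v ∈ V, x * v * x⁻¹ = v := fun x hx v hv => L.M_fix (hSM hx) hv
  have hsyl : ∀ z ∈ S, t * z = z * t → z ∈ V ∨ t * z ∈ V := by
    intro z hz hzt
    exact H.syl (S ⊓ Subgroup.centralizer ({t} : Set G)) (hS.to_le inf_le_left)
      (fun z hz => (Subgroup.mem_centralizer_singleton_iff.1 hz.2).symm)
      (fun x hx v hv => conj_eq_iff_comm.1 (hfix x hx.1 v hv))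
      (fun v hv => ⟨hWS (L.VW hv), Subgroup.mem_centralizer_singleton_iff.2 (H.vt v hv).symm⟩)
      ⟨htS, Subgroup.mem_centralizer_singleton_iff.2 rfl⟩ z
      ⟨hz, Subgroup.mem_centralizer_singleton_iff.2 hzt.symm⟩
  have hker : ∀ x ∈ S, ⁅t, x⁆ ^ (2 ^ k) = 1 → x ∈ W ∨ t * x ∈ W := by
    intro x hx h
    obtain ⟨y, hy, hy1⟩ := L.root' k (by omega) _ (htc x hx) h
    have h3 : k + 1 - k = 1 := by omega
    rw [h3, pow_one, pow_two] at hy1
    -- `y x` commutes with `t`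
    have hyx : t * (y * x) = (y * x) * t := by
      have h4 : t * x = (y * y) * x * t := by
        rw [← hy1, commutatorElement_def]
        have h5 : t * x * t⁻¹ * x⁻¹ * x * t = t * x := by group
        exact h5.symm
      have h6 : t * y = y⁻¹ * t := by
        have h7 := L.w_t ht2 (inv_mem hy)
        rw [inv_inv] at h7
        exact h7.symm
      rw [← mul_assoc, h6, mul_assoc, h4]
      group
    rcases hsyl (y * x) (mul_mem (hWS hy) hx) hyx with h7 | h7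
    · left
      have h8 : x = y⁻¹ * (y * x) := by group
      rw [h8]
      exact mul_mem (inv_mem hy) (L.VW h7)
    · right
      have h6 : y * t = t * y⁻¹ := L.w_t ht2 hy
      have h9 : t * x = y * (t * (y * x)) := by
        rw [← mul_assoc y t, h6]
        group
      rw [h9]
      exact mul_mem hy (L.VW h7)
  refine ⟨hWS, htS, hnW, fun x hx => (hSM hx).2.2, htc, hfix, hdS, hdt, htr, hker, ?_⟩
  intro x hx
  have h1 : ⁅t, x * x⁆ ^ (2 ^ k) = 1 := by
    rw [comm_mul_right', mul_pow_of_comm (L.comm _ (htc x hx) _ (hnW x hx _ (htc x hx))),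
      conj_pow, hfix x hx _ (L.pw _ (htc x hx))]
    exact L.vsq _ (L.pw _ (htc x hx))
  rcases hker _ (mul_mem hx hx) h1 with h2 | h2
  · exact h2
  · exfalso
    obtain ⟨s, hs, hst⟩ := htr _ h2
    rw [← eq_t_mul ht2] at hst
    set y := s⁻¹ * x * s with hy
    have hyS : y ∈ S := mul_mem (mul_mem (inv_mem hs) hx) hs
    have h3 : y * y = t := by
      have h3 : y * y = s⁻¹ * (x * x) * s := by rw [hy]; group
      rw [h3, ← hst]
      group
    have h4 : t * y = y * t := by rw [← h3, mul_assoc]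
    rcases hsyl y hyS h4 with h5 | h5
    · have h6 := L.vsq _ h5
      rw [h3] at h6
      exact H.tV (h6 ▸ one_mem V)
    · have h6 := L.vsq _ h5
      have h7 : t * y * (t * y) = y * y := by
        calc t * y * (t * y) = (t * y) * (y * t) := by rw [h4]
          _ = t * (y * y) * t := by group
          _ = y * y := by rw [h3, ht2, one_mul]
      rw [h7, h3] at h6
      exact H.tV (h6 ▸ one_mem V)

/-- `exists_U` for `TCV`. -/
theorem exists_U {F : Type*} [Field F] {T : F → G} {lam : F} (C : Crd V d T lam)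
    (L : Lv t d V W k) (H : TCV t V) {S : Subgroup G} (Z : Stg t d V W S k)
    (hF : ∃ r : F, r ≠ 0 ∧ r ≠ 1) (hg : W ≤ commutator G) :
    ∃ U : Subgroup G, Ex t d V W U k ∧ U ≤ S ∧ t ∉ U ∧ (∀ x ∈ S, x ∈ U ∨ t * x ∈ U) ∧
      U ≤ commutator G ∧ (∀ x, x ∈ U ↔ x ∈ S ∧ ∃ y ∈ S, (y⁻¹ * (d * y * d⁻¹))⁻¹ * x ∈ W) := by
  obtain ⟨U, hU⟩ := Z.exists_U0
  have ht2 := H.t2
  have hlam : lam ≠ 1 := by
    rintro rfl
    obtain ⟨r, hr0, hr1⟩ := hF
    obtain ⟨n, hn⟩ := C.gen r hr0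
    rw [one_pow] at hn
    exact hr1 hn.symm
  have hWU : W ≤ U := by
    intro w hw
    rw [hU]
    refine ⟨Z.WS hw, 1, one_mem _, ?_⟩
    have h1 : ((1 : G)⁻¹ * (d * 1 * d⁻¹))⁻¹ * w = w := by group
    rw [h1]
    exact hw
  have hUS : U ≤ S := fun x hx => ((hU x).1 hx).1
  have htW : t ∉ W := by
    intro h
    exact H.tV (L.om t h ht2)
  -- `U` meets `W ∪ tW` in `W`
  have htU : t ∉ U := by
    intro h
    obtain ⟨-, y, hy, h1⟩ := (hU t).1 h
    set z := y⁻¹ * (d * y * d⁻¹) with hz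
    have hzS : z ∈ S := mul_mem (inv_mem hy) (Z.dS y hy)
    -- `e z = 1`
    have hez : ⁅t, z⁆ ^ (2 ^ k) = 1 := by
      have h2 : t = z * (z⁻¹ * t) := by group
      have h3 : ⁅t, t⁆ ^ (2 ^ k) = 1 := by rw [commutatorElement_self, one_pow]
      have h4 := Z.e_mul L hzS (Z.WS h1)
      rw [← h2, h3, Stg.e_W L h1, mul_one] at h4
      exact h4.symm
    have hez' : ⁅t, z⁆ ^ (2 ^ k) = (⁅t, y⁆ ^ (2 ^ k))⁻¹ * (d * ⁅t, y⁆ ^ (2 ^ k) * d⁻¹) := by
      rw [hz, Z.e_mul L (inv_mem hy) (Z.dS y hy), Z.e_inv L hy, Z.e_d]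
    obtain ⟨a, ha⟩ := C.surj _ (Z.e_mem L hy)
    rw [hez', ← ha, C.conj] at hez
    have h5 : T (lam * a) = T a := by
      rw [inv_mul_eq_one] at hez
      exact hez.symm
    have h6 := C.inj _ _ h5
    have h7 : a = 0 := by
      have h8 : (lam - 1) * a = 0 := by rw [sub_mul, one_mul, h6, sub_self]
      rcases mul_eq_zero.mp h8 with h9 | h9
      · exact absurd (sub_eq_zero.mp h9) hlam
      · exact h9
    rw [h7, C.zero] at ha
    have hzW : z ∈ W := by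
      rcases Z.ker y hy ha.symm with h8 | h8
      · exact mul_mem (inv_mem h8) (L.dW y h8)
      · have h9 : z = (t * y)⁻¹ * (d * (t * y) * d⁻¹) := by
          have h10 : d * (t * y) * d⁻¹ = t * (d * y * d⁻¹) := by
            rw [← mul_assoc, Z.dt]
            group
          rw [h10, hz]
          group
        rw [h9]
        exact mul_mem (inv_mem h8) (L.dW _ h8)
    apply htW
    have h2 : t = z * (z⁻¹ * t) := by group
    rw [h2]
    exact mul_mem hzW h1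
  have hker : ∀ u ∈ U, ⁅t, u⁆ ^ (2 ^ k) = 1 → u ∈ W := by
    intro u hu h
    rcases Z.ker u (hUS hu) h with h1 | h1
    · exact h1
    · exfalso
      apply htU
      have h2 : t = (t * u) * u⁻¹ := by group
      rw [h2]
      exact mul_mem (hWU h1) (inv_mem hu)
  have hl1 : lam - 1 ≠ 0 := sub_ne_zero.2 hlam
  have hsur : ∀ v ∈ V, ∃ u ∈ U, ⁅t, u⁆ ^ (2 ^ k) = v := by
    intro v hv
    obtain ⟨b, rfl⟩ := C.surj v hv
    obtain ⟨y, hy, hy1⟩ := Z.e_surj L (C.mem (b / (lam - 1)))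
    refine ⟨y⁻¹ * (d * y * d⁻¹), ?_, ?_⟩
    · rw [hU]
      refine ⟨mul_mem (inv_mem hy) (Z.dS y hy), y, hy, ?_⟩
      rw [inv_mul_cancel]
      exact one_mem _
    · rw [Z.e_mul L (inv_mem hy) (Z.dS y hy), Z.e_inv L hy, Z.e_d, hy1, C.conj]
      have h1 : lam * (b / (lam - 1)) = b / (lam - 1) + b := by
        field_simp
        ring
      rw [h1, C.add, inv_mul_cancel_left]
  have hdU : ∀ u ∈ U, d * u * d⁻¹ ∈ U := by
    intro u hu
    obtain ⟨h1, y, hy, h2⟩ := (hU u).1 hu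
    rw [hU]
    refine ⟨Z.dS u h1, d * y * d⁻¹, Z.dS y hy, ?_⟩
    have h3 : ((d * y * d⁻¹)⁻¹ * (d * (d * y * d⁻¹) * d⁻¹))⁻¹ * (d * u * d⁻¹) =
        d * ((y⁻¹ * (d * y * d⁻¹))⁻¹ * u) * d⁻¹ := by
      simp [mul_assoc]
    rw [h3]
    exact L.dW _ h2
  refine ⟨U, ⟨hWU, fun u hu => Z.nW u (hUS hu), fun u hu => Z.cW u (hUS hu),
    fun u hu => Z.tc u (hUS hu), hker, hsur, fun u hu => Z.sq u (hUS hu), hdU, Z.dt⟩, hUS, htU,
    ?_, ?_, hU⟩
  · intro x hx
    obtain ⟨u, hu, hu1⟩ := hsur _ (Z.e_mem L hx)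
    have h1 : ⁅t, u⁻¹ * x⁆ ^ (2 ^ k) = 1 := by
      rw [Z.e_mul L (inv_mem (hUS hu)) hx, Z.e_inv L (hUS hu), hu1, inv_mul_cancel]
    rcases Z.ker _ (mul_mem (inv_mem (hUS hu)) hx) h1 with h2 | h2
    · left
      have h3 : x = u * (u⁻¹ * x) := by group
      rw [h3]
      exact mul_mem hu (hWU h2)
    · right
      have h3 : t * x = ⁅t, u⁆ * u * (t * (u⁻¹ * x)) := by
        rw [commutatorElement_def]
        group
      rw [h3]
      exact mul_mem (mul_mem (hWU (Z.tc u (hUS hu))) hu) (hWU h2)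
  · intro u hu
    obtain ⟨h1, y, hy, h2⟩ := (hU u).1 hu
    have h3 : u = (y⁻¹ * (d * y * d⁻¹)) * ((y⁻¹ * (d * y * d⁻¹))⁻¹ * u) := by group
    rw [h3]
    apply mul_mem _ (hg h2)
    have h4 : y⁻¹ * (d * y * d⁻¹) = ⁅y⁻¹, d⁆ := by
      rw [commutatorElement_def]
      group
    rw [h4]
    exact Subgroup.commutator_mem_commutator (Subgroup.mem_top _) (Subgroup.mem_top _)

end Cfsg.Agent.StdL2.FT
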