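import Cfsg.Agent.StdL2.TowerU

/-!
# The tower
-/

set_option autoImplicit false

namespace Cfsg.Agent.StdL2

open scoped commutatorElement

open Cfsg.Agent.Lib.GoldschmidtFusion (exists_conj_le_in lt_inf_normalizer)

variable {G : Type*} [Group G]

/-- The end of the tower. -/
structure Stop (t : G) (V U : Subgroup G) : Prop where
  tU : t ∉ U
  norm : ∀ u ∈ U, t * u * t⁻¹ ∈ U
  gU : U ≤ commutator G
  VU : V ≤ U
  noconj : ∀ g : G, g * t * g⁻¹ ∉ U
  syl : ∃ S : Sylow 2 G, ∀ x, x ∈ S ↔ x ∈ U ∨ t * x ∈ U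
  shape : ((∀ x ∈ U, x * x = 1) ∧ (∀ x ∈ U, ∀ y ∈ U, x * y = y * x) ∧
      Nat.card U = Nat.card V ^ 2) ∨
    ((∀ x ∈ U, ∀ y ∈ U, x * y = y * x) ∧ (∃ x ∈ U, x * x ≠ 1)) ∨
    ((∀ x ∈ U, ∀ y ∈ U, ⁅x, y⁆ ∈ V) ∧ (∀ x ∈ U, ∀ v ∈ V, x * v = v * x) ∧
      Nat.card V ^ 3 ≤ Nat.card U)
  card : Nat.card V ^ 2 ≤ Nat.card U

section

variable {t d : G} {V W U : Subgroup G} {k : ℕ} [Finite G]

omit [Finite G] in
theorem Ex.card_eq (L : Lv t d V W k) (E : Ex t d V W U k) :
    Nat.card U = Nat.card V * Nat.card W := by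
  classical
  have hfix : ∀ x ∈ U, ∀ v ∈ V, x * v * x⁻¹ = v := by
    intro x hx v hv
    obtain ⟨w, hw, rfl⟩ := L.root v hv
    have h1 := E.conj_pow_eq L hx hw (E.cW x hx w hw)
    rwa [conj_pow] at h1
  let f : U →* V :=
    { toFun := fun u => ⟨⁅t, (u : G)⁆ ^ (2 ^ k), L.pw _ (E.tU u u.2)⟩
      map_one' := by
        apply Subtype.ext
        show ⁅t, (1 : G)⁆ ^ (2 ^ k) = 1
        rw [commutatorElement_one_right, one_pow]
      map_mul' := by
        intro a b
        apply Subtype.ext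
        show ⁅t, (a : G) * (b : G)⁆ ^ (2 ^ k) = ⁅t, (a : G)⁆ ^ (2 ^ k) * ⁅t, (b : G)⁆ ^ (2 ^ k)
        rw [comm_mul_right', mul_pow_of_comm (L.comm _ (E.tU _ a.2) _ (E.nW _ a.2 _ (E.tU _ b.2))),
          conj_pow, hfix _ a.2 _ (L.pw _ (E.tU _ b.2))] }
  have h1 : f.ker = W.subgroupOf U := by
    ext x
    rw [MonoidHom.mem_ker, Subgroup.mem_subgroupOf]
    constructor
    · intro h
      exact E.ker x x.2 (congrArg (fun z : V => (z : G)) h)
    · intro h
      apply Subtype.ext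
      exact Lv.Stg.e_W L h
  have h2 : Function.Surjective f := by
    intro v
    obtain ⟨u, hu, h⟩ := E.sur v v.2
    exact ⟨⟨u, hu⟩, Subtype.ext h⟩
  have h3 := f.ker.card_eq_card_quotient_mul_card_subgroup
  have h4 : Nat.card (U ⧸ f.ker) = Nat.card V :=
    Nat.card_congr (QuotientGroup.quotientKerEquivOfSurjective f h2).toEquiv
  have h5 : Nat.card f.ker = Nat.card W := by
    rw [h1]
    exact Nat.card_congr (Subgroup.subgroupOfEquivOfLe E.WU).toEquiv
  rw [h3, h4, h5]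

theorem Lv.card_le (L : Lv t d V W k) : Nat.card V ≤ Nat.card W :=
  Subgroup.card_le_of_le L.VW

theorem Lv.card_ge (L : Lv t d V W k) (hk : 1 ≤ k) : Nat.card V ^ 2 ≤ Nat.card W := by
  classical
  let f : W →* V :=
    { toFun := fun u => ⟨(u : G) ^ (2 ^ k), L.pw _ u.2⟩
      map_one' := by
        apply Subtype.ext
        show (1 : G) ^ (2 ^ k) = 1
        rw [one_pow]
      map_mul' := by
        intro a b
        apply Subtype.ext
        show ((a : G) * (b : G)) ^ (2 ^ k) = (a : G) ^ (2 ^ k) * (b : G) ^ (2 ^ k)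
        exact mul_pow_of_comm (L.comm _ a.2 _ b.2) _ }
  have h2 : Function.Surjective f := by
    intro v
    obtain ⟨u, hu, h⟩ := L.root v v.2
    exact ⟨⟨u, hu⟩, Subtype.ext h⟩
  have h3 := f.ker.card_eq_card_quotient_mul_card_subgroup
  have h4 : Nat.card (W ⧸ f.ker) = Nat.card V :=
    Nat.card_congr (QuotientGroup.quotientKerEquivOfSurjective f h2).toEquiv
  have h5 : Nat.card V ≤ Nat.card f.ker := by
    have h6 : V.subgroupOf W ≤ f.ker := by
      intro x hx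
      rw [Subgroup.mem_subgroupOf] at hx
      rw [MonoidHom.mem_ker]
      apply Subtype.ext
      show (x : G) ^ (2 ^ k) = 1
      obtain ⟨j, rfl⟩ : ∃ j, k = j + 1 := ⟨k - 1, by omega⟩
      rw [pow_succ', pow_mul, pow_two, L.vsq _ hx, one_pow]
    have h7 := Subgroup.card_le_of_le h6
    have h8 : Nat.card (V.subgroupOf W) = Nat.card V :=
      Nat.card_congr (Subgroup.subgroupOfEquivOfLe L.VW).toEquiv
    rwa [h8] at h7
  rw [h3, h4, pow_two]
  exact Nat.mul_le_mul_left _ h5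

/-- No conjugate of `t` in a 2-group all of whose elements have large centralizers. -/
theorem noconj_of_card (H : TCen t V) (hU : IsPGroup 2 U)
    (h : ∀ u ∈ U, 2 * Nat.card V < Nat.card (U ⊓ Subgroup.centralizer ({u} : Set G) : Subgroup G))
    (g : G) : g * t * g⁻¹ ∉ U := by
  intro hu
  have h1 := h _ hu
  set P := U ⊓ Subgroup.centralizer ({g * t * g⁻¹} : Set G) with hP
  have hPp : IsPGroup 2 P := hU.to_le inf_le_left
  have h2 := H.card_le (P := P.map (MulAut.conj g⁻¹).toMonoidHom) (hPp.map _) (by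
    rintro _ ⟨x, hx, rfl⟩
    have h3 := Subgroup.mem_centralizer_singleton_iff.1 hx.2
    show t * (g⁻¹ * x * g⁻¹⁻¹) = g⁻¹ * x * g⁻¹⁻¹ * t
    have h4 : t * (g⁻¹ * x * g⁻¹⁻¹) = g⁻¹ * (g * t * g⁻¹ * x) * g := by group
    have h5 : g⁻¹ * x * g⁻¹⁻¹ * t = g⁻¹ * (x * (g * t * g⁻¹)) * g := by group
    rw [h4, h5, h3])
  have h6 : Nat.card (P.map (MulAut.conj g⁻¹).toMonoidHom) = Nat.card P :=
    Nat.card_congr (P.equivMapOfInjective _ (MulAut.conj g⁻¹).injective).symm.toEquiv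
  rw [h6] at h2
  omega

theorem noconj_of_comm (H : TCen t V) (hU : IsPGroup 2 U) (hV : 4 ≤ Nat.card V)
    (hc : ∀ x ∈ U, ∀ y ∈ U, x * y = y * x) (hcard : Nat.card V ^ 2 ≤ Nat.card U)
    (g : G) : g * t * g⁻¹ ∉ U := by
  apply noconj_of_card H hU
  intro u hu
  have h1 : U ⊓ Subgroup.centralizer ({u} : Set G) = U := by
    apply inf_eq_left.2
    intro x hx
    exact Subgroup.mem_centralizer_singleton_iff.2 (hc x hx u hu)
  rw [h1]
  nlinarith

theorem noconj_of_class_two (H : TCen t V) (hU : IsPGroup 2 U) (hV : 4 ≤ Nat.card V)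
    (hc : ∀ x ∈ U, ∀ y ∈ U, ⁅x, y⁆ ∈ V) (hcard : Nat.card V ^ 3 ≤ Nat.card U)
    (g : G) : g * t * g⁻¹ ∉ U := by
  apply noconj_of_card H hU
  intro u hu
  have h1 := ncard_orbit' U u
  have h2 : ({y | ∃ s ∈ U, s * u * s⁻¹ = y} : Set G).ncard ≤ Nat.card V := by
    have h3 : ({y | ∃ s ∈ U, s * u * s⁻¹ = y} : Set G) ⊆ (fun v => v * u) '' (V : Set G) := by
      rintro _ ⟨s, hs, rfl⟩
      refine ⟨⁅s, u⁆, hc s hs u hu, ?_⟩
      show ⁅s, u⁆ * u = s * u * s⁻¹
      rw [commutatorElement_def]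
      group
    calc _ ≤ ((fun v => v * u) '' (V : Set G)).ncard := Set.ncard_le_ncard h3 (Set.toFinite _)
      _ ≤ (V : Set G).ncard := Set.ncard_image_le (Set.toFinite _)
      _ = Nat.card V := rfl
  rw [h1] at h2
  have h4 := Subgroup.card_mul_index ((Subgroup.centralizer ({u} : Set G)).subgroupOf U)
  have h5 : Nat.card ((Subgroup.centralizer ({u} : Set G)).subgroupOf U) =
      Nat.card (U ⊓ Subgroup.centralizer ({u} : Set G) : Subgroup G) := by
    rw [← Subgroup.inf_subgroupOf_left]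
    exact Nat.card_congr (Subgroup.subgroupOfEquivOfLe inf_le_left).toEquiv
  rw [h5] at h4
  have h6 : ((Subgroup.centralizer ({u} : Set G)).subgroupOf U).index =
      (Subgroup.centralizer ({u} : Set G)).relIndex U := rfl
  rw [h6] at h4
  by_contra hlt
  rw [not_lt] at hlt
  have h7 : Nat.card U ≤ 2 * Nat.card V * Nat.card V := by
    rw [← h4]
    exact Nat.mul_le_mul hlt h2
  have h8 : Nat.card V ^ 3 ≤ 2 * Nat.card V * Nat.card V := hcard.trans h7
  have h9 : Nat.card V ^ 3 = Nat.card V * Nat.card V * Nat.card V := by ring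
  rw [h9] at h8
  have h10 : 0 < Nat.card V * Nat.card V := by positivity
  nlinarith

/-- The end of the tower above `U`. -/
theorem stop_of_ex {S : Subgroup G} (H : TCen t V) (hV : 4 ≤ Nat.card V) (L : Lv t d V W k)
    (Z : Lv.Stg t d V W S k) (E : Ex t d V W U k) (hS : IsPGroup 2 S) (hUS : U ≤ S) (htU : t ∉ U)
    (hSU : ∀ x ∈ S, x ∈ U ∨ t * x ∈ U) (hg : U ≤ commutator G)
    (hinv : ∀ u ∈ U, (t * u) * (t * u) = 1 → u ∈ W)
    (hsh : (∀ x ∈ U, ∀ y ∈ U, x * y = y * x) ∨ (1 ≤ k ∧ (∀ x ∈ U, ∀ y ∈ U, ⁅x, y⁆ ∈ V) ∧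
          ∀ x ∈ U, ∀ v ∈ V, x * v = v * x)) : Stop t V U := by
  have ht2 := H.t2
  have hUp : IsPGroup 2 U := hS.to_le hUS
  have hcU := E.card_eq L
  have hcU2 : Nat.card V ^ 2 ≤ Nat.card U := by
    rw [hcU, pow_two]
    exact Nat.mul_le_mul_left _ L.card_le
  have hcU3 : 1 ≤ k → Nat.card V ^ 3 ≤ Nat.card U := by
    intro hk
    rw [hcU, pow_succ' (Nat.card V) 2]
    exact Nat.mul_le_mul_left _ (L.card_ge hk)
  have hnorm : ∀ u ∈ U, t * u * t⁻¹ ∈ U := by
    intro u hu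
    have h1 : t * u * t⁻¹ = ⁅t, u⁆ * u := by
      rw [commutatorElement_def]
      group
    rw [h1]
    exact mul_mem (E.WU (E.tU u hu)) hu
  have hnc : ∀ g : G, g * t * g⁻¹ ∉ U := by
    rcases hsh with h | ⟨hk, h, -⟩
    · exact noconj_of_comm H hUp hV h hcU2
    · exact noconj_of_class_two H hUp hV h (hcU3 hk)
  refine ⟨htU, hnorm, hg, L.VW.trans E.WU, hnc, ?_, ?_, hcU2⟩
  · -- Sylow
    obtain ⟨R, hR⟩ := hS.exists_le_sylow
    have hRS : (R : Subgroup G) ≤ S := by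
      by_contra hcon
      have hlt : S < (R : Subgroup G) := lt_of_le_of_ne hR (fun h => hcon (by rw [← h]))
      obtain ⟨x, hx, hxS⟩ := SetLike.exists_of_lt (lt_inf_normalizer R.isPGroup' hlt)
      have hxt : x * t * x⁻¹ ∈ S := (Subgroup.mem_normalizer_iff.1 hx.2 t).1 Z.tS
      have h1 : t * (x * t * x⁻¹) ∈ U := (hSU _ hxt).resolve_left (hnc x)
      have h2 := hinv _ h1 (by
        rw [← Lv.eq_t_mul ht2]
        have h3 : x * t * x⁻¹ * (x * t * x⁻¹) = x * (t * t) * x⁻¹ := by group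
        rw [h3, ht2, mul_one, mul_inv_cancel])
      obtain ⟨s, hs, hst⟩ := Z.tr _ h2
      rw [← Lv.eq_t_mul ht2] at hst
      have h4 : s⁻¹ * x * t = t * (s⁻¹ * x) := by
        have h5 : s⁻¹ * x * t = s⁻¹ * (x * t * x⁻¹) * x := by group
        rw [h5, ← hst]
        group
      have h6 := H.syl ((R : Subgroup G) ⊓ Subgroup.centralizer ({t} : Set G))
        (R.isPGroup'.to_le inf_le_left)
        (fun z hz => (Subgroup.mem_centralizer_singleton_iff.1 hz.2).symm)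
        (fun v hv => ⟨hR (Z.WS (L.VW hv)), Subgroup.mem_centralizer_singleton_iff.2
          (H.vt v hv).symm⟩)
        ⟨hR Z.tS, Subgroup.mem_centralizer_singleton_iff.2 rfl⟩ (s⁻¹ * x)
        ⟨(R : Subgroup G).mul_mem ((R : Subgroup G).inv_mem (hR hs)) hx.1,
          Subgroup.mem_centralizer_singleton_iff.2 h4⟩
      apply hxS
      have h7 : s⁻¹ * x ∈ S := by
        rcases h6 with h7 | h7
        · exact Z.WS (L.VW h7)
        · rw [Lv.eq_t_mul ht2 (s⁻¹ * x)]
          exact mul_mem Z.tS (Z.WS (L.VW h7))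
      have h8 : x = s * (s⁻¹ * x) := by group
      rw [h8]
      exact mul_mem hs h7
    have hRS' : (R : Subgroup G) = S := le_antisymm hRS hR
    refine ⟨R, fun x => ?_⟩
    have h1 : x ∈ R ↔ x ∈ S := by
      rw [← hRS']
      rfl
    rw [h1]
    constructor
    · exact hSU x
    · rintro (h | h)
      · exact hUS h
      · rw [Lv.eq_t_mul ht2 x]
        exact mul_mem Z.tS (hUS h)
  · rcases hsh with h | ⟨hk, h, h'⟩
    · by_cases hsq : ∀ x ∈ U, x * x = 1
      · left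
        refine ⟨hsq, h, ?_⟩
        have hk : k = 0 := by
          by_contra hk
          obtain ⟨j, rfl⟩ : ∃ j, k = j + 1 := ⟨k - 1, by omega⟩
          have h1 : ∀ v ∈ V, v = 1 := by
            intro v hv
            obtain ⟨w, hw, rfl⟩ := L.root v hv
            rw [pow_succ', pow_mul, pow_two, hsq w (E.WU hw), one_pow]
          have h2 : Nat.card V ≤ 1 := by
            have h3 : V = ⊥ := (Subgroup.eq_bot_iff_forall _).2 h1
            rw [h3, Subgroup.card_bot]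
          omega
        subst hk
        have h1 : W = V := by
          apply le_antisymm _ L.VW
          intro w hw
          have h2 := L.pw w hw
          rwa [pow_zero, pow_one] at h2
        rw [hcU, h1, pow_two]
      · right
        left
        push Not at hsq
        exact ⟨h, hsq⟩
    · right
      right
      exact ⟨h, h', hcU3 hk⟩

/-- The end of the tower when `W ∪ t W` is a Sylow 2-subgroup. -/
theorem stop_of_sylow (H : TCen t V) (hV : 4 ≤ Nat.card V) (L : Lv t d V W k)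
    (hg : W ≤ commutator G) (hk : 1 ≤ k)
    (hsyl : ∃ S : Sylow 2 G, ∀ x, x ∈ S ↔ x ∈ W ∨ t * x ∈ W) : Stop t V W := by
  have ht2 := H.t2
  have hc := L.card_ge hk
  refine ⟨fun h => H.tV (L.om t h ht2), ?_, hg, L.VW,
    noconj_of_comm H L.W_pgroup hV L.comm hc, hsyl, ?_, hc⟩
  · intro u hu
    rw [L.tinv u hu]
    exact inv_mem hu
  · right
    left
    refine ⟨L.comm, ?_⟩
    by_contra hcon
    push Not at hcon
    obtain ⟨j, rfl⟩ : ∃ j, k = j + 1 := ⟨k - 1, by omega⟩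
    have h1 : ∀ v ∈ V, v = 1 := by
      intro v hv
      obtain ⟨w, hw, rfl⟩ := L.root v hv
      rw [pow_succ', pow_mul, pow_two, hcon w hw, one_pow]
    have h2 : Nat.card V ≤ 1 := by
      have h3 : V = ⊥ := (Subgroup.eq_bot_iff_forall _).2 h1
      rw [h3, Subgroup.card_bot]
    omega

/-- **The tower** with an abstract alternative. -/
theorem tower_abs {F : Type*} [Field F] [CharP F 2] [Finite F] {T : F → G} {lam : F}
    (hF : ∃ r : F, r ≠ 0 ∧ r ≠ 1) (H : TCen t V) (hV : 4 ≤ Nat.card V) (d₀ : G)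
    (Exc : ℕ → Subgroup G → Prop)
    (hX : ∀ (k : ℕ) (W : Subgroup G) (d : G) (L : Lv t d V W k), Crd V d T lam → d * t = t * d →
      (∀ v ∈ V, d * v * d⁻¹ = d₀ * v * d₀⁻¹) → W ≤ commutator G →
      (¬ ∃ S : Sylow 2 G, ∀ x, x ∈ S ↔ x ∈ W ∨ t * x ∈ W) →
      (∀ w ∈ W, ∃ n ∈ towerM t W k L.comm, ∃ x ∈ W, x ^ (2 ^ k) = 1 ∧ n * t * n⁻¹ = t * w * x) ∨
        Exc k W) :
    ∀ (n k : ℕ) (W : Subgroup G) (d : G), Lv t d V W k → Crd V d T lam → d * t = t * d →
      (∀ v ∈ V, d * v * d⁻¹ = d₀ * v * d₀⁻¹) → W ≤ commutator G → Nat.card G - Nat.card W = n →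
      1 ≤ k ∨ (¬ ∃ S : Sylow 2 G, ∀ x, x ∈ S ↔ x ∈ W ∨ t * x ∈ W) →
      (∃ U, Stop t V U) ∨ ∃ k W, Exc k W := by
  intro n
  induction n using Nat.strong_induction_on with
  | _ n ih =>
    intro k W d L C hdt hd0 hg hn hk
    by_cases hsyl : ∃ S : Sylow 2 G, ∀ x, x ∈ S ↔ x ∈ W ∨ t * x ∈ W
    · left
      rcases hk with hk | hk
      · exact ⟨W, stop_of_sylow H hV L hg hk hsyl⟩
      · exact absurd hsyl hk
    have ht2 := H.t2
    rcases hX k W d L C hdt hd0 hg hsyl with hTr | hE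
    swap
    · exact Or.inr ⟨k, W, hE⟩
    have hTr' := L.M_trans ht2 hTr
    obtain ⟨S, hSM, hS, hodd, hWS, htS, htr⟩ := L.exists_S ht2 hTr'
    have hdV : ∀ v ∈ V, d * v * d⁻¹ ∈ V := by
      intro v hv
      obtain ⟨a, rfl⟩ := C.surj v hv
      rw [C.conj]
      exact C.mem _
    obtain ⟨d', hdt', hdS, hdW, hdd⟩ := L.exists_d ht2 hdt hdV hSM hS hodd htr
    have L' : Lv t d' V W k :=
      ⟨L.comm, L.tinv, hdW, L.VW, L.om, L.vsq, L.pw, L.root⟩
    have C' : Crd V d' T lam :=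
      ⟨C.add, C.inj, C.mem, C.surj, fun a => by rw [hdd _ (C.mem a), C.conj], C.gen⟩
    have Z := L'.stg H hSM hS hWS htS htr hdt' hdS
    obtain ⟨U, E, hUS, htU, hSU, hgU⟩ := Z.exists_U C' L' H hF hg
    rcases E.dichotomy C' L' hF ht2 with hN | ⟨hinv, hsh⟩
    · apply ih (Nat.card G - Nat.card U) _ (k + 1) U d' hN C' hdt'
        (fun v hv => by rw [hdd v hv, hd0 v hv]) hgU rfl (Or.inl (by omega))
      have h1 := E.card_eq L'
      have h2 : 0 < Nat.card W := Nat.card_pos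
      have h3 : Nat.card U ≤ Nat.card G := Subgroup.card_le_card_group U
      have h4 : Nat.card W < Nat.card U := by
        rw [h1]
        nlinarith
      omega
    · exact Or.inl ⟨U, stop_of_ex H hV L' Z E hS hUS htU hSU hgU hinv hsh⟩

end

end Cfsg.Agent.StdL2
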