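import Cfsg.Agent.StdL2.FTX
import Cfsg.Agent.StdL2.FTData
import Cfsg.Agent.StdL2.TowerMain

/-!
# The tower with field automorphisms: one step, invariant under `T`
-/

set_option autoImplicit false
set_option Elab.async false

namespace Cfsg.Agent.StdL2.FT

open scoped commutatorElement

open Cfsg.Agent.Lib.GoldschmidtFusion (exists_conj_le_in lt_inf_normalizer exists_sylow_in)
open Cfsg.Agent.StdL2 Cfsg.Agent.StdL2.Lv

variable {G : Type*} [Group G] {t d : G} {V W : Subgroup G} {k : ℕ}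

/-- elements of `C(t) ∩ N(W)` normalise `towerM`. -/
theorem M_inv (L : Lv t d V W k) {s n : G} (hst : s * t = t * s)
    (hsW : s ∈ Subgroup.normalizer (W : Set G)) (hn : n ∈ towerM t W k L.comm) :
    s * n * s⁻¹ ∈ towerM t W k L.comm := by
  obtain ⟨h1, h2, h3⟩ := hn
  have hsti : s * t * s⁻¹ = t := by rw [hst, mul_inv_cancel_right]
  refine ⟨mul_mem (mul_mem hsW h1) (inv_mem hsW), ?_, ?_⟩
  · have h4 := comm_conj' s n t
    rw [hsti] at h4
    rw [h4]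
    exact (Subgroup.mem_normalizer_iff.1 hsW _).1 h2
  · intro x hx
    have hx' : s⁻¹ * x * s ∈ W := by
      have h5 := (Subgroup.mem_normalizer_iff.1 (inv_mem hsW) x).1 hx
      rwa [inv_inv] at h5
    have h4 := comm_conj' s n (s⁻¹ * x * s)
    have h5 : s * (s⁻¹ * x * s) * s⁻¹ = x := by group
    rw [h5] at h4
    rw [h4, conj_pow, h3 _ hx', mul_one, mul_inv_cancel]

section

variable [Finite G]

/-- transitivity of a Sylow 2-subgroup of `towerM` on `tW`. -/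
theorem tr_of_odd (L : Lv t d V W k) (ht2 : t * t = 1)
    (hTr : ∀ w ∈ W, ∃ m ∈ towerM t W k L.comm, m * t * m⁻¹ = t * w) {S : Subgroup G}
    (hSM : S ≤ towerM t W k L.comm) (hodd : ¬ 2 ∣ S.relIndex (towerM t W k L.comm)) :
    ∀ w ∈ W, ∃ s ∈ S, s * t * s⁻¹ = t * w := by
  classical
  set M := towerM t W k L.comm with hM
  have hOM := L.orbit_M ht2 hTr
  have h1 := ncard_orbit' M t
  rw [hOM, Set.ncard_image_of_injective _ (mul_right_injective t)] at h1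
  have h2 := ncard_orbit' S t
  have hsub : ({y | ∃ s ∈ S, s * t * s⁻¹ = y} : Set G) ⊆ (fun w => t * w) '' (W : Set G) := by
    rw [← hOM]
    rintro y ⟨s, hs, h⟩
    exact ⟨s, hSM hs, h⟩
  have hcardW : (W : Set G).ncard = Nat.card W := rfl
  obtain ⟨n, hn⟩ := IsPGroup.iff_card.1 L.W_pgroup
  have h3 : (Subgroup.centralizer {t} ⊓ S).relIndex S * S.relIndex M =
      (Subgroup.centralizer {t} ⊓ S).relIndex M :=
    Subgroup.relIndex_mul_relIndex _ _ _ inf_le_right hSM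
  have h4 : (Subgroup.centralizer {t} ⊓ S).relIndex (Subgroup.centralizer {t} ⊓ M) *
      (Subgroup.centralizer {t} ⊓ M).relIndex M =
      (Subgroup.centralizer {t} ⊓ S).relIndex M :=
    Subgroup.relIndex_mul_relIndex _ _ _ (inf_le_inf_left _ hSM) inf_le_right
  rw [Subgroup.inf_relIndex_right] at h3 h4
  have h5 : 2 ^ n ∣ (Subgroup.centralizer {t}).relIndex S * S.relIndex M := by
    rw [h3, ← h4, ← hn, ← hcardW, h1]
    exact Dvd.intro_left _ rfl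
  have h6 : Nat.Coprime (2 ^ n) (S.relIndex M) := by
    apply Nat.Coprime.pow_left
    exact (Nat.Prime.coprime_iff_not_dvd Nat.prime_two).2 hodd
  have h7 : 2 ^ n ∣ (Subgroup.centralizer {t}).relIndex S := h6.dvd_of_dvd_mul_right h5
  have h8 : ((fun w => t * w) '' (W : Set G)).ncard ≤
      ({y | ∃ s ∈ S, s * t * s⁻¹ = y} : Set G).ncard := by
    rw [Set.ncard_image_of_injective _ (mul_right_injective t), hcardW, hn, h2]
    apply Nat.le_of_dvd _ h7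
    rw [← h2]
    apply (Set.ncard_pos (Set.toFinite _)).2
    exact ⟨t, 1, one_mem _, by group⟩
  have h9 := Set.eq_of_subset_of_ncard_le hsub h8 (Set.toFinite _)
  intro w hw
  have h10 : t * w ∈ (fun w => t * w) '' (W : Set G) := ⟨w, hw, rfl⟩
  rw [← h9] at h10
  exact h10

/-- The intersection of a Sylow 2-subgroup of `N` with a normal subgroup of `N`. -/
theorem not_dvd_inf {R N M : Subgroup G} (hMN : M ≤ N)
    (hM : ∀ n ∈ N, ∀ c ∈ M, n * c * n⁻¹ ∈ M) (h : ¬ 2 ∣ R.relIndex N) :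
    ¬ 2 ∣ (R ⊓ M).relIndex M := by
  have hnorm : (M.subgroupOf N).Normal := by
    refine ⟨fun c hc n => ?_⟩
    rw [Subgroup.mem_subgroupOf] at hc ⊢
    exact hM n n.2 c hc
  have h1 : R.relIndex M ∣ R.relIndex N := by
    have e1 : R.relIndex M = (R.subgroupOf N).relIndex (M.subgroupOf N) := by
      rw [Subgroup.relIndex_subgroupOf hMN]
    have e2 : R.relIndex N = (R.subgroupOf N).index := rfl
    rw [e1, e2]
    exact Cfsg.Agent.Lib.GoldschmidtFusion.relIndex_dvd_index_of_normal_right _ _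
  intro h'
  apply h
  refine dvd_trans ?_ h1
  rwa [Subgroup.inf_relIndex_right] at h'

/-- The group `S`, invariant under `T`. -/
theorem exists_ST (L : Lv t d V W k) (ht2 : t * t = 1) {T : Subgroup G} (hT : IsPGroup 2 T)
    (htT : t ∈ T) (hTt : ∀ s ∈ T, s * t = t * s) (hTW : ∀ s ∈ T, ∀ w ∈ W, s * w * s⁻¹ ∈ W)
    (hTr : ∀ w ∈ W, ∃ m ∈ towerM t W k L.comm, m * t * m⁻¹ = t * w) :
    ∃ S : Subgroup G, S ≤ towerM t W k L.comm ∧ IsPGroup 2 S ∧
      ¬ 2 ∣ S.relIndex (towerM t W k L.comm) ∧ W ≤ S ∧ t ∈ S ∧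
      (∀ s ∈ T, ∀ x ∈ S, s * x * s⁻¹ ∈ S) ∧
      ∀ w ∈ W, ∃ s ∈ S, s * t * s⁻¹ = t * w := by
  have hTn : T ≤ Subgroup.normalizer (W : Set G) := fun s hs => mem_norm_of_le (hTW s hs)
  have hTM : ∀ s ∈ T, ∀ n ∈ towerM t W k L.comm, s * n * s⁻¹ ∈ towerM t W k L.comm :=
    fun s hs n hn => M_inv L (hTt s hs) (hTn hs) hn
  have hn1 : towerM t W k L.comm ⊔ T ≤
      Subgroup.normalizer ((towerM t W k L.comm : Subgroup G) : Set G) :=
    sup_le Subgroup.le_normalizer (fun s hs => mem_norm_of_le (hTM s hs))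
  have hWM : W ≤ towerM t W k L.comm := fun w hw => L.Q_le_M ht2 (L.W_le_Q ht2 hw)
  have hD : IsPGroup 2 (W ⊔ T : Subgroup G) := IsPGroup.to_sup_of_normal_left' L.W_pgroup hT hTn
  obtain ⟨R, hDR, hRN, hR, hRodd⟩ := exists_sylow_in (p := 2) (N := towerM t W k L.comm ⊔ T)
    (sup_le_sup hWM le_rfl) hD
  have hSM : R ⊓ towerM t W k L.comm ≤ towerM t W k L.comm := inf_le_right
  have hodd := not_dvd_inf (M := towerM t W k L.comm) le_sup_left
    (fun n hn c hc => (Subgroup.mem_normalizer_iff.1 (hn1 hn) c).1 hc) hRodd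
  refine ⟨R ⊓ towerM t W k L.comm, hSM, hR.to_le inf_le_left, hodd,
    fun w hw => ⟨hDR (Subgroup.mem_sup_left hw), hWM hw⟩,
    ⟨hDR (Subgroup.mem_sup_right htT), L.Q_le_M ht2 (L.t_mem_Q ht2)⟩, ?_,
    tr_of_odd L ht2 hTr hSM hodd⟩
  rintro s hs x ⟨hx1, hx2⟩
  have hsR : s ∈ R := hDR (Subgroup.mem_sup_right hs)
  exact ⟨R.mul_mem (R.mul_mem hsR hx1) (R.inv_mem hsR), hTM s hs x hx2⟩

/-- A 2-element of `M` normalising the Sylow 2-subgroup `S` of `M` lies in `S`. -/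
theorem mem_of_pow_two {M S : Subgroup G} (hSM : S ≤ M) (hS : IsPGroup 2 S)
    (hodd : ¬ 2 ∣ S.relIndex M) {c : G} (hc : c ∈ M) (hcS : ∀ x ∈ S, c * x * c⁻¹ ∈ S)
    {n : ℕ} (hn : c ^ (2 ^ n) = 1) : c ∈ S := by
  have hcn := mem_norm_of_le hcS
  have hC : IsPGroup 2 (Subgroup.zpowers c) := by
    intro x
    obtain ⟨z, hz⟩ := Subgroup.mem_zpowers_iff.1 x.2
    refine ⟨n, Subtype.ext ?_⟩
    show (x : G) ^ (2 ^ n) = 1
    rw [← hz, ← zpow_natCast, ← zpow_mul, mul_comm, zpow_mul, zpow_natCast, hn, one_zpow]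
  have hP : IsPGroup 2 (S ⊔ Subgroup.zpowers c : Subgroup G) :=
    IsPGroup.to_sup_of_normal_left' hS hC (by rw [Subgroup.zpowers_le]; exact hcn)
  have hPM : S ⊔ Subgroup.zpowers c ≤ M := sup_le hSM (by rw [Subgroup.zpowers_le]; exact hc)
  obtain ⟨m, hm, hle⟩ := exists_conj_le_in (p := 2) hS hodd hPM hP
  have h1 : Nat.card ((S ⊔ Subgroup.zpowers c : Subgroup G).map (MulAut.conj m).toMonoidHom) ≤
      Nat.card S := Subgroup.card_le_of_le hle
  rw [Cfsg.Agent.Lib.GoldschmidtFusion.card_map_conj] at h1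
  have h2 : S = S ⊔ Subgroup.zpowers c := Subgroup.eq_of_le_of_card_ge le_sup_left h1
  rw [h2]
  exact Subgroup.mem_sup_right (Subgroup.mem_zpowers c)

/-- An element of `C(t) ∩ C(V) ∩ N(W)` normalising `S` acts trivially on `S / W`. -/
theorem triv_of_cent (L : Lv t d V W k) (H : TCV t V) {S : Subgroup G} (Z : Stg t d V W S k)
    (hSM : S ≤ towerM t W k L.comm) (hS : IsPGroup 2 S)
    (hodd : ¬ 2 ∣ S.relIndex (towerM t W k L.comm)) {c : G} (hct : c * t = t * c)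
    (hcW : c ∈ Subgroup.normalizer (W : Set G)) (hcV : ∀ v ∈ V, c * v * c⁻¹ = v)
    (hcS : ∀ x ∈ S, c * x * c⁻¹ ∈ S) : ∀ x ∈ S, x⁻¹ * (c * x * c⁻¹) ∈ W := by
  have ht2 := H.t2
  have htW : t ∉ W := fun h => H.tV (L.om t h ht2)
  have hW : ∀ n : ℕ, ∀ w ∈ W, c ^ n * w * (c ^ n)⁻¹ ∈ W := fun n w hw =>
    (Subgroup.mem_normalizer_iff.1 (pow_mem hcW n) w).1 hw
  have hctn : ∀ n : ℕ, c ^ n * t * (c ^ n)⁻¹ = t := by
    intro n
    rw [(show Commute c t from hct).pow_left n, mul_inv_cancel_right]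
  have hcM : c ∈ towerM t W k L.comm := by
    refine ⟨hcW, ?_, ?_⟩
    · rw [commutatorElement_eq_one_iff_mul_comm.2 hct]
      exact one_mem _
    · intro x hx
      have h1 : c * x * c⁻¹ ∈ W := (Subgroup.mem_normalizer_iff.1 hcW x).1 hx
      rw [commutatorElement_def, mul_pow_of_comm (L.comm _ h1 _ (inv_mem hx)), conj_pow,
        hcV _ (L.pw x hx), inv_pow, mul_inv_cancel]
  -- the odd power of `c` in `S`
  obtain ⟨a, b, hb, hab⟩ : ∃ a b : ℕ, ¬ 2 ∣ b ∧ orderOf c = 2 ^ a * b :=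
    ⟨_, _, (Nat.not_dvd_ordCompl Nat.prime_two (orderOf_pos c).ne'),
      (Nat.ordProj_mul_ordCompl_eq_self (orderOf c) 2).symm⟩
  have hcb : c ^ b ∈ S := by
    apply mem_of_pow_two hSM hS hodd (pow_mem hcM b) (n := a)
    · intro x hx
      have h1 : c ∈ Subgroup.normalizer (S : Set G) := mem_norm_of_le hcS
      exact (Subgroup.mem_normalizer_iff.1 (pow_mem h1 b) x).1 hx
    · rw [← pow_mul, mul_comm, ← hab, pow_orderOf_eq_one]
  intro x hx
  -- `x⁻¹ c x c⁻¹ ∈ W ∪ t W`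
  have he : ⁅t, x⁻¹ * (c * x * c⁻¹)⁆ ^ (2 ^ k) = 1 := by
    have h1 : ⁅t, c * x * c⁻¹⁆ ^ (2 ^ k) = ⁅t, x⁆ ^ (2 ^ k) := by
      have h2 := comm_conj' c t x
      have h3 : c * t * c⁻¹ = t := by rw [hct, mul_inv_cancel_right]
      rw [h3] at h2
      rw [h2, conj_pow, hcV _ (Z.e_mem L hx)]
    rw [Z.e_mul L (inv_mem hx) (hcS x hx), Z.e_inv L hx, h1, inv_mul_cancel]
  rcases Z.ker _ (mul_mem (inv_mem hx) (hcS x hx)) he with h1 | h1
  · exact h1
  exfalso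
  -- powers
  have hpow : ∀ n : ℕ, t ^ n * (x⁻¹ * (c ^ n * x * (c ^ n)⁻¹)) ∈ W := by
    intro n
    induction n with
    | zero =>
      have h2 : t ^ 0 * (x⁻¹ * (c ^ 0 * x * (c ^ 0)⁻¹)) = 1 := by
        rw [pow_zero, pow_zero]
        group
      rw [h2]
      exact one_mem _
    | succ n ih =>
      have h2 : t ^ (n + 1) * (x⁻¹ * (c ^ (n + 1) * x * (c ^ (n + 1))⁻¹)) =
          (t ^ n * (t * (x⁻¹ * (c * x * c⁻¹))) * (t ^ n)⁻¹) *
          (c * (t ^ n * (x⁻¹ * (c ^ n * x * (c ^ n)⁻¹))) * c⁻¹) := by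
        have h3 : c * t ^ n = t ^ n * c := ((show Commute c t from hct).pow_right n).eq
        have h4 : c * (t ^ n * (x⁻¹ * (c ^ n * x * (c ^ n)⁻¹))) * c⁻¹ =
            t ^ n * (c * (x⁻¹ * (c ^ n * x * (c ^ n)⁻¹)) * c⁻¹) := by
          rw [← mul_assoc c, h3]
          group
        rw [h4, pow_succ t n, pow_succ' c n]
        group
      rw [h2]
      refine mul_mem ?_ ?_
      · have h3 : t ^ n ∈ Subgroup.normalizer (W : Set G) := pow_mem (L.t_norm ht2) n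
        exact (Subgroup.mem_normalizer_iff.1 h3 _).1 h1
      · exact (Subgroup.mem_normalizer_iff.1 hcW _).1 ih
  have h2 := hpow b
  have h3 : x⁻¹ * (c ^ b * x * (c ^ b)⁻¹) ∈ W := by
    have h4 : x⁻¹ * (c ^ b * x * (c ^ b)⁻¹) = ⁅x⁻¹, c ^ b⁆ := by
      rw [commutatorElement_def]
      group
    rw [h4]
    exact Z.comm_mem (inv_mem hx) hcb
  have h4 : t ^ b = t := by
    obtain ⟨m, hm⟩ : ∃ m, b = 2 * m + 1 := ⟨b / 2, by omega⟩
    rw [hm, pow_succ, pow_mul, pow_two, ht2, one_pow, one_mul]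
  rw [h4] at h2
  apply htW
  have h5 : t = t * (x⁻¹ * (c ^ b * x * (c ^ b)⁻¹)) * (x⁻¹ * (c ^ b * x * (c ^ b)⁻¹))⁻¹ := by
    group
  rw [h5]
  exact mul_mem h2 (inv_mem h3)

/-- `U` is invariant under `T`. -/
theorem U_inv (L : Lv t d V W k) (H : TCV t V) {S : Subgroup G} (Z : Stg t d V W S k)
    (hSM : S ≤ towerM t W k L.comm) (hS : IsPGroup 2 S)
    (hodd : ¬ 2 ∣ S.relIndex (towerM t W k L.comm)) {U : Subgroup G}
    (hU : ∀ x, x ∈ U ↔ x ∈ S ∧ ∃ y ∈ S, (y⁻¹ * (d * y * d⁻¹))⁻¹ * x ∈ W)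
    (hdV : ∀ v ∈ V, d * v * d⁻¹ ∈ V)
    {s : G} (hst : s * t = t * s) (hsW : ∀ w ∈ W, s * w * s⁻¹ ∈ W)
    (hsV : ∀ v ∈ V, s * v * s⁻¹ ∈ V)
    (hsS : ∀ x ∈ S, s * x * s⁻¹ ∈ S)
    (hsd : ∃ j : ℕ, ∀ v ∈ V, (s * d * s⁻¹) * v * (s * d * s⁻¹)⁻¹ = d ^ j * v * (d ^ j)⁻¹) :
    ∀ u ∈ U, s * u * s⁻¹ ∈ U := by
  obtain ⟨j, hj⟩ := hsd
  have hsWn := mem_norm_of_le hsW
  have hdWn := mem_norm_of_le L.dW
  have hsSn := mem_norm_of_le hsS
  have hdSn := mem_norm_of_le Z.dS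
  have hdVn := mem_norm_of_le hdV
  have hWU : W ≤ U := by
    intro w hw
    rw [hU]
    refine ⟨Z.WS hw, 1, one_mem _, ?_⟩
    have h1 : ((1 : G)⁻¹ * (d * 1 * d⁻¹))⁻¹ * w = w := by group
    rw [h1]
    exact hw
  set n := s * d * s⁻¹ with hn
  set c := (d ^ j)⁻¹ * n with hc
  have hctt : c * t = t * c := by
    have h1 : Commute s t := hst
    have h2 : Commute d t := Z.dt
    exact ((h2.pow_left j).inv_left.mul_left ((h1.mul_left h2).mul_left h1.inv_left)).eq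
  have hnW : n ∈ Subgroup.normalizer (W : Set G) := mul_mem (mul_mem hsWn hdWn) (inv_mem hsWn)
  have hcW : c ∈ Subgroup.normalizer (W : Set G) := mul_mem (inv_mem (pow_mem hdWn j)) hnW
  have hcS : c ∈ Subgroup.normalizer (S : Set G) := mul_mem (inv_mem (pow_mem hdSn j))
    (mul_mem (mul_mem hsSn hdSn) (inv_mem hsSn))
  have hcV : ∀ v ∈ V, c * v * c⁻¹ = v := by
    intro v hv
    have h1 : c * v * c⁻¹ = (d ^ j)⁻¹ * (n * v * n⁻¹) * (d ^ j) := by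
      rw [hc]
      group
    rw [h1, hj v hv]
    group
  have htriv := triv_of_cent L H Z hSM hS hodd hctt hcW hcV
    (fun x hx => (Subgroup.mem_normalizer_iff.1 hcS x).1 hx)
  have hdSj : ∀ (i : ℕ) (x : G), x ∈ S → d ^ i * x * (d ^ i)⁻¹ ∈ S := fun i x hx =>
    (Subgroup.mem_normalizer_iff.1 (pow_mem hdSn i) x).1 hx
  -- telescoping
  have htel : ∀ (i : ℕ) (y : G), y ∈ S → y⁻¹ * (d ^ i * y * (d ^ i)⁻¹) ∈ U := by
    intro i y hy
    induction i with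
    | zero =>
      have h2 : y⁻¹ * (d ^ 0 * y * (d ^ 0)⁻¹) = 1 := by
        rw [pow_zero]
        group
      rw [h2]
      exact one_mem _
    | succ i ih =>
      have h2 : y⁻¹ * (d ^ (i + 1) * y * (d ^ (i + 1))⁻¹) =
          (y⁻¹ * (d ^ i * y * (d ^ i)⁻¹)) *
          ((d ^ i * y * (d ^ i)⁻¹)⁻¹ * (d * (d ^ i * y * (d ^ i)⁻¹) * d⁻¹)) := by
        rw [pow_succ' d i]
        group
      rw [h2]
      apply mul_mem ih
      rw [hU]
      refine ⟨mul_mem (inv_mem (hdSj i y hy)) (Z.dS _ (hdSj i y hy)), _, hdSj i y hy, ?_⟩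
      rw [inv_mul_cancel]
      exact one_mem _
  intro u hu
  obtain ⟨huS, y, hy, h1⟩ := (hU u).1 hu
  have hy' := hsS y hy
  -- `s u s⁻¹ = y'⁻¹ (n y' n⁻¹) w'`
  have h2 : s * u * s⁻¹ = ((s * y * s⁻¹)⁻¹ * (n * (s * y * s⁻¹) * n⁻¹)) *
      (s * ((y⁻¹ * (d * y * d⁻¹))⁻¹ * u) * s⁻¹) := by
    rw [hn]
    group
  have h3 : (s * y * s⁻¹)⁻¹ * (n * (s * y * s⁻¹) * n⁻¹) =
      ((s * y * s⁻¹)⁻¹ * (d ^ j * (s * y * s⁻¹) * (d ^ j)⁻¹)) *
      (d ^ j * ((s * y * s⁻¹)⁻¹ * (c * (s * y * s⁻¹) * c⁻¹)) * (d ^ j)⁻¹) := by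
    rw [hc]
    group
  rw [h2, h3]
  refine mul_mem (mul_mem (htel j _ hy') (hWU ?_)) (hWU (hsW _ h1))
  exact (Subgroup.mem_normalizer_iff.1 (pow_mem hdWn j) _).1 (htriv _ hy')

end

end Cfsg.Agent.StdL2.FT
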