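import Cfsg.Agent.StdL2.TowerFirst
import Cfsg.Agent.ONan.FieldOfTorus

/-!
# The tower: final form
-/

set_option autoImplicit false
set_option linter.style.haveILetI false

namespace Cfsg.Agent.StdL2

open scoped commutatorElement

open Cfsg.Agent.Lib.GoldschmidtFusion (exists_conj_le_in lt_inf_normalizer)

universe u

variable {G : Type u} [Group G]

section

variable {t d d' : G} {V W : Subgroup G} {k : ℕ}

theorem pow_congr' (hdV : ∀ v ∈ V, d * v * d⁻¹ ∈ V) (h : ∀ v ∈ V, d' * v * d'⁻¹ = d * v * d⁻¹)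
    (n : ℕ) : ∀ v ∈ V, d' ^ n * v * (d' ^ n)⁻¹ = d ^ n * v * (d ^ n)⁻¹ := by
  induction n with
  | zero => intro v _; simp
  | succ n ih =>
    intro v hv
    have h1 : d' ^ (n + 1) * v * (d' ^ (n + 1))⁻¹ = d' ^ n * (d' * v * d'⁻¹) * (d' ^ n)⁻¹ := by
      rw [pow_succ]
      group
    have h2 : d ^ (n + 1) * v * (d ^ (n + 1))⁻¹ = d ^ n * (d * v * d⁻¹) * (d ^ n)⁻¹ := by
      rw [pow_succ]
      group
    rw [h1, h2, h v hv, ih _ (hdV v hv)]

theorem Tor.congr [Finite G] (T : Tor t V d) (hd' : d' * t = t * d')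
    (h : ∀ v ∈ V, d' * v * d'⁻¹ = d * v * d⁻¹) : Tor t V d' := by
  refine ⟨hd', fun v hv => by rw [h v hv]; exact T.dV v hv, ?_, ?_⟩
  · intro v hv w hw hv1 hw1
    obtain ⟨n, hn⟩ := T.reg v hv w hw hv1 hw1
    exact ⟨n, by rw [pow_congr' T.dV h n v hv, hn]⟩
  · intro n hn hnV
    obtain ⟨m, hm⟩ := T.nrm n hn hnV
    refine ⟨m, fun v hv => ?_⟩
    rw [pow_congr' T.dV h m v hv, ← hm v hv]
    have hn' : n⁻¹ * v * n ∈ V := by
      have h1 := mem_norm_of_le hnV
      have h2 := (Subgroup.mem_normalizer_iff.1 (inv_mem h1) v).1 hv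
      rwa [inv_inv] at h2
    have h3 : n * d' * n⁻¹ * v * (n * d' * n⁻¹)⁻¹ = n * (d' * (n⁻¹ * v * n) * d'⁻¹) * n⁻¹ := by
      group
    have h4 : n * d * n⁻¹ * v * (n * d * n⁻¹)⁻¹ = n * (d * (n⁻¹ * v * n) * d⁻¹) * n⁻¹ := by
      group
    rw [h3, h4, h _ hn']

/-- transitivity modulo `W ^ 2`. -/
theorem Lv.trN [Finite G] (L : Lv t d V W k) (H : TCen t V) (hV : 4 ≤ Nat.card V)
    (T : Tor t V d) (hns : ¬ ∃ S : Sylow 2 G, ∀ x, x ∈ S ↔ x ∈ W ∨ t * x ∈ W) :
    (∀ v ∈ V, ∃ n ∈ towerN t W, ⁅n, t⁆ ^ (2 ^ k) = v) ∧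
      (k = 0 → ∀ n ∈ Subgroup.normalizer (H.E : Set G), ∀ v ∈ V, n * v * n⁻¹ ∈ V) := by
  have ht2 := H.t2
  obtain ⟨R, hR⟩ := (L.Q_pgroup ht2).exists_le_sylow
  have hne : L.Q ht2 ≠ (R : Subgroup G) := by
    intro h
    apply hns
    refine ⟨R, fun x => ?_⟩
    have h1 : x ∈ R ↔ x ∈ L.Q ht2 := by
      rw [h]
      rfl
    rw [h1]
    rfl
  have hlt : L.Q ht2 < (R : Subgroup G) := lt_of_le_of_ne hR hne
  obtain ⟨x, hx, hxQ⟩ := SetLike.exists_of_lt (lt_inf_normalizer R.isPGroup' hlt)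
  have hVR : ∀ v ∈ V, v ∈ (R : Subgroup G) := fun v hv => hR (Or.inl (L.VW hv))
  have htR : t ∈ (R : Subgroup G) := hR (L.t_mem_Q ht2)
  -- elements of `R` commuting with `t`
  have hcR : ∀ y ∈ (R : Subgroup G), y * t = t * y → y ∈ L.Q ht2 := by
    intro y hy hyt
    have h1 := H.syl ((R : Subgroup G) ⊓ Subgroup.centralizer ({t} : Set G))
      (R.isPGroup'.to_le inf_le_left)
      (fun z hz => (Subgroup.mem_centralizer_singleton_iff.1 hz.2).symm)
      (fun v hv => ⟨hVR v hv, Subgroup.mem_centralizer_singleton_iff.2 (H.vt v hv).symm⟩)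
      ⟨htR, Subgroup.mem_centralizer_singleton_iff.2 rfl⟩ y
      ⟨hy, Subgroup.mem_centralizer_singleton_iff.2 hyt⟩
    rcases h1 with h1 | h1
    · exact Or.inl (L.VW h1)
    · exact Or.inr (L.VW h1)
  -- conjugation by `x`
  have hxc : ∀ q ∈ L.Q ht2, x * q * x⁻¹ ∈ L.Q ht2 := fun q hq =>
    (Subgroup.mem_normalizer_iff.1 hx.2 q).1 hq
  have hk0 : k = 0 → W = V := by
    rintro rfl
    apply le_antisymm _ L.VW
    intro w hw
    have h2 := L.pw w hw
    rwa [pow_zero, pow_one] at h2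
  have hQE : k = 0 → L.Q ht2 = H.E := by
    intro hk
    ext y
    rw [L.mem_Q ht2, H.mem_E, hk0 hk]
  have hE : k = 0 → ∀ n ∈ Subgroup.normalizer (H.E : Set G), ∀ v ∈ V, n * v * n⁻¹ ∈ V := by
    intro hk
    have h1 := hQE hk
    exact normE H hV T.dt T.dV T.reg R.isPGroup' (h1 ▸ hR) (h1 ▸ hx.2) (h1 ▸ hxQ) hx.1
  -- `x` normalises `W`
  have hxW : ∀ w ∈ W, x * w * x⁻¹ ∈ W := by
    rcases Nat.eq_zero_or_pos k with hk | hk
    · intro w hw
      have h1 := hQE hk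
      rw [hk0 hk] at hw ⊢
      exact hE hk x (h1 ▸ hx.2) w hw
    · have h1 : ∀ w ∈ W, w ∉ V → x * w * x⁻¹ ∈ W := by
        intro w hw hwV
        rcases L.mem_Q_cases H (hxc w (Or.inl hw)) with h | ⟨z, hz, h⟩
        · exact h
        · exfalso
          apply hwV
          apply L.om w hw
          have h2 := L.tw_tw ht2 (w := z) (by exact hz)
          have h2' : (t * z) * (t * z) = 1 := h2
          rw [← h] at h2'
          have h3 : x * w * x⁻¹ * (x * w * x⁻¹) = x * (w * w) * x⁻¹ := by group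
          rw [h3] at h2'
          have h4 : w * w = x⁻¹ * (x * (w * w) * x⁻¹) * x := by group
          rw [h4, h2']
          group
      -- there is an element outside `V`
      obtain ⟨v1, hv1, hv11, -⟩ := exists_two hV (1 : G)
      obtain ⟨w0, hw0, hw01⟩ := L.root v1 hv1
      have hw0V : w0 ∉ V := by
        intro h
        apply hv11
        obtain ⟨j, rfl⟩ : ∃ j, k = j + 1 := ⟨k - 1, by omega⟩
        rw [← hw01, pow_succ', pow_mul, pow_two, L.vsq _ h, one_pow]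
      intro w hw
      by_cases hwV : w ∈ V
      · have h2 : w0⁻¹ * w ∉ V := by
          intro h
          apply hw0V
          have h3 : w0 = w * (w0⁻¹ * w)⁻¹ := by group
          rw [h3]
          exact mul_mem hwV (inv_mem h)
        have h3 : x * w * x⁻¹ = (x * w0 * x⁻¹) * (x * (w0⁻¹ * w) * x⁻¹) := by group
        rw [h3]
        exact mul_mem (h1 w0 hw0 hw0V) (h1 _ (mul_mem (inv_mem hw0) hw) h2)
      · exact h1 w hw hwV
  have hxN : x ∈ towerN t W := by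
    have h1 := mem_norm_of_le hxW
    refine ⟨h1, ?_⟩
    rcases L.mem_Q_cases H (hxc t (L.t_mem_Q ht2)) with h | ⟨w, hw, h⟩
    · exfalso
      apply L.t_notMem H
      exact (Subgroup.mem_normalizer_iff.1 h1 t).2 h
    · rw [commutatorElement_def, h, L.tinv w hw]
      exact inv_mem hw
  -- `x` moves `t`
  have hx1 : ⁅x, t⁆ ^ (2 ^ k) ≠ 1 := by
    intro h
    apply hxQ
    obtain ⟨y, hy, hy1⟩ := L.root' k (by omega) _ hxN.2 h
    have h3 : k + 1 - k = 1 := by omega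
    rw [h3, pow_one, pow_two] at hy1
    have hc : (y⁻¹ * x) * t = t * (y⁻¹ * x) := by
      have h4 : x * t = y * y * t * x := by
        rw [← hy1, commutatorElement_def]
        group
      have h6 : t * y⁻¹ = y * t := by
        rw [L.w_t ht2 hy]
      rw [mul_assoc, h4, ← mul_assoc t, h6]
      group
    have h5 := hcR (y⁻¹ * x) ((R : Subgroup G).mul_mem ((R : Subgroup G).inv_mem
      (hR (Or.inl hy))) hx.1) hc
    have h6 : x = y * (y⁻¹ * x) := by group
    rw [h6]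
    exact (L.Q ht2).mul_mem (Or.inl hy) h5
  refine ⟨?_, hE⟩
  have hdN : ∀ n : ℕ, d ^ n ∈ towerN t W := by
    intro n
    apply pow_mem
    refine ⟨mem_norm_of_le L.dW, ?_⟩
    rw [commutatorElement_eq_one_iff_mul_comm.2 T.dt]
    exact one_mem _
  intro v hv
  by_cases hv1 : v = 1
  · exact ⟨1, one_mem _, by rw [commutatorElement_one_left, one_pow, hv1]⟩
  · obtain ⟨n, hn⟩ := T.reg _ (L.pw _ hxN.2) v hv hx1 hv1
    refine ⟨d ^ n * x * (d ^ n)⁻¹, mul_mem (mul_mem (hdN n) hxN) (inv_mem (hdN n)), ?_⟩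
    have h3 := comm_conj' (d ^ n) x t
    rw [pow_dt' T.dt] at h3
    rw [h3, conj_pow, hn]

/-- The exceptional case `N(W ∪ t W) / C = L₃(2)`. -/
structure Exc (t d : G) (V W : Subgroup G) (k : ℕ) : Prop where
  lv : Lv t d V W k
  tor : Tor t V d
  oct : Nat.card V = 8
  gW : W ≤ commutator G
  tr : ∀ v ∈ V, ∃ n ∈ towerN t W, ⁅n, t⁆ ^ (2 ^ k) = v
  cent : ∀ n ∈ towerN t W, (∀ v ∈ V, n * v * n⁻¹ = v) → ⁅n, t⁆ ^ (2 ^ k) = 1
  idx : (Subgroup.centralizer (V : Set G)).relIndex (towerN t W) = 168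
  nsyl : ¬ ∃ S : Sylow 2 G, ∀ x, x ∈ S ↔ x ∈ W ∨ t * x ∈ W
  nE : k = 0 → ∀ n ∈ Subgroup.normalizer ({x | x ∈ V ∨ t * x ∈ V} : Set G), ∀ v ∈ V,
    n * v * n⁻¹ ∈ V

/-- Coordinates. -/
theorem exists_crd [Finite G] (hV : 4 ≤ Nat.card V) (hvsq : ∀ v ∈ V, v * v = 1) (T : Tor t V d) :
    ∃ (F : Type) (_ : Field F) (_ : Finite F) (_ : CharP F 2) (τ : F → G) (lam : F),
      Crd V d τ lam ∧ ∃ r : F, r ≠ 0 ∧ r ≠ 1 := by
  classical
  have hVp : IsPGroup 2 V := by
    intro x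
    refine ⟨1, Subtype.ext ?_⟩
    show (x : G) ^ (2 ^ 1) = 1
    rw [pow_one, pow_two]
    exact hvsq x x.2
  obtain ⟨a, ha⟩ := IsPGroup.iff_card.1 hVp
  have ha0 : a ≠ 0 := by
    rintro rfl
    rw [pow_zero] at ha
    omega
  let F := GaloisField 2 a
  letI : Fintype F := Fintype.ofFinite F
  have hF : Fintype.card F = Nat.card V := by
    rw [← Nat.card_eq_fintype_card, GaloisField.card 2 a ha0, ha]
  obtain ⟨s, hs, hs1, -⟩ := exists_two hV (1 : G)
  have hpz : ∀ z : ℤ, ∃ n : ℕ, d ^ z = d ^ n := by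
    intro z
    have h1 : d ^ z ∈ Submonoid.powers d := by
      have h2 : d ^ z ∈ Subgroup.zpowers d := ⟨z, rfl⟩
      rwa [← mem_powers_iff_mem_zpowers] at h2
    obtain ⟨n, hn⟩ := h1
    exact ⟨n, hn.symm⟩
  have hdVn : ∀ n : ℕ, ∀ v ∈ V, d ^ n * v * (d ^ n)⁻¹ ∈ V := by
    intro n
    induction n with
    | zero => intro v hv; simpa using hv
    | succ n ih =>
      intro v hv
      have h2 : d ^ (n + 1) * v * (d ^ (n + 1))⁻¹ = d * (d ^ n * v * (d ^ n)⁻¹) * d⁻¹ := by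
        rw [pow_succ']
        group
      rw [h2]
      exact T.dV _ (ih v hv)
  obtain ⟨τ, χ, h1, h2, h3, h4, h5, h6, h7, h8⟩ :=
    ONan.FieldOfTorus.exists_coord V (Subgroup.zpowers d)
      (fun x hx y hy => vcomm_of_vsq hvsq hx hy)
      (by
        rintro _ ⟨m, rfl⟩ _ ⟨n, rfl⟩
        exact (Commute.refl d).zpow_zpow m n)
      (by
        rintro _ ⟨m, rfl⟩ x hx
        obtain ⟨n, hn⟩ := hpz m
        show d ^ m * x * (d ^ m)⁻¹ ∈ V
        rw [hn]
        exact hdVn n x hx)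
      s hs hs1
      (by
        intro x hx hx1
        obtain ⟨n, hn⟩ := T.reg s hs x hx hs1 hx1
        exact ⟨d ^ n, ⟨n, zpow_natCast d n⟩, hn⟩)
      (by
        rintro _ ⟨m, rfl⟩ hm x hx
        have hm' : d ^ m * s = s * d ^ m := hm
        show d ^ m * x = x * d ^ m
        by_cases hx1 : x = 1
        · rw [hx1, mul_one, one_mul]
        · obtain ⟨n, hn⟩ := T.reg s hs x hx hs1 hx1
          have hc : d ^ m * d ^ n = d ^ n * d ^ m := by
            rw [← zpow_natCast]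
            exact (Commute.refl d).zpow_zpow m n
          have hc' : d ^ m * (d ^ n)⁻¹ = (d ^ n)⁻¹ * d ^ m := by
            rw [← zpow_natCast, ← zpow_neg]
            exact (Commute.refl d).zpow_zpow m _
          rw [← hn, mul_assoc, mul_assoc, ← mul_assoc, hc, mul_assoc, ← mul_assoc (d ^ m), hm',
            mul_assoc, hc']
          group)
      F hF
  refine ⟨F, inferInstance, inferInstance, inferInstance, τ, χ d, ⟨h1, h2, h3, h4, ?_, ?_⟩, ?_⟩
  · intro a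
    exact h8 d (Subgroup.mem_zpowers d) a
  · intro r hr
    obtain ⟨h, ⟨m, rfl⟩, hr⟩ := h7 r hr
    obtain ⟨n, hn⟩ := hpz m
    refine ⟨n, ?_⟩
    have hr' : χ (d ^ m) = r := hr
    rw [hn] at hr'
    rw [← hr']
    clear hn hr' hr
    induction n with
    | zero =>
      rw [pow_zero, pow_zero]
      have h9 := h6 1 (one_mem _) 1 (one_mem _)
      rw [mul_one] at h9
      have h10 := h5 1 (one_mem _)
      exact (mul_eq_left₀ h10).mp h9.symm ▸ rfl
    | succ n ih =>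
      rw [pow_succ, pow_succ, h6 _ ⟨n, zpow_natCast d n⟩ _ (Subgroup.mem_zpowers d), ih]
  · by_contra hcon
    push Not at hcon
    have h9 : (Set.univ : Set F) ⊆ {0, 1} := by
      intro r _
      by_cases h : r = 0
      · exact Or.inl h
      · exact Or.inr (hcon r h)
    have h10 := Set.ncard_le_ncard h9 (Set.toFinite _)
    have h11 : ({0, 1} : Set F).ncard ≤ 2 := (Set.ncard_insert_le _ _).trans (by
      rw [Set.ncard_singleton])
    rw [Set.ncard_univ, Nat.card_eq_fintype_card, hF] at h10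
    omega

/-- **The tower.** -/
theorem tower [Finite G] (H : TCen t V) (hV : 4 ≤ Nat.card V) (T : Tor t V d) :
    (∃ S : Sylow 2 G, ∀ x, x ∈ S ↔ x ∈ V ∨ t * x ∈ V) ∨ (∃ U, Stop t V U) ∨
      ∃ (k : ℕ) (W : Subgroup G) (d' : G), Exc t d' V W k := by
  classical
  by_cases hE : ∃ S : Sylow 2 G, ∀ x, x ∈ S ↔ x ∈ V ∨ t * x ∈ V
  · exact Or.inl hE
  right
  obtain ⟨F, _, _, _, τ, lam, C, hF⟩ := exists_crd hV H.vsq T
  have hVc : V ≤ commutator G := by
    intro v hv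
    obtain ⟨b, rfl⟩ := C.surj v hv
    have hlam : lam ≠ 1 := by
      rintro rfl
      obtain ⟨r, hr0, hr1⟩ := hF
      obtain ⟨n, hn⟩ := C.gen r hr0
      rw [one_pow] at hn
      exact hr1 hn.symm
    have hl1 : lam - 1 ≠ 0 := sub_ne_zero.2 hlam
    have h1 : τ b = ⁅d, τ (b / (lam - 1))⁆ := by
      rw [commutatorElement_def, C.conj]
      have h2 : lam * (b / (lam - 1)) = b + b / (lam - 1) := by
        field_simp
        ring
      rw [h2, C.add, mul_inv_cancel_right]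
    rw [h1]
    exact Subgroup.commutator_mem_commutator (Subgroup.mem_top _) (Subgroup.mem_top _)
  -- level `0`
  have hdV := T.dV
  have L0 : Lv t d V V 0 := by
    have ht : t⁻¹ = t := inv_eq_of_mul_eq_one_right H.t2
    refine ⟨fun x hx y hy => vcomm_of_vsq H.vsq hx hy, ?_, hdV, le_rfl, fun w hw _ => hw, H.vsq,
      fun w hw => by rwa [pow_zero, pow_one], fun v hv => ⟨v, hv, by rw [pow_zero, pow_one]⟩⟩
    intro w hw
    rw [H.vt w hw, mul_inv_cancel_right]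
    exact (inv_eq_of_mul_eq_one_right (H.vsq w hw)).symm
  apply tower_abs (F := F) (T := τ) (lam := lam) hF H hV d
    (fun k W => ∃ d', Exc t d' V W k) ?_ _ 0 V d L0 C T.dt (fun _ _ => rfl) hVc rfl (Or.inr hE)
    |>.imp id (fun ⟨k, W, d', h⟩ => ⟨k, W, d', h⟩)
  intro k W d1 L C1 hd1 hdd hg hns
  have T1 : Tor t V d1 := T.congr hd1 hdd
  obtain ⟨htr, hN0⟩ := L.trN H hV T1 hns
  obtain ⟨s, hs, hs1, -⟩ := exists_two hV (1 : G)
  have hpz : ∀ z : ℤ, ∃ n : ℕ, d1 ^ z = d1 ^ n := by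
    intro z
    have h1 : d1 ^ z ∈ Submonoid.powers d1 := by
      have h2 : d1 ^ z ∈ Subgroup.zpowers d1 := ⟨z, rfl⟩
      rwa [← mem_powers_iff_mem_zpowers] at h2
    obtain ⟨n, hn⟩ := h1
    exact ⟨n, hn.symm⟩
  have hdN : d1 ∈ towerN t W := by
    refine ⟨mem_norm_of_le L.dW, ?_⟩
    rw [commutatorElement_eq_one_iff_mul_comm.2 hd1]
    exact one_mem _
  rcases L.applyX H (Subgroup.zpowers d1) ((Subgroup.zpowers_le).2 hdN)
    (by
      rintro _ ⟨m, rfl⟩
      exact (show Commute d1 t from hd1).zpow_left m)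
    (by
      intro n hn hnV
      -- powers of `d1`
      obtain ⟨m, hm⟩ := T1.nrm n hn hnV
      have hnd : ∀ l : ℕ, ∀ v ∈ V, n * d1 ^ l * n⁻¹ * v * (n * d1 ^ l * n⁻¹)⁻¹ =
          (d1 ^ m) ^ l * v * ((d1 ^ m) ^ l)⁻¹ := by
        intro l
        induction l with
        | zero => intro v _; simp
        | succ l ih =>
          intro v hv
          have h1 : n * d1 ^ (l + 1) * n⁻¹ * v * (n * d1 ^ (l + 1) * n⁻¹)⁻¹ =
              n * d1 ^ l * n⁻¹ * ((n * d1 * n⁻¹) * v * (n * d1 * n⁻¹)⁻¹) *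
                (n * d1 ^ l * n⁻¹)⁻¹ := by
            rw [pow_succ]
            group
          have hv' : d1 ^ m * v * (d1 ^ m)⁻¹ ∈ V := by
            rw [← hm v hv]
            have h2 := mem_norm_of_le hnV
            have h3 := mem_norm_of_le T1.dV
            exact (Subgroup.mem_normalizer_iff.1 (mul_mem (mul_mem h2 h3) (inv_mem h2)) v).1 hv
          rw [h1, hm v hv, ih _ hv', pow_succ]
          group
      rintro _ ⟨z, rfl⟩
      obtain ⟨l, hl⟩ := hpz z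
      refine ⟨(d1 ^ m) ^ l, ?_, ?_⟩
      · rw [← pow_mul]
        exact ⟨_, zpow_natCast d1 _⟩
      · intro v hv
        show n * d1 ^ z * n⁻¹ * v * (n * d1 ^ z * n⁻¹)⁻¹ = _
        rw [hl]
        exact hnd l v hv)
    (by
      rintro _ ⟨a, rfl⟩ _ ⟨b, rfl⟩ v _
      have h1 : d1 ^ a * d1 ^ b = d1 ^ b * d1 ^ a := (Commute.refl d1).zpow_zpow a b
      show d1 ^ a * d1 ^ b * v * (d1 ^ a * d1 ^ b)⁻¹ = d1 ^ b * d1 ^ a * v * (d1 ^ b * d1 ^ a)⁻¹
      rw [h1])
    hs hs1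
    (by
      intro v hv hv1
      obtain ⟨n, hn⟩ := T1.reg s hs v hv hs1 hv1
      exact ⟨d1 ^ n, ⟨n, zpow_natCast d1 n⟩, hn⟩)
    hV htr with h | ⟨h1, h2, h3⟩
  · exact Or.inl h
  · exact Or.inr ⟨d1, L, T1, h1, hg, htr, h2, h3, hns, hN0⟩

end

end Cfsg.Agent.StdL2
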