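import Cfsg.Agent.StdL2.FTStep
import Cfsg.Agent.StdL2.FieldStart
import Cfsg.Agent.StdL2.TowerFinal

/-!
# The tower with field automorphisms: the conjugates of `t` in `U T`
-/

set_option autoImplicit false
set_option Elab.async false
set_option linter.style.haveILetI false

namespace Cfsg.Agent.StdL2.FT

open scoped commutatorElement

open Cfsg.Agent.Lib.GoldschmidtFusion (exists_conj_le_in lt_inf_normalizer exists_sylow_in)
open Cfsg.Agent.StdL2 Cfsg.Agent.StdL2.Lv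

variable {G : Type*} [Group G] {t d : G} {V W T C₀ U : Subgroup G} {k : ℕ}

theorem FTD.tb (H : FTD t V T C₀) : TB t V := ⟨H.t2, H.tV, H.vsq, H.vt⟩

/-- **Lemma X**: the alternative at one level. -/
theorem tr_or [Finite G] (H : TB t V) (h16 : 16 ≤ Nat.card V) (T1 : Tor t V d)
    (L : Lv t d V W k) :
    (∀ w ∈ W, ∃ n ∈ towerM t W k L.comm, ∃ x ∈ W, x ^ (2 ^ k) = 1 ∧ n * t * n⁻¹ = t * w * x) ∨
      (∀ n ∈ towerN t W, ⁅n, t⁆ ^ (2 ^ k) = 1) := by
  classical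
  by_cases hcon : ∀ n ∈ towerN t W, ⁅n, t⁆ ^ (2 ^ k) = 1
  · exact Or.inr hcon
  left
  push Not at hcon
  obtain ⟨x, hxN, hx1⟩ := hcon
  have hV : 4 ≤ Nat.card V := by omega
  have hdN : d ∈ towerN t W := by
    refine ⟨mem_norm_of_le L.dW, ?_⟩
    rw [commutatorElement_eq_one_iff_mul_comm.2 T1.dt]
    exact one_mem _
  have htr : ∀ v ∈ V, ∃ n ∈ towerN t W, ⁅n, t⁆ ^ (2 ^ k) = v := by
    intro v hv
    by_cases hv1 : v = 1
    · exact ⟨1, one_mem _, by rw [commutatorElement_one_left, one_pow, hv1]⟩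
    · obtain ⟨n, hn⟩ := T1.reg _ (L.pw _ hxN.2) v hv hx1 hv1
      refine ⟨d ^ n * x * (d ^ n)⁻¹, mul_mem (mul_mem (pow_mem hdN n) hxN)
        (inv_mem (pow_mem hdN n)), ?_⟩
      have h3 := comm_conj' (d ^ n) x t
      rw [pow_dt' T1.dt] at h3
      rw [h3, conj_pow, hn]
  obtain ⟨s, hs, hs1, -⟩ := exists_two hV (1 : G)
  have hpz : ∀ z : ℤ, ∃ n : ℕ, d ^ z = d ^ n := by
    intro z
    have h1 : d ^ z ∈ Submonoid.powers d := by
      have h2 : d ^ z ∈ Subgroup.zpowers d := ⟨z, rfl⟩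
      rwa [← mem_powers_iff_mem_zpowers] at h2
    obtain ⟨n, hn⟩ := h1
    exact ⟨n, hn.symm⟩
  rcases L.applyXB H (Subgroup.zpowers d) ((Subgroup.zpowers_le).2 hdN)
    (by
      rintro _ ⟨m, rfl⟩
      exact (show Commute d t from T1.dt).zpow_left m)
    (by
      intro n hn hnV
      obtain ⟨m, hm⟩ := T1.nrm n hn hnV
      have hnd : ∀ l : ℕ, ∀ v ∈ V, n * d ^ l * n⁻¹ * v * (n * d ^ l * n⁻¹)⁻¹ =
          (d ^ m) ^ l * v * ((d ^ m) ^ l)⁻¹ := by
        intro l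
        induction l with
        | zero => intro v _; simp
        | succ l ih =>
          intro v hv
          have h1 : n * d ^ (l + 1) * n⁻¹ * v * (n * d ^ (l + 1) * n⁻¹)⁻¹ =
              n * d ^ l * n⁻¹ * ((n * d * n⁻¹) * v * (n * d * n⁻¹)⁻¹) *
                (n * d ^ l * n⁻¹)⁻¹ := by
            rw [pow_succ]
            group
          have hv' : d ^ m * v * (d ^ m)⁻¹ ∈ V := by
            rw [← hm v hv]
            have h2 := mem_norm_of_le hnV
            have h3 := mem_norm_of_le T1.dV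
            exact (Subgroup.mem_normalizer_iff.1 (mul_mem (mul_mem h2 h3) (inv_mem h2)) v).1 hv
          rw [h1, hm v hv, ih _ hv', pow_succ]
          group
      rintro _ ⟨z, rfl⟩
      obtain ⟨l, hl⟩ := hpz z
      refine ⟨(d ^ m) ^ l, ?_, ?_⟩
      · rw [← pow_mul]
        exact ⟨_, zpow_natCast d _⟩
      · intro v hv
        show n * d ^ z * n⁻¹ * v * (n * d ^ z * n⁻¹)⁻¹ = _
        rw [hl]
        exact hnd l v hv)
    (by
      rintro _ ⟨a, rfl⟩ _ ⟨b, rfl⟩ v _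
      have h1 : d ^ a * d ^ b = d ^ b * d ^ a := (Commute.refl d).zpow_zpow a b
      show d ^ a * d ^ b * v * (d ^ a * d ^ b)⁻¹ = d ^ b * d ^ a * v * (d ^ b * d ^ a)⁻¹
      rw [h1])
    hs hs1
    (by
      intro v hv hv1
      obtain ⟨n, hn⟩ := T1.reg s hs v hv hs1 hv1
      exact ⟨d ^ n, ⟨n, zpow_natCast d n⟩, hn⟩)
    hV htr with h | ⟨h1, -, -⟩
  · exact h
  · omega

section a

variable [Finite G]

/-- (a) No conjugate of `t` in a 2-group all of whose elements have large centralizers. -/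
theorem noconj_card (H : FTD t V T C₀) (hU : IsPGroup 2 U)
    (h : ∀ u ∈ U, Nat.card T < Nat.card (U ⊓ Subgroup.centralizer ({u} : Set G) : Subgroup G))
    (g : G) : g * t * g⁻¹ ∉ U := by
  intro hu
  have h1 := h _ hu
  set P := U ⊓ Subgroup.centralizer ({g * t * g⁻¹} : Set G) with hP
  have hPp : IsPGroup 2 P := hU.to_le inf_le_left
  have h2 := H.card_le (P := P.map (MulAut.conj g⁻¹).toMonoidHom) (hPp.map _) (by
    rintro _ ⟨x, hx, rfl⟩
    have h3 := Subgroup.mem_centralizer_singleton_iff.1 hx.2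
    show t * (g⁻¹ * x * g⁻¹⁻¹) = g⁻¹ * x * g⁻¹⁻¹ * t
    have h4 : t * (g⁻¹ * x * g⁻¹⁻¹) = g⁻¹ * (g * t * g⁻¹ * x) * g := by group
    have h5 : g⁻¹ * x * g⁻¹⁻¹ * t = g⁻¹ * (x * (g * t * g⁻¹)) * g := by group
    rw [h4, h5, h3])
  have h6 : Nat.card (P.map (MulAut.conj g⁻¹).toMonoidHom) = Nat.card P :=
    Nat.card_congr (P.equivMapOfInjective _ (MulAut.conj g⁻¹).injective).symm.toEquiv
  rw [h6] at h2
  omega

theorem noconj_comm (H : FTD t V T C₀) (hU : IsPGroup 2 U)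
    (hc : ∀ x ∈ U, ∀ y ∈ U, x * y = y * x) (hcard : Nat.card V ^ 2 ≤ Nat.card U)
    (g : G) : g * t * g⁻¹ ∉ U := by
  apply noconj_card H hU
  intro u hu
  have h1 : U ⊓ Subgroup.centralizer ({u} : Set G) = U := by
    apply inf_eq_left.2
    intro x hx
    exact Subgroup.mem_centralizer_singleton_iff.2 (hc x hx u hu)
  rw [h1]
  exact lt_of_lt_of_le H.size hcard

theorem noconj_two (H : FTD t V T C₀) (hU : IsPGroup 2 U)
    (hc : ∀ x ∈ U, ∀ y ∈ U, ⁅x, y⁆ ∈ V) (hcard : Nat.card V ^ 3 ≤ Nat.card U)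
    (g : G) : g * t * g⁻¹ ∉ U := by
  apply noconj_card H hU
  intro u hu
  have h1 := ncard_orbit' U u
  have h2 : ({y | ∃ s ∈ U, s * u * s⁻¹ = y} : Set G).ncard ≤ Nat.card V := by
    have h3 : ({y | ∃ s ∈ U, s * u * s⁻¹ = y} : Set G) ⊆ (fun v => v * u) '' (V : Set G) := by
      rintro _ ⟨s, hs, rfl⟩
      refine ⟨⁅s, u⁆, hc s hs u hu, ?_⟩
      show ⁅s, u⁆ * u = s * u * s⁻¹
      rw [commutatorElement_def]
      group
    calc _ ≤ ((fun v => v * u) '' (V : Set G)).ncard := Set.ncard_le_ncard h3 (Set.toFinite _)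
      _ ≤ (V : Set G).ncard := Set.ncard_image_le (Set.toFinite _)
      _ = Nat.card V := rfl
  rw [h1] at h2
  have h4 := Subgroup.card_mul_index ((Subgroup.centralizer ({u} : Set G)).subgroupOf U)
  have h5 : Nat.card ((Subgroup.centralizer ({u} : Set G)).subgroupOf U) =
      Nat.card (U ⊓ Subgroup.centralizer ({u} : Set G) : Subgroup G) := by
    rw [← Subgroup.inf_subgroupOf_left]
    exact Nat.card_congr (Subgroup.subgroupOfEquivOfLe inf_le_left).toEquiv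
  rw [h5] at h4
  have h6 : ((Subgroup.centralizer ({u} : Set G)).subgroupOf U).index =
      (Subgroup.centralizer ({u} : Set G)).relIndex U := rfl
  rw [h6] at h4
  by_contra hlt
  rw [not_lt] at hlt
  have h7 : Nat.card U ≤ Nat.card T * Nat.card V := by
    rw [← h4]
    exact Nat.mul_le_mul hlt h2
  have h8 : Nat.card V ^ 3 ≤ Nat.card T * Nat.card V := hcard.trans h7
  have h9 : Nat.card V ^ 3 = Nat.card V ^ 2 * Nat.card V := by ring
  rw [h9] at h8
  have h10 := H.size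
  have h11 : 0 < Nat.card V := by have := H.card16; omega
  have h12 : Nat.card V ^ 2 ≤ Nat.card T := Nat.le_of_mul_le_mul_right h8 h11
  omega

end a

section b

/-- changing the inverting involution -/
theorem Lv.chg (L : Lv t d V W k) {x : G} (hx : ∀ w ∈ W, x * w * x⁻¹ = w⁻¹) : Lv x d V W k :=
  ⟨L.comm, hx, L.dW, L.VW, L.om, L.vsq, L.pw, L.root⟩

/-- the smaller levels -/
theorem Lv.omega (L : Lv t d V W k) {j : ℕ} (hj : j ≤ k) :
    ∃ O : Subgroup G, (∀ w, w ∈ O ↔ w ∈ W ∧ w ^ (2 ^ (j + 1)) = 1) ∧ Lv t d V O j := by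
  let O : Subgroup G :=
    { carrier := {w | w ∈ W ∧ w ^ (2 ^ (j + 1)) = 1}
      one_mem' := ⟨one_mem _, one_pow _⟩
      mul_mem' := by
        rintro a b ⟨ha, ha'⟩ ⟨hb, hb'⟩
        exact ⟨mul_mem ha hb, by rw [mul_pow_of_comm (L.comm a ha b hb), ha', hb', one_mul]⟩
      inv_mem' := by
        rintro a ⟨ha, ha'⟩
        exact ⟨inv_mem ha, by rw [inv_pow, ha', inv_one]⟩ }
  have hO : ∀ w, w ∈ O ↔ w ∈ W ∧ w ^ (2 ^ (j + 1)) = 1 := fun w => Iff.rfl
  refine ⟨O, hO, fun x hx y hy => L.comm x hx.1 y hy.1, fun w hw => L.tinv w hw.1,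
    ?_, ?_, fun w hw h => L.om w hw.1 h, L.vsq, ?_, ?_⟩
  · rintro w ⟨hw, hw'⟩
    exact ⟨L.dW w hw, by rw [conj_pow, hw', mul_one, mul_inv_cancel]⟩
  · intro v hv
    refine ⟨L.VW hv, ?_⟩
    rw [pow_succ', pow_mul, pow_two, L.vsq v hv, one_pow]
  · rintro w ⟨hw, hw'⟩
    apply L.om _ (pow_mem hw _)
    rw [← pow_two, ← pow_mul, ← pow_succ]
    exact hw'
  · intro v hv
    obtain ⟨w, hw, hwv⟩ := L.root v hv
    refine ⟨w ^ (2 ^ (k - j)), ⟨pow_mem hw _, ?_⟩, ?_⟩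
    · rw [← pow_mul, ← pow_add]
      have h1 : k - j + (j + 1) = k + 1 := by omega
      rw [h1]
      exact L.pw_succ hw
    · rw [← pow_mul, ← pow_add]
      have h1 : k - j + j = k := by omega
      rw [h1, hwv]

variable [Finite G]

/-- `Ω_{j+2}(W) ⟨t⟩` is a Sylow 2-subgroup of `N(Ω_{j+1}(W)) ∩ C(V)` (relative to `t`). -/
theorem syl_Q (H : TCV t V) {O1 O2 : Subgroup G} {j : ℕ} (L1 : Lv t d V O1 j)
    (L2 : Lv t d V O2 (j + 1)) (h12 : ∀ w ∈ O2, w * w ∈ O1)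
    (h21 : ∀ w ∈ O1, ∃ z ∈ O2, w = z * z) (hle : O1 ≤ O2) :
    FieldStart.IsSyl (towerN t O1 ⊓ Subgroup.centralizer (V : Set G)) (L2.Q H.t2) := by
  have ht2 := H.t2
  have hti : t⁻¹ = t := inv_eq_of_mul_eq_one_right ht2
  have hO2 : O2 ≤ towerN t O1 ⊓ Subgroup.centralizer (V : Set G) := by
    intro w hw
    refine ⟨⟨?_, ?_⟩, ?_⟩
    · rw [Subgroup.mem_normalizer_iff]
      intro y
      constructor
      · intro hy
        rw [L2.comm w hw y (hle hy), mul_inv_cancel_right]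
        exact hy
      · intro hy
        have h1 : y = w⁻¹ * (w * y * w⁻¹) * w := by group
        rw [h1, L2.comm _ (inv_mem hw) _ (hle hy), inv_mul_cancel_right]
        exact hy
    · have h1 : ⁅w, t⁆ = w * (t * w⁻¹ * t⁻¹) := by
        rw [commutatorElement_def]
        group
      rw [h1, L2.tinv _ (inv_mem hw), inv_inv]
      exact h12 w hw
    · refine Subgroup.mem_centralizer_iff.2 ?_
      intro v hv
      exact L2.comm v (L2.VW hv) w hw
  have htM : t ∈ towerN t O1 ⊓ Subgroup.centralizer (V : Set G) := by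
    refine ⟨⟨L1.t_norm ht2, ?_⟩, ?_⟩
    · rw [commutatorElement_self]
      exact one_mem _
    · refine Subgroup.mem_centralizer_iff.2 ?_
      intro v hv
      exact (H.vt v hv).symm
  refine ⟨L2.Q_pgroup ht2, ?_, ?_⟩
  · intro x hx
    rcases hx with hx | hx
    · exact hO2 hx
    · rw [eq_t_mul ht2 x]
      exact mul_mem htM (hO2 hx)
  · intro R hR hQR hRM y hy
    obtain ⟨⟨hy1, hy2⟩, hy3⟩ := hRM hy
    obtain ⟨z, hz, hzy⟩ := h21 _ hy2
    -- `z⁻¹ y` commutes with `t`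
    have hc : t * (z⁻¹ * y) = (z⁻¹ * y) * t := by
      have h4 : y * t = z * z * t * y := by
        rw [← hzy, commutatorElement_def]
        group
      have h6 : t * z⁻¹ = z * t := by
        rw [L2.w_t ht2 hz]
      rw [mul_assoc z⁻¹, h4, ← mul_assoc t, h6]
      group
    have hzR : z ∈ R := hQR (Or.inl hz)
    have h5 := H.syl (R ⊓ Subgroup.centralizer ({t} : Set G)) (hR.to_le inf_le_left)
      (fun z hz => (Subgroup.mem_centralizer_singleton_iff.1 hz.2).symm)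
      (fun x hx v hv => ((Subgroup.mem_centralizer_iff.1 (hRM hx.1).2) v hv).symm)
      (fun v hv => ⟨hQR (Or.inl (L2.VW hv)), Subgroup.mem_centralizer_singleton_iff.2
        (H.vt v hv).symm⟩)
      ⟨hQR (L2.t_mem_Q ht2), Subgroup.mem_centralizer_singleton_iff.2 rfl⟩ (z⁻¹ * y)
      ⟨R.mul_mem (R.inv_mem hzR) hy, Subgroup.mem_centralizer_singleton_iff.2 hc.symm⟩
    have h6 : y = z * (z⁻¹ * y) := by group
    rw [h6]
    refine (L2.Q ht2).mul_mem (Or.inl hz) ?_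
    rcases h5 with h | h
    · exact Or.inl (L2.VW h)
    · exact Or.inr (L2.VW h)

/-- **The climb.** -/
theorem climb (H : TCV t V) (L : Lv t d V W k) {x : G} (hx2 : x * x = 1)
    (hxinv : ∀ w ∈ W, x * w * x⁻¹ = w⁻¹) (h0 : ∃ h : G, h * x * h⁻¹ = t ∧ ∀ v ∈ V, h * v * h⁻¹ ∈ V) :
    ∀ j, j ≤ k → ∃ h : G, h * x * h⁻¹ = t ∧ (∀ v ∈ V, h * v * h⁻¹ ∈ V) ∧
      ∀ w ∈ W, w ^ (2 ^ (j + 1)) = 1 → h * w * h⁻¹ ∈ W := by
  have ht2 := H.t2
  intro j
  induction j with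
  | zero =>
    intro _
    obtain ⟨h, h1, h2⟩ := h0
    refine ⟨h, h1, h2, ?_⟩
    intro w hw hw1
    rw [zero_add, pow_one, pow_two] at hw1
    exact L.VW (h2 w (L.om w hw hw1))
  | succ j ih =>
    intro hj
    obtain ⟨h, h1, h2, h3⟩ := ih (by omega)
    obtain ⟨O1, hO1, L1⟩ := Lv.omega L (j := j) (by omega)
    obtain ⟨O2, hO2, L2⟩ := Lv.omega L (j := j + 1) hj
    have hle : O1 ≤ O2 := by
      intro w hw
      obtain ⟨hw1, hw2⟩ := (hO1 w).1 hw
      rw [hO2]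
      refine ⟨hw1, ?_⟩
      rw [pow_succ, pow_mul, hw2, one_pow]
    have h12 : ∀ w ∈ O2, w * w ∈ O1 := by
      intro w hw
      obtain ⟨hw1, hw2⟩ := (hO2 w).1 hw
      rw [hO1]
      refine ⟨mul_mem hw1 hw1, ?_⟩
      rw [← pow_two, ← pow_mul, ← pow_succ']
      exact hw2
    have h21 : ∀ w ∈ O1, ∃ z ∈ O2, w = z * z := by
      intro w hw
      obtain ⟨hw1, hw2⟩ := (hO1 w).1 hw
      obtain ⟨y, hy, hwy⟩ := L2.root' (j + 1) (by omega) w (hle hw) hw2
      have h4 : j + 1 + 1 - (j + 1) = 1 := by omega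
      rw [h4, pow_one, pow_two] at hwy
      exact ⟨y, hy, hwy⟩
    have hsyl := syl_Q H L1 L2 h12 h21 hle
    -- `h` normalises `O1`
    have hhO1 : ∀ w ∈ O1, h * w * h⁻¹ ∈ O1 := by
      intro w hw
      obtain ⟨hw1, hw2⟩ := (hO1 w).1 hw
      rw [hO1]
      exact ⟨h3 w hw1 hw2, by rw [conj_pow, hw2, mul_one, mul_inv_cancel]⟩
    have hhO1n := mem_norm_of_le hhO1
    have hhVn := mem_norm_of_le h2
    -- the group `h (O2 ⟨x⟩) h⁻¹`
    have Lx : Lv x d V O2 (j + 1) := Lv.chg L2 (fun w hw => hxinv w ((hO2 w).1 hw).1)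
    set B := (Lx.Q hx2).map (MulAut.conj h).toMonoidHom with hB
    have hBp : IsPGroup 2 B := (Lx.Q_pgroup hx2).map _
    have hO2O1 : ∀ z ∈ O2, ∀ w ∈ O1, (h * z * h⁻¹) * w = w * (h * z * h⁻¹) := by
      intro z hz w hw
      have h4 : h⁻¹ * w * h ∈ O1 := by
        have h5 := (Subgroup.mem_normalizer_iff.1 (inv_mem hhO1n) w).1 hw
        rwa [inv_inv] at h5
      have h5 := L2.comm z hz _ (hle h4)
      have h6 : h * z * h⁻¹ * w = h * (z * (h⁻¹ * w * h)) * h⁻¹ := by group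
      have h7 : w * (h * z * h⁻¹) = h * ((h⁻¹ * w * h) * z) * h⁻¹ := by group
      rw [h6, h7, h5]
    have hO2M : ∀ z ∈ O2, h * z * h⁻¹ ∈ towerN t O1 ⊓ Subgroup.centralizer (V : Set G) := by
      intro z hz
      refine ⟨⟨?_, ?_⟩, ?_⟩
      · apply mem_norm_of_le
        intro w hw
        rw [hO2O1 z hz w hw, mul_inv_cancel_right]
        exact hw
      · have h4 := comm_conj' h z x
        rw [h1] at h4
        rw [h4]
        apply hhO1
        have h5 : ⁅z, x⁆ = z * (x * z⁻¹ * x⁻¹) := by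
          rw [commutatorElement_def]
          group
        rw [h5, hxinv _ (inv_mem ((hO2 z).1 hz).1), inv_inv]
        exact h12 z hz
      · refine Subgroup.mem_centralizer_iff.2 ?_
        intro v hv
        exact (hO2O1 z hz v (L1.VW hv)).symm
    have htM : t ∈ towerN t O1 ⊓ Subgroup.centralizer (V : Set G) :=
      hsyl.2.1 (L2.t_mem_Q ht2)
    have hBM : B ≤ towerN t O1 ⊓ Subgroup.centralizer (V : Set G) := by
      rintro _ ⟨y, hy, rfl⟩
      show h * y * h⁻¹ ∈ _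
      rcases hy with hy | hy
      · exact hO2M y hy
      · have h4 : h * y * h⁻¹ = (h * x * h⁻¹) * (h * (x * y) * h⁻¹) := by
          have h5 : h * y * h⁻¹ = h * (x * (x * y)) * h⁻¹ := by rw [← eq_t_mul hx2 y]
          rw [h5]
          group
        rw [h4, h1]
        exact mul_mem htM (hO2M _ hy)
    obtain ⟨c, hc, hcB⟩ := hsyl.conj hBp hBM
    obtain ⟨⟨hc1, hc2⟩, hc3⟩ := hc
    obtain ⟨z, hz, hzc⟩ := h21 _ hc2
    have hcz : (z⁻¹ * c) * t = t * (z⁻¹ * c) := by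
      have h4 : c * t = z * z * t * c := by
        rw [← hzc, commutatorElement_def]
        group
      have h6 : t * z⁻¹ = z * t := by
        rw [L2.w_t ht2 hz]
      rw [mul_assoc z⁻¹, h4, ← mul_assoc t, h6]
      group
    have hzV : ∀ v ∈ V, z⁻¹ * v * z = v := by
      intro v hv
      rw [L2.comm _ (inv_mem hz) v (L2.VW hv), inv_mul_cancel_right]
    have hnV : ∀ v ∈ V, (z⁻¹ * c * h) * v * (z⁻¹ * c * h)⁻¹ ∈ V := by
      intro v hv
      have h4 : (z⁻¹ * c * h) * v * (z⁻¹ * c * h)⁻¹ = z⁻¹ * (c * (h * v * h⁻¹) * c⁻¹) * z := by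
        group
      have h5 : c * (h * v * h⁻¹) * c⁻¹ = h * v * h⁻¹ := by
        rw [← (Subgroup.mem_centralizer_iff.1 hc3 _ (h2 v hv)), mul_inv_cancel_right]
      rw [h4, h5, hzV _ (h2 v hv)]
      exact h2 v hv
    refine ⟨z⁻¹ * c * h, ?_, hnV, ?_⟩
    · have h4 : (z⁻¹ * c * h) * x * (z⁻¹ * c * h)⁻¹ = (z⁻¹ * c) * (h * x * h⁻¹) * (z⁻¹ * c)⁻¹ := by
        group
      rw [h4, h1, hcz, mul_inv_cancel_right]
    · intro w hw hw1
      have hwO : w ∈ O2 := (hO2 w).2 ⟨hw, hw1⟩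
      have h4 : c * (h * w * h⁻¹) * c⁻¹ ∈ L2.Q ht2 := hcB _ ⟨w, Or.inl hwO, rfl⟩
      have h5 : (z⁻¹ * c * h) * w * (z⁻¹ * c * h)⁻¹ ∈ L2.Q ht2 := by
        have h6 : (z⁻¹ * c * h) * w * (z⁻¹ * c * h)⁻¹ =
            z⁻¹ * (c * (h * w * h⁻¹) * c⁻¹) * z⁻¹⁻¹ := by group
        rw [h6]
        exact (L2.Q ht2).mul_mem ((L2.Q ht2).mul_mem ((L2.Q ht2).inv_mem (Or.inl hz)) h4)
          ((L2.Q ht2).inv_mem ((L2.Q ht2).inv_mem (Or.inl hz)))
      rcases h5 with h5 | h5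
      · exact ((hO2 _).1 h5).1
      · exfalso
        have h6 := L2.tw_tw ht2 h5
        rw [← eq_t_mul ht2] at h6
        have h7 : w * w = 1 := by
          have h8 : (z⁻¹ * c * h) * w * (z⁻¹ * c * h)⁻¹ * ((z⁻¹ * c * h) * w * (z⁻¹ * c * h)⁻¹) =
              (z⁻¹ * c * h) * (w * w) * (z⁻¹ * c * h)⁻¹ := by group
          rw [h8] at h6
          exact conj_eq_one_iff.1 h6
        have h8 := hnV w (L.om w hw h7)
        apply H.tV
        apply L2.om t _ ht2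
        have h9 : t = (t * ((z⁻¹ * c * h) * w * (z⁻¹ * c * h)⁻¹)) *
            ((z⁻¹ * c * h) * w * (z⁻¹ * c * h)⁻¹)⁻¹ := by group
        rw [h9]
        exact mul_mem h5 (inv_mem (L2.VW h8))

/-- (b) the conjugates of `t` in `tW` when there are no translations. -/
theorem conj_tW (H : FTD t V T C₀) (L : Lv t d V W k)
    (tr0 : ∀ v ∈ V, ∃ n : G, (∀ w ∈ V, n * w * n⁻¹ ∈ V) ∧ n * t * n⁻¹ = t * v)
    (hnc : ∀ g : G, g * t * g⁻¹ ∉ V) (hNT : ∀ n ∈ towerN t W, ⁅n, t⁆ ^ (2 ^ k) = 1)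
    {g w : G} (hw : w ∈ W) (hg : g * t * g⁻¹ = t * w) :
    ∃ y ∈ W, t * w = y * t * y⁻¹ := by
  classical
  have ht2 := H.t2
  set x := t * w with hxdef
  have hx2 : x * x = 1 := L.tw_tw ht2 hw
  have hxinv : ∀ z ∈ W, x * z * x⁻¹ = z⁻¹ := by
    intro z hz
    have h1 : x * z * x⁻¹ = t * (w * z * w⁻¹) * t⁻¹ := by rw [hxdef]; group
    rw [h1, L.comm w hw z hz, mul_inv_cancel_right, L.tinv z hz]
  have hxV : x ∉ V := by
    intro h
    exact hnc g (hg ▸ h)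
  have hxv : ∀ v ∈ V, x * v = v * x := by
    intro v hv
    have h1 := hxinv v (L.VW hv)
    rw [inv_eq_of_mul_eq_one_right (H.vsq v hv), mul_inv_eq_iff_eq_mul] at h1
    exact h1
  -- the group `⟨x⟩ V`
  let Ex : Subgroup G := (⟨hx2, hxV, H.vsq, hxv⟩ : TB x V).E
  have hTBx : TB x V := ⟨hx2, hxV, H.vsq, hxv⟩
  have hExc : 2 * Nat.card V ≤ Nat.card Ex := by
    have h1 : (V : Set G) ∪ ((fun y => x * y) '' (V : Set G)) ⊆ (Ex : Set G) := by
      rintro y (h | ⟨y, hy, rfl⟩)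
      · exact Or.inl h
      · right
        show x * (x * y) ∈ V
        rw [← mul_assoc, hx2, one_mul]
        exact hy
    have h2 : Disjoint (V : Set G) ((fun y => x * y) '' (V : Set G)) := by
      rw [Set.disjoint_left]
      rintro _ h ⟨y, hy, rfl⟩
      apply hxV
      have h3 : x = (x * y) * y⁻¹ := by group
      rw [h3]
      exact mul_mem h (inv_mem hy)
    have h3 : Nat.card Ex = (Ex : Set G).ncard := rfl
    have h4 : Nat.card V = (V : Set G).ncard := rfl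
    have h5 := Set.ncard_le_ncard h1 (Set.toFinite _)
    rw [Set.ncard_union_eq h2 (Set.toFinite _) (Set.toFinite _),
      Set.ncard_image_of_injective _ (mul_right_injective x)] at h5
    rw [h3, h4]
    omega
  set A := Ex.map (MulAut.conj g⁻¹).toMonoidHom with hA
  have hAc : Nat.card A = Nat.card Ex :=
    Nat.card_congr (Ex.equivMapOfInjective _ (MulAut.conj g⁻¹).injective).symm.toEquiv
  have hgx : g⁻¹ * x * g = t := by
    rw [← hg]
    group
  obtain ⟨c, hct, hcA⟩ := H.elem_conj (A := A)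
    (by
      rintro _ ⟨y, hy, rfl⟩
      show g⁻¹ * y * g⁻¹⁻¹ * (g⁻¹ * y * g⁻¹⁻¹) = 1
      have h1 : g⁻¹ * y * g⁻¹⁻¹ * (g⁻¹ * y * g⁻¹⁻¹) = g⁻¹ * (y * y) * g := by group
      rw [h1, hTBx.E_sq hy]
      group)
    (by
      rintro _ ⟨y, hy, rfl⟩
      show t * (g⁻¹ * y * g⁻¹⁻¹) = g⁻¹ * y * g⁻¹⁻¹ * t
      have h1 := hTBx.E_comm hy
      rw [← hgx]
      have h2 : g⁻¹ * x * g * (g⁻¹ * y * g⁻¹⁻¹) = g⁻¹ * (x * y) * g := by group
      have h3 : g⁻¹ * y * g⁻¹⁻¹ * (g⁻¹ * x * g) = g⁻¹ * (y * x) * g := by group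
      rw [h2, h3, h1])
    (by rw [hAc]; exact hExc)
  -- the first conjugating element
  have h0 : ∃ h : G, h * x * h⁻¹ = t ∧ ∀ v ∈ V, h * v * h⁻¹ ∈ V := by
    refine ⟨c * g⁻¹, ?_, ?_⟩
    · have h1 : c * g⁻¹ * x * (c * g⁻¹)⁻¹ = c * (g⁻¹ * x * g) * c⁻¹ := by group
      rw [h1, hgx, hct, mul_inv_cancel_right]
    · intro v hv
      have h1 : c * g⁻¹ * v * (c * g⁻¹)⁻¹ ∈ H.E := by
        rw [← hcA]
        refine ⟨g⁻¹ * v * g⁻¹⁻¹, ⟨v, Or.inl hv, rfl⟩, ?_⟩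
        show c * (g⁻¹ * v * g⁻¹⁻¹) * c⁻¹ = _
        group
      rcases h1 with h1 | h1
      · exact h1
      · exfalso
        obtain ⟨n, -, hn⟩ := tr0 _ h1
        rw [← eq_t_mul ht2] at hn
        apply hnc ((c * g⁻¹)⁻¹ * n)
        have h2 : (c * g⁻¹)⁻¹ * n * t * ((c * g⁻¹)⁻¹ * n)⁻¹ =
            (c * g⁻¹)⁻¹ * (n * t * n⁻¹) * (c * g⁻¹) := by group
        rw [h2, hn]
        have h3 : (c * g⁻¹)⁻¹ * (c * g⁻¹ * v * (c * g⁻¹)⁻¹) * (c * g⁻¹) = v := by group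
        rw [h3]
        exact hv
  obtain ⟨h, h1, -, h3⟩ := climb H.tcv L hx2 hxinv h0 k le_rfl
  have hhW : ∀ z ∈ W, h * z * h⁻¹ ∈ W := fun z hz => h3 z hz (L.pw_succ hz)
  have hhn := inv_mem (mem_norm_of_le hhW)
  have hht : h⁻¹ * t * h = t * w := by
    rw [← hxdef, ← h1]
    group
  have hcomm : ⁅h⁻¹, t⁆ = w⁻¹ := by
    rw [commutatorElement_def, inv_inv, hht, L.tinv w hw]
  have h4 := hNT h⁻¹ ⟨hhn, by rw [hcomm]; exact inv_mem hw⟩
  rw [hcomm, inv_pow, inv_eq_one] at h4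
  obtain ⟨y, hy, hwy⟩ := L.root' k (by omega) w hw h4
  have h5 : k + 1 - k = 1 := by omega
  rw [h5, pow_one, pow_two] at hwy
  refine ⟨y⁻¹, inv_mem hy, ?_⟩
  rw [hxdef, L.t_conj_W ht2 (inv_mem hy), inv_inv, ← hwy]

end b

section c

variable [Finite G]

/-- (c) a conjugate of `t` does not act as a field automorphism on a group with square roots. -/
theorem no_field (H : FTD t V T C₀) {A : Subgroup G} (hA : ∀ x ∈ A, ∀ y ∈ A, x * y = y * x)
    (VA : V ≤ A) (om : ∀ a ∈ A, a * a = 1 → a ∈ V) (root : ∀ v ∈ V, ∃ a ∈ A, a * a = v)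
    {x s : G} (hs : s ∈ T) (hs1 : s ∉ V) (hs2 : t * s ∉ V)
    (hxV : ∀ v ∈ V, x * v * x⁻¹ = s * v * s⁻¹) (hxA : ∀ a ∈ A, x * a * x⁻¹ ∈ A)
    (hx2 : x * x = 1) (g : G) : g * t * g⁻¹ ≠ x := by
  classical
  intro hg
  have hxVV : ∀ v ∈ V, x * v * x⁻¹ ∈ V := by
    intro v hv
    rw [hxV v hv]
    exact H.TV s hs v hv
  have hxx : ∀ y : G, x * (x * y * x⁻¹) * x⁻¹ = y := by
    intro y
    have h1 : x * (x * y * x⁻¹) * x⁻¹ = (x * x) * y * (x * x)⁻¹ := by group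
    rw [h1, hx2, one_mul, inv_one, mul_one]
  have hss : s * s ∈ V ∨ t * (s * s) ∈ V := by
    apply H.cV _ (mul_mem hs hs)
    intro v hv
    have h1 : s * s * v * (s * s)⁻¹ = v := by
      have h2 : s * s * v * (s * s)⁻¹ = s * (s * v * s⁻¹) * s⁻¹ := by group
      rw [h2, ← hxV v hv, ← hxV _ (hxVV v hv), hxx]
    rw [mul_inv_eq_iff_eq_mul] at h1
    exact h1
  have hfix := H.card_fix hs hs1 hs2 hss
  set C := V ⊓ Subgroup.centralizer ({s} : Set G) with hC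
  have h4 : 4 ≤ Nat.card C := by
    have h3 := H.card16
    by_contra h5
    have h6 : Nat.card C ≤ 3 := by omega
    have h7 : Nat.card C ^ 2 ≤ 9 := by nlinarith
    omega
  have key : ∀ v ∈ C, ∃ a ∈ A, x * a = a * x ∧ a * a = v := by
    rintro v ⟨hv, hv'⟩
    have hsv : s * v * s⁻¹ = v := by
      rw [mul_inv_eq_iff_eq_mul]
      exact (Subgroup.mem_centralizer_singleton_iff.1 hv').symm
    have hxv : x * v * x⁻¹ = v := by rw [hxV v hv, hsv]
    obtain ⟨a, ha, hav⟩ := root v hv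
    set z := x * a * x⁻¹ * a⁻¹ with hz
    have hzA : z ∈ A := mul_mem (hxA a ha) (inv_mem ha)
    have hxa : x * a * x⁻¹ = z * a := by rw [hz]; group
    have hz2 : z * z = 1 := by
      have h5 : z * z = (x * (a * a) * x⁻¹) * (a * a)⁻¹ := by
        have h6 : z * z = (x * a * x⁻¹) * (a⁻¹ * (x * a * x⁻¹)) * a⁻¹ := by rw [hz]; group
        rw [h6, hA _ (inv_mem ha) _ (hxA a ha)]
        group
      rw [h5, hav, hxv, mul_inv_cancel]
    have hzV : z ∈ V := om z hzA hz2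
    have hxz : x * z * x⁻¹ = z := by
      have h5 := hxx a
      rw [hxa] at h5
      have h6 : x * (z * a) * x⁻¹ = (x * z * x⁻¹) * (x * a * x⁻¹) := by group
      rw [h6, hxa] at h5
      have h7 : x * z * x⁻¹ * z = 1 := by
        have h8 : x * z * x⁻¹ * z = (x * z * x⁻¹ * (z * a)) * a⁻¹ := by group
        rw [h8, h5, mul_inv_cancel]
      have h8 : x * z * x⁻¹ * z = z * z := h7.trans hz2.symm
      exact mul_right_cancel h8
    obtain ⟨y, hy, hyz⟩ := H.fr s hs hs1 hs2 hss z hzV (by rw [← hxV z hzV, hxz])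
    rw [← hxV y hy] at hyz
    have hya : y * a = a * y := hA y (VA hy) a ha
    refine ⟨a * y, mul_mem ha (VA hy), ?_, ?_⟩
    · have h5 : x * (a * y) * x⁻¹ = a * y := by
        have h6 : x * (a * y) * x⁻¹ = (x * a * x⁻¹) * (x * y * x⁻¹) := by group
        rw [h6, hxa, hyz]
        have h7 : y * (x * y * x⁻¹) * a = a * (y * (x * y * x⁻¹)) :=
          hA _ (mul_mem (VA hy) (VA (hxVV y hy))) a ha
        rw [h7]
        have h8 : a * (y * (x * y * x⁻¹)) * (x * y * x⁻¹) =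
            a * y * ((x * y * x⁻¹) * (x * y * x⁻¹)) := by group
        rw [h8, H.vsq _ (hxVV y hy), mul_one]
      rw [mul_inv_eq_iff_eq_mul] at h5
      exact h5
    · have h5 : a * y * (a * y) = a * (y * a) * y := by group
      have h6 : a * (a * y) * y = (a * a) * (y * y) := by group
      rw [h5, hya, h6, H.vsq y hy, mul_one, hav]
  obtain ⟨v1, hv1, hv11, -⟩ := exists_two h4 (1 : G)
  obtain ⟨v2, hv2, hv21, hv22⟩ := exists_two h4 v1
  obtain ⟨a, ha, hxa, hav⟩ := key v1 hv1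
  obtain ⟨b, hb, hxb, hbv⟩ := key v2 hv2
  have hconj : ∀ y z : G, g⁻¹ * y * g * (g⁻¹ * z * g) = g⁻¹ * (y * z) * g := by
    intro y z
    group
  have hcg : ∀ y : G, x * y = y * x → t * (g⁻¹ * y * g) = g⁻¹ * y * g * t := by
    intro y hy
    have h5 : t = g⁻¹ * x * g := by rw [← hg]; group
    rw [h5, hconj, hconj, hy]
  have hinj : ∀ y z : G, g⁻¹ * y * g = g⁻¹ * z * g → y = z := by
    intro y z h
    exact mul_left_cancel (mul_right_cancel h)
  have hone : g⁻¹ * 1 * g = 1 := by group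
  apply H.no_pair (a := g⁻¹ * a * g) (b := g⁻¹ * b * g)
  · rw [hconj, hconj, hA a ha b hb]
  · exact hcg a hxa
  · exact hcg b hxb
  · rw [hconj, hconj, hav, H.vsq v1 hv1.1, hone]
  · rw [hconj, hconj, hbv, H.vsq v2 hv2.1, hone]
  · rw [hconj, hav]
    intro h
    apply hv11
    apply hinj
    rw [h, hone]
  · rw [hconj, hbv]
    intro h
    apply hv21
    apply hinj
    rw [h, hone]
  · rw [hconj, hconj, hav, hbv]
    intro h
    exact hv22 (hinj _ _ h).symm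

end c

end Cfsg.Agent.StdL2.FT
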