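import Cfsg.Agent.StdL2.TowerX

/-!
# Lemma X at one level of the tower, without the Sylow hypothesis

Same as `TowerX` (helper634) for the weaker structure `TB`.
-/

set_option autoImplicit false
set_option linter.style.haveILetI false
set_option Elab.async false

namespace Cfsg.Agent.StdL2

open scoped commutatorElement

open Cfsg.Agent.Lib.GoldschmidtFusion (exists_conj_le_in lt_inf_normalizer)

variable {G : Type*} [Group G]

/-- `⟨t⟩ × V` is elementary abelian. -/
structure TB (t : G) (V : Subgroup G) : Prop where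
  t2 : t * t = 1
  tV : t ∉ V
  vsq : ∀ v ∈ V, v * v = 1
  vt : ∀ v ∈ V, t * v = v * t

namespace TB

variable {t : G} {V : Subgroup G}

theorem comm_of_tx (H : TB t V) {x : G} (hx : t * x ∈ V) : t * x = x * t := by
  have h5 := H.vt _ hx
  calc t * x = (t * x * t) * t := by rw [mul_assoc _ t t, H.t2, mul_one]
    _ = (t * (t * x)) * t := by rw [h5]
    _ = x * t := by rw [← mul_assoc t t, H.t2, one_mul]

/-- The subgroup `⟨t⟩ × V`. -/
def E (H : TB t V) : Subgroup G where
  carrier := {x | x ∈ V ∨ t * x ∈ V}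
  one_mem' := Or.inl (one_mem _)
  mul_mem' := by
    intro a b ha hb
    rcases ha with ha | ha <;> rcases hb with hb | hb
    · exact Or.inl (mul_mem ha hb)
    · right
      have h1 : t * (a * b) = a * (t * b) := by
        rw [← mul_assoc, H.vt a ha, mul_assoc]
      rw [h1]
      exact mul_mem ha hb
    · right
      rw [← mul_assoc]
      exact mul_mem ha hb
    · left
      have h1 : a * b = (t * a) * (t * b) := by
        rw [H.comm_of_tx ha, mul_assoc a t, ← mul_assoc t t, H.t2, one_mul]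
      rw [h1]
      exact mul_mem ha hb
  inv_mem' := by
    intro a ha
    rcases ha with ha | ha
    · exact Or.inl (inv_mem ha)
    · right
      have h1 : t * a⁻¹ = (t * a)⁻¹ := by
        have h3 : a * t = t * a := (H.comm_of_tx ha).symm
        rw [← h3, mul_inv_rev, inv_eq_of_mul_eq_one_right H.t2]
      rw [h1]
      exact inv_mem ha

theorem V_le_E (H : TB t V) : V ≤ H.E := fun _ h => Or.inl h

theorem t_mem_E (H : TB t V) : t ∈ H.E := by
  right
  rw [H.t2]
  exact one_mem _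

theorem E_comm (H : TB t V) {x : G} (hx : x ∈ H.E) : t * x = x * t := by
  rcases hx with hx | hx
  · exact H.vt x hx
  · exact H.comm_of_tx hx

theorem E_sq (H : TB t V) {x : G} (hx : x ∈ H.E) : x * x = 1 := by
  rcases hx with hx | hx
  · exact H.vsq x hx
  · have h1 : (t * x) * (t * x) = x * x := by
      have h2 : t * x * (t * x) = t * (x * t) * x := by group
      rw [h2, ← H.E_comm (Or.inr hx), ← mul_assoc, H.t2, one_mul]
    rw [← h1]
    exact H.vsq _ hx

end TB

namespace Lv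

variable {t d : G} {V W : Subgroup G} {k : ℕ}

section rho

theorem t_notMemB (L : Lv t d V W k) (H : TB t V) : t ∉ W := fun h => H.tV (L.om t h H.t2)

theorem tw_notMemB (L : Lv t d V W k) (H : TB t V) {w : G} (hw : w ∈ W) : t * w ∉ W := by
  intro h
  apply L.t_notMemB H
  have h1 : t = (t * w) * w⁻¹ := by group
  rw [h1]
  exact mul_mem h (inv_mem hw)

theorem rfun_tWB (L : Lv t d V W k) (H : TB t V) {w : G} (hw : w ∈ W) :
    rfun t W k (t * w) = t * w ^ (2 ^ k) := by
  unfold rfun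
  rw [if_neg (L.tw_notMemB H hw), ← eq_t_mul H.t2]

theorem mem_Q_casesB (L : Lv t d V W k) (H : TB t V) {x : G} (hx : x ∈ L.Q H.t2) :
    x ∈ W ∨ ∃ w ∈ W, x = t * w := by
  rcases hx with h | h
  · exact Or.inl h
  · exact Or.inr ⟨t * x, h, eq_t_mul H.t2 x⟩

theorem rfun_memB (L : Lv t d V W k) (H : TB t V) {x : G} (hx : x ∈ L.Q H.t2) :
    rfun t W k x ∈ H.E := by
  rcases L.mem_Q_casesB H hx with h | ⟨w, hw, rfl⟩
  · rw [rfun_W h]
    exact Or.inl (L.pw x h)
  · rw [L.rfun_tWB H hw]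
    right
    rw [← eq_t_mul H.t2]
    exact L.pw w hw

theorem rfun_mulB (L : Lv t d V W k) (H : TB t V) {x y : G} (hx : x ∈ L.Q H.t2)
    (hy : y ∈ L.Q H.t2) : rfun t W k (x * y) = rfun t W k x * rfun t W k y := by
  have ht2 := H.t2
  have hinv : ∀ w ∈ W, (w⁻¹) ^ (2 ^ k) = w ^ (2 ^ k) := by
    intro w hw
    rw [inv_pow]
    exact inv_eq_of_mul_eq_one_right (L.vsq _ (L.pw w hw))
  rcases L.mem_Q_casesB H hx with hx | ⟨w, hw, rfl⟩ <;>
    rcases L.mem_Q_casesB H hy with hy | ⟨z, hz, rfl⟩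
  · rw [rfun_W hx, rfun_W hy, rfun_W (mul_mem hx hy), mul_pow_of_comm (L.comm x hx y hy)]
  · have h1 : x * (t * z) = t * (x⁻¹ * z) := by
      rw [← mul_assoc, L.w_t ht2 hx, mul_assoc]
    rw [h1, L.rfun_tWB H (mul_mem (inv_mem hx) hz), rfun_W hx, L.rfun_tWB H hz,
      mul_pow_of_comm (L.comm _ (inv_mem hx) z hz), hinv x hx, ← mul_assoc, ← mul_assoc,
      H.vt _ (L.pw x hx)]
  · rw [mul_assoc, L.rfun_tWB H (mul_mem hw hy), L.rfun_tWB H hw, rfun_W hy,
      mul_pow_of_comm (L.comm w hw y hy), mul_assoc]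
  · have h1 : t * w * (t * z) = w⁻¹ * z := by
      rw [← mul_assoc, L.t_w_t ht2 hw]
    rw [h1, rfun_W (mul_mem (inv_mem hw) hz), L.rfun_tWB H hw, L.rfun_tWB H hz,
      mul_pow_of_comm (L.comm _ (inv_mem hw) z hz), hinv w hw, H.vt _ (L.pw w hw)]
    have h2 : w ^ 2 ^ k * t * (t * z ^ 2 ^ k) = w ^ 2 ^ k * (t * t) * z ^ 2 ^ k := by group
    rw [h2, ht2, mul_one]

/-- The map `W ∪ t W → ⟨t⟩ × V`. -/
noncomputable def rhoB (L : Lv t d V W k) (H : TB t V) : L.Q H.t2 →* H.E where
  toFun x := ⟨rfun t W k x, L.rfun_memB H x.2⟩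
  map_one' := by
    apply Subtype.ext
    show rfun t W k (1 : G) = 1
    rw [rfun_W (one_mem _), one_pow]
  map_mul' := by
    intro x y
    apply Subtype.ext
    exact L.rfun_mulB H x.2 y.2

theorem rho_coeB (L : Lv t d V W k) (H : TB t V) (x : L.Q H.t2) :
    ((L.rhoB H x : H.E) : G) = rfun t W k x := rfl

theorem rho_surjB (L : Lv t d V W k) (H : TB t V) : Function.Surjective (L.rhoB H) := by
  rintro ⟨e, he⟩
  rcases he with h | h
  · obtain ⟨w, hw, hwe⟩ := L.root e h
    refine ⟨⟨w, Or.inl hw⟩, Subtype.ext ?_⟩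
    rw [rho_coeB, rfun_W hw, hwe]
  · obtain ⟨w, hw, hwe⟩ := L.root _ h
    refine ⟨⟨t * w, Or.inr (by rw [← eq_t_mul H.t2]; exact hw)⟩, Subtype.ext ?_⟩
    rw [rho_coeB]
    show rfun t W k (t * w) = e
    rw [L.rfun_tWB H hw, hwe, ← eq_t_mul H.t2]

/-- elements of `towerN` act on `W ∪ t W`. -/
theorem conj_mem_QB (L : Lv t d V W k) (H : TB t V) {n x : G} (hn : n ∈ towerN t W)
    (hx : x ∈ L.Q H.t2) : n * x * n⁻¹ ∈ L.Q H.t2 := by
  have hW : ∀ w ∈ W, n * w * n⁻¹ ∈ W := fun w hw => (Subgroup.mem_normalizer_iff.1 hn.1 w).1 hw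
  rcases L.mem_Q_casesB H hx with h | ⟨w, hw, rfl⟩
  · exact Or.inl (hW x h)
  · right
    have h1 : t * (n * (t * w) * n⁻¹) = t * ⁅n, t⁆ * t * (n * w * n⁻¹) := by
      rw [commutatorElement_def]
      have h2 : t * (n * t * n⁻¹ * t⁻¹) * t * (n * w * n⁻¹) = t * (n * (t * w) * n⁻¹) := by
        group
      exact h2.symm
    rw [h1, L.t_w_t H.t2 hn.2]
    exact mul_mem (inv_mem hn.2) (hW w hw)

/-- The image of `t` under `n ∈ towerN`. -/
theorem conj_tB (L : Lv t d V W k) (H : TB t V) {n : G} (hn : n ∈ towerN t W) :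
    n * t * n⁻¹ = t * ⁅n, t⁆⁻¹ := by
  rw [← L.w_t H.t2 hn.2, commutatorElement_def]
  group

end rho

/-- **Lemma X** at one level. -/
theorem applyXB [Finite G] (L : Lv t d V W k) (H : TB t V) (D : Subgroup G)
    (hDN : D ≤ towerN t W) (hDt : ∀ d ∈ D, d * t = t * d)
    (hDn : ∀ n, n * t = t * n → (∀ v ∈ V, n * v * n⁻¹ ∈ V) → ∀ d ∈ D, ∃ d' ∈ D, ∀ v ∈ V,
      (n * d * n⁻¹) * v * (n * d * n⁻¹)⁻¹ = d' * v * d'⁻¹)
    (hDc : ∀ d ∈ D, ∀ e ∈ D, ∀ v ∈ V, d * e * v * (d * e)⁻¹ = e * d * v * (e * d)⁻¹)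
    {v0 : G} (hv0 : v0 ∈ V) (hv01 : v0 ≠ 1)
    (hDtr : ∀ v ∈ V, v ≠ 1 → ∃ d ∈ D, d * v0 * d⁻¹ = v)
    (hV4 : 4 ≤ Nat.card V)
    (htr : ∀ v ∈ V, ∃ n ∈ towerN t W, ⁅n, t⁆ ^ (2 ^ k) = v) :
    (∀ w ∈ W, ∃ n ∈ towerM t W k L.comm, ∃ x ∈ W, x ^ (2 ^ k) = 1 ∧ n * t * n⁻¹ = t * w * x) ∨
      (Nat.card V = 8 ∧
        (∀ n ∈ towerN t W, (∀ v ∈ V, n * v * n⁻¹ = v) → ⁅n, t⁆ ^ (2 ^ k) = 1) ∧
        (Subgroup.centralizer (V : Set G)).relIndex (towerN t W) = 168) := by
  classical
  have ht2 := H.t2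
  have hVinv : ∀ v ∈ V, v⁻¹ = v := fun v hv => inv_eq_of_mul_eq_one_right (H.vsq v hv)
  have hnV : ∀ n ∈ towerN t W, ∀ v ∈ V, n * v * n⁻¹ ∈ V := by
    intro n hn v hv
    apply L.om _ ((Subgroup.mem_normalizer_iff.1 hn.1 v).1 (L.VW hv))
    have h1 : n * v * n⁻¹ * (n * v * n⁻¹) = n * (v * v) * n⁻¹ := by group
    rw [h1, H.vsq v hv, mul_one, mul_inv_cancel]
  -- from an element centralising `V` to `towerM`
  have hM : ∀ n ∈ towerN t W, (∀ v ∈ V, n * v * n⁻¹ = v) → n ∈ towerM t W k L.comm := by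
    intro n hn hv
    refine ⟨hn.1, hn.2, ?_⟩
    intro x hx
    have h1 : n * x * n⁻¹ ∈ W := (Subgroup.mem_normalizer_iff.1 hn.1 x).1 hx
    rw [commutatorElement_def, mul_pow_of_comm (L.comm _ h1 _ (inv_mem hx)), conj_pow,
      hv _ (L.pw x hx), inv_pow, mul_inv_cancel]
  -- translations suffice
  have hgoal : (∀ v ∈ V, ∃ n ∈ towerN t W, (∀ u ∈ V, n * u * n⁻¹ = u) ∧ ⁅n, t⁆ ^ (2 ^ k) = v) →
      (∀ w ∈ W, ∃ n ∈ towerM t W k L.comm, ∃ x ∈ W, x ^ (2 ^ k) = 1 ∧
        n * t * n⁻¹ = t * w * x) := by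
    intro h w hw
    obtain ⟨n, hn, h1, h2⟩ := h _ (L.pw w hw)
    refine ⟨n, hM n hn h1, w⁻¹ * ⁅n, t⁆⁻¹, mul_mem (inv_mem hw) (inv_mem hn.2), ?_, ?_⟩
    · rw [mul_pow_of_comm (L.comm _ (inv_mem hw) _ (inv_mem hn.2)), inv_pow, inv_pow, h2,
        ← mul_inv_rev, L.vsq _ (L.pw w hw), inv_one]
    · rw [L.conj_tB H hn]
      group
  by_cases hex : ∃ n ∈ towerN t W, (∀ v ∈ V, n * v * n⁻¹ = v) ∧ ⁅n, t⁆ ^ (2 ^ k) ≠ 1
  · left
    apply hgoal
    obtain ⟨n, hn, h1, h2⟩ := hex
    intro v hv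
    by_cases hv1 : v = 1
    · exact ⟨1, one_mem _, fun u _ => by group, by rw [commutatorElement_one_left, one_pow, hv1]⟩
    · obtain ⟨a, ha, ha1⟩ := hDtr _ (L.pw _ hn.2) h2
      obtain ⟨b, hb, hb1⟩ := hDtr v hv hv1
      set e := b * a⁻¹ with he
      have heD : e ∈ D := mul_mem hb (inv_mem ha)
      have heN := hDN heD
      have het : e * t * e⁻¹ = t := by rw [hDt e heD, mul_inv_cancel_right]
      refine ⟨e * n * e⁻¹, mul_mem (mul_mem heN hn) (inv_mem heN), ?_, ?_⟩
      · intro u hu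
        have h3 : e⁻¹ * u * e ∈ V := by
          have := hnV _ (inv_mem heN) u hu
          rwa [inv_inv] at this
        have h4 : e * n * e⁻¹ * u * (e * n * e⁻¹)⁻¹ = e * (n * (e⁻¹ * u * e) * n⁻¹) * e⁻¹ := by
          group
        rw [h4, h1 _ h3]
        group
      · have h3 := comm_conj' e n t
        rw [het] at h3
        rw [h3, conj_pow, ← ha1, ← hb1, he]
        group
  · -- the action on `⟨t⟩ × V`
    push Not at hex
    letI cg : CommGroup H.E := { (inferInstance : Group H.E) with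
      mul_comm := fun a b => by
        apply Subtype.ext
        exact vcomm_of_vsq (V := H.E) (fun x hx => H.E_sq hx) a.2 b.2 }
    letI act1 : MulDistribMulAction (towerN t W) (L.Q ht2) :=
      { smul := fun n x => ⟨(n : G) * x * (n : G)⁻¹, L.conj_mem_QB H n.2 x.2⟩
        one_smul := fun x => Subtype.ext (by
          change (1 : G) * x * (1 : G)⁻¹ = x
          simp)
        mul_smul := fun a b x => Subtype.ext (by
          change ((a : G) * b) * x * ((a : G) * b)⁻¹ = a * (b * x * (b : G)⁻¹) * (a : G)⁻¹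
          group)
        smul_mul := fun a x y => Subtype.ext (by
          change (a : G) * (x * y) * (a : G)⁻¹ = (a * x * (a : G)⁻¹) * (a * y * (a : G)⁻¹)
          group)
        smul_one := fun a => Subtype.ext (by
          change (a : G) * (1 : G) * (a : G)⁻¹ = 1
          simp) }
    have hs1 : ∀ (n : towerN t W) (x : L.Q ht2), ((n • x : L.Q ht2) : G) =
        (n : G) * x * (n : G)⁻¹ := fun n x => rfl
    have hk1 : ∀ (n : towerN t W) (x : L.Q ht2), L.rhoB H x = 1 → L.rhoB H (n • x) = 1 := by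
      intro n x hx
      apply Subtype.ext
      have hx' : rfun t W k (x : G) = 1 := congrArg (fun z : H.E => (z : G)) hx
      show rfun t W k ((n : G) * x * (n : G)⁻¹) = 1
      rcases L.mem_Q_casesB H x.2 with h | ⟨w, hw, hxw⟩
      · rw [rfun_W h] at hx'
        rw [rfun_W ((Subgroup.mem_normalizer_iff.1 n.2.1 _).1 h), conj_pow, hx', mul_one,
          mul_inv_cancel]
      · exfalso
        rw [hxw, L.rfun_tWB H hw] at hx'
        apply H.tV
        have h1 : t = (w ^ (2 ^ k))⁻¹ := eq_inv_of_mul_eq_one_left hx'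
        rw [h1]
        exact inv_mem (L.pw w hw)
    letI act2 : MulDistribMulAction (towerN t W) H.E := descend (L.rhoB H) (L.rho_surjB H) hk1
    have hs2 : ∀ (n : towerN t W) (x : L.Q ht2), n • (L.rhoB H x) = L.rhoB H (n • x) :=
      fun n x => descend_smul (L.rhoB H) (L.rho_surjB H) hk1 n x
    -- the action on `V`
    have hsV : ∀ (n : towerN t W) (v : H.E), (v : G) ∈ V →
        ((n • v : H.E) : G) = (n : G) * v * (n : G)⁻¹ := by
      intro n v hv
      obtain ⟨w, hw, hwv⟩ := L.root _ hv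
      have h1 : v = L.rhoB H ⟨w, Or.inl hw⟩ := by
        apply Subtype.ext
        rw [rho_coeB, rfun_W hw, hwv]
      rw [h1, hs2, rho_coeB, rho_coeB, hs1]
      show rfun t W k ((n : G) * w * (n : G)⁻¹) = (n : G) * rfun t W k w * (n : G)⁻¹
      rw [rfun_W hw, rfun_W ((Subgroup.mem_normalizer_iff.1 n.2.1 _).1 hw), conj_pow]
    -- the action on `t`
    have hst : ∀ n : towerN t W, ((n • (⟨t, H.t_mem_E⟩ : H.E) : H.E) : G) =
        t * ⁅(n : G), t⁆ ^ (2 ^ k) := by
      intro n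
      have h1 : (⟨t, H.t_mem_E⟩ : H.E) = L.rhoB H ⟨t, L.t_mem_Q ht2⟩ := by
        apply Subtype.ext
        rw [rho_coeB]
        have h2 := L.rfun_tWB H (one_mem W)
        rw [mul_one, one_pow, mul_one] at h2
        exact h2.symm
      rw [h1, hs2, rho_coeB, hs1]
      show rfun t W k ((n : G) * t * (n : G)⁻¹) = _
      rw [L.conj_tB H n.2, L.rfun_tWB H (inv_mem n.2.2), inv_pow, hVinv _ (L.pw _ n.2.2)]
    have key := LemmaXMain.act (X := towerN t W) (E := H.E) (V.subgroupOf H.E)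
      ⟨t, H.t_mem_E⟩ ⟨v0, H.V_le_E hv0⟩ (D.subgroupOf (towerN t W))
      (fun e => Subtype.ext (H.E_sq e.2)) (fun h => H.tV (Subgroup.mem_subgroupOf.1 h))
      (fun e he => Subgroup.mem_subgroupOf.2 (by
        rcases e.2 with h | h
        · exact absurd (Subgroup.mem_subgroupOf.2 h) he
        · exact h))
      (fun n v hv => Subgroup.mem_subgroupOf.2 (by
        rw [hsV n v (Subgroup.mem_subgroupOf.1 hv)]
        exact hnV n n.2 v (Subgroup.mem_subgroupOf.1 hv)))
      (fun e he => by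
        have he' : t * (e : G) ∈ V := by
          rcases e.2 with h | h
          · exact absurd (Subgroup.mem_subgroupOf.2 h) he
          · exact h
        obtain ⟨n, hn, h1⟩ := htr _ he'
        refine ⟨⟨n, hn⟩, Subtype.ext ?_⟩
        rw [hst]
        show t * ⁅n, t⁆ ^ (2 ^ k) = e
        rw [h1, ← eq_t_mul ht2])
      (fun d hd => Subtype.ext (by
        rw [hst]
        have h1 := hDt _ (Subgroup.mem_subgroupOf.1 hd)
        rw [commutatorElement_eq_one_iff_mul_comm.2 h1, one_pow, mul_one]))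
      (fun n hn d hd => by
        -- modify `n` by an element of `W`
        have h1 : ⁅(n : G), t⁆ ^ (2 ^ k) = 1 := by
          have h2 := congrArg (fun z : H.E => (z : G)) hn
          have h3 : t * ⁅(n : G), t⁆ ^ (2 ^ k) = t := by
            rw [← hst]
            exact h2
          exact mul_eq_left.mp h3
        obtain ⟨y, hy, hy1⟩ := L.root' k (by omega) _ n.2.2 h1
        have h3 : k + 1 - k = 1 := by omega
        rw [h3, pow_one, pow_two] at hy1
        have hc : (y⁻¹ * n) * t = t * (y⁻¹ * n) := by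
          have h4 : (n : G) * t = y * y * t * n := by
            rw [← hy1, commutatorElement_def]
            group
          have h6 : t * y⁻¹ = y * t := by
            rw [L.w_t ht2 hy]
          rw [mul_assoc, h4, ← mul_assoc t, h6]
          group
        have hyN : y⁻¹ * (n : G) ∈ towerN t W := by
          refine mul_mem ⟨inv_mem (Subgroup.le_normalizer hy), ?_⟩ n.2
          have h4 : ⁅y⁻¹, t⁆ = y⁻¹ * (t * y * t⁻¹) := by
            rw [commutatorElement_def]
            group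
          rw [h4, L.tinv y hy]
          exact mul_mem (inv_mem hy) (inv_mem hy)
        have hyv : ∀ v ∈ V, y * v * y⁻¹ = v := by
          intro v hv
          rw [L.comm y hy v (L.VW hv), mul_inv_cancel_right]
        have hyv' : ∀ v ∈ V, y⁻¹ * v * y = v := by
          intro v hv
          rw [L.comm _ (inv_mem hy) v (L.VW hv), inv_mul_cancel_right]
        obtain ⟨d', hd', h5⟩ := hDn (y⁻¹ * n) hc (hnV _ hyN) d (Subgroup.mem_subgroupOf.1 hd)
        refine ⟨⟨d', hDN hd'⟩, Subgroup.mem_subgroupOf.2 hd', ?_⟩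
        intro v hv
        have hv' := Subgroup.mem_subgroupOf.1 hv
        apply Subtype.ext
        rw [hsV _ v hv', hsV _ v hv']
        show ((n : G) * d * (n : G)⁻¹) * v * ((n : G) * d * (n : G)⁻¹)⁻¹ = d' * v * d'⁻¹
        rw [← h5 v hv']
        have h7 : (n : G) * d * (n : G)⁻¹ * v * ((n : G) * d * (n : G)⁻¹)⁻¹ ∈ V :=
          hnV _ (mul_mem (mul_mem n.2 d.2) (inv_mem n.2)) v hv'
        have h8 : y⁻¹ * ↑n * ↑d * (y⁻¹ * ↑n)⁻¹ * ↑v * (y⁻¹ * ↑n * ↑d * (y⁻¹ * ↑n)⁻¹)⁻¹ =
            y⁻¹ * ((n : G) * d * (n : G)⁻¹ * (y * v * y⁻¹) * ((n : G) * d * (n : G)⁻¹)⁻¹) * y := by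
          group
        rw [h8, hyv v hv', hyv' _ h7])
      (fun d hd e he v hv => by
        have hv' := Subgroup.mem_subgroupOf.1 hv
        have h1 := hDc _ (Subgroup.mem_subgroupOf.1 hd) _ (Subgroup.mem_subgroupOf.1 he) v hv'
        rw [← mul_smul, ← mul_smul]
        apply Subtype.ext
        rw [hsV _ v hv', hsV _ v hv']
        exact h1)
      (Subgroup.mem_subgroupOf.2 hv0) (fun h => hv01 (congrArg (fun z : H.E => (z : G)) h))
      (fun v hv hv1 => by
        have hv' := Subgroup.mem_subgroupOf.1 hv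
        obtain ⟨b, hb, hb1⟩ := hDtr v hv' (fun h => hv1 (Subtype.ext h))
        refine ⟨⟨b, hDN hb⟩, Subgroup.mem_subgroupOf.2 hb, Subtype.ext ?_⟩
        rw [hsV _ _ hv0]
        exact hb1)
      (by
        have h1 : Nat.card (V.subgroupOf H.E) = Nat.card V :=
          Nat.card_congr (Subgroup.subgroupOfEquivOfLe H.V_le_E).toEquiv
        rw [h1]
        exact hV4)
    rcases key with h | ⟨h1, h2⟩
    · left
      apply hgoal
      intro v hv
      obtain ⟨n, hn, hn1⟩ := h ⟨v, H.V_le_E hv⟩ (Subgroup.mem_subgroupOf.2 hv)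
      refine ⟨n, n.2, ?_, ?_⟩
      · intro u hu
        have h3 := congrArg (fun z : H.E => (z : G))
          (hn1 ⟨u, H.V_le_E hu⟩ (Subgroup.mem_subgroupOf.2 hu))
        try simp only at h3
        rw [hsV n _ hu] at h3
        exact h3
      · have h3 := congrArg (fun z : H.E => (z : G)) hn
        try simp only at h3
        rw [hst] at h3
        exact mul_left_cancel h3
    · right
      have h3 : Nat.card (V.subgroupOf H.E) = Nat.card V :=
        Nat.card_congr (Subgroup.subgroupOfEquivOfLe H.V_le_E).toEquiv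
      refine ⟨by rw [← h3, h1], hex, ?_⟩
      rw [← h2, ← Subgroup.index_ker]
      show ((Subgroup.centralizer (V : Set G)).subgroupOf (towerN t W)).index = _
      congr 1
      ext n
      rw [Subgroup.mem_subgroupOf, MonoidHom.mem_ker]
      constructor
      · intro h
        have hc : ∀ v ∈ V, (n : G) * v * (n : G)⁻¹ = v := by
          intro v hv
          rw [← (Subgroup.mem_centralizer_iff.1 h v hv), mul_inv_cancel_right]
        refine MulEquiv.ext fun e => Subtype.ext ?_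
        show ((n • e : H.E) : G) = e
        rcases e.2 with he | he
        · rw [hsV n e he, hc _ he]
        · have h4 : e = (⟨t, H.t_mem_E⟩ : H.E) * ⟨t * (e : G), H.V_le_E he⟩ := by
            apply Subtype.ext
            exact eq_t_mul ht2 _
          rw [h4, smul_mul']
          show ((n • (⟨t, H.t_mem_E⟩ : H.E) : H.E) : G) *
            ((n • (⟨t * (e : G), H.V_le_E he⟩ : H.E) : H.E) : G) = t * (t * (e : G))
          rw [hst, hsV n _ he, hex n n.2 hc, mul_one]
          show t * ((n : G) * (t * (e : G)) * (n : G)⁻¹) = _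
          rw [hc _ he]
      · intro h
        rw [Subgroup.mem_centralizer_iff]
        intro v hv
        have h4 : (n • (⟨v, H.V_le_E hv⟩ : H.E) : H.E) = ⟨v, H.V_le_E hv⟩ :=
          DFunLike.congr_fun h (⟨v, H.V_le_E hv⟩ : H.E)
        have h5 := congrArg (fun z : H.E => (z : G)) h4
        try simp only at h5
        rw [hsV n _ hv] at h5
        have h6 : (n : G) * v * (n : G)⁻¹ = v := h5
        rw [mul_inv_eq_iff_eq_mul] at h6
        exact h6.symm

end Lv

end Cfsg.Agent.StdL2
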