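import Cfsg.Agent.StdL2.FCent

/-!
# S1773, case (f): the two tori commute
-/

set_option autoImplicit false
set_option linter.unusedSectionVars false

namespace Cfsg.Agent.StdL2.F

open Subgroup

section General

variable {H : Type*} [Group H]

/-- A group of order `2 n`, `n` odd, has a normal subgroup of order `n`. -/
private theorem exists_odd_normal [Finite H] {n : ℕ} (hn : Odd n) (hc : Nat.card H = 2 * n) :
    ∃ K : Subgroup H, K.Normal ∧ K.index = 2 ∧ Nat.card K = n := by
  have : Fact (Nat.Prime 2) := ⟨Nat.prime_two⟩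
  obtain ⟨P⟩ : Nonempty (Sylow 2 H) := inferInstance
  have hP : Nat.card P = 2 := by
    rw [Sylow.card_eq_multiplicity, hc, Nat.factorization_mul (by norm_num) (by rintro rfl; simp at hn),
      Finsupp.add_apply, Nat.Prime.factorization_self Nat.prime_two,
      Nat.factorization_eq_zero_of_not_dvd (by rw [← even_iff_two_dvd, Nat.not_even_iff_odd]; exact hn)]
    norm_num
  have hNC : normalizer (((P : Subgroup H)) : Set H) ≤ centralizer (P : Set H) := by
    intro x hx
    rw [mem_centralizer_iff]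
    intro a ha
    by_cases ha1 : a = 1
    · rw [ha1]; group
    have hxa : x * a * x⁻¹ ∈ (P : Subgroup H) := (mem_normalizer_iff.1 hx a).1 ha
    have hxa1 : x * a * x⁻¹ ≠ 1 := fun h => ha1 (conj_eq_one_iff.1 h)
    have key : x * a * x⁻¹ = a := by
      have h2 : Nat.card (P : Subgroup H) = 2 := hP
      rw [Nat.card_eq_two_iff' (1 : (P : Subgroup H))] at h2
      obtain ⟨b, -, hb⟩ := h2
      have h3 := hb ⟨a, ha⟩ (fun h => ha1 (congrArg Subtype.val h))
      have h4 := hb ⟨x * a * x⁻¹, hxa⟩ (fun h => hxa1 (congrArg Subtype.val h))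
      exact congrArg Subtype.val (h4.trans h3.symm)
    rw [mul_inv_eq_iff_eq_mul] at key
    exact key.symm
  have h1 := MonoidHom.ker_transferSylow_isComplement' P hNC
  have h2 : (MonoidHom.transferSylow P hNC).ker.index = 2 := by
    rw [h1.symm.index_eq_card]; exact hP
  refine ⟨(MonoidHom.transferSylow P hNC).ker, inferInstance, h2, ?_⟩
  have h3 := (MonoidHom.transferSylow P hNC).ker.card_mul_index
  rw [h2, hc, mul_comm] at h3
  exact Nat.eq_of_mul_eq_mul_left (by norm_num) h3

/-- elements of odd order lie in a normal subgroup of index two -/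
private theorem mem_of_odd {K : Subgroup H} (hK : K.index = 2) {x : H} {n : ℕ} (hn : Odd n)
    (hx : x ^ n = 1) : x ∈ K := by
  obtain ⟨k, hk⟩ := hn
  have h1 : x = (x ^ 2) ^ (k + 1) := by
    rw [← pow_mul, show 2 * (k + 1) = (2 * k + 1) + 1 by ring, pow_succ, ← hk, hx, one_mul]
  rw [h1]
  exact K.pow_mem (Subgroup.sq_mem_of_index_two hK x) _

/-- a group whose order is not divisible by 4 has a subgroup of odd order containing all the elements
of odd order -/
theorem exists_odd_of_not_four [Finite H] (h4 : ¬ 4 ∣ Nat.card H) :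
    ∃ K : Subgroup H, Odd (Nat.card K) ∧ ∀ (x : H) (n : ℕ), Odd n → x ^ n = 1 → x ∈ K := by
  by_cases h2 : 2 ∣ Nat.card H
  · obtain ⟨n, hn⟩ := h2
    have hodd : Odd n := by
      rw [← Nat.not_even_iff_odd]
      rintro ⟨k, hk⟩
      exact h4 ⟨k, by omega⟩
    obtain ⟨K, _, hK2, hK3⟩ := exists_odd_normal hodd hn
    exact ⟨K, hK3 ▸ hodd, fun x n hn hx => mem_of_odd hK2 hn hx⟩
  · refine ⟨⊤, ?_, fun _ _ _ _ => mem_top _⟩
    rw [Subgroup.card_top, ← Nat.not_even_iff_odd, even_iff_two_dvd]
    exact h2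

/-- a 2-subgroup of order divisible by `2 ^ n` -/
theorem exists_two_sub [Finite H] {K : Subgroup H} {n : ℕ} (h : 2 ^ n ∣ Nat.card K) :
    ∃ S : Subgroup H, S ≤ K ∧ IsPGroup 2 S ∧ Nat.card S = 2 ^ n := by
  haveI : Fact (Nat.Prime 2) := ⟨Nat.prime_two⟩
  obtain ⟨S, hS⟩ := Sylow.exists_subgroup_card_pow_prime 2 h
  refine ⟨S.map K.subtype, map_subtype_le S, ?_, ?_⟩
  · exact (IsPGroup.of_card hS).map K.subtype
  · rw [← hS]
    exact Nat.card_congr (S.equivMapOfInjective K.subtype K.subtype_injective).toEquiv.symm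

end General

namespace XC

variable {X W F : Type*} [Group X] [Finite X] [AddCommGroup W] [DistribMulAction X W] [Field F]
  [Finite F] {κ : F →+* AddMonoid.End W} {d : Fˣ →* X} {σ : F ≃+* F} {t f : X} {w₁ : W}

/-- units have odd order -/
theorem odd_pow (C : XC κ d σ t f w₁) : ∃ n : ℕ, Odd n ∧ ∀ a : Fˣ, a ^ n = 1 := by
  refine ⟨Nat.card Fˣ, ?_, fun a => pow_card_eq_one'⟩
  rw [Nat.card_units]
  haveI : CharP F 2 := CharTwo.of_one_ne_zero_of_two_eq_zero one_ne_zero C.two
  haveI := Fintype.ofFinite F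
  rw [Nat.card_eq_fintype_card]
  obtain ⟨n, hn1, hn2⟩ := FiniteField.card F 2
  rw [hn2]
  have h1 : Even (2 ^ (n : ℕ)) := Nat.even_pow.mpr ⟨even_two, n.pos.ne'⟩
  have h2 : 0 < 2 ^ (n : ℕ) := by positivity
  exact Nat.Even.sub_odd h2 h1 odd_one

/-- the subgroup of elements commuting with an operator -/
def centOp (X : Type*) {W : Type*} [Group X] [AddCommGroup W] [DistribMulAction X W]
    (z : AddMonoid.End W) : Subgroup X where
  carrier := {x | rho X W x * z = z * rho X W x}
  mul_mem' := by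
    intro x y hx hy
    change rho X W (x * y) * z = z * rho X W (x * y)
    rw [map_mul, mul_assoc, hy, ← mul_assoc, hx, mul_assoc]
  one_mem' := by
    change rho X W 1 * z = z * rho X W 1
    rw [map_one, one_mul, mul_one]
  inv_mem' := by
    intro x hx
    change rho X W x⁻¹ * z = z * rho X W x⁻¹
    have h1 : rho X W x * rho X W x⁻¹ = 1 := by rw [← map_mul, mul_inv_cancel, map_one]
    have h2 : rho X W x⁻¹ * rho X W x = 1 := by rw [← map_mul, inv_mul_cancel, map_one]
    calc rho X W x⁻¹ * z = rho X W x⁻¹ * (z * rho X W x) * rho X W x⁻¹ := by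
          rw [mul_assoc, mul_assoc, h1, mul_one]
      _ = rho X W x⁻¹ * (rho X W x * z) * rho X W x⁻¹ := by rw [hx]
      _ = z * rho X W x⁻¹ := by rw [← mul_assoc, h2, one_mul]

/-- `H ∪ H t` -/
theorem exists_double {t : X} (H : Subgroup X) (htt : t * t = 1) (ht : t ∉ H)
    (hn : ∀ h ∈ H, t * h * t⁻¹ ∈ H) :
    ∃ K : Subgroup X, H ≤ K ∧ t ∈ K ∧ (∀ x ∈ K, x ∈ H ∨ x * t ∈ H) ∧
      Nat.card K = 2 * Nat.card H := by
  have hti : t⁻¹ = t := inv_eq_of_mul_eq_one_left htt
  have hn' : ∀ h ∈ H, t * h * t ∈ H := fun h hh => by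
    have := hn h hh; rwa [hti] at this
  let K : Subgroup X :=
    { carrier := {x | x ∈ H ∨ x * t ∈ H}
      mul_mem' := by
        rintro x y (hx | hx) (hy | hy)
        · exact Or.inl (mul_mem hx hy)
        · exact Or.inr (by rw [mul_assoc]; exact mul_mem hx hy)
        · right
          have : x * y * t = x * t * (t * y * t) := by
            have : x * t * (t * y * t) = x * (t * t) * (y * t) := by simp only [mul_assoc]
            rw [this, htt, mul_one, mul_assoc]
          rw [this]
          exact mul_mem hx (hn' y hy)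
        · left
          have : x * y = x * t * (t * (y * t) * t) := by
            have : x * t * (t * (y * t) * t) = x * (t * t) * y * (t * t) := by
              simp only [mul_assoc]
            rw [this, htt, mul_one, mul_one]
          rw [this]
          exact mul_mem hx (hn' _ hy)
      one_mem' := Or.inl H.one_mem
      inv_mem' := by
        rintro x (hx | hx)
        · exact Or.inl (inv_mem hx)
        · right
          have : x⁻¹ * t = t * (x * t)⁻¹ * t := by
            rw [mul_inv_rev, hti, ← mul_assoc, htt, one_mul]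
          rw [this]
          exact hn' _ (inv_mem hx) }
  have hHK : H ≤ K := fun x hx => Or.inl hx
  have htK : t ∈ K := Or.inr (by rw [htt]; exact H.one_mem)
  refine ⟨K, hHK, htK, fun x hx => hx, ?_⟩
  have hidx : (H.subgroupOf K).index = 2 := by
    rw [Subgroup.index_eq_two_iff]
    refine ⟨⟨t, htK⟩, ?_⟩
    rintro ⟨b, hb⟩
    rw [mem_subgroupOf, mem_subgroupOf]
    change Xor' (b * t ∈ H) (b ∈ H)
    rcases hb with hb | hb
    · right
      refine ⟨hb, fun h => ht ?_⟩
      have := mul_mem (inv_mem hb) h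
      rwa [← mul_assoc, inv_mul_cancel, one_mul] at this
    · left
      refine ⟨hb, fun h => ht ?_⟩
      have := mul_mem (inv_mem h) hb
      rwa [← mul_assoc, inv_mul_cancel, one_mul] at this
  have h1 := (H.subgroupOf K).card_mul_index
  rw [hidx] at h1
  have h2 : Nat.card (H.subgroupOf K) = Nat.card H :=
    Nat.card_congr (subgroupOfEquivOfLe hHK).toEquiv
  rw [h2] at h1
  omega

section Kill

variable (C : XC κ d σ t f w₁) {y : X} (hyt : y * t * y⁻¹ = t * f)
  (hyf : y * f * y⁻¹ = f ∨ y * f * y⁻¹ = t)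

/-- the subgroup generated by the two tori and `f` -/
def H1 (d : Fˣ →* X) (σ : F ≃+* F) (f y : X) : Subgroup X :=
  closure ({x | ∃ a : Fˣ, (a : F) * σ a = 1 ∧ (x = d a ∨ x = y * d a * y⁻¹)} ∪ {f})

include C hyt hyf

/-- the Sylow 2-subgroups of `N₁` of order 4 -/
theorem kill_four {ω δ : F} (hω : σ ω = ω + 1) (hδ : σ δ = δ) (hδ0 : δ ≠ 0)
    (hz : κ ω * (rho X W y * κ ω * rho X W y⁻¹) + (rho X W y * κ ω * rho X W y⁻¹) * κ ω =
      κ δ * rho X W f)
    (hS : ∀ S : Subgroup X, IsPGroup 2 S → S ≤ N1 κ σ → Nat.card S ≤ 4) : False := by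
  classical
  have h2 : ∀ x : AddMonoid.End W, x + x = 0 := C.add_self_R
  obtain ⟨h1, h3, c', hc', h4⟩ := rel_y C hyt hyf hω
  have hKy := conj_comm_K0 C hyt hyf
  have hK := fun c hc => hKy ω c hc
  obtain ⟨O', hO'⟩ : ∃ z, z = rho X W y * κ ω * rho X W y⁻¹ := ⟨_, rfl⟩
  rw [← hO'] at h1 h3 h4 hz hK
  have hTT : rho X W t * rho X W t = 1 := C.rho_tt
  have hPP : rho X W f * rho X W f = 1 := C.rho_ff
  have hOT : κ ω * rho X W t = rho X W t * κ ω := (C.t_kappa ω).symm
  have hOP : κ ω * rho X W f = rho X W f * κ ω + rho X W f := by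
    have := C.f_kappa ω
    rw [hω, map_add, map_one, add_mul, one_mul] at this
    rw [this, add_assoc, h2, add_zero]
  have hKω : ∀ a : F, κ ω * κ a = κ a * κ ω := fun a => by rw [← map_mul, ← map_mul, mul_comm]
  have hδP : rho X W f * κ δ = κ δ * rho X W f := by
    have := C.f_kappa δ
    rwa [hδ] at this
  have hδT : rho X W t * κ δ = κ δ * rho X W t := C.t_kappa δ
  obtain ⟨M, hM⟩ : ∃ M, M = κ ω + O' + κ δ * (1 + rho X W f) := ⟨_, rfl⟩
  have hMO : M * κ ω = κ ω * M := by
    rw [hM]; exact Alg.M_O h2 hOP hz (hKω δ)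
  have hMO' : M * O' = O' * M := by
    rw [hM]; exact Alg.M_O' h2 h3 hz (hK δ hδ).symm
  have hMP : M * rho X W f = rho X W f * M := by
    rw [hM]; exact Alg.M_P h2 hOP h3 hδP
  have hMT : M * rho X W t = rho X W t * M + rho X W t := by
    rw [hM]; exact Alg.M_T C.rho_tf hOT h1 hδT
  have hMK : ∀ a, σ a = a → M * κ a = κ a * M := by
    intro a ha
    have h5 : rho X W f * κ a = κ a * rho X W f := by
      have := C.f_kappa a
      rwa [ha] at this
    have h6 : κ δ * κ a = κ a * κ δ := by rw [← map_mul, ← map_mul, mul_comm]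
    have h7 : κ δ * (1 + rho X W f) * κ a = κ a * (κ δ * (1 + rho X W f)) := by
      calc κ δ * (1 + rho X W f) * κ a = κ δ * κ a + κ δ * (rho X W f * κ a) := by
            rw [mul_assoc, add_mul, one_mul, mul_add]
        _ = κ a * κ δ + κ a * κ δ * rho X W f := by rw [h5, ← mul_assoc, h6]
        _ = κ a * (κ δ * (1 + rho X W f)) := by
            rw [mul_assoc (κ a), ← mul_add, mul_add (κ δ), mul_one]
    rw [hM, add_mul, add_mul, h7, hKω, ← hK a ha, mul_add (κ a) (κ ω + O'),
      mul_add (κ a) (κ ω)]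
  have hMF : ∀ a : F, M * κ a = κ a * M := by
    intro a
    obtain ⟨u, v, hu, hv, rfl⟩ := C.decomp hω a
    rw [map_add, map_mul, mul_add, add_mul, hMK u hu, ← mul_assoc, hMK v hv, mul_assoc, hMO,
      mul_assoc]
  have hMF' : ∀ a : F, M * (rho X W y * κ a * rho X W y⁻¹) =
      (rho X W y * κ a * rho X W y⁻¹) * M := by
    intro a
    obtain ⟨u, v, hu, hv, rfl⟩ := C.decomp hω a
    obtain ⟨u', hu', e1⟩ := norm_y C hyt hyf u hu
    obtain ⟨v', hv', e2⟩ := norm_y C hyt hyf v hv
    have e3 : rho X W y * κ (u + v * ω) * rho X W y⁻¹ = κ u' + κ v' * O' := by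
      rw [map_add, map_mul, mul_add, add_mul, e1, ← mul_assoc, e2, mul_assoc (κ u'), rho_mul_inv,
        mul_one, hO']
      simp only [mul_assoc]
    rw [e3, mul_add, add_mul, hMK u' hu', ← mul_assoc, hMK v' hv', mul_assoc, hMO', mul_assoc]
  -- the subgroup
  set H := H1 d σ f y with hH
  have hHN : H ≤ N1 κ σ := by
    rw [hH, H1, closure_le]
    rintro x (⟨a, -, rfl | rfl⟩ | rfl)
    · exact C.d_mem a
    · intro c hc
      rw [map_mul, map_mul, C.rho_d]
      exact (hKy (a : F) c hc).symm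
    · exact C.f_mem
  have hHM : ∀ h ∈ H, rho X W h * M = M * rho X W h := by
    have hle : H ≤ centOp X M := by
      rw [hH, H1, closure_le]
      rintro x (⟨a, -, rfl | rfl⟩ | rfl)
      · change rho X W (d a) * M = M * rho X W (d a)
        rw [C.rho_d, hMF]
      · change rho X W (y * d a * y⁻¹) * M = M * rho X W (y * d a * y⁻¹)
        rw [map_mul, map_mul, C.rho_d, hMF']
      · exact hMP.symm
    exact fun h hh => hle hh
  have htH : t ∉ H := by
    intro h
    have h5 := hHM t h
    rw [hMT] at h5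
    have h6 : rho X W t = 0 := by
      have := h5.symm
      rwa [add_eq_left] at this
    have h7 := DFunLike.congr_fun h6 (t • w₁ + w₁)
    change t • (t • w₁ + w₁) = 0 at h7
    rw [C.t_v] at h7
    exact C.v_ne h7
  have hyt' : y * t = t * f * y := mul_inv_eq_iff_eq_mul.mp hyt
  have hgen : ∀ a : Fˣ, t * (y * d a * y⁻¹) * t⁻¹ = y * d (Units.map (σ : F →* F) a) * y⁻¹ := by
    intro a
    have e1 : ∃ e, (e = f ∨ e = t * f) ∧ t * y = y * e := by
      obtain ⟨h5, -⟩ := y_inv C hyt hyf
      rw [inv_inv] at h5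
      refine ⟨y⁻¹ * t * y, ?_, by group⟩
      rcases h5 with h5 | h5 | h5
      · exfalso
        have h6 : y * t = t * y := by
          calc y * t = y * (y⁻¹ * t * y) := by rw [h5]
            _ = t * y := by group
        rw [h6] at hyt'
        have h7 := mul_right_cancel hyt'
        have h8 : f = 1 := by
          have := h7.symm
          rwa [mul_eq_left] at this
        exact C.f_ne_one h8
      · exact Or.inl h5
      · exact Or.inr h5
    obtain ⟨e, he, hty⟩ := e1
    have hed : e * d a = d (Units.map (σ : F →* F) a) * e := by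
      rcases he with rfl | rfl
      · exact C.fd a
      · rw [mul_assoc, C.fd, ← mul_assoc, C.td, mul_assoc]
    calc t * (y * d a * y⁻¹) * t⁻¹ = (t * y) * d a * (t * y)⁻¹ := by group
      _ = y * (e * d a) * e⁻¹ * y⁻¹ := by rw [hty]; group
      _ = y * d (Units.map (σ : F →* F) a) * y⁻¹ := by rw [hed]; group
  have hnorm : ∀ h ∈ H, t * h * t⁻¹ ∈ H := by
    have hle : H ≤ H.comap (MulAut.conj t).toMonoidHom := by
      conv_lhs => rw [hH, H1]
      rw [closure_le]
      rintro x (⟨a, ha, rfl | rfl⟩ | hxf)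
      · change t * d a * t⁻¹ ∈ H
        rw [C.td, mul_inv_cancel_right]
        exact subset_closure (Or.inl ⟨a, ha, Or.inl rfl⟩)
      · change t * (y * d a * y⁻¹) * t⁻¹ ∈ H
        rw [hgen]
        refine subset_closure (Or.inl ⟨_, ?_, Or.inr rfl⟩)
        change σ (a : F) * σ (σ (a : F)) = 1
        rw [C.sig, mul_comm]; exact ha
      · rw [Set.mem_singleton_iff.mp hxf]
        change t * f * t⁻¹ ∈ H
        rw [C.tf, mul_inv_cancel_right]
        exact subset_closure (Or.inr rfl)
    exact fun h hh => hle hh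
  have h4' : ¬ 4 ∣ Nat.card H := by
    intro hdvd
    obtain ⟨K, hHK, htK, hK1, hK2⟩ := exists_double H C.tt htH hnorm
    have h8 : 2 ^ 3 ∣ Nat.card K := by
      rw [hK2]
      obtain ⟨k, hk⟩ := hdvd
      exact ⟨k, by omega⟩
    obtain ⟨S, hSK, hS2, hS8⟩ := exists_two_sub h8
    have hKN : K ≤ N1 κ σ := by
      intro x hx
      rcases hK1 x hx with h | h
      · exact hHN h
      · have := mul_mem (hHN h) (inv_mem C.t_mem)
        rwa [mul_inv_cancel_right] at this
    have := hS S hS2 (hSK.trans hKN)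
    omega
  obtain ⟨K, hKodd, hKmem⟩ := exists_odd_of_not_four h4'
  set H0 : Subgroup X := K.map H.subtype with hH0
  have hH0H : H0 ≤ H := map_subtype_le K
  have hH0odd : Odd (Nat.card H0) := by
    rw [hH0, ← Nat.card_congr (K.equivMapOfInjective H.subtype H.subtype_injective).toEquiv]
    exact hKodd
  obtain ⟨n, hn, hn1⟩ := C.odd_pow
  have hmem : ∀ x ∈ H, x ^ n = 1 → x ∈ H0 := by
    intro x hx hxn
    exact ⟨⟨x, hx⟩, hKmem ⟨x, hx⟩ n hn (Subtype.ext hxn), rfl⟩
  -- the element a₀
  have ha0 : (1 + ω⁻¹ : F) ≠ 0 := by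
    intro h
    have := C.norm_a0 hω
    rw [h, zero_mul] at this
    exact zero_ne_one this
  have hd1 : d (Units.mk0 _ ha0) ∈ H0 := by
    apply hmem
    · exact subset_closure (Or.inl ⟨_, C.norm_a0 hω, Or.inl rfl⟩)
    · rw [← map_pow, hn1, map_one]
  have hd2 : y * d (Units.mk0 _ ha0) * y⁻¹ ∈ H0 := by
    apply hmem
    · exact subset_closure (Or.inl ⟨_, C.norm_a0 hω, Or.inr rfl⟩)
    · rw [conj_pow, ← map_pow, hn1, map_one, mul_one, mul_inv_cancel]
  have key := C.kill_odd (δ := δ) (c' := c') hω hδ hδ0 hc' O' hK h1 h3 h4 hz H0 hH0odd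
    (fun h hh a ha => (hHN (hH0H hh) a ha).symm) (by
      intro h hh
      rw [← hM]
      exact hHM h (hH0H hh))
  apply key
  intro z hz hzh
  constructor
  · apply comm_of_a0
    have h5 := hzh _ hd1
    rw [C.rho_d] at h5
    exact h5.symm
  · have h5 := hzh _ hd2
    rw [map_mul, map_mul, C.rho_d] at h5
    have h6 : (rho X W y⁻¹ * z * rho X W y) * κ ω = κ ω * (rho X W y⁻¹ * z * rho X W y) := by
      apply comm_of_a0
      have e1 : (rho X W y⁻¹ * z * rho X W y) * κ (1 + ω⁻¹) =
          rho X W y⁻¹ * (z * (rho X W y * κ (1 + ω⁻¹) * rho X W y⁻¹)) * rho X W y := by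
        simp only [mul_assoc, rho_inv_mul, mul_one]
      have e2 : κ (1 + ω⁻¹) * (rho X W y⁻¹ * z * rho X W y) =
          rho X W y⁻¹ * ((rho X W y * κ (1 + ω⁻¹) * rho X W y⁻¹) * z) * rho X W y := by
        have : rho X W y⁻¹ * ((rho X W y * κ (1 + ω⁻¹) * rho X W y⁻¹) * z) * rho X W y =
            (rho X W y⁻¹ * rho X W y) * κ (1 + ω⁻¹) * (rho X W y⁻¹ * z * rho X W y) := by
          simp only [mul_assoc]
        rw [this, rho_inv_mul, one_mul]
      rw [e1, e2]
      congr 2
      exact h5.symm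
    calc z * O' = (rho X W y * rho X W y⁻¹) * z * (rho X W y * κ ω * rho X W y⁻¹) := by
          rw [rho_mul_inv, one_mul, hO']
      _ = rho X W y * ((rho X W y⁻¹ * z * rho X W y) * κ ω) * rho X W y⁻¹ := by
          simp only [mul_assoc]
      _ = rho X W y * (κ ω * (rho X W y⁻¹ * z * rho X W y)) * rho X W y⁻¹ := by rw [h6]
      _ = (rho X W y * κ ω * rho X W y⁻¹) * z * (rho X W y * rho X W y⁻¹) := by
          simp only [mul_assoc]
      _ = O' * z := by rw [rho_mul_inv, mul_one, hO']

end Kill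

end XC

end Cfsg.Agent.StdL2.F
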