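import Cfsg.Agent.StdL2.FMain
import Cfsg.Agent.StdL2.FEight

/-!
# S1773, case (f): the two tori commute, without hypothesis
-/

set_option autoImplicit false

namespace Cfsg.Agent.StdL2.F.XC

variable {X W F : Type*} [Group X] [Finite X] [AddCommGroup W] [DistribMulAction X W] [Field F]
  [Finite F] {κ : F →+* AddMonoid.End W} {d : Fˣ →* X} {σ : F ≃+* F} {t f : X} {w₁ : W}

theorem commute_tori (C : XC κ d σ t f w₁) {y : X} (hyt : y * t * y⁻¹ = t * f)
    (hyf : y * f * y⁻¹ = f ∨ y * f * y⁻¹ = t) :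
    ∀ a b, κ a * (rho X W y * κ b * rho X W y⁻¹) = rho X W y * κ b * rho X W y⁻¹ * κ a := by
  refine C.commute_tori_of ?_ hyt hyf
  intro ω δ hω hδ hδ0 x hx hxx hxt hxf hz hS
  have hxi : x⁻¹ = x := inv_eq_of_mul_eq_one_left hxx
  refine C.kill8 hω hδ hδ0 x hxx hxt hxf (fun a ha => mem_N1.mp hx a ha) ?_ ?_
  · have h := hz
    rw [hxi] at h
    exact h
  · intro S hS2 hSK
    exact hS S hS2 (fun s hs => mem_N1.mpr fun a ha => hSK s hs a ha)

end Cfsg.Agent.StdL2.F.XC
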