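import Cfsg.Agent.StdL2.SC
import Cfsg.Agent.StdL2.FGal

/-!
# S1773, case (f): the wreathed configuration

`U = V₁ × V₂` elementary abelian of order `q²`, `S` a Sylow 2-subgroup of `G` normalising `U` and
permuting `{V₁, V₂}`, `t ∈ S` interchanges them, no conjugate of `t` in `S` normalises `V₁`, and
`N_S(V₁)` acts on `V₁ ≃ F_q` through field automorphisms.
-/

set_option autoImplicit false
set_option linter.unusedSectionVars false

open Subgroup

namespace Cfsg.Agent.StdL2.FWr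

open Cfsg.Agent.StdL2.FieldStart (IsSyl exists_isSyl card_le_two_mul exists_normalizer_gt)
open Cfsg.Agent.StdL2.SC (conj_mem_norm norm_conj norm_conj')
open Cfsg.Agent.StdL2.FGal (GalAct)

variable {G : Type*} [Group G] [Finite G]

/-- The wreathed configuration. -/
structure Wr (t : G) (U V1 V2 S : Subgroup G) : Prop where
  t2 : t * t = 1
  S2 : IsPGroup 2 S
  usq : ∀ u ∈ U, u * u = 1
  US : U ≤ S
  tS : t ∈ S
  SU : ∀ s ∈ S, ∀ u ∈ U, s * u * s⁻¹ ∈ U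
  cU : ∀ s ∈ S, (∀ u ∈ U, s * u = u * s) → s ∈ U
  V1U : V1 ≤ U
  V2U : V2 ≤ U
  disj : ∀ x ∈ V1, x ∈ V2 → x = 1
  gen : ∀ u ∈ U, ∃ a ∈ V1, ∃ b ∈ V2, u = a * b
  tsw : ∀ a ∈ V1, t * a * t⁻¹ ∈ V2
  tsw' : ∀ b ∈ V2, t * b * t⁻¹ ∈ V1
  perm : ∀ s ∈ S, ((∀ a ∈ V1, s * a * s⁻¹ ∈ V1) ∧ (∀ b ∈ V2, s * b * s⁻¹ ∈ V2)) ∨
    ((∀ a ∈ V1, s * a * s⁻¹ ∈ V2) ∧ (∀ b ∈ V2, s * b * s⁻¹ ∈ V1))
  no : ∀ g, g * t * g⁻¹ ∈ S → ¬ ∀ a ∈ V1, (g * t * g⁻¹) * a * (g * t * g⁻¹)⁻¹ ∈ V1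
  card16 : 16 ≤ Nat.card V1
  gal : GalAct V1 S

namespace Wr

variable {t : G} {U V1 V2 S : Subgroup G}

theorem tinv (W : Wr t U V1 V2 S) : t⁻¹ = t := inv_eq_of_mul_eq_one_left W.t2

theorem uinv (W : Wr t U V1 V2 S) {u : G} (hu : u ∈ U) : u⁻¹ = u :=
  inv_eq_of_mul_eq_one_left (W.usq u hu)

theorem ucomm (W : Wr t U V1 V2 S) {u v : G} (hu : u ∈ U) (hv : v ∈ U) : u * v = v * u := by
  have h1 := W.uinv (U.mul_mem hu hv)
  rw [← h1, mul_inv_rev, W.uinv hu, W.uinv hv]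

/-- the stabiliser of `V₁` and `V₂` in `S` -/
def N0 (_W : Wr t U V1 V2 S) : Subgroup G :=
  S ⊓ (normalizer (V1 : Set G) ⊓ normalizer (V2 : Set G))

theorem mem_N0 (W : Wr t U V1 V2 S) {s : G} : s ∈ W.N0 ↔ s ∈ S ∧
    (∀ a ∈ V1, s * a * s⁻¹ ∈ V1) ∧ (∀ b ∈ V2, s * b * s⁻¹ ∈ V2) := by
  constructor
  · rintro ⟨h1, h2, h3⟩
    exact ⟨h1, fun a ha => norm_conj h2 ha, fun b hb => norm_conj h3 hb⟩
  · rintro ⟨h1, h2, h3⟩
    exact ⟨h1, conj_mem_norm h2, conj_mem_norm h3⟩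

theorem N0S (W : Wr t U V1 V2 S) : W.N0 ≤ S := inf_le_left

theorem n1 (W : Wr t U V1 V2 S) {s : G} (hs : s ∈ W.N0) : ∀ a ∈ V1, s * a * s⁻¹ ∈ V1 :=
  (W.mem_N0.1 hs).2.1

theorem n2 (W : Wr t U V1 V2 S) {s : G} (hs : s ∈ W.N0) : ∀ b ∈ V2, s * b * s⁻¹ ∈ V2 :=
  (W.mem_N0.1 hs).2.2

theorem sw (W : Wr t U V1 V2 S) {s : G} (hs : s ∈ S) (h : s ∉ W.N0) :
    (∀ a ∈ V1, s * a * s⁻¹ ∈ V2) ∧ (∀ b ∈ V2, s * b * s⁻¹ ∈ V1) :=
  (W.perm s hs).resolve_left fun h1 => h (W.mem_N0.2 ⟨hs, h1⟩)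

theorem UN0 (W : Wr t U V1 V2 S) : U ≤ W.N0 := by
  intro u hu
  refine W.mem_N0.2 ⟨W.US hu, fun a ha => ?_, fun b hb => ?_⟩
  · rw [W.ucomm hu (W.V1U ha), mul_inv_cancel_right]; exact ha
  · rw [W.ucomm hu (W.V2U hb), mul_inv_cancel_right]; exact hb

theorem exists_ne (W : Wr t U V1 V2 S) : ∃ a ∈ V1, a ≠ 1 := by
  by_contra hcon
  push Not at hcon
  have h1 : V1 = ⊥ := (Subgroup.eq_bot_iff_forall V1).2 hcon
  have h2 := W.card16
  rw [h1, Subgroup.card_bot] at h2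
  omega

/-- a swapping element is not in `N₀` -/
theorem not_mem_of_sw (W : Wr t U V1 V2 S) {s : G} (h : ∀ a ∈ V1, s * a * s⁻¹ ∈ V2) :
    s ∉ W.N0 := by
  intro hs
  obtain ⟨a, ha, ha1⟩ := W.exists_ne
  apply ha1
  have h1 := W.disj _ (W.n1 hs a ha) (h a ha)
  rwa [conj_eq_one_iff] at h1

theorem t_not (W : Wr t U V1 V2 S) : t ∉ W.N0 := W.not_mem_of_sw W.tsw

theorem mul_mem_of_sw (W : Wr t U V1 V2 S) {s s' : G} (hs : s ∈ S) (hs' : s' ∈ S)
    (h : s ∉ W.N0) (h' : s' ∉ W.N0) : s * s' ∈ W.N0 := by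
  obtain ⟨h1, h2⟩ := W.sw hs h
  obtain ⟨h3, h4⟩ := W.sw hs' h'
  refine W.mem_N0.2 ⟨S.mul_mem hs hs', fun a ha => ?_, fun b hb => ?_⟩
  · have e : s * s' * a * (s * s')⁻¹ = s * (s' * a * s'⁻¹) * s⁻¹ := by group
    rw [e]; exact h2 _ (h3 a ha)
  · have e : s * s' * b * (s * s')⁻¹ = s * (s' * b * s'⁻¹) * s⁻¹ := by group
    rw [e]; exact h1 _ (h4 b hb)

theorem dec (W : Wr t U V1 V2 S) {a a' b b' : G} (ha : a ∈ V1) (ha' : a' ∈ V1) (hb : b ∈ V2)
    (hb' : b' ∈ V2) (h : a * b = a' * b') : a = a' ∧ b = b' := by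
  have h1 : a'⁻¹ * a = b' * b⁻¹ := by
    rw [inv_mul_eq_iff_eq_mul, ← mul_assoc, ← h, mul_inv_cancel_right]
  have h2 : a'⁻¹ * a = 1 :=
    W.disj _ (V1.mul_mem (V1.inv_mem ha') ha) (h1 ▸ V2.mul_mem hb' (V2.inv_mem hb))
  have h3 : a = a' := (inv_mul_eq_one.1 h2).symm
  exact ⟨h3, mul_left_cancel (h3 ▸ h)⟩

theorem conj_t_N0 (W : Wr t U V1 V2 S) {s : G} (hs : s ∈ W.N0) : t * s * t⁻¹ ∈ W.N0 := by
  have h1 := W.t_not
  by_contra hcon
  have hS : t * s * t⁻¹ ∈ S := S.mul_mem (S.mul_mem W.tS (W.N0S hs)) (S.inv_mem W.tS)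
  have h2 := W.mul_mem_of_sw hS W.tS hcon h1
  rw [inv_mul_cancel_right] at h2
  apply h1
  have h3 := W.N0.mul_mem h2 (W.N0.inv_mem hs)
  rwa [mul_inv_cancel_right] at h3

/-- general conjugation -/
theorem conj_N0 (W : Wr t U V1 V2 S) {s x : G} (hs : s ∈ S) (hx : x ∈ W.N0) :
    s * x * s⁻¹ ∈ W.N0 := by
  by_cases h : s ∈ W.N0
  · exact W.N0.mul_mem (W.N0.mul_mem h hx) (W.N0.inv_mem h)
  · by_contra hcon
    have hS : s * x * s⁻¹ ∈ S := S.mul_mem (S.mul_mem hs (W.N0S hx)) (S.inv_mem hs)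
    have h2 := W.mul_mem_of_sw hS hs hcon h
    rw [inv_mul_cancel_right] at h2
    apply h
    have h3 := W.N0.mul_mem h2 (W.N0.inv_mem hx)
    rwa [mul_inv_cancel_right] at h3

/-- conjugation with `t` exchanges the centralizers -/
theorem cent_conj (W : Wr t U V1 V2 S) {s : G} (h : ∀ a ∈ V1, (t * s * t⁻¹) * a = a * (t * s * t⁻¹)) :
    ∀ b ∈ V2, s * b = b * s := by
  intro b hb
  have h1 := h _ (W.tsw' b hb)
  have e1 : (t * s * t⁻¹) * (t * b * t⁻¹) = t * (s * b) * t⁻¹ := by group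
  have e2 : (t * b * t⁻¹) * (t * s * t⁻¹) = t * (b * s) * t⁻¹ := by group
  rw [e1, e2] at h1
  exact mul_left_cancel (mul_right_cancel h1)

theorem cent_conj' (W : Wr t U V1 V2 S) {s : G} (h : ∀ b ∈ V2, s * b = b * s) :
    ∀ a ∈ V1, (t * s * t⁻¹) * a = a * (t * s * t⁻¹) := by
  intro a ha
  have h0 : t⁻¹ * a * t⁻¹⁻¹ ∈ V2 := by
    have := W.tsw a ha
    rw [inv_inv]
    rw [W.tinv] at this ⊢
    exact this
  have h1 := h _ h0
  have e1 : (t * s * t⁻¹) * a = t * (s * (t⁻¹ * a * t⁻¹⁻¹)) * t⁻¹ := by group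
  have e2 : a * (t * s * t⁻¹) = t * ((t⁻¹ * a * t⁻¹⁻¹) * s) * t⁻¹ := by group
  rw [e1, e2, h1]

theorem card_cent2 (W : Wr t U V1 V2 S) (s : G) :
    Nat.card (V2 ⊓ centralizer {s} : Subgroup G) =
      Nat.card (V1 ⊓ centralizer {t * s * t⁻¹} : Subgroup G) := by
  have h1 : (V2 ⊓ centralizer {s} : Subgroup G).map (MulAut.conj t).toMonoidHom =
      V1 ⊓ centralizer {t * s * t⁻¹} := by
    apply le_antisymm
    · rintro _ ⟨b, ⟨hb, hbs⟩, rfl⟩
      have hbs' := mem_centralizer_singleton_iff.1 hbs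
      refine ⟨W.tsw' b hb, mem_centralizer_singleton_iff.2 ?_⟩
      change t * b * t⁻¹ * (t * s * t⁻¹) = t * s * t⁻¹ * (t * b * t⁻¹)
      have e1 : t * b * t⁻¹ * (t * s * t⁻¹) = t * (b * s) * t⁻¹ := by group
      have e2 : t * s * t⁻¹ * (t * b * t⁻¹) = t * (s * b) * t⁻¹ := by group
      rw [e1, e2, hbs']
    · rintro a ⟨ha, has⟩
      have has' := mem_centralizer_singleton_iff.1 has
      refine ⟨t⁻¹ * a * t, ⟨?_, mem_centralizer_singleton_iff.2 ?_⟩, ?_⟩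
      · have := W.tsw a ha
        rw [W.tinv] at this ⊢
        exact this
      · have e1 : t⁻¹ * a * t * s = t⁻¹ * (a * (t * s * t⁻¹)) * t := by group
        have e2 : s * (t⁻¹ * a * t) = t⁻¹ * ((t * s * t⁻¹) * a) * t := by group
        rw [e1, e2, has']
      · change t * (t⁻¹ * a * t) * t⁻¹ = a
        group
  rw [← h1]
  exact Nat.card_congr (Subgroup.equivMapOfInjective _ _ (MulAut.conj t).injective).toEquiv

theorem card_V2 (W : Wr t U V1 V2 S) : Nat.card V2 = Nat.card V1 := by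
  have h := W.card_cent2 1
  have h1 : ∀ V : Subgroup G, (V ⊓ centralizer {(1 : G)} : Subgroup G) = V := by
    intro V
    rw [inf_eq_left]
    intro v _
    exact mem_centralizer_singleton_iff.2 (by rw [mul_one, one_mul])
  have h2 : t * 1 * t⁻¹ = 1 := by group
  rwa [h2, h1, h1] at h

theorem card_U (W : Wr t U V1 V2 S) : Nat.card U = Nat.card V1 ^ 2 := by
  have h1 : Nat.card U = Nat.card (V1 × V2) := by
    symm
    apply Nat.card_congr
    refine Equiv.ofBijective (fun p => ⟨p.1 * p.2, U.mul_mem (W.V1U p.1.2) (W.V2U p.2.2)⟩) ⟨?_, ?_⟩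
    · rintro ⟨a, b⟩ ⟨a', b'⟩ h
      have h2 : (a : G) * b = a' * b' := congrArg Subtype.val h
      obtain ⟨h3, h4⟩ := W.dec a.2 a'.2 b.2 b'.2 h2
      exact Prod.ext (Subtype.ext h3) (Subtype.ext h4)
    · rintro ⟨u, hu⟩
      obtain ⟨a, ha, b, hb, rfl⟩ := W.gen u hu
      exact ⟨(⟨a, ha⟩, ⟨b, hb⟩), rfl⟩
  rw [h1, Nat.card_prod, W.card_V2, pow_two]

/-- the symmetric configuration -/
theorem symm (W : Wr t U V1 V2 S) : Wr t U V2 V1 S where
  t2 := W.t2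
  S2 := W.S2
  usq := W.usq
  US := W.US
  tS := W.tS
  SU := W.SU
  cU := W.cU
  V1U := W.V2U
  V2U := W.V1U
  disj := fun x h1 h2 => W.disj x h2 h1
  gen := by
    intro u hu
    obtain ⟨a, ha, b, hb, rfl⟩ := W.gen u hu
    exact ⟨b, hb, a, ha, W.ucomm (W.V1U ha) (W.V2U hb)⟩
  tsw := W.tsw'
  tsw' := W.tsw
  perm := by
    intro s hs
    rcases W.perm s hs with ⟨h1, h2⟩ | ⟨h1, h2⟩
    · exact Or.inl ⟨h2, h1⟩
    · exact Or.inr ⟨h2, h1⟩
  no := by
    intro g hg h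
    apply W.no g hg
    have h0 : g * t * g⁻¹ ∈ W.N0 := by
      by_contra hcon
      have h1 := (W.sw hg hcon).2
      obtain ⟨a, ha, ha1⟩ := W.exists_ne
      have h2 := W.tsw a ha
      have h3 := W.disj _ (h1 _ h2) (h _ h2)
      rw [conj_eq_one_iff, conj_eq_one_iff] at h3
      exact ha1 h3
    exact W.n1 h0
  card16 := by rw [W.card_V2]; exact W.card16
  gal := by
    have key : ∀ {s : G}, s ∈ S → t * s * t⁻¹ ∈ S := fun hs =>
      S.mul_mem (S.mul_mem W.tS hs) (S.inv_mem W.tS)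
    have knorm : ∀ {s : G}, (∀ b ∈ V2, s * b * s⁻¹ ∈ V2) →
        ∀ a ∈ V1, (t * s * t⁻¹) * a * (t * s * t⁻¹)⁻¹ ∈ V1 := by
      intro s hs a ha
      have h0 : t⁻¹ * a * t ∈ V2 := by
        have := W.tsw a ha
        rw [W.tinv] at this ⊢
        exact this
      have e : (t * s * t⁻¹) * a * (t * s * t⁻¹)⁻¹ = t * (s * (t⁻¹ * a * t) * s⁻¹) * t⁻¹ := by group
      rw [e]
      exact W.tsw' _ (hs _ h0)
    have kne : ∀ {s : G}, (∃ b ∈ V2, s * b ≠ b * s) →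
        ∃ a ∈ V1, (t * s * t⁻¹) * a ≠ a * (t * s * t⁻¹) := by
      rintro s ⟨b, hb, hne⟩
      by_contra hcon
      push Not at hcon
      exact hne (W.cent_conj hcon b hb)
    have kmul : ∀ x y : G, (t * x * t⁻¹) * (t * y * t⁻¹) = t * (x * y) * t⁻¹ := by
      intro x y; group
    refine ⟨?_, ?_, ?_, ?_, ?_⟩
    · intro x hx y hy nx ny hxx hyy hnx hny
      apply W.cent_conj
      have h1 := W.gal.uniq _ (key hx) _ (key hy) (knorm nx) (knorm ny)
        (by rw [kmul]; exact W.cent_conj' hxx) (by rw [kmul]; exact W.cent_conj' hyy)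
        (kne hnx) (kne hny)
      have e : t * (x⁻¹ * y) * t⁻¹ = (t * x * t⁻¹)⁻¹ * (t * y * t⁻¹) := by group
      rw [e]; exact h1
    · intro x hx y hy nx ny
      apply W.cent_conj
      have h1 := W.gal.abel _ (key hx) _ (key hy) (knorm nx) (knorm ny)
      have e : t * (x * y * x⁻¹ * y⁻¹) * t⁻¹ =
          (t * x * t⁻¹) * (t * y * t⁻¹) * (t * x * t⁻¹)⁻¹ * (t * y * t⁻¹)⁻¹ := by group
      rw [e]; exact h1
    · intro x hx nx hnx
      rw [W.card_cent2, W.card_V2]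
      exact W.gal.fix _ (key hx) (knorm nx) (kne hnx)
    · intro x hx nx hnx
      rw [W.card_cent2, W.card_V2]
      refine W.gal.fix4 _ (key hx) (knorm nx) ?_
      rw [kmul]
      exact kne hnx
    · intro x hx nx hc y hy ny
      rw [W.card_cent2] at hc
      obtain ⟨n, hn⟩ := W.gal.gen2 _ (key hx) (knorm nx) hc _ (key hy) (knorm ny)
      refine ⟨n, W.cent_conj ?_⟩
      have e : t * (x ^ n * y) * t⁻¹ = (t * x * t⁻¹) ^ n * (t * y * t⁻¹) := by
        rw [conj_pow]; group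
      rw [e]; exact hn

/-- an element of `S` centralising `V₁` and `V₂` lies in `U` -/
theorem mem_U (W : Wr t U V1 V2 S) {s : G} (hs : s ∈ S) (h1 : ∀ a ∈ V1, s * a = a * s)
    (h2 : ∀ b ∈ V2, s * b = b * s) : s ∈ U := by
  apply W.cU s hs
  intro u hu
  obtain ⟨a, ha, b, hb, rfl⟩ := W.gen u hu
  rw [← mul_assoc, h1 a ha, mul_assoc, h2 b hb, mul_assoc]

/-- a subgroup of `U` centralised by `y, z ∈ N₀` -/
theorem prod_le (W : Wr t U V1 V2 S) {y z : G} (hy : y ∈ W.N0) (hz : z ∈ W.N0) {X : Subgroup G}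
    (hX : X ≤ U) (hXy : ∀ x ∈ X, x * y = y * x) (hXz : ∀ x ∈ X, x * z = z * x) :
    Nat.card X ≤ Nat.card (V1 ⊓ centralizer {y} : Subgroup G) *
      Nat.card (V2 ⊓ centralizer {z} : Subgroup G) := by
  classical
  -- components
  have key : ∀ {y : G}, y ∈ W.N0 → ∀ {a b : G}, a ∈ V1 → b ∈ V2 → (a * b) * y = y * (a * b) →
      a * y = y * a ∧ b * y = y * b := by
    intro y hy a b ha hb h
    have h1 : (y * a * y⁻¹) * (y * b * y⁻¹) = a * b := by
      calc (y * a * y⁻¹) * (y * b * y⁻¹) = y * (a * b) * y⁻¹ := by group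
        _ = a * b := by rw [← h]; group
    obtain ⟨h2, h3⟩ := W.dec (W.n1 hy a ha) ha (W.n2 hy b hb) hb h1
    constructor
    · rw [mul_inv_eq_iff_eq_mul] at h2; exact h2.symm
    · rw [mul_inv_eq_iff_eq_mul] at h3; exact h3.symm
  choose f hf g hg hfg using fun x : X => W.gen x (hX x.2)
  rw [← Nat.card_prod]
  have hy' : ∀ x : X, f x * y = y * f x ∧ g x * y = y * g x := fun x =>
    key hy (hf x) (hg x) (by rw [← hfg x]; exact hXy x x.2)
  have hz' : ∀ x : X, f x * z = z * f x ∧ g x * z = z * g x := fun x =>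
    key hz (hf x) (hg x) (by rw [← hfg x]; exact hXz x x.2)
  refine Nat.card_le_card_of_injective (fun x : X =>
    ((⟨f x, hf x, mem_centralizer_singleton_iff.2 (hy' x).1⟩,
      ⟨g x, hg x, mem_centralizer_singleton_iff.2 (hz' x).2⟩) :
      (V1 ⊓ centralizer {y} : Subgroup G) × (V2 ⊓ centralizer {z} : Subgroup G))) ?_
  intro x x' h
  have h1 : f x = f x' := congrArg (fun p => (p.1 : G)) h
  have h2 : g x = g x' := congrArg (fun p => (p.2 : G)) h
  apply Subtype.ext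
  rw [hfg x, hfg x', h1, h2]

/-- a subgroup of `U` centralised by a swapping element -/
theorem sw_le (W : Wr t U V1 V2 S) {y : G} (hy : y ∈ S) (hyN : y ∉ W.N0) {X : Subgroup G}
    (hX : X ≤ U) (hXy : ∀ x ∈ X, x * y = y * x) : Nat.card X ≤ Nat.card V1 := by
  classical
  obtain ⟨h1, h2⟩ := W.sw hy hyN
  choose f hf g hg hfg using fun x : X => W.gen x (hX x.2)
  refine Nat.card_le_card_of_injective (fun x : X => (⟨f x, hf x⟩ : V1)) ?_
  have key : ∀ x : X, g x = y * f x * y⁻¹ := by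
    intro x
    have h3 := hXy x x.2
    rw [hfg x] at h3
    have h4 : (y * g x * y⁻¹) * (y * f x * y⁻¹) = f x * g x := by
      calc (y * g x * y⁻¹) * (y * f x * y⁻¹) = y * (g x * f x) * y⁻¹ := by group
        _ = y * (f x * g x) * y⁻¹ := by rw [W.ucomm (W.V2U (hg x)) (W.V1U (hf x))]
        _ = f x * g x := by rw [← h3]; group
    exact ((W.dec (h2 _ (hg x)) (hf x) (h1 _ (hf x)) (hg x) h4).2).symm
  intro x x' h
  have h3 : f x = f x' := congrArg (fun p : V1 => (p : G)) h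
  apply Subtype.ext
  rw [hfg x, hfg x', key x, key x', h3]

theorem card_V1_pos (W : Wr t U V1 V2 S) : 16 ≤ Nat.card V1 := W.card16

/-- elements of `N₀` which are involutions modulo the centralizer of `V₁` -/
theorem half (W : Wr t U V1 V2 S) {F : Subgroup G} (hF : F ≤ W.N0)
    (hsq : ∀ y ∈ F, ∀ a ∈ V1, (y * y) * a = a * (y * y)) :
    Nat.card F ≤ 2 * Nat.card (F ⊓ centralizer (V1 : Set G) : Subgroup G) := by
  apply card_le_two_mul
  intro x hx y hy hxc hyc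
  have h1 : ∀ {z : G}, z ∉ centralizer (V1 : Set G) → ∃ a ∈ V1, z * a ≠ a * z := by
    intro z hz
    by_contra hcon
    push Not at hcon
    exact hz (mem_centralizer_iff.2 fun a ha => (hcon a ha).symm)
  have h2 := W.gal.uniq x (W.N0S (hF hx)) y (W.N0S (hF hy)) (W.n1 (hF hx)) (W.n1 (hF hy))
    (hsq x hx) (hsq y hy) (h1 hxc) (h1 hyc)
  exact mem_centralizer_iff.2 fun a ha => (h2 a ha).symm

/-- elementary subgroups of `N₀` meet `U` in index at most 4 -/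
theorem quarter (W : Wr t U V1 V2 S) {F : Subgroup G} (hF : F ≤ W.N0)
    (hsq : ∀ y ∈ F, y * y ∈ U) : Nat.card F ≤ 4 * Nat.card (F ⊓ U : Subgroup G) := by
  have hs : ∀ y ∈ F, ∀ u ∈ U, (y * y) * u = u * (y * y) := fun y hy u hu =>
    W.ucomm (hsq y hy) hu
  have h1 := W.half hF (fun y hy a ha => hs y hy a (W.V1U ha))
  have hN : W.symm.N0 = W.N0 := by
    ext x
    rw [W.mem_N0, W.symm.mem_N0]
    tauto
  have h2 := W.symm.half (F := F ⊓ centralizer (V1 : Set G)) (by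
    rw [hN]; exact inf_le_left.trans hF) (fun y hy b hb => hs y hy.1 b (W.V2U hb))
  have h3 : (F ⊓ centralizer (V1 : Set G)) ⊓ centralizer (V2 : Set G) ≤ F ⊓ U := by
    rintro x ⟨⟨hx, hx1⟩, hx2⟩
    refine ⟨hx, W.mem_U (W.N0S (hF hx)) (fun a ha => (mem_centralizer_iff.1 hx1 a ha).symm)
      (fun b hb => (mem_centralizer_iff.1 hx2 b hb).symm)⟩
  have h4 := Subgroup.card_le_of_le h3
  omega

/-- `c₁² ≤ q` for an element acting nontrivially on `V₁` -/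
theorem fix1 (W : Wr t U V1 V2 S) {y : G} (hy : y ∈ W.N0) (hne : ∃ a ∈ V1, y * a ≠ a * y) :
    Nat.card (V1 ⊓ centralizer {y} : Subgroup G) ^ 2 ≤ Nat.card V1 :=
  W.gal.fix y (W.N0S hy) (W.n1 hy) hne

theorem fix2 (W : Wr t U V1 V2 S) {y : G} (hy : y ∈ W.N0) (hne : ∃ b ∈ V2, y * b ≠ b * y) :
    Nat.card (V2 ⊓ centralizer {y} : Subgroup G) ^ 2 ≤ Nat.card V1 := by
  rw [← W.card_V2]
  exact W.symm.gal.fix y (W.N0S hy) (W.n2 hy) hne

theorem card_cent_le1 (W : Wr t U V1 V2 S) (y : G) :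
    Nat.card (V1 ⊓ centralizer {y} : Subgroup G) ≤ Nat.card V1 :=
  Subgroup.card_le_of_le inf_le_left

theorem card_cent_le2 (W : Wr t U V1 V2 S) (y : G) :
    Nat.card (V2 ⊓ centralizer {y} : Subgroup G) ≤ Nat.card V1 := by
  rw [← W.card_V2]
  exact Subgroup.card_le_of_le inf_le_left

/-- a `U`-part centralised by some `y ∈ N₀ \ U` -/
theorem lt_of_not_mem (W : Wr t U V1 V2 S) {y : G} (hy : y ∈ W.N0) (hyU : y ∉ U) {X : Subgroup G}
    (hX : X ≤ U) (hXy : ∀ x ∈ X, x * y = y * x) : Nat.card X ^ 2 ≤ Nat.card V1 ^ 3 := by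
  have h := W.prod_le hy hy hX hXy hXy
  set c1 := Nat.card (V1 ⊓ centralizer {y} : Subgroup G)
  set c2 := Nat.card (V2 ⊓ centralizer {y} : Subgroup G)
  have h1 : c1 ≤ Nat.card V1 := W.card_cent_le1 y
  have h2 : c2 ≤ Nat.card V1 := W.card_cent_le2 y
  have h3 : c1 ^ 2 ≤ Nat.card V1 ∨ c2 ^ 2 ≤ Nat.card V1 := by
    by_cases hc : ∀ a ∈ V1, y * a = a * y
    · right
      apply W.fix2 hy
      by_contra hcon
      push Not at hcon
      exact hyU (W.mem_U (W.N0S hy) hc hcon)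
    · left
      apply W.fix1 hy
      push Not at hc
      exact hc
  have h4 : Nat.card X ^ 2 ≤ (c1 * c2) ^ 2 := Nat.pow_le_pow_left h 2
  have h5 : (c1 * c2) ^ 2 = c1 ^ 2 * c2 ^ 2 := by ring
  have h6 : Nat.card V1 ^ 3 = Nat.card V1 * Nat.card V1 ^ 2 := by ring
  rw [h5] at h4
  rw [h6]
  rcases h3 with h3 | h3
  · exact h4.trans (Nat.mul_le_mul h3 (Nat.pow_le_pow_left h2 2))
  · refine h4.trans ?_
    rw [mul_comm (c1 ^ 2)]
    exact Nat.mul_le_mul h3 (Nat.pow_le_pow_left h1 2)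

/-- `U` is the only elementary abelian subgroup of `S` of order `≥ q²`. -/
theorem elem_lt (W : Wr t U V1 V2 S) {F : Subgroup G} (hF : F ≤ S) (hsq : ∀ y ∈ F, y * y = 1)
    (hne : ¬ F ≤ U) : Nat.card F < Nat.card U := by
  have hcomm : ∀ x ∈ F, ∀ y ∈ F, x * y = y * x := by
    intro x hx y hy
    have h1 : ∀ z ∈ F, z⁻¹ = z := fun z hz => inv_eq_of_mul_eq_one_left (hsq z hz)
    have h2 := h1 _ (F.mul_mem hx hy)
    rw [mul_inv_rev, h1 x hx, h1 y hy] at h2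
    exact h2.symm
  rw [W.card_U]
  have hq := W.card16
  set q := Nat.card V1 with hqdef
  by_cases hN : F ≤ W.N0
  · have h4 := W.quarter hN (fun y hy => by rw [hsq y hy]; exact U.one_mem)
    by_cases hc : ∃ y ∈ F, (∃ a ∈ V1, y * a ≠ a * y) ∧ ∃ z ∈ F, ∃ b ∈ V2, z * b ≠ b * z
    · obtain ⟨y, hy, hy1, z, hz, hz1⟩ := hc
      have h5 := W.prod_le (hN hy) (hN hz) (X := F ⊓ U) inf_le_right
        (fun x hx => hcomm x hx.1 y hy) (fun x hx => hcomm x hx.1 z hz)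
      have h6 := W.fix1 (hN hy) hy1
      have h7 := W.fix2 (hN hz) hz1
      set c1 := Nat.card (V1 ⊓ centralizer {y} : Subgroup G)
      set c2 := Nat.card (V2 ⊓ centralizer {z} : Subgroup G)
      have h8 : c1 * c2 ≤ q := by
        have : (c1 * c2) ^ 2 ≤ q ^ 2 := by
          calc (c1 * c2) ^ 2 = c1 ^ 2 * c2 ^ 2 := by ring
            _ ≤ q * q := Nat.mul_le_mul h6 h7
            _ = q ^ 2 := by ring
        exact (Nat.pow_le_pow_iff_left (by norm_num)).1 this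
      nlinarith
    · -- one of the two actions is trivial: index at most two
      have h5 : Nat.card F ≤ 2 * Nat.card (F ⊓ U : Subgroup G) := by
        have hNs : W.symm.N0 = W.N0 := by
          ext x
          rw [W.mem_N0, W.symm.mem_N0]
          tauto
        by_cases hc1 : ∃ y ∈ F, ∃ a ∈ V1, y * a ≠ a * y
        · have hc2 : ∀ z ∈ F, ∀ b ∈ V2, z * b = b * z := by
            by_contra hcon
            push Not at hcon
            obtain ⟨y, hy, hy1⟩ := hc1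
            obtain ⟨z, hz, hz1⟩ := hcon
            exact hc ⟨y, hy, hy1, z, hz, hz1⟩
          have h6 := W.half hN (fun y hy a _ => by rw [hsq y hy, one_mul, mul_one])
          refine h6.trans (Nat.mul_le_mul_left 2 (Subgroup.card_le_of_le ?_))
          rintro x ⟨hx, hx1⟩
          exact ⟨hx, W.mem_U (hF hx) (fun a ha => (mem_centralizer_iff.1 hx1 a ha).symm)
            (hc2 x hx)⟩
        · push Not at hc1
          have h6 := W.symm.half (F := F) (by rw [hNs]; exact hN)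
            (fun y hy a _ => by rw [hsq y hy, one_mul, mul_one])
          refine h6.trans (Nat.mul_le_mul_left 2 (Subgroup.card_le_of_le ?_))
          rintro x ⟨hx, hx1⟩
          exact ⟨hx, W.mem_U (hF hx) (hc1 x hx)
            (fun a ha => (mem_centralizer_iff.1 hx1 a ha).symm)⟩
      obtain ⟨y, hy, hyU⟩ := Set.not_subset.1 hne
      have h6 := W.lt_of_not_mem (hN hy) hyU (X := F ⊓ U) inf_le_right
        (fun x hx => hcomm x hx.1 y hy)
      -- (card F)^2 ≤ 4 q^3 < q^4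
      by_contra hcon
      push Not at hcon
      have h7 : (q ^ 2) ^ 2 ≤ Nat.card F ^ 2 := Nat.pow_le_pow_left hcon 2
      have h8 : Nat.card F ^ 2 ≤ (2 * Nat.card (F ⊓ U : Subgroup G)) ^ 2 :=
        Nat.pow_le_pow_left h5 2
      have h9 : (2 * Nat.card (F ⊓ U : Subgroup G)) ^ 2 = 4 * Nat.card (F ⊓ U : Subgroup G) ^ 2 := by
        ring
      have h10 : (q ^ 2) ^ 2 ≤ 4 * q ^ 3 := by
        calc (q ^ 2) ^ 2 ≤ _ := h7
          _ ≤ _ := h8
          _ = _ := h9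
          _ ≤ 4 * q ^ 3 := Nat.mul_le_mul_left 4 h6
      have h11 : q ^ 3 * q ≤ q ^ 3 * 4 := by
        calc q ^ 3 * q = (q ^ 2) ^ 2 := by ring
          _ ≤ 4 * q ^ 3 := h10
          _ = q ^ 3 * 4 := by ring
      have h12 := Nat.le_of_mul_le_mul_left h11 (by positivity)
      omega
  · obtain ⟨f, hf, hfN⟩ := Set.not_subset.1 hN
    have h1 : Nat.card F ≤ 2 * Nat.card (F ⊓ W.N0 : Subgroup G) := by
      apply card_le_two_mul
      intro x hx y hy hxN hyN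
      have h2 : x⁻¹ = x := inv_eq_of_mul_eq_one_left (hsq x hx)
      rw [h2]
      exact W.mul_mem_of_sw (hF hx) (hF hy) hxN hyN
    have h2 := W.quarter (F := F ⊓ W.N0) inf_le_right
      (fun y hy => by rw [hsq y hy.1]; exact U.one_mem)
    have h3 := W.sw_le (hF hf) hfN (X := (F ⊓ W.N0) ⊓ U) inf_le_right
      (fun x hx => hcomm x hx.1.1 f hf)
    nlinarith

/-- `U` is weakly closed in `S`. -/
theorem wc (W : Wr t U V1 V2 S) (g : G) (h : ∀ u ∈ U, g * u * g⁻¹ ∈ S) :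
    ∀ u ∈ U, g * u * g⁻¹ ∈ U := by
  by_contra hcon
  have h1 := W.elem_lt (F := U.map (MulAut.conj g).toMonoidHom) (by
    rintro _ ⟨u, hu, rfl⟩
    exact h u hu) (by
    rintro _ ⟨u, hu, rfl⟩
    change g * u * g⁻¹ * (g * u * g⁻¹) = 1
    have e : g * u * g⁻¹ * (g * u * g⁻¹) = g * (u * u) * g⁻¹ := by group
    rw [e, W.usq u hu]; group) (by
    intro hle
    exact hcon fun u hu => hle ⟨u, hu, rfl⟩)
  have h2 : Nat.card (U.map (MulAut.conj g).toMonoidHom) = Nat.card U :=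
    (Nat.card_congr (U.equivMapOfInjective _ (MulAut.conj g).injective).toEquiv).symm
  omega

end Wr

end Cfsg.Agent.StdL2.FWr
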