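import Cfsg.Agent.StdL2.EOneXG
import Cfsg.Agent.StdL2.FFourWr
import Cfsg.Agent.StdL2.FWr

/-!
# S1773, case (f): from `X` back to `G`

`wreath`: `FTD`, `Tor`, `FOut` and the X-side (`XC` and `y t y⁻¹ = t f` imply `YC`) give the
wreathed configuration `FWr.Wr`.
-/

set_option autoImplicit false
set_option linter.unusedSectionVars false
set_option linter.style.haveILetI false

open Subgroup

namespace Cfsg.Agent.StdL2.FWreath

open Cfsg.Agent.StdL2.FieldStart Cfsg.Agent.StdL2.EOneFusion Cfsg.Agent.StdL2.FT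
open Cfsg.Agent.StdL2.EOneOf Cfsg.Agent.StdL2.EOneWeak Cfsg.Agent.StdL2.EOneX
open Cfsg.Agent.StdL2.EOneXC Cfsg.Agent.StdL2.F Cfsg.Agent.StdL2.EOneFOut
open Cfsg.Agent.StdL2.EOneXG Cfsg.Agent.StdL2.FFour Cfsg.Agent.StdL2.FFourWr
open Cfsg.Agent.StdL2.FieldStart.Fld (conj_mem_norm norm_conj norm_conj')

universe u

/-- the X-side: `XC` and `y t y⁻¹ = t f` give the element `y` and the idempotent `e` -/
def XSide : Prop :=
  ∀ (X W' F' : Type u) (_ : Group X) (_ : Finite X) (_ : AddCommGroup W')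
    (_ : DistribMulAction X W') (_ : Field F') (_ : Finite F') (κ : F' →+* AddMonoid.End W')
    (δ : F'ˣ →* X) (σ : F' ≃+* F') (t f : X) (w₁ : W'), XC κ δ σ t f w₁ →
    (∃ y : X, y * t * y⁻¹ = t * f) → ∃ (y : X) (e : AddMonoid.End W'), YC κ t f y e

variable {G : Type u} [Group G] [Finite G] {t d : G} {V T C₀ U : Subgroup G}

section pull

variable {X W' : Type u} [Group X] [AddCommGroup W'] [DistribMulAction X W']
  {φ : ↥(normalizer (U : Set G)) →* X} {ψ : ↥U → W'}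

theorem psi_one (Tr : Trans U φ ψ) : ψ 1 = 0 := by
  have h := Tr.add 1 1
  rw [one_mul] at h
  exact (add_eq_left.1 h.symm)

theorem psi_inv (Tr : Trans U φ ψ) (a : U) : ψ a⁻¹ = -ψ a := by
  have h := Tr.add a⁻¹ a
  rw [inv_mul_cancel, psi_one Tr] at h
  exact eq_neg_of_add_eq_zero_left h.symm

/-- the pull-back of an additive subgroup -/
def pull (Tr : Trans U φ ψ) (L : AddSubgroup W') : Subgroup G where
  carrier := {g | ∃ h : g ∈ U, ψ ⟨g, h⟩ ∈ L}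
  one_mem' := ⟨U.one_mem, by
    have : ψ ⟨1, U.one_mem⟩ = 0 := psi_one Tr
    rw [this]; exact L.zero_mem⟩
  mul_mem' := by
    rintro a b ⟨ha, ha'⟩ ⟨hb, hb'⟩
    refine ⟨U.mul_mem ha hb, ?_⟩
    have : ψ ⟨a * b, U.mul_mem ha hb⟩ = ψ ⟨a, ha⟩ + ψ ⟨b, hb⟩ := Tr.add ⟨a, ha⟩ ⟨b, hb⟩
    rw [this]; exact L.add_mem ha' hb'
  inv_mem' := by
    rintro a ⟨ha, ha'⟩
    refine ⟨U.inv_mem ha, ?_⟩
    have : ψ ⟨a⁻¹, U.inv_mem ha⟩ = -ψ ⟨a, ha⟩ := psi_inv Tr ⟨a, ha⟩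
    rw [this]; exact L.neg_mem ha'

theorem mem_pull {Tr : Trans U φ ψ} {L : AddSubgroup W'} {g : G} :
    g ∈ pull Tr L ↔ ∃ h : g ∈ U, ψ ⟨g, h⟩ ∈ L := Iff.rfl

theorem pull_le {Tr : Trans U φ ψ} {L : AddSubgroup W'} : pull Tr L ≤ U := fun _ h => h.1

/-- the bijection -/
noncomputable def pullEquiv (Tr : Trans U φ ψ) (L : AddSubgroup W') : pull Tr L ≃ L :=
  Equiv.ofBijective (fun g : pull Tr L => (⟨ψ ⟨g, g.2.1⟩, g.2.2⟩ : L)) <| by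
    constructor
    · intro a b h
      have h1 := Tr.bij.1 (congrArg Subtype.val h)
      exact Subtype.ext (congrArg (fun z : U => (z : G)) h1)
    · rintro ⟨v, hv⟩
      obtain ⟨a, ha⟩ := Tr.bij.2 v
      refine ⟨⟨a, a.2, ?_⟩, Subtype.ext ?_⟩
      · change ψ a ∈ L
        rw [ha]; exact hv
      · exact ha

theorem act' (Tr : Trans U φ ψ) (n : ↥(normalizer (U : Set G))) {u : G} (hu : u ∈ U) :
    ψ ⟨(n : G) * u * (n : G)⁻¹, norm_conj n.2 hu⟩ = φ n • ψ ⟨u, hu⟩ :=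
  (Tr.act n ⟨u, hu⟩ _ rfl).symm

theorem pull_act (Tr : Trans U φ ψ) {L L' : AddSubgroup W'} (n : ↥(normalizer (U : Set G))) :
    (∀ v ∈ L, φ n • v ∈ L') ↔ ∀ a ∈ pull Tr L, (n : G) * a * (n : G)⁻¹ ∈ pull Tr L' := by
  constructor
  · rintro h a ⟨ha, ha'⟩
    refine ⟨norm_conj n.2 ha, ?_⟩
    rw [act' Tr n ha]
    exact h _ ha'
  · intro h v hv
    obtain ⟨a, rfl⟩ := Tr.bij.2 v
    obtain ⟨h1, h2⟩ := h a ⟨a.2, hv⟩
    have h3 := act' Tr n a.2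
    rw [← h3]
    exact h2

end pull

/-- **the wreathed configuration** -/
theorem wreath (hX : XSide.{u}) (H : FTD t V T C₀) (T0 : Cfsg.Agent.StdL2.Tor t V d)
    (O : FOut t V T d U) :
    ∃ S V1 V2 : Subgroup G, FWr.Wr t U V1 V2 S ∧ T ≤ S ∧ IsSyl ⊤ S := by
  classical
  have E := eone H O
  obtain ⟨S, hS, hTS, hUS, hSU, hcS⟩ := exists_sylow H O
  obtain ⟨s, hsT, hs, ht, d1, hd, X, W', F', i1, i2, i3, i4, i5, i6, κ, δ, σ, w₁, φ, ψ, -, -, -,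
    hXC, Tr, hcard, -, hy⟩ := of_fout H T0 O
  obtain ⟨y, e, Y⟩ := hX X W' F' i1 i2 i3 i4 i5 i6 κ δ σ _ _ w₁ hXC hy
  have hSN : ∀ s ∈ S, s ∈ normalizer (U : Set G) := fun s hs => conj_mem_norm (hSU s hs)
  have htS : t ∈ S := hTS H.tT
  set P : Subgroup X := (S.subgroupOf (normalizer (U : Set G))).map φ with hP
  have hP2 : IsPGroup 2 P := (hS.1.comap_subtype).map φ
  have hmem : ∀ s (hs : s ∈ S), φ ⟨s, hSN s hs⟩ ∈ P := fun s hs =>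
    ⟨⟨s, hSN s hs⟩, hs, rfl⟩
  obtain ⟨L1, L2, X0⟩ := xwr hXC Y hP2 (hmem t htS)
  haveI : CharP F' 2 := CharTwo.of_one_ne_zero_of_two_eq_zero one_ne_zero hXC.two
  refine ⟨S, pull Tr L1, pull Tr L2, ?_, hTS, hS⟩
  refine
    { t2 := H.t2
      S2 := hS.1
      usq := O.usq
      US := hUS
      tS := htS
      SU := hSU
      cU := hcS
      V1U := pull_le
      V2U := pull_le
      disj := ?_
      gen := ?_
      tsw := (pull_act Tr ⟨t, ht⟩).1 X0.tsw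
      tsw' := (pull_act Tr ⟨t, ht⟩).1 X0.tsw'
      perm := ?_
      no := ?_
      card16 := ?_
      gal := ?_ }
  · rintro x ⟨hx, h1⟩ ⟨_, h2⟩
    have h3 := X0.disj _ h1 h2
    rw [← psi_one Tr] at h3
    exact congrArg (fun z : U => (z : G)) (Tr.bij.1 h3)
  · intro u hu
    obtain ⟨a, ha, b, hb, hab⟩ := X0.gen (ψ ⟨u, hu⟩)
    obtain ⟨a', rfl⟩ := Tr.bij.2 a
    obtain ⟨b', rfl⟩ := Tr.bij.2 b
    rw [← Tr.add] at hab
    exact ⟨a', ⟨a'.2, ha⟩, b', ⟨b'.2, hb⟩, congrArg (fun z : U => (z : G)) (Tr.bij.1 hab)⟩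
  · intro s hs
    rcases X0.perm _ (hmem s hs) with h | h
    · exact Or.inl ⟨(pull_act Tr _).1 h.1, (pull_act Tr _).1 h.2⟩
    · exact Or.inr ⟨(pull_act Tr _).1 h.1, (pull_act Tr _).1 h.2⟩
  · intro g hg hcon
    obtain ⟨n, hn, hnt⟩ := E.fusion H.card16 g (hSU _ hg)
    have h1 : φ ⟨n, hn⟩ * φ ⟨t, ht⟩ * (φ ⟨n, hn⟩)⁻¹ = φ ⟨g * t * g⁻¹, hSN _ hg⟩ := by
      rw [← map_mul, ← map_inv, ← map_mul]
      congr 1
      exact Subtype.ext hnt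
    refine X0.no (φ ⟨n, hn⟩) ?_ ?_
    · rw [h1]; exact hmem _ hg
    · rw [h1]
      exact (pull_act Tr ⟨g * t * g⁻¹, hSN _ hg⟩).2 hcon
  · rw [Nat.card_congr (pullEquiv Tr L1), X0.card, hcard]
    exact H.card16
  · obtain ⟨g, hg⟩ := X0.gal
    refine FGal.galAct hS.1 ((pullEquiv Tr L1).trans g) ?_
    intro s hs hsV
    obtain ⟨τ, hτ⟩ := hg _ (hmem s hs) ((pull_act Tr ⟨s, hSN s hs⟩).2 hsV)
    refine ⟨τ, fun a b hab => ?_⟩
    apply hτ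
    change ψ ⟨(b : G), b.2.1⟩ = φ ⟨s, hSN s hs⟩ • ψ ⟨(a : G), a.2.1⟩
    exact (Tr.act ⟨s, hSN s hs⟩ _ _ hab).symm

end Cfsg.Agent.StdL2.FWreath
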