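import Cfsg.Agent.StdL2.Frame

/-!
# S1773: the homomorphism from `N_G(A)` to the Galois group

`IsPar A π`, `F` finite of characteristic two: `fld P : N_G(A) →* (F ≃+* F)`, with kernel `A C_G(A)`.
-/

set_option autoImplicit false
set_option linter.unusedSectionVars false
set_option linter.style.haveILetI false

namespace Cfsg.Agent.StdL2.Field

open Cfsg Subgroup Cfsg.Agent.StdL2.Setup Cfsg.Agent.StdL2.Frame Cfsg.Agent.Lib.SL2Mat

universe u

variable {F : Type*} [Field F]

local notation "SL2" => Matrix.SpecialLinearGroup (Fin 2)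

/-- elements commuting with `up 1` and `lo 1` are trivial in characteristic two -/
theorem eq_one_of_commute [CharP F 2] {z : SL2 F} (h1 : z * up 1 = up 1 * z)
    (h2 : z * lo 1 = lo 1 * z) : z = 1 := by
  have e2 : (2 : F) = 0 := CharTwo.two_eq_zero
  have a00 := congrArg (fun w => ent w 0 0) h1
  have a01 := congrArg (fun w => ent w 0 1) h1
  have b00 := congrArg (fun w => ent w 0 0) h2
  simp only [ent_mul, up_00, up_01, up_10, up_11, lo_00, lo_01, lo_10] at a00 a01 b00
  have hc : ent z 1 0 = 0 := by linear_combination -a00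
  have hb : ent z 0 1 = 0 := by linear_combination b00
  have had : ent z 0 0 = ent z 1 1 := by linear_combination a01
  have hd := det_eq z
  rw [hc, hb, had] at hd
  have h3 : (ent z 1 1 - 1) ^ 2 = 0 := by linear_combination hd - (ent z 1 1 - 1) * e2
  have h4 : ent z 1 1 = 1 := by
    have := pow_eq_zero_iff (two_ne_zero) |>.1 h3
    linear_combination this
  refine ext_ent ?_ ?_ ?_ ?_
  · rw [had, h4]; rfl
  · rw [hb]; rfl
  · rw [hc]; rfl
  · rw [h4]; rfl

theorem fieldAut_up_one (σ : F ≃+* F) : fieldAut σ (up 1) = up 1 := by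
  rw [fieldAut_up, map_one]

theorem fieldAut_lo_one (σ : F ≃+* F) : fieldAut σ (lo 1) = lo 1 := by
  rw [fieldAut_lo, map_one]

theorem fieldAut_mul_apply (σ τ : F ≃+* F) (x : SL2 F) :
    fieldAut (σ * τ) x = fieldAut σ (fieldAut τ x) := rfl

theorem fieldAut_one_apply (x : SL2 F) : fieldAut (1 : F ≃+* F) x = x := rfl

/-- uniqueness of the pair `(y, σ)` -/
theorem unique_aux [CharP F 2] {y y' : SL2 F} {σ σ' : F ≃+* F}
    (h : ∀ x, y * fieldAut σ x * y⁻¹ = y' * fieldAut σ' x * y'⁻¹) : y = y' ∧ σ = σ' := by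
  have key : ∀ x, (y'⁻¹ * y) * fieldAut σ x = fieldAut σ' x * (y'⁻¹ * y) := by
    intro x
    have := h x
    calc (y'⁻¹ * y) * fieldAut σ x = y'⁻¹ * (y * fieldAut σ x * y⁻¹) * y := by group
      _ = _ := by rw [this]; group
  have h1 : y'⁻¹ * y = 1 := by
    apply eq_one_of_commute
    · have := key (up 1)
      rwa [fieldAut_up_one, fieldAut_up_one] at this
    · have := key (lo 1)
      rwa [fieldAut_lo_one, fieldAut_lo_one] at this
  refine ⟨(inv_mul_eq_one.mp h1).symm, ?_⟩
  ext b
  have h2 := key (up b)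
  rw [h1, one_mul, mul_one, fieldAut_up, fieldAut_up] at h2
  exact up_inj h2

variable {G : Type u} [Group G] {A L : Subgroup G} {t : G} {π : SL2 F →* G}

/-- `g` acts on `A` as `y σ` -/
def Acts (π : SL2 F →* G) (g : G) (y : SL2 F) (σ : F ≃+* F) : Prop :=
  ∀ x, g * π x * g⁻¹ = π (y * fieldAut σ x * y⁻¹)

theorem Acts.unique [CharP F 2] (P : IsPar A π) {g : G} {y y' : SL2 F} {σ σ' : F ≃+* F}
    (h : Acts π g y σ) (h' : Acts π g y' σ') : y = y' ∧ σ = σ' := by
  apply unique_aux
  intro x
  apply P.inj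
  rw [← h x, ← h' x]

theorem Acts.mul {g g' : G} {y y' : SL2 F} {σ σ' : F ≃+* F} (h : Acts π g y σ)
    (h' : Acts π g' y' σ') : Acts π (g * g') (y * fieldAut σ y') (σ * σ') := by
  intro x
  calc g * g' * π x * (g * g')⁻¹ = g * (g' * π x * g'⁻¹) * g⁻¹ := by group
    _ = _ := by
      rw [h' x, h, fieldAut_mul_apply]
      congr 1
      rw [map_mul, map_mul, map_inv]
      group

theorem Acts.one : Acts π (1 : G) (1 : SL2 F) (1 : F ≃+* F) := by
  intro x
  rw [fieldAut_one_apply]
  simp

theorem acts_pi (s : SL2 F) : Acts π (π s) s (1 : F ≃+* F) := by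
  intro x
  rw [fieldAut_one_apply, map_mul, map_mul, map_inv]

theorem acts_of_centralizes (P : IsPar A π) {g : G} (hg : g ∈ centralizer (A : Set G)) :
    Acts π g (1 : SL2 F) (1 : F ≃+* F) := by
  intro x
  rw [fieldAut_one_apply, one_mul, inv_one, mul_one]
  have := mem_centralizer_iff.mp hg (π x) (P.mem x)
  rw [← this]; group

theorem Acts.mem_normalizer [Finite G] (P : IsPar A π) {g : G} {y : SL2 F} {σ : F ≃+* F}
    (h : Acts π g y σ) : g ∈ normalizer (A : Set G) := by
  have h1 : ∀ x ∈ A, g * x * g⁻¹ ∈ A := by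
    intro x hx
    obtain ⟨w, rfl⟩ := P.exists_eq hx
    rw [h w]; exact P.mem _
  have h2 : A.map (MulAut.conj g).toMonoidHom ≤ A := by
    rintro _ ⟨x, hx, rfl⟩
    exact h1 x hx
  have h3 : A.map (MulAut.conj g).toMonoidHom = A := by
    apply eq_of_le_of_card_ge h2
    rw [card_map_of_injective (MulAut.conj g).injective]
  rw [mem_normalizer_iff]
  intro x
  constructor
  · exact h1 x
  · intro hx
    rw [← h3] at hx
    obtain ⟨w, hw, hwx⟩ := hx
    have : w = x := by
      have e : g * w * g⁻¹ = g * x * g⁻¹ := hwx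
      exact mul_left_cancel (mul_right_cancel e)
    rw [← this]; exact hw

/-- elements acting as inner automorphisms -/
theorem Acts.inv_mul_mem (P : IsPar A π) {g : G} {y : SL2 F} (h : Acts π g y (1 : F ≃+* F)) :
    (π y)⁻¹ * g ∈ centralizer (A : Set G) := by
  rw [mem_centralizer_iff]
  intro x hx
  obtain ⟨w, rfl⟩ := P.exists_eq hx
  have h1 := h w
  rw [fieldAut_one_apply, map_mul, map_mul, map_inv] at h1
  have h2 : g * π w = π y * π w * (π y)⁻¹ * g := by rw [← h1]; group
  calc π w * ((π y)⁻¹ * g) = (π y)⁻¹ * (π y * π w * (π y)⁻¹ * g) := by group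
    _ = _ := by rw [← h2]; group

section hom

variable [Finite F] [CharP F 2]

/-- the element of `SL₂(F)` of `g ∈ N_G(A)` -/
noncomputable def yy (P : IsPar A π) (g : normalizer (A : Set G)) : SL2 F :=
  (exists_semilinear P g.2).choose

/-- the field automorphism of `g ∈ N_G(A)` -/
noncomputable def sg (P : IsPar A π) (g : normalizer (A : Set G)) : F ≃+* F :=
  (exists_semilinear P g.2).choose_spec.choose

theorem acts_sg (P : IsPar A π) (g : normalizer (A : Set G)) : Acts π (g : G) (yy P g) (sg P g) :=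
  (exists_semilinear P g.2).choose_spec.choose_spec

/-- the homomorphism to the Galois group -/
noncomputable def fld (P : IsPar A π) : normalizer (A : Set G) →* (F ≃+* F) where
  toFun := sg P
  map_one' := ((acts_sg P 1).unique P Acts.one).2
  map_mul' g h := ((acts_sg P (g * h)).unique P ((acts_sg P g).mul (acts_sg P h))).2

theorem fld_eq (P : IsPar A π) {g : G} (hg : g ∈ normalizer (A : Set G)) {y : SL2 F}
    {σ : F ≃+* F} (h : Acts π g y σ) : fld P ⟨g, hg⟩ = σ :=
  ((acts_sg P ⟨g, hg⟩).unique P h).2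

theorem exists_acts (P : IsPar A π) {g : G} (hg : g ∈ normalizer (A : Set G)) :
    ∃ y, Acts π g y (fld P ⟨g, hg⟩) := ⟨_, acts_sg P ⟨g, hg⟩⟩

end hom

end Cfsg.Agent.StdL2.Field
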