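import Cfsg.Agent.StdL2.Field
import Cfsg.Agent.StdL2.FTTower
import Cfsg.Agent.StdL2.FieldStart
import Cfsg.Agent.StdRank2.OutField
import Cfsg.Agent.LieRecognition.FieldSemilinear

/-!
# S1773: from coordinates on `A` to the local structures

`A = π(SL₂(F))`, `|F|` even; `T` a Sylow 2-subgroup of `C(t)` containing the root group `VV π`.
`Base.fld` : the structure `Fld` of `FieldStart`; `Base.tr` : `Tr`; `Base.ftd` : `FTD`; `exists_tor` :
the torus; `Base.tcen` : `TCen`.
-/

set_option autoImplicit false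
set_option linter.unusedSectionVars false
set_option linter.style.haveILetI false
set_option Elab.async false

namespace Cfsg.Agent.StdL2.FrameFT

open Subgroup Cfsg.Agent.StdL2 Cfsg.Agent.StdL2.Frame Cfsg.Agent.StdL2.Field
  Cfsg.Agent.StdL2.FieldStart Cfsg.Agent.StdL2.FT
open Cfsg.Agent.Lib.SL2Mat Cfsg.Agent.Lib.AutSL2 Cfsg.Agent.StdRank2.OutField

local notation "SL2" => Matrix.SpecialLinearGroup (Fin 2)

section mat

variable {F : Type*} [Field F]

theorem ent_of_conj {y : SL2 F} {c c' : F} (hc : c ≠ 0) (h : y * up c * y⁻¹ = up c') :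
    ent y 1 0 = 0 := by
  have h1 : y * up c = up c' * y := by rw [← h]; group
  have h2 := congrArg (fun w => ent w 1 1) h1
  simp only [ent_mul, up_01, up_10, up_11] at h2
  have h3 : ent y 1 0 * c = 0 := by linear_combination h2
  exact (mul_eq_zero.1 h3).resolve_right hc

theorem conj_up {y : SL2 F} (h : ent y 1 0 = 0) (c : F) :
    y * up c * y⁻¹ = up (ent y 0 0 ^ 2 * c) := by
  rw [mul_inv_eq_iff_eq_mul]
  have hd := det_eq y
  rw [h] at hd
  refine ext_ent ?_ ?_ ?_ ?_ <;> simp only [ent_mul, up_00, up_01, up_10, up_11, h]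
  · ring
  · linear_combination -(c * ent y 0 0) * hd
  · ring
  · ring

theorem eq_up {y : SL2 F} (h : ent y 1 0 = 0) (h1 : ent y 0 0 = 1) : y = up (ent y 0 1) := by
  have hd := det_eq y
  rw [h, h1] at hd
  refine ext_ent ?_ ?_ ?_ ?_
  · rw [h1]; rfl
  · rfl
  · rw [h]; rfl
  · rw [up_11]; linear_combination hd

/-- a fixed vector of a semilinear involution -/
theorem exists_fixed [CharP F 2] {σ : F ≃+* F} (h1 : σ ≠ 1) (h2 : σ * σ = 1) {c : F}
    (hc : c * σ c = 1) : ∃ k, k ≠ 0 ∧ c * σ k = k := by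
  by_contra hcon
  push Not at hcon
  have key : ∀ x, c * σ x = x := by
    intro x
    by_contra hx
    have h3 : x + c * σ x ≠ 0 := by
      intro h
      apply hx
      have h4 : x = -(c * σ x) := eq_neg_of_add_eq_zero_left h
      rw [CharTwo.neg_eq] at h4
      exact h4.symm
    apply hcon _ h3
    rw [map_add, map_mul, invol_apply h2]
    linear_combination x * hc
  apply h1
  have hc1 : c = 1 := by
    have := key 1
    rwa [map_one, mul_one] at this
  ext x
  have := key x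
  rwa [hc1, one_mul] at this

end mat

variable {F : Type*} [Field F] {G : Type*} [Group G] {A T : Subgroup G} {t : G}
  {π : SL2 F →* G}

/-- the root group -/
def VV (π : SL2 F →* G) : Subgroup G := (upG F).map π

theorem mem_VV {x : G} : x ∈ VV π ↔ ∃ b, π (up b) = x := by
  constructor
  · rintro ⟨_, ⟨b, rfl⟩, rfl⟩
    exact ⟨b, rfl⟩
  · rintro ⟨b, rfl⟩
    exact ⟨up b, ⟨b, rfl⟩, rfl⟩

theorem up_mem_VV (b : F) : π (up b) ∈ VV π := mem_VV.2 ⟨b, rfl⟩

theorem VV_le (P : IsPar A π) : VV π ≤ A := by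
  rintro _ ⟨x, _, rfl⟩
  exact P.mem x

theorem VV_sq [CharP F 2] : ∀ v ∈ VV π, v * v = 1 := by
  rintro _ ⟨_, ⟨b, rfl⟩, rfl⟩
  rw [← map_mul, up_mul, CharTwo.add_self_eq_zero, up_zero, map_one]

theorem card_VV [Finite F] (P : IsPar A π) : Nat.card (VV π) = Nat.card F := by
  have h1 : Nat.card (VV π) = Nat.card (upG F) :=
    Nat.card_congr ((upG F).equivMapOfInjective _ P.inj).symm.toEquiv
  rw [h1]
  exact Nat.card_congr (Equiv.ofBijective (fun b : F => (⟨up b, b, rfl⟩ : upG F))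
    ⟨fun a b h => up_inj (congrArg Subtype.val h), fun ⟨_, b, hb⟩ => ⟨b, Subtype.ext hb⟩⟩).symm

theorem le_VV [Finite F] [CharP F 2] (P : IsPar A π) {Q : Subgroup G} (hQ : IsPGroup 2 Q)
    (hQA : Q ≤ A) (hVQ : VV π ≤ Q) : Q ≤ VV π := by
  haveI : Fact (Nat.Prime 2) := ⟨Nat.prime_two⟩
  have h1 : Q.comap π = upG F := by
    apply eq_upG_of_le (p := 2) (hQ.comap_of_injective π P.inj)
    intro x hx
    exact hVQ ⟨x, hx, rfl⟩
  intro x hx
  obtain ⟨y, rfl⟩ := P.exists_eq (hQA hx)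
  refine ⟨y, ?_, rfl⟩
  show y ∈ upG F
  rw [← h1]
  exact hx

variable [Finite F] [CharP F 2]

/-- the action on the root group of an element of `N(A)` normalising it -/
theorem sem (P : IsPar A π) {n : G} (hn : n ∈ normalizer (A : Set G))
    (hV : ∀ v ∈ VV π, n * v * n⁻¹ ∈ VV π) :
    ∃ y, Acts π n y (fld P ⟨n, hn⟩) ∧ ent y 1 0 = 0 ∧
      ∀ b, n * π (up b) * n⁻¹ = π (up (ent y 0 0 ^ 2 * fld P ⟨n, hn⟩ b)) := by
  obtain ⟨y, hy⟩ := exists_acts P hn
  have h1 := hy (up 1)
  rw [fieldAut_up_one] at h1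
  obtain ⟨c, hc⟩ := mem_VV.1 (hV _ (up_mem_VV 1))
  rw [h1] at hc
  have h2 : ent y 1 0 = 0 := ent_of_conj one_ne_zero (P.inj hc).symm
  refine ⟨y, hy, h2, fun b => ?_⟩
  rw [hy, fieldAut_up, conj_up h2]

theorem ent_ne (y : SL2 F) (h : ent y 1 0 = 0) : ent y 0 0 ≠ 0 := by
  intro h0
  have hd := det_eq y
  rw [h, h0] at hd
  exact one_ne_zero (by linear_combination -hd)

/-- elements of `N(A)` centralising the root group -/
theorem cent_VV (P : IsPar A π) {n : G} (hn : n ∈ normalizer (A : Set G))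
    (hV : ∀ v ∈ VV π, n * v = v * n) :
    fld P ⟨n, hn⟩ = 1 ∧ ∃ v ∈ VV π, v⁻¹ * n ∈ centralizer (A : Set G) := by
  have hV' : ∀ v ∈ VV π, n * v * n⁻¹ = v := fun v hv => by rw [hV v hv, mul_inv_cancel_right]
  obtain ⟨y, hy, h0, h1⟩ := sem P hn (fun v hv => by rw [hV' v hv]; exact hv)
  have h2 : ∀ b, ent y 0 0 ^ 2 * fld P ⟨n, hn⟩ b = b := by
    intro b
    have h3 := h1 b
    rw [hV' _ (up_mem_VV b)] at h3
    exact (up_inj (P.inj h3)).symm
  have h3 : ent y 0 0 ^ 2 = 1 := by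
    have := h2 1
    rwa [map_one, mul_one] at this
  have h4 : fld P ⟨n, hn⟩ = 1 := by
    ext b
    have := h2 b
    rwa [h3, one_mul] at this
  have h5 : ent y 0 0 = 1 := by
    have h6 : (ent y 0 0 - 1) ^ 2 = 0 := by
      have e2 : (2 : F) = 0 := CharTwo.two_eq_zero
      linear_combination h3 - (ent y 0 0 - 1) * e2
    have := pow_eq_zero_iff (two_ne_zero) |>.1 h6
    linear_combination this
  refine ⟨h4, π y, ?_, ?_⟩
  · rw [eq_up h0 h5]
    exact up_mem_VV _
  · rw [h4] at hy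
    exact hy.inv_mul_mem P

/-- a 2-element of `N(A)` normalising the root group and inducing no field automorphism centralises it -/
theorem cent_of_fld (P : IsPar A π) {n : G} (hn : n ∈ normalizer (A : Set G))
    (hV : ∀ v ∈ VV π, n * v * n⁻¹ ∈ VV π) (h : fld P ⟨n, hn⟩ = 1) {m : ℕ} (hm : n ^ (2 ^ m) = 1) :
    ∀ v ∈ VV π, n * v = v * n := by
  obtain ⟨y, hy, h0, h1⟩ := sem P hn hV
  set c := ent y 0 0 ^ 2 with hc
  have h2 : ∀ b, n * π (up b) * n⁻¹ = π (up (c * b)) := by
    intro b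
    rw [h1 b, h]
    rfl
  have h3 : ∀ (i : ℕ) (b : F), n ^ i * π (up b) * (n ^ i)⁻¹ = π (up (c ^ i * b)) := by
    intro i
    induction i with
    | zero => intro b; simp
    | succ i ih =>
      intro b
      have h4 : n ^ (i + 1) * π (up b) * (n ^ (i + 1))⁻¹ =
          n * (n ^ i * π (up b) * (n ^ i)⁻¹) * n⁻¹ := by
        rw [pow_succ']
        group
      rw [h4, ih, h2, pow_succ']
      congr 2
      ring
  have h4 := h3 (2 ^ m) 1
  rw [hm] at h4
  have h5 : c ^ (2 ^ m) = 1 := by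
    have h6 : π (up (1 : F)) = π (up (c ^ (2 ^ m) * 1)) := by
      rw [← h4]
      group
    have h7 := up_inj (P.inj h6)
    rw [mul_one] at h7
    exact h7.symm
  have h6 : c = 1 := by
    have h7 : ∀ (i : ℕ) (x : F), x ^ (2 ^ i) = 1 → x = 1 := by
      intro i
      induction i with
      | zero => intro x hx; simpa using hx
      | succ i ih =>
        intro x hx
        apply ih
        rw [pow_succ, pow_mul] at hx
        have e2 : (2 : F) = 0 := CharTwo.two_eq_zero
        have h8 : (x ^ 2 ^ i - 1) ^ 2 = 0 := by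
          linear_combination hx - (x ^ 2 ^ i - 1) * e2
        have := pow_eq_zero_iff (two_ne_zero) |>.1 h8
        linear_combination this
    exact h7 m c h5
  rintro _ ⟨_, ⟨b, rfl⟩, rfl⟩
  have h7 := h2 b
  rw [h6, one_mul, mul_inv_eq_iff_eq_mul] at h7
  exact h7

variable [Finite G]

/-- The local data: `A = SL₂(F)`, `t` centralises `A`, `T` a Sylow 2-subgroup of `C(t)`. -/
structure Base (A : Subgroup G) (t : G) (T : Subgroup G) (π : SL2 F →* G) : Prop where
  P : IsPar A π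
  t2 : t * t = 1
  t1 : t ≠ 1
  tA : t ∈ centralizer (A : Set G)
  cle : centralizer ({t} : Set G) ≤ normalizer (A : Set G)
  cyc : ∀ R : Sylow 2 (centralizer (A : Set G)), IsCyclic (R : Subgroup (centralizer (A : Set G)))
  T2 : IsPGroup 2 T
  Tt : ∀ x ∈ T, x * t = t * x
  Tmax : ∀ P : Subgroup G, IsPGroup 2 P → T ≤ P → (∀ x ∈ P, x * t = t * x) → P ≤ T
  VT : VV π ≤ T

namespace Base

theorem nT (B : Base A t T π) {x : G} (hx : x ∈ T) : x ∈ normalizer (A : Set G) :=
  B.cle (mem_centralizer_singleton_iff.2 (B.Tt x hx))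

theorem tT (B : Base A t T π) : t ∈ T := by
  have h1 : IsPGroup 2 (zpowers t) := by
    intro x
    obtain ⟨z, hz⟩ := mem_zpowers_iff.1 x.2
    refine ⟨1, Subtype.ext ?_⟩
    show (x : G) ^ (2 ^ 1) = 1
    rw [← hz, pow_one, pow_two, ← (Commute.refl t).mul_zpow z, B.t2, one_zpow]
  have h2 : zpowers t ≤ normalizer (T : Set G) := by
    rw [zpowers_le]
    apply mem_norm_of_le
    intro x hx
    rw [← B.Tt x hx, mul_inv_cancel_right]
    exact hx
  have h3 : IsPGroup 2 (T ⊔ zpowers t : Subgroup G) := isPGroup_sup B.T2 h1 h2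
  apply B.Tmax _ h3 le_sup_left _ (mem_sup_right (mem_zpowers t))
  have h4 : T ⊔ zpowers t ≤ centralizer ({t} : Set G) := by
    rw [sup_le_iff, zpowers_le]
    exact ⟨fun x hx => mem_centralizer_singleton_iff.2 (B.Tt x hx),
      mem_centralizer_singleton_iff.2 rfl⟩
  intro x hx
  exact mem_centralizer_singleton_iff.1 (h4 hx)

theorem tn (B : Base A t T π) : t ∉ A := by
  intro h
  obtain ⟨y, hy⟩ := B.P.exists_eq h
  have h1 : y = 1 := by
    apply eq_one_of_commute
    · apply B.P.inj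
      rw [map_mul, map_mul, hy]
      exact (mem_centralizer_iff.1 B.tA _ (B.P.mem _)).symm
    · apply B.P.inj
      rw [map_mul, map_mul, hy]
      exact (mem_centralizer_iff.1 B.tA _ (B.P.mem _)).symm
  apply B.t1
  rw [← hy, h1, map_one]

theorem VcA (B : Base A t T π) {x : G} (hx : x ∈ VV π) (hxc : x ∈ centralizer (A : Set G)) :
    x = 1 := by
  obtain ⟨b, rfl⟩ := mem_VV.1 hx
  have h1 : (up b : SL2 F) = 1 := by
    apply eq_one_of_commute
    · apply B.P.inj
      rw [map_mul, map_mul]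
      exact (mem_centralizer_iff.1 hxc _ (B.P.mem _)).symm
    · apply B.P.inj
      rw [map_mul, map_mul]
      exact (mem_centralizer_iff.1 hxc _ (B.P.mem _)).symm
  rw [h1, map_one]

theorem Vn (B : Base A t T π) : ∀ x ∈ T, ∀ v ∈ VV π, x * v * x⁻¹ ∈ VV π := by
  intro x hx v hv
  apply le_VV B.P (Q := T ⊓ A) (B.T2.to_le inf_le_left) inf_le_right
    (le_inf B.VT (VV_le B.P))
  exact ⟨T.mul_mem (T.mul_mem hx (B.VT hv)) (T.inv_mem hx),
    (mem_normalizer_iff.1 (B.nT hx) v).1 (VV_le B.P hv)⟩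

theorem pow_two_pow (B : Base A t T π) {x : G} (hx : x ∈ T) : ∃ m : ℕ, x ^ (2 ^ m) = 1 := by
  obtain ⟨m, hm⟩ := B.T2 ⟨x, hx⟩
  exact ⟨m, congrArg Subtype.val hm⟩

/-- the field part of an element of `T` -/
noncomputable def fl (B : Base A t T π) : T →* (F ≃+* F) :=
  (Field.fld B.P).comp (Subgroup.inclusion (fun _ hx => B.nT hx))

theorem fl_apply (B : Base A t T π) (x : T) : B.fl x = Field.fld B.P ⟨x, B.nT x.2⟩ := rfl

theorem fl_eq_one (B : Base A t T π) (x : T) :
    B.fl x = 1 ↔ ∀ v ∈ VV π, (x : G) * v = v * x := by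
  rw [fl_apply]
  constructor
  · intro h
    obtain ⟨m, hm⟩ := B.pow_two_pow x.2
    exact cent_of_fld B.P (B.nT x.2) (B.Vn x x.2) h hm
  · intro h
    exact (cent_VV B.P (B.nT x.2) h).1

theorem cent (B : Base A t T π) : ∀ x ∈ T, (∀ v ∈ VV π, x * v = v * x) →
    ∃ r ∈ T ⊓ centralizer (A : Set G), ∃ v ∈ VV π, x = r * v := by
  intro x hx hc
  obtain ⟨-, v, hv, h1⟩ := cent_VV B.P (B.nT hx) hc
  refine ⟨v⁻¹ * x, ⟨T.mul_mem (T.inv_mem (B.VT hv)) hx, h1⟩, v, hv, ?_⟩
  rw [mul_assoc, hc v hv, inv_mul_cancel_left]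

/-- the action of an element of `T` of field type -/
theorem act (B : Base A t T π) {x : G} (hx : x ∈ T) (h1 : ∃ v ∈ VV π, x * v ≠ v * x)
    (h2 : ∀ v ∈ VV π, (x * x) * v = v * (x * x)) :
    ∃ (σ : F ≃+* F) (c : F), σ ≠ 1 ∧ σ * σ = 1 ∧ c * σ c = 1 ∧
      ∀ b, x * π (up b) * x⁻¹ = π (up (c * σ b)) := by
  obtain ⟨y, hy, h0, h3⟩ := sem B.P (B.nT hx) (B.Vn x hx)
  refine ⟨B.fl ⟨x, hx⟩, ent y 0 0 ^ 2, ?_, ?_, ?_, h3⟩
  · intro h
    obtain ⟨v, hv, h4⟩ := h1
    exact h4 ((B.fl_eq_one ⟨x, hx⟩).1 h v hv)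
  · rw [← map_mul]
    exact (B.fl_eq_one _).2 h2
  · have h4 : x * (x * π (up 1) * x⁻¹) * x⁻¹ = π (up 1) := by
      have h5 : x * (x * π (up 1) * x⁻¹) * x⁻¹ = (x * x) * π (up 1) * (x * x)⁻¹ := by group
      rw [h5, h2 _ (up_mem_VV 1), mul_inv_cancel_right]
    rw [h3, h3, map_one, mul_one] at h4
    exact up_inj (B.P.inj h4)

/-- **The structure of `FieldStart`.** -/
theorem fld (B : Base A t T π) : Fld t (VV π) (T ⊓ centralizer (A : Set G)) T := by
  refine ⟨B.t2, B.t1, ⟨B.tT, B.tA⟩, ?_, inf_le_left, B.VT, VV_sq, ?_, ?_, B.T2, B.Tt, B.Tmax,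
    B.Vn, B.cent, ?_, ?_⟩
  · -- cyclic
    have h1 : IsPGroup 2 ((T ⊓ centralizer (A : Set G) : Subgroup G).subgroupOf
        (centralizer (A : Set G))) :=
      (B.T2.to_le inf_le_left).comap_of_injective _ (Subgroup.subtype_injective _)
    obtain ⟨S, hS⟩ := h1.exists_le_sylow
    have hc := B.cyc S
    let g : (T ⊓ centralizer (A : Set G) : Subgroup G) →*
        (S : Subgroup (centralizer (A : Set G))) :=
      { toFun := fun x => ⟨⟨x, x.2.2⟩, hS (mem_subgroupOf.2 x.2)⟩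
        map_one' := rfl
        map_mul' := fun x y => rfl }
    have hg : Function.Injective g := by
      intro x y h
      have h2 := congrArg (fun z => ((z : centralizer (A : Set G)) : G)) (congrArg Subtype.val h)
      exact Subtype.ext h2
    exact isCyclic_of_injective g hg
  · rintro r ⟨_, hr⟩ v hv
    exact (mem_centralizer_iff.1 hr v (VV_le B.P hv)).symm
  · rintro x ⟨_, hx⟩ hxV
    exact B.VcA hxV hx
  · -- uniqueness
    intro x hx y hy hx2 hy2 hx1 hy1
    have e1 : B.fl ⟨x, hx⟩ = B.fl ⟨y, hy⟩ := by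
      apply unique_invol
      · rw [← map_mul]
        exact (B.fl_eq_one _).2 hx2
      · rw [← map_mul]
        exact (B.fl_eq_one _).2 hy2
      · intro h
        obtain ⟨v, hv, h4⟩ := hx1
        exact h4 ((B.fl_eq_one ⟨x, hx⟩).1 h v hv)
      · intro h
        obtain ⟨v, hv, h4⟩ := hy1
        exact h4 ((B.fl_eq_one ⟨y, hy⟩).1 h v hv)
    have e2 : B.fl (⟨x, hx⟩⁻¹ * ⟨y, hy⟩) = 1 := by
      rw [map_mul, map_inv, e1, inv_mul_cancel]
    exact (B.fl_eq_one _).1 e2
  · -- fixed points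
    intro x hx hx1 hx2
    obtain ⟨σ, c, hσ1, hσ2, hc, hact⟩ := B.act hx hx1 hx2
    obtain ⟨k, hk0, hk⟩ := exists_fixed hσ1 hσ2 hc
    have hc0 : c ≠ 0 := by
      rintro rfl
      rw [zero_mul] at hc
      exact zero_ne_one hc
    have h1 : Nat.card (VV π ⊓ centralizer ({x} : Set G) : Subgroup G) =
        Nat.card {b : F // σ b = b} := by
      refine (Nat.card_congr (Equiv.ofBijective (fun b : {b : F // σ b = b} =>
        (⟨π (up (k * b)), up_mem_VV _, ?_⟩ : (VV π ⊓ centralizer ({x} : Set G) : Subgroup G)))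
        ⟨?_, ?_⟩)).symm
      · show π (up (k * b)) ∈ centralizer ({x} : Set G)
        rw [mem_centralizer_singleton_iff]
        have h2 := hact (k * b)
        rw [map_mul, b.2, ← mul_assoc, hk, mul_inv_eq_iff_eq_mul] at h2
        exact h2.symm
      · intro a b h
        have h2 := up_inj (B.P.inj (congrArg Subtype.val h))
        exact Subtype.ext (mul_left_cancel₀ hk0 h2)
      · rintro ⟨y, hyV, hyc⟩
        obtain ⟨b, rfl⟩ := mem_VV.1 hyV
        have h2 := mem_centralizer_singleton_iff.1 hyc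
        have h3 : c * σ b = b := by
          have h4 := hact b
          rw [← h2, mul_inv_cancel_right] at h4
          exact (up_inj (B.P.inj h4)).symm
        have h4 : σ (k⁻¹ * b) = k⁻¹ * b := by
          rw [map_mul, map_inv₀]
          have h5 : σ k ≠ 0 := fun h => hk0 (by rwa [map_eq_zero] at h)
          field_simp
          apply mul_left_cancel₀ hc0
          linear_combination k * h3 - b * hk
        refine ⟨⟨k⁻¹ * b, h4⟩, Subtype.ext ?_⟩
        show π (up (k * (k⁻¹ * b))) = π (up b)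
        rw [mul_inv_cancel_left₀ hk0]
    rw [h1, card_VV B.P, pow_two]
    exact card_fix hσ2 hσ1

end Base

end Cfsg.Agent.StdL2.FrameFT
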