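import Cfsg.Agent.StdL2.FrameFT

/-!
# S1773: torus, `FTD`, `TCen` and the assembled case of field automorphisms
-/

set_option autoImplicit false
set_option linter.unusedSectionVars false
set_option linter.style.haveILetI false
set_option Elab.async false

namespace Cfsg.Agent.StdL2.FrameFT

open Subgroup Cfsg.Agent.StdL2 Cfsg.Agent.StdL2.Frame Cfsg.Agent.StdL2.Field
  Cfsg.Agent.StdL2.FieldStart Cfsg.Agent.StdL2.FT
open Cfsg.Agent.Lib.SL2Mat Cfsg.Agent.Lib.AutSL2 Cfsg.Agent.StdRank2.OutField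
open Cfsg.Agent.Lib.GoldschmidtFusion (exists_conj_le_in lt_inf_normalizer exists_sylow_in)

local notation "SL2" => Matrix.SpecialLinearGroup (Fin 2)

variable {F : Type*} [Field F] {G : Type*} [Group G] {A T : Subgroup G} {t : G}
  {π : SL2 F →* G}

/-- the torus acts on the root group -/
theorem dg_conj (s : F) (hs : s ≠ 0) (b : F) :
    π (dg s hs) * π (up b) * (π (dg s hs))⁻¹ = π (up (s ^ 2 * b)) := by
  rw [mul_inv_eq_iff_eq_mul, ← map_mul, ← map_mul, dg_up]

theorem card_aut_lt [Finite F] [CharP F 2] (h : 16 ≤ Nat.card F) :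
    2 * Nat.card (F ≃+* F) < Nat.card F := by
  have : Fact (Nat.Prime 2) := ⟨Nat.prime_two⟩
  letI : Algebra (ZMod 2) F := ZMod.algebra F 2
  have hinj : Function.Injective (toGal (F := F) 2) := by
    intro a b h
    ext x
    exact congrArg (fun f : F ≃ₐ[ZMod 2] F => f x) h
  have h1 := Nat.card_le_card_of_injective _ hinj
  have h2 : Nat.card (F ≃ₐ[ZMod 2] F) ≤ Module.finrank (ZMod 2) F := by
    rw [Nat.card_eq_fintype_card]
    exact AlgEquiv.card_le
  have h3 : Nat.card F = 2 ^ Module.finrank (ZMod 2) F := by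
    have := Module.natCard_eq_pow_finrank (K := ZMod 2) (V := F)
    rwa [Nat.card_zmod] at this
  have h4 : ∀ n : ℕ, 3 ≤ n → 2 * n < 2 ^ n := by
    intro n hn
    induction n, hn using Nat.le_induction with
    | base => norm_num
    | succ n hn ih => rw [pow_succ]; omega
  have h5 : 3 ≤ Module.finrank (ZMod 2) F := by
    by_contra h6
    have h7 : Module.finrank (ZMod 2) F ≤ 2 := by omega
    have h8 : 2 ^ Module.finrank (ZMod 2) F ≤ 2 ^ 2 := Nat.pow_le_pow_right (by norm_num) h7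
    omega
  have h6 := h4 _ h5
  omega

variable [Finite F] [CharP F 2] [Finite G]

/-- the normal subgroup `A C(A)` of `N(A)` -/
noncomputable def C0 (P : IsPar A π) : Subgroup G :=
  (Field.fld P).ker.map (normalizer (A : Set G)).subtype

theorem mem_C0 (P : IsPar A π) {x : G} :
    x ∈ C0 P ↔ ∃ hx : x ∈ normalizer (A : Set G), Field.fld P ⟨x, hx⟩ = 1 := by
  constructor
  · rintro ⟨⟨y, hy⟩, h, rfl⟩
    exact ⟨hy, h⟩
  · rintro ⟨hx, h⟩
    exact ⟨⟨x, hx⟩, h, rfl⟩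

namespace Base

theorem tr (B : Base A t T π) : Fld.Tr B.fld := by
  constructor
  · intro v hv hv1 w hw hw1
    obtain ⟨b, rfl⟩ := mem_VV.1 hv
    obtain ⟨c, rfl⟩ := mem_VV.1 hw
    have hb : b ≠ 0 := by
      rintro rfl
      exact hv1 (by rw [up_zero, map_one])
    have hc : c ≠ 0 := by
      rintro rfl
      exact hw1 (by rw [up_zero, map_one])
    obtain ⟨s, hs⟩ := exists_sqrt (c / b)
    have hs0 : s ≠ 0 := by
      rintro rfl
      rw [mul_zero] at hs
      exact div_ne_zero hc hb hs.symm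
    refine ⟨π (dg s hs0), (mem_centralizer_iff.1 B.tA _ (B.P.mem _)), ?_, ?_⟩
    · rw [dg_conj, pow_two, hs, div_mul_cancel₀ c hb]
    · intro u hu
      obtain ⟨e, rfl⟩ := mem_VV.1 hu
      rw [dg_conj]
      exact up_mem_VV _
  · intro n hn hE v hv
    have hnA : n ∈ normalizer (A : Set G) := B.cle (mem_centralizer_singleton_iff.2 hn)
    have h1 : n * v * n⁻¹ ∈ A := (mem_normalizer_iff.1 hnA v).1 (VV_le B.P hv)
    rcases hE v (Or.inl hv) with h | h
    · exact h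
    · exfalso
      apply B.tn
      have h2 : t = (t * (n * v * n⁻¹)) * (n * v * n⁻¹)⁻¹ := by group
      rw [h2]
      exact mul_mem (VV_le B.P h) (inv_mem h1)

/-- **The torus.** -/
theorem exists_tor (B : Base A t T π) : ∃ d ∈ A, Tor t (VV π) d := by
  obtain ⟨g, hg⟩ := IsCyclic.exists_generator (α := Fˣ)
  have hpow : ∀ x : F, x ≠ 0 → ∃ n : ℕ, (g : F) ^ n = x := by
    intro x hx
    have h1 : Units.mk0 x hx ∈ Submonoid.powers g := by
      rw [mem_powers_iff_mem_zpowers]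
      exact hg _
    obtain ⟨n, hn⟩ := h1
    refine ⟨n, ?_⟩
    have h2 := congrArg (fun z : Fˣ => (z : F)) hn
    simpa using h2
  obtain ⟨s, hs⟩ := exists_sqrt (g : F)
  have hs0 : s ≠ 0 := by
    rintro rfl
    rw [mul_zero] at hs
    exact g.ne_zero hs.symm
  have hact : ∀ b, π (dg s hs0) * π (up b) * (π (dg s hs0))⁻¹ = π (up ((g : F) * b)) := by
    intro b
    rw [dg_conj, pow_two, hs]
  have hactn : ∀ (n : ℕ) (b : F), π (dg s hs0) ^ n * π (up b) * (π (dg s hs0) ^ n)⁻¹ =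
      π (up ((g : F) ^ n * b)) := by
    intro n
    induction n with
    | zero => intro b; simp
    | succ n ih =>
      intro b
      have h4 : π (dg s hs0) ^ (n + 1) * π (up b) * (π (dg s hs0) ^ (n + 1))⁻¹ =
          π (dg s hs0) * (π (dg s hs0) ^ n * π (up b) * (π (dg s hs0) ^ n)⁻¹) *
            (π (dg s hs0))⁻¹ := by
        rw [pow_succ']
        group
      rw [h4, ih, hact, pow_succ']
      congr 2
      ring
  refine ⟨π (dg s hs0), B.P.mem _, (mem_centralizer_iff.1 B.tA _ (B.P.mem _)), ?_, ?_, ?_⟩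
  · intro v hv
    obtain ⟨b, rfl⟩ := mem_VV.1 hv
    rw [hact]
    exact up_mem_VV _
  · intro v hv w hw hv1 hw1
    obtain ⟨b, rfl⟩ := mem_VV.1 hv
    obtain ⟨c, rfl⟩ := mem_VV.1 hw
    have hb : b ≠ 0 := by
      rintro rfl
      exact hv1 (by rw [up_zero, map_one])
    have hc : c ≠ 0 := by
      rintro rfl
      exact hw1 (by rw [up_zero, map_one])
    obtain ⟨n, hn⟩ := hpow (c / b) (div_ne_zero hc hb)
    exact ⟨n, by rw [hactn, hn, div_mul_cancel₀ c hb]⟩
  · intro n hn hnV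
    have hnA : n ∈ normalizer (A : Set G) := B.cle (mem_centralizer_singleton_iff.2 hn)
    obtain ⟨y, hy, h0, h1⟩ := sem B.P hnA hnV
    set σ := Field.fld B.P ⟨n, hnA⟩ with hσ
    set c := ent y 0 0 ^ 2 with hc
    have hc0 : c ≠ 0 := pow_ne_zero 2 (ent_ne y h0)
    have hσg : σ (g : F) ≠ 0 := fun h => g.ne_zero (by rwa [map_eq_zero] at h)
    obtain ⟨m, hm⟩ := hpow (σ g) hσg
    refine ⟨m, ?_⟩
    intro v hv
    obtain ⟨b, rfl⟩ := mem_VV.1 hv
    rw [hactn, hm]
    have h2 : n⁻¹ * π (up b) * n = π (up (σ.symm (c⁻¹ * b))) := by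
      have h3 := h1 (σ.symm (c⁻¹ * b))
      rw [RingEquiv.apply_symm_apply, mul_inv_cancel_left₀ hc0] at h3
      rw [← h3]
      group
    have h3 : n * π (dg s hs0) * n⁻¹ * π (up b) * (n * π (dg s hs0) * n⁻¹)⁻¹ =
        n * (π (dg s hs0) * (n⁻¹ * π (up b) * n) * (π (dg s hs0))⁻¹) * n⁻¹ := by
      group
    rw [h3, h2, hact, h1, map_mul, RingEquiv.apply_symm_apply]
    congr 2
    field_simp

/-- elements of `T` inducing no field automorphism -/
theorem mem_E (B : Base A t T π) (hR : ∀ x ∈ T, x ∈ centralizer (A : Set G) → x = 1 ∨ x = t)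
    {x : G} (hx : x ∈ T) (hc : ∀ v ∈ VV π, x * v = v * x) : x ∈ VV π ∨ t * x ∈ VV π := by
  obtain ⟨r, ⟨hrT, hrA⟩, v, hv, rfl⟩ := B.cent x hx hc
  rcases hR r hrT hrA with rfl | rfl
  · left
    rwa [one_mul]
  · right
    rw [← mul_assoc, B.t2, one_mul]
    exact hv

theorem Vcomm (B : Base A t T π) {v w : G} (hv : v ∈ VV π) (hw : w ∈ VV π) : v * w = w * v :=
  vcomm_of_vsq VV_sq hv hw

theorem tV (B : Base A t T π) {v : G} (hv : v ∈ VV π) : t * v = v * t :=
  (mem_centralizer_iff.1 B.tA v (VV_le B.P hv)).symm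

theorem cent_of_E (B : Base A t T π) {x : G} (hx : x ∈ VV π ∨ t * x ∈ VV π) :
    ∀ v ∈ VV π, x * v = v * x := by
  intro v hv
  rcases hx with h | h
  · exact B.Vcomm h hv
  · have h1 : x = t * (t * x) := by rw [← mul_assoc, B.t2, one_mul]
    rw [h1, mul_assoc t, B.Vcomm h hv, ← mul_assoc, B.tV hv, mul_assoc]

/-- **`FTD`** when `C_T(A) = ⟨t⟩`. -/
theorem ftd (B : Base A t T π) (h16 : 16 ≤ Nat.card F)
    (hR : ∀ x ∈ T, x ∈ centralizer (A : Set G) → x = 1 ∨ x = t) :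
    FTD t (VV π) T (C0 B.P) := by
  have hTC : T ≤ centralizer ({t} : Set G) := fun x hx =>
    mem_centralizer_singleton_iff.2 (B.Tt x hx)
  have htV : t ∉ VV π := fun h => B.tn (VV_le B.P h)
  have hfl : ∀ x : T, B.fl x = 1 ↔ ((x : G) ∈ VV π ∨ t * (x : G) ∈ VV π) := by
    intro x
    rw [B.fl_eq_one]
    exact ⟨fun h => B.mem_E hR x.2 h, fun h => B.cent_of_E h⟩
  refine ⟨B.t2, htV, VV_sq, B.T2, B.tT, B.VT, B.Tt, B.Vn, fun s hs h => B.mem_E hR hs h, ?_, ?_,
    ?_, by rw [card_VV B.P]; exact h16, ?_, ?_, ?_, ?_⟩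
  · -- Sylow
    obtain ⟨R, hTR, hRC, hR2, hodd⟩ := exists_sylow_in (p := 2) hTC B.T2
    have h1 : R = T := le_antisymm (B.Tmax R hR2 hTR
      (fun x hx => mem_centralizer_singleton_iff.1 (hRC hx))) hTR
    rw [← h1]
    exact hodd
  · -- cyclic
    have hcyc : IsCyclic (F ≃+* F) := Cfsg.Agent.StdRank2.OutField.isCyclic
    have hfin : Finite (F ≃+* F) := finite_aut
    have hc : IsCyclic B.fl.range := inferInstance
    obtain ⟨⟨_, φ, rfl⟩, hg⟩ := IsCyclic.exists_generator (α := B.fl.range)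
    refine ⟨φ, φ.2, fun s hs => ?_⟩
    have h1 : (⟨B.fl ⟨s, hs⟩, ⟨s, hs⟩, rfl⟩ : B.fl.range) ∈
        Submonoid.powers (⟨B.fl φ, φ, rfl⟩ : B.fl.range) := by
      rw [mem_powers_iff_mem_zpowers]
      exact hg _
    obtain ⟨n, hn⟩ := h1
    refine ⟨n, ?_⟩
    have h2 : B.fl φ ^ n = B.fl ⟨s, hs⟩ := congrArg Subtype.val hn
    have h3 : B.fl ((φ ^ n)⁻¹ * ⟨s, hs⟩) = 1 := by
      rw [map_mul, map_inv, map_pow, h2, inv_mul_cancel]
    exact (hfl _).1 h3
  · -- free
    intro s hs h1 h2 h3 v hv hsv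
    have h4 : ∃ v ∈ VV π, s * v ≠ v * s := by
      by_contra hcon
      push Not at hcon
      rcases B.mem_E hR hs hcon with h | h
      · exact h1 h
      · exact h2 h
    obtain ⟨σ, c, hσ1, hσ2, hc, hact⟩ := B.act hs h4 (B.cent_of_E h3)
    obtain ⟨k, hk0, hk⟩ := exists_fixed hσ1 hσ2 hc
    have hc0 : c ≠ 0 := by
      rintro rfl
      rw [zero_mul] at hc
      exact zero_ne_one hc
    obtain ⟨b, rfl⟩ := mem_VV.1 hv
    have h5 : c * σ b = b := by
      rw [hact b] at hsv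
      exact up_inj (B.P.inj hsv)
    have h6 : σ (k⁻¹ * b) = k⁻¹ * b := by
      rw [map_mul, map_inv₀]
      have h9 : σ k ≠ 0 := fun h => hk0 (by rwa [map_eq_zero] at h)
      field_simp
      apply mul_left_cancel₀ hc0
      linear_combination k * h5 - b * hk
    obtain ⟨r, hr⟩ := exists_trace hσ2 hσ1 h6
    refine ⟨π (up (k * r)), up_mem_VV _, ?_⟩
    rw [hact, ← map_mul, up_mul]
    congr 2
    have h7 : b = k * (r + σ r) := by rw [hr, mul_inv_cancel_left₀ hk0]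
    rw [map_mul, ← mul_assoc, hk]
    linear_combination h7
  · -- size
    have h1 := B.fl.ker.card_eq_card_quotient_mul_card_subgroup
    have h2 : Nat.card (T ⧸ B.fl.ker) = Nat.card B.fl.range :=
      Nat.card_congr (QuotientGroup.quotientKerEquivRange B.fl).toEquiv
    have hfin : Finite (F ≃+* F) := finite_aut
    have h3 : Nat.card B.fl.range ≤ Nat.card (F ≃+* F) := Subgroup.card_le_card_group _
    have h4 : Nat.card B.fl.ker ≤ 2 * Nat.card (VV π) := by
      refine le_trans ?_ (B.fld.card_E).1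
      apply Nat.card_le_card_of_injective
        (fun x : B.fl.ker => (⟨((x : T) : G), (hfl x).1 (MonoidHom.mem_ker.1 x.2)⟩ : B.fld.E))
      intro x y h
      exact Subtype.ext (Subtype.ext (congrArg (fun z : B.fld.E => (z : G)) h))
    have h5 := card_aut_lt h16
    rw [h1, h2]
    have h6 : Nat.card (VV π) = Nat.card F := card_VV B.P
    rw [h6] at h4 ⊢
    have h7 : 0 < Nat.card F := by omega
    calc Nat.card B.fl.range * Nat.card B.fl.ker
        ≤ Nat.card (F ≃+* F) * (2 * Nat.card F) := Nat.mul_le_mul h3 h4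
      _ = (2 * Nat.card (F ≃+* F)) * Nat.card F := by ring
      _ < Nat.card F * Nat.card F := Nat.mul_lt_mul_of_pos_right h5 h7
      _ = Nat.card F ^ 2 := by ring
  · -- normal
    intro c hc x hx
    obtain ⟨hxA, hx1⟩ := (mem_C0 B.P).1 hx
    have hcA : c ∈ normalizer (A : Set G) := B.cle (mem_centralizer_singleton_iff.2 hc)
    refine (mem_C0 B.P).2 ⟨mul_mem (mul_mem hcA hxA) (inv_mem hcA), ?_⟩
    have h1 : (⟨c * x * c⁻¹, mul_mem (mul_mem hcA hxA) (inv_mem hcA)⟩ :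
        normalizer (A : Set G)) = ⟨c, hcA⟩ * ⟨x, hxA⟩ * ⟨c, hcA⟩⁻¹ := rfl
    rw [h1, map_mul, map_mul, map_inv, hx1, mul_one, mul_inv_cancel]
  · intro s hs hsC
    obtain ⟨hsA, hs1⟩ := (mem_C0 B.P).1 hsC
    exact (hfl ⟨s, hs⟩).1 hs1
  · intro s hs
    have hsT : s ∈ T := by
      rcases hs with h | h
      · exact B.VT h
      · have h1 : s = t * (t * s) := by rw [← mul_assoc, B.t2, one_mul]
        rw [h1]
        exact mul_mem B.tT (B.VT h)
    exact (mem_C0 B.P).2 ⟨B.nT hsT, (hfl ⟨s, hsT⟩).2 hs⟩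

/-- **`TCen`** when `T` centralises the root group and `C_T(A) = ⟨t⟩`. -/
theorem tcen (B : Base A t T π)
    (hR : ∀ x ∈ T, x ∈ centralizer (A : Set G) → x = 1 ∨ x = t)
    (hc : ∀ x ∈ T, ∀ v ∈ VV π, x * v = v * x) : TCen t (VV π) := by
  refine ⟨B.t2, fun h => B.tn (VV_le B.P h), VV_sq, fun v hv => B.tV hv, ?_⟩
  intro P hP hPt hVP htP x hx
  have hTP : T ≤ P := by
    intro y hy
    rcases B.mem_E hR hy (hc y hy) with h | h
    · exact hVP h
    · have h1 : y = t * (t * y) := by rw [← mul_assoc, B.t2, one_mul]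
      rw [h1]
      exact mul_mem htP (hVP h)
  have hxT := B.Tmax P hP hTP (fun y hy => (hPt y hy).symm) hx
  exact B.mem_E hR hxT (hc x hxT)

/-- an element of field type with centralising square -/
theorem exists_witness (B : Base A t T π) (hw : ∃ w ∈ T, ∃ v ∈ VV π, w * v ≠ v * w) :
    ∃ w ∈ T, (∃ v ∈ VV π, w * v ≠ v * w) ∧ ∀ v ∈ VV π, (w * w) * v = v * (w * w) := by
  classical
  obtain ⟨w, hwT, hw1⟩ := hw
  have h1 : ∃ n : ℕ, ∀ v ∈ VV π, w ^ (2 ^ n) * v = v * w ^ (2 ^ n) := by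
    obtain ⟨m, hm⟩ := B.pow_two_pow hwT
    refine ⟨m, fun v _ => ?_⟩
    rw [hm, one_mul, mul_one]
  have h3 := Nat.find_spec h1
  have h4 : Nat.find h1 ≠ 0 := by
    intro h
    rw [h, pow_zero, pow_one] at h3
    obtain ⟨v, hv, h5⟩ := hw1
    exact h5 (h3 v hv)
  obtain ⟨m, hm⟩ : ∃ m, Nat.find h1 = m + 1 := ⟨Nat.find h1 - 1, by omega⟩
  refine ⟨w ^ (2 ^ m), pow_mem hwT _, ?_, ?_⟩
  · have h5 := Nat.find_min h1 (show m < Nat.find h1 by omega)
    push Not at h5
    exact h5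
  · rw [hm, pow_succ, pow_mul, pow_two] at h3
    exact h3

/-- **The case of field automorphisms**, assembled: `FieldStart` and the tower. -/
theorem field_case (B : Base A t T π) (h16 : 16 ≤ Nat.card F)
    (hw : ∃ w ∈ T, ∃ v ∈ VV π, w * v ≠ v * w)
    (hZ : ∃ g : G, g * t * g⁻¹ ≠ t ∧ (g * t * g⁻¹) * t = t * (g * t * g⁻¹))
    (gen : commutator G ⊔ zpowers t = ⊤) :
    (∀ x ∈ T, x ∈ centralizer (A : Set G) → x = 1 ∨ x = t) ∧
      FTD t (VV π) T (C0 B.P) ∧ ∃ d ∈ A, Tor t (VV π) d ∧ ∃ U, FOut t (VV π) T d U := by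
  obtain ⟨w, hwT, ⟨v0, hv0, hwv⟩, hw2⟩ := B.exists_witness hw
  obtain ⟨-, hR, -, htr, hnV, -⟩ := Fld.main B.tr (by rw [card_VV B.P]; exact h16) hwT hv0 hwv
    (hw2 v0 hv0) hZ
  have hR' : ∀ x ∈ T, x ∈ centralizer (A : Set G) → x = 1 ∨ x = t := by
    intro x hx hxA
    have h1 : x ∈ zpowers t := by
      rw [← hR]
      exact mem_inf.2 ⟨hx, hxA⟩
    obtain ⟨n, hn⟩ := mem_zpowers_iff.1 h1
    rcases Int.even_or_odd' n with ⟨m, hm | hm⟩
    · left
      rw [← hn, hm, zpow_mul, zpow_two, B.t2, one_zpow]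
    · right
      rw [← hn, hm, zpow_add, zpow_mul, zpow_two, B.t2, one_zpow, one_mul, zpow_one]
  have H := B.ftd h16 hR'
  obtain ⟨d, hdA, hd⟩ := B.exists_tor
  refine ⟨hR', H, d, hdA, hd, ?_⟩
  apply ftower H hd _ gen
  · refine ⟨w, hwT, ?_, ?_⟩
    · intro h
      exact hwv (B.Vcomm h hv0)
    · intro h
      exact hwv (B.cent_of_E (Or.inr h) v0 hv0)
  · intro v hv
    obtain ⟨n, hn, h1⟩ := htr v hv
    exact ⟨n, hnV n hn, h1⟩

end Base

end Cfsg.Agent.StdL2.FrameFT
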