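import Cfsg.Agent.StdL2.FrameConf
import Cfsg.Agent.StdL2.TowerFinal
import Cfsg.Agent.TwoFusion.SLTwoFacts

/-!
# S1773: the case without field automorphisms of even order

`zero_case`: if the Sylow 2-subgroup `T` of `C(t)` centralises the root group `V` of `A`, then the
conclusion of S1773 holds or the exceptional case `Exc` of the tower (`q = 8`) occurs.
-/

set_option autoImplicit false
set_option linter.unusedSectionVars false
set_option linter.style.haveILetI false
set_option Elab.async false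

namespace Cfsg.Agent.StdL2.FrameFT

open scoped commutatorElement

open Cfsg Subgroup Cfsg.Agent.StdL2 Cfsg.Agent.StdL2.Setup Cfsg.Agent.StdL2.Frame
  Cfsg.Agent.StdL2.Field Cfsg.Agent.StdL2.FieldStart Cfsg.Agent.StdL2.FT Cfsg.Agent.StdL2.Assemble
open Cfsg.Agent.Lib.SL2Mat Cfsg.Agent.Lib.AutSL2
open Cfsg.Agent.Lib.GoldschmidtFusion (lt_inf_normalizer)

local notation "SL2" => Matrix.SpecialLinearGroup (Fin 2)

universe u

variable {F : Type*} [Field F] [Fintype F] [CharP F 2] {G : Type u} [Group G] [Finite G]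
  {L A T : Subgroup G} {t : G} {π : SL2 F →* G}

/-- an element of `C_T(A)` of order at least four has a power whose square is `t` -/
theorem exists_root (C : Conf L A t) (B : Base A t T π) {r : G} (hr : r ∈ T)
    (hrA : r ∈ centralizer (A : Set G)) (h1 : r ≠ 1) (ht : r ≠ t) :
    ∃ s ∈ T, s ∈ centralizer (A : Set G) ∧ s * s = t := by
  classical
  have hex : ∃ n : ℕ, r ^ (2 ^ n) = 1 := B.pow_two_pow hr
  have h2 := Nat.find_spec hex
  have h3 : Nat.find hex ≠ 0 := by
    intro h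
    rw [h, pow_zero, pow_one] at h2
    exact h1 h2
  obtain ⟨m, hm⟩ : ∃ m, Nat.find hex = m + 1 := ⟨Nat.find hex - 1, by omega⟩
  have h4 : r ^ (2 ^ m) ≠ 1 := Nat.find_min hex (by omega)
  have h5 : r ^ (2 ^ m) = t := by
    apply involution_eq C (pow_mem hrA _)
    · exact B.Tt _ (pow_mem hr _)
    · rw [← pow_two, ← pow_mul, ← pow_succ, ← hm]
      exact h2
    · exact h4
  cases m with
  | zero =>
    exfalso
    rw [pow_zero, pow_one] at h5
    exact ht h5
  | succ m =>
    refine ⟨r ^ (2 ^ m), pow_mem hr _, pow_mem hrA _, ?_⟩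
    rw [← pow_two, ← pow_mul, ← pow_succ]
    exact h5

/-- `C_T(A) = ⟨t⟩` if `T` centralises the root group. -/
theorem R_eq (C : Conf L A t) (B : Base A t T π) (hc : ∀ x ∈ T, ∀ v ∈ VV π, x * v = v * x) :
    ∀ x ∈ T, x ∈ centralizer (A : Set G) → x = 1 ∨ x = t := by
  intro r hr hrA
  by_contra hcon
  push Not at hcon
  obtain ⟨s, hsT, hsA, hst⟩ := exists_root C B hr hrA hcon.1 hcon.2
  have hfld := B.fld
  -- `T` is commutative
  have hRc : ∀ x ∈ T ⊓ centralizer (A : Set G), ∀ y ∈ T ⊓ centralizer (A : Set G),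
      x * y = y * x := by
    have hcy := hfld.Rcyc
    intro x hx y hy
    have hg : ∀ a b : (T ⊓ centralizer (A : Set G) : Subgroup G), a * b = b * a := by
      intro a b
      exact (IsCyclic.commGroup (α := (T ⊓ centralizer (A : Set G) : Subgroup G))).mul_comm a b
    exact congrArg Subtype.val (hg ⟨x, hx⟩ ⟨y, hy⟩)
  have hTc : ∀ x ∈ T, ∀ y ∈ T, x * y = y * x := by
    intro x hx y hy
    obtain ⟨a, ha, v, hv, rfl⟩ := B.cent x hx (hc x hx)
    obtain ⟨b, hb, w, hw, rfl⟩ := B.cent y hy (hc y hy)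
    have e1 : v * b = b * v := (hc b hb.1 v hv).symm
    have e2 : w * a = a * w := (hc a ha.1 w hw).symm
    have e3 : a * b = b * a := hRc a ha b hb
    have e4 : v * w = w * v := B.Vcomm hv hw
    calc a * v * (b * w) = a * (v * b) * w := by group
      _ = (a * b) * (v * w) := by rw [e1]; group
      _ = b * (a * w) * v := by rw [e3, e4]; group
      _ = b * w * (a * v) := by rw [← e2]; group
  -- the normaliser of `T` centralises `t`
  have hN : ∀ n ∈ normalizer (T : Set G), n * t = t * n := by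
    intro n hn
    have h1 : n * s * n⁻¹ ∈ T := (mem_normalizer_iff.1 hn s).1 hsT
    obtain ⟨a, ha, v, hv, h2⟩ := B.cent _ h1 (hc _ h1)
    have h3 : n * t * n⁻¹ = a * a := by
      have e1 : n * t * n⁻¹ = (n * s * n⁻¹) * (n * s * n⁻¹) := by
        rw [← hst]; group
      have e2 : v * a = a * v := (hc a ha.1 v hv).symm
      rw [e1, h2]
      calc a * v * (a * v) = a * (v * a) * v := by group
        _ = (a * a) * (v * v) := by rw [e2]; group
        _ = a * a := by rw [VV_sq v hv, mul_one]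
    have h4 : n * t * n⁻¹ = t := by
      apply involution_eq C
      · rw [h3]
        exact mul_mem ha.2 ha.2
      · rw [h3]
        exact B.Tt _ (mul_mem ha.1 ha.1)
      · have : n * t * n⁻¹ * (n * t * n⁻¹) = n * (t * t) * n⁻¹ := by group
        rw [this, B.t2]; group
      · intro h
        rw [mul_inv_eq_one, mul_eq_left] at h
        exact B.t1 h
    rwa [mul_inv_eq_iff_eq_mul] at h4
  -- `T` is a Sylow 2-subgroup of `G`
  obtain ⟨S, hTS⟩ := B.T2.exists_le_sylow
  have hTeq : T = (S : Subgroup G) := by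
    by_contra hne
    have hlt : T < (S : Subgroup G) := lt_of_le_of_ne hTS hne
    obtain ⟨y, hy, hyT⟩ := SetLike.exists_of_lt (lt_inf_normalizer S.isPGroup' hlt)
    have hyt := hN y hy.2
    have hP : IsPGroup 2 (T ⊔ zpowers y : Subgroup G) :=
      S.isPGroup'.to_le (sup_le hTS (by rw [zpowers_le]; exact hy.1))
    apply hyT
    apply B.Tmax _ hP le_sup_left _ (mem_sup_right (mem_zpowers y))
    have h4 : T ⊔ zpowers y ≤ centralizer ({t} : Set G) := by
      rw [sup_le_iff, zpowers_le]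
      exact ⟨fun x hx => mem_centralizer_singleton_iff.2 (B.Tt x hx),
        mem_centralizer_singleton_iff.2 hyt⟩
    intro x hx
    exact mem_centralizer_singleton_iff.1 (h4 hx)
  have htS : t ∈ (S : Subgroup G) := hTeq ▸ B.tT
  obtain ⟨g, hg1, hg2⟩ := EndOne.exists_conj C (even_L C B.P) S htS
  have hcomm : IsMulCommutative (S : Subgroup G) :=
    ⟨⟨fun a b => Subtype.ext (hTc a (hTeq ▸ a.2) b (hTeq ▸ b.2))⟩⟩
  haveI : Fact (Nat.Prime 2) := ⟨Nat.prime_two⟩
  obtain ⟨n, hn, h⟩ := S.conj_eq_normalizer_conj_of_mem t g⁻¹ htS (by rw [inv_inv]; exact hg1)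
  apply hg2
  rw [inv_inv] at h
  have hn' : n ∈ normalizer (T : Set G) := by rw [hTeq]; exact hn
  rw [h, mul_assoc, ← hN n hn', inv_mul_cancel_left]

theorem card_A (P : IsPar A π) : Nat.card A = Fintype.card F * (Fintype.card F ^ 2 - 1) := by
  have h1 : Nat.card A = Nat.card π.range := by rw [P.range]
  rw [h1, ← Nat.card_congr (MonoidHom.ofInjective P.inj).toEquiv,
    Cfsg.Agent.ClassicalGeometry.PSL2Basic.card_SL2]

theorem simple_A (P : IsPar A π) (h4 : 4 ≤ Fintype.card F) : IsSimpleGroup A := by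
  have h1 := Cfsg.Agent.TwoFusion.SLTwoFacts.isSimpleGroup_psl (F := F) (by omega)
  obtain ⟨e⟩ := WeakTI.PslTwo.nonempty_equiv (F := F)
  have h2 : IsSimpleGroup (SL2 F) := e.isSimpleGroup
  have h3 : IsSimpleGroup π.range := (MonoidHom.ofInjective P.inj).symm.isSimpleGroup
  rw [P.range] at h3
  exact h3

theorem three_dvd (P : IsPar A π) {a : ℕ} (hF : Fintype.card F = 2 ^ a) : 3 ∣ Nat.card A := by
  rw [card_A P, hF]
  apply Dvd.dvd.mul_left
  rw [← pow_mul, mul_comm, pow_mul]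
  have h1 : (2 ^ 2 : ℕ) ^ a % 3 = 1 := by
    rw [Nat.pow_mod]
    norm_num
  have h2 : 1 ≤ (2 ^ 2 : ℕ) ^ a := Nat.one_le_pow _ _ (by norm_num)
  omega

/-- index two -/
theorem relIndex_two {U : Subgroup G} {S : Sylow 2 G} (t2 : t * t = 1) (htU : t ∉ U)
    (hS : ∀ x, x ∈ S ↔ x ∈ U ∨ t * x ∈ U) (hnorm : ∀ u ∈ U, t * u * t⁻¹ ∈ U) :
    U ≤ (S : Subgroup G) ∧ t ∈ (S : Subgroup G) ∧ U.relIndex (S : Subgroup G) = 2 := by
  have htS : t ∈ (S : Subgroup G) := (hS t).2 (Or.inr (by rw [t2]; exact one_mem _))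
  have hUS : U ≤ (S : Subgroup G) := fun x hx => (hS x).2 (Or.inl hx)
  have hti : t⁻¹ = t := inv_eq_of_mul_eq_one_left t2
  refine ⟨hUS, htS, ?_⟩
  rw [Subgroup.relIndex, Subgroup.index_eq_two_iff]
  refine ⟨⟨t, htS⟩, ?_⟩
  rintro ⟨b, hb⟩
  rw [mem_subgroupOf, mem_subgroupOf]
  show Xor' (b * t ∈ U) (b ∈ U)
  by_cases hbU : b ∈ U
  · right
    refine ⟨hbU, fun h => htU ?_⟩
    have h1 := mul_mem (inv_mem hbU) h
    rwa [inv_mul_cancel_left] at h1
  · left
    refine ⟨?_, hbU⟩
    have h1 := ((hS b).1 hb).resolve_left hbU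
    have h2 := hnorm _ h1
    have h3 : t * (t * b) * t⁻¹ = b * t := by
      rw [← mul_assoc, t2, one_mul, hti]
    rwa [h3] at h2

variable {a : ℕ}

/-- **No field automorphisms of even order.** -/
theorem zero_case (h0506 : Ends.S0506Stmt.{u}) (h1170 : Cfsg.Agent.StdSz.Out.S1170Stmt.{u})
    (h1740 : EndOne.S1740Stmt.{u}) (C : Conf L A t) (B : Base A t T π)
    (ha : 2 ≤ a) (hF : Fintype.card F = 2 ^ a)
    (hc : ∀ x ∈ T, ∀ v ∈ VV π, x * v = v * x) :
    Concl L A t F a ∨ ∃ (k : ℕ) (W : Subgroup G) (d : G), TCen t (VV π) ∧ Exc t d (VV π) W k := by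
  have hR := R_eq C B hc
  have H := B.tcen hR hc
  obtain ⟨d, hdA, hd⟩ := B.exists_tor
  have h4a : 4 ≤ 2 ^ a := by
    calc 4 = 2 ^ 2 := by norm_num
      _ ≤ 2 ^ a := Nat.pow_le_pow_right (by norm_num) ha
  have hcV : Nat.card (VV π) = 2 ^ a := by
    rw [card_VV B.P, Nat.card_eq_fintype_card, hF]
  have hVL : VV π ≤ L := (VV_le B.P).trans C.le
  rcases tower H (by rw [hcV]; exact h4a) hd with ⟨S, hS⟩ | ⟨U, hU⟩ | ⟨k, W, d', h⟩
  · -- `E` is a Sylow 2-subgroup
    obtain ⟨hVS, htS, hi⟩ := relIndex_two B.t2 (fun h => B.tn (VV_le B.P h)) hS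
      (fun v hv => by rw [B.tV hv, mul_inv_cancel_right]; exact hv)
    left
    obtain ⟨ha2, hJ⟩ := EndOne.isoJ1_of_end h0506 h1740 C ha
      (simple_A B.P (by rw [hF]; exact h4a)) (by rw [card_A B.P, hF]) S
      (by
        intro x hx
        rcases (hS x).1 hx with h | h
        · exact VV_sq x h
        · have e : x = t * (t * x) := by rw [← mul_assoc, B.t2, one_mul]
          have e1 : t * (t * x) * (t * (t * x)) = (t * t) * ((t * x) * (t * x)) := by
            have e2 := B.tV h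
            calc t * (t * x) * (t * (t * x)) = t * ((t * x) * t) * (t * x) := by group
              _ = (t * t) * ((t * x) * (t * x)) := by rw [← e2]; group
          rw [e, e1, B.t2, one_mul, VV_sq _ h])
      htS (VV π) hVS hVL (fun h => B.tn (VV_le B.P h)) hcV hi
      (by
        intro v hv hv1 w hw hw1
        obtain ⟨n, hn⟩ := hd.reg v hv w hw hv1 hw1
        exact ⟨d ^ n, (show Commute d t from hd.dt).pow_left n, hn⟩)
    exact Or.inr (Or.inl ⟨ha2, Or.inr (Or.inr (Or.inl hJ))⟩)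
  · -- the tower stops
    left; left
    obtain ⟨S, hS⟩ := hU.syl
    obtain ⟨hUS, htS, hi⟩ := relIndex_two B.t2 hU.tU hS hU.norm
    refine Ends.lie2_of_tower h0506 h1170 C (three_dvd B.P hF) S hUS hi htS hU.noconj hU.gU ?_ ?_
    · refine le_trans ?_ hU.card
      rw [hcV]
      nlinarith
    · rcases hU.shape with ⟨-, h, -⟩ | ⟨h, -⟩ | ⟨h1, h2, -⟩
      · exact Or.inl h
      · exact Or.inl h
      · exact Or.inr ⟨VV π, h1, fun v hv x hx => (h2 x hx v hv).symm⟩
  · exact Or.inr ⟨k, W, d', H, h⟩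

end Cfsg.Agent.StdL2.FrameFT
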