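import Mathlib

/-!
The alternating groups of degree 8 and 9 have an involution whose centraliser has order not
divisible by 64.
-/

set_option autoImplicit false

namespace Cfsg.Agent.StdL2.G23Alt

open Equiv Equiv.Perm Subgroup

theorem cycleType_two {n : ℕ} {a b c d : Fin n} (hab : a ≠ b) (hcd : c ≠ d) (hac : a ≠ c)
    (had : a ≠ d) (hbc : b ≠ c) (hbd : b ≠ d) :
    (swap a b * swap c d).cycleType = {2, 2} := by
  have h1 : Disjoint (swap a b) (swap c d) := by
    rw [disjoint_iff_disjoint_support, support_swap hab, support_swap hcd]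
    rw [Finset.disjoint_left]
    intro x hx hx'
    simp only [Finset.mem_insert, Finset.mem_singleton] at hx hx'
    rcases hx with rfl | rfl <;> rcases hx' with h | h
    · exact hac h
    · exact had h
    · exact hbc h
    · exact hbd h
  rw [h1.cycleType_mul, (swap_isSwap_iff.2 hab).isCycle.cycleType, (swap_isSwap_iff.2 hcd).isCycle.cycleType,
    card_support_swap hab, card_support_swap hcd]
  rfl

theorem card_cent {n : ℕ} {a b c d : Fin n} (hab : a ≠ b) (hcd : c ≠ d) (hac : a ≠ c)
    (had : a ≠ d) (hbc : b ≠ c) (hbd : b ≠ d) :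
    Nat.card (centralizer ({swap a b * swap c d} : Set (Perm (Fin n)))) = (n - 4).factorial * 8 := by
  rw [nat_card_centralizer, cycleType_two hab hcd hac had hbc hbd]
  have h1 : (({2, 2} : Multiset ℕ)).toFinset = {2} := by decide
  rw [h1, Finset.prod_singleton, Fintype.card_fin]
  have h2 : (({2, 2} : Multiset ℕ)).sum = 4 := by decide
  have h3 : (({2, 2} : Multiset ℕ)).prod = 4 := by decide
  have h4 : (({2, 2} : Multiset ℕ)).count 2 = 2 := by decide
  rw [h2, h3, h4]
  have h5 : Nat.factorial 2 = 2 := rfl
  rw [h5]
  ring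

theorem exists_inv {n : ℕ} {a b c d : Fin n} (hab : a ≠ b) (hcd : c ≠ d) (hac : a ≠ c)
    (had : a ≠ d) (hbc : b ≠ c) (hbd : b ≠ d) :
    ∃ x : alternatingGroup (Fin n), orderOf x = 2 ∧
      Nat.card (centralizer ({x} : Set (alternatingGroup (Fin n)))) * 2 = (n - 4).factorial * 8 := by
  have hxA : swap a b * swap c d ∈ alternatingGroup (Fin n) := by
    rw [mem_alternatingGroup, map_mul, sign_swap hab, sign_swap hcd]
    rfl
  let x : alternatingGroup (Fin n) := ⟨swap a b * swap c d, hxA⟩
  have hcomm : swap a b * swap c d = swap c d * swap a b := by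
    have h1 : Disjoint (swap a b) (swap c d) := by
      rw [disjoint_iff_disjoint_support, support_swap hab, support_swap hcd, Finset.disjoint_left]
      intro x hx hx'
      simp only [Finset.mem_insert, Finset.mem_singleton] at hx hx'
      rcases hx with rfl | rfl <;> rcases hx' with h | h
      · exact hac h
      · exact had h
      · exact hbc h
      · exact hbd h
    exact h1.commute
  refine ⟨x, ?_, ?_⟩
  · apply orderOf_eq_prime
    · rw [pow_two]
      apply Subtype.ext
      change swap a b * swap c d * (swap a b * swap c d) = 1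
      nth_rewrite 2 [hcomm]
      rw [mul_assoc, ← mul_assoc (swap c d), swap_mul_self, one_mul, swap_mul_self]
    · intro h
      have h1 : swap a b * swap c d = 1 := congrArg Subtype.val h
      have h2 := cycleType_two hab hcd hac had hbc hbd
      rw [h1, cycleType_one] at h2
      exact absurd h2 (by decide)
  · rw [← card_cent hab hcd hac had hbc hbd]
    set P := centralizer ({swap a b * swap c d} : Set (Perm (Fin n))) with hP
    let f : P →* ℤˣ := sign.comp P.subtype
    have hsP : swap a b ∈ P := by
      rw [hP, mem_centralizer_singleton_iff]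
      nth_rewrite 1 [hcomm]
      rw [mul_assoc]
    have hf : Function.Surjective f := by
      intro e
      rcases Int.units_eq_one_or e with rfl | rfl
      · exact ⟨1, map_one f⟩
      · exact ⟨⟨swap a b, hsP⟩, sign_swap hab⟩
    have h1 := Subgroup.card_mul_index f.ker
    rw [index_ker, MonoidHom.range_eq_top.2 hf, Subgroup.card_top] at h1
    have h2 : Nat.card ℤˣ = 2 := by rw [Nat.card_eq_fintype_card]; rfl
    rw [h2] at h1
    rw [← h1]
    congr 1
    refine Nat.card_congr ⟨fun y => ⟨⟨(y : alternatingGroup (Fin n)), ?_⟩, ?_⟩,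
      fun y => ⟨⟨(y : P), ?_⟩, ?_⟩, fun y => rfl, fun y => rfl⟩
    · rw [hP, mem_centralizer_singleton_iff]
      exact congrArg Subtype.val (mem_centralizer_singleton_iff.1 y.2)
    · exact mem_alternatingGroup.1 (y : alternatingGroup (Fin n)).2
    · exact mem_alternatingGroup.2 y.2
    · rw [mem_centralizer_singleton_iff]
      exact Subtype.ext (mem_centralizer_singleton_iff.1 (y : P).2)

theorem exists_inv_eight : ∃ x : alternatingGroup (Fin 8), orderOf x = 2 ∧
    ¬ 64 ∣ Nat.card (centralizer ({x} : Set (alternatingGroup (Fin 8)))) := by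
  obtain ⟨x, hx, h⟩ := exists_inv (n := 8) (a := 0) (b := 1) (c := 2) (d := 3) (by decide) (by decide)
    (by decide) (by decide) (by decide) (by decide)
  refine ⟨x, hx, ?_⟩
  have h1 : (8 - 4).factorial = 24 := rfl
  rw [h1] at h
  omega

theorem exists_inv_nine : ∃ x : alternatingGroup (Fin 9), orderOf x = 2 ∧
    ¬ 64 ∣ Nat.card (centralizer ({x} : Set (alternatingGroup (Fin 9)))) := by
  obtain ⟨x, hx, h⟩ := exists_inv (n := 9) (a := 0) (b := 1) (c := 2) (d := 3) (by decide) (by decide)
    (by decide) (by decide) (by decide) (by decide)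
  refine ⟨x, hx, ?_⟩
  have h1 : (9 - 4).factorial = 120 := rfl
  rw [h1] at h
  omega

end Cfsg.Agent.StdL2.G23Alt
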