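import Mathlib
import Cfsg.Agent.StdL2.G23Trans
import Cfsg.Agent.SmallSimple.BurnsideNC

/-!
S1773, case q = 8, N(E)/C(E) = L3(2): the Sylow 2-subgroup `U` (order 64) of the simple normal
subgroup `J`; squares; conjugacy of involutions.
-/

set_option autoImplicit false
set_option linter.style.haveILetI false
set_option linter.unusedSectionVars false

namespace Cfsg.Agent.StdL2.G23U

open G23Aut G23Coset G23Loc

variable {G : Type*} [Group G]

/-- The hypotheses with the simple normal subgroup. -/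
structure Hyp (J : Subgroup G) (t : G) (V : Subgroup G) : Prop where
  loc : Loc t V
  nJ : J.Normal
  simple : IsSimpleGroup J
  nonab : ¬ IsMulCommutative J
  VJ : V ≤ J

variable [Finite G] {J : Subgroup G} {t : G} {V : Subgroup G}

namespace Hyp

theorem tJ (h : Hyp J t V) : t ∉ J :=
  haveI := h.nJ
  h.loc.t_not_mem J h.simple h.nonab

theorem mem_V (h : Hyp J t V) {g : G} (hg : g ∈ J) (hgE : g ∈ h.loc.E) : g ∈ V := by
  rcases h.loc.mem_E.1 hgE with hV | ⟨v, hv, rfl⟩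
  · exact hV
  · exfalso
    apply h.tJ
    rw [show t = t * v * v⁻¹ by group]
    exact J.mul_mem hg (J.inv_mem (h.VJ hv))

/-- The normaliser of `V` in `J`. -/
abbrev NJ (_ : Hyp J t V) : Subgroup G := J ⊓ Subgroup.normalizer (V : Set G)

theorem NJ_normal (h : Hyp J t V) : (img h.NJ V).Normal := by
  haveI := h.nJ
  constructor
  intro ψ hψ φ
  obtain ⟨j, ⟨hjJ, hjn⟩, -, hj⟩ := mem_img.1 hψ
  obtain ⟨n, hn, hnv⟩ := h.loc.full φ
  have hnV := h.loc.N_le hn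
  refine mem_img.2 ⟨n * j * n⁻¹, ⟨h.nJ.conj_mem j hjJ n, ?_⟩, ?_, ?_⟩
  · exact Subgroup.mul_mem _ (Subgroup.mul_mem _ hnV hjn) (Subgroup.inv_mem _ hnV)
  · exact Subgroup.mul_mem _ (Subgroup.mul_mem _ hnV hjn) (Subgroup.inv_mem _ hnV)
  · intro v
    have h1 : n⁻¹ * (v : G) * n = φ⁻¹ v := by
      have h2 := hnv (φ⁻¹ v)
      rw [MulAut.apply_inv_self] at h2
      rw [← h2]
      group
    change n * j * n⁻¹ * (v : G) * (n * j * n⁻¹)⁻¹ = φ (ψ (φ⁻¹ v))
    rw [← hnv, ← hj, ← h1]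
    group

variable {S : Subgroup G}

/-- The Sylow 2-subgroup of `J`. -/
abbrev U (h : Hyp J t V) (S : Subgroup G) : Subgroup G := S ⊓ J

theorem U_pgroup (h : Hyp J t V) (hS : h.loc.IsSyl S) : IsPGroup 2 (h.U S) :=
  hS.pgroup.to_le inf_le_left

theorem U_le_N (h : Hyp J t V) (hS : h.loc.IsSyl S) : h.U S ≤ h.loc.N := inf_le_left.trans hS.le

theorem U_le_norm (h : Hyp J t V) (hS : h.loc.IsSyl S) :
    h.U S ≤ Subgroup.normalizer (V : Set G) := (h.U_le_N hS).trans h.loc.N_le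

theorem V_le_U (h : Hyp J t V) (hS : h.loc.IsSyl S) : V ≤ h.U S :=
  le_inf (h.loc.VE.trans hS.E_le) h.VJ

theorem U_cent (h : Hyp J t V) (hS : h.loc.IsSyl S) {u : G} (hu : u ∈ h.U S)
    (huV : ∀ v ∈ V, u * v = v * u) : u ∈ V :=
  h.mem_V hu.2 (h.loc.mem_E_of_cent (h.U_le_N hS hu) (TwoEl.of_mem (h.U_pgroup hS) hu) huV)

theorem not_dvd_relIndex (h : Hyp J t V) (hS : h.loc.IsSyl S) : ¬ 2 ∣ (h.U S).relIndex J := by
  haveI := h.nJ
  have := hS.not_dvd_relIndex J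
  rwa [← Subgroup.inf_relIndex_right] at this

/-- `N_J(V)` induces all automorphisms of `V`. -/
theorem img_NJ (h : Hyp J t V) : img h.NJ V = ⊤ := by
  haveI : Fact (Nat.Prime 2) := ⟨Nat.prime_two⟩
  haveI := h.nJ
  haveI := h.simple
  refine (h.loc.oct.normal _ h.NJ_normal).resolve_left ?_
  intro hbot
  have hcent : ∀ j ∈ J, j ∈ Subgroup.normalizer (V : Set G) → ∀ v ∈ V, j * v = v * j := by
    intro j hj hjn v hv
    have h1 : V.normalizerMonoidHom ⟨j, hjn⟩ ∈ img h.NJ V :=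
      mem_img.2 ⟨j, ⟨hj, hjn⟩, hjn, fun v => rfl⟩
    rw [hbot, Subgroup.mem_bot] at h1
    have h2 := congrArg (fun φ : MulAut V => ((φ ⟨v, hv⟩ : V) : G)) h1
    have h3 : j * v * j⁻¹ = v := h2
    exact mul_inv_eq_iff_eq_mul.1 h3
  obtain ⟨S, hS, -⟩ := h.loc.exists_syl (R := ⊥) (IsPGroup.of_bot) bot_le
  have hUV : h.U S = V := by
    apply le_antisymm
    · intro u hu
      exact h.U_cent hS hu (hcent u hu.2 (h.U_le_norm hS hu))
    · exact h.V_le_U hS
  have hidx := h.not_dvd_relIndex hS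
  rw [hUV] at hidx
  have hVp : IsPGroup 2 (V.subgroupOf J) :=
    (hUV ▸ h.U_pgroup hS : IsPGroup 2 V).of_equiv (Subgroup.subgroupOfEquivOfLe h.VJ).symm
  let P : Sylow 2 J := hVp.toSylow hidx
  have hVc : Nat.card (V.subgroupOf J) = 8 := by
    rw [Nat.card_congr (Subgroup.subgroupOfEquivOfLe h.VJ).toEquiv, h.loc.oct.card]
  have h8 : 8 ∣ Nat.card J := by
    rw [← hVc]
    exact Subgroup.card_subgroup_dvd_card _
  have hne : Nat.card J ≠ 2 := by
    intro h2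
    rw [h2] at h8
    exact absurd (Nat.le_of_dvd (by norm_num) h8) (by norm_num)
  apply Cfsg.Agent.SmallSimple.BurnsideNC.not_normalizer_le_centralizer
    ((show 2 ∣ 8 by norm_num).trans h8) hne P
  intro x hx'
  have hx : x ∈ Subgroup.normalizer ((V.subgroupOf J : Subgroup J) : Set J) := hx'
  change x ∈ Subgroup.centralizer ((V.subgroupOf J : Subgroup J) : Set J)
  rw [Subgroup.mem_centralizer_iff]
  intro v hv
  apply Subtype.ext
  have hxn : (x : G) ∈ Subgroup.normalizer (V : Set G) := by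
    rw [Subgroup.mem_normalizer_iff]
    intro g
    constructor
    · intro hg
      exact Subgroup.mem_subgroupOf.1
        ((Subgroup.mem_normalizer_iff.1 hx ⟨g, h.VJ hg⟩).1 (Subgroup.mem_subgroupOf.2 hg))
    · intro hg
      have h1 : g ∈ J := by
        have h2 := J.mul_mem (J.mul_mem (J.inv_mem x.2) (h.VJ hg)) x.2
        rwa [show (x : G)⁻¹ * (x * g * (x : G)⁻¹) * x = g by group] at h2
      exact Subgroup.mem_subgroupOf.1
        ((Subgroup.mem_normalizer_iff.1 hx ⟨g, h1⟩).2 (Subgroup.mem_subgroupOf.2 hg))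
  exact (hcent x x.2 hxn v (Subgroup.mem_subgroupOf.1 hv)).symm

theorem full_NJ (h : Hyp J t V) : Full h.NJ V := (full_iff inf_le_right).2 h.img_NJ

theorem card_U (h : Hyp J t V) (hS : h.loc.IsSyl S) : Nat.card (h.U S) = 64 := by
  haveI := h.nJ
  haveI := h.simple
  have h1 := card_img_mul (K := h.NJ) (V := V) inf_le_right
  rw [h.img_NJ, Subgroup.card_top, h.loc.oct.card_aut] at h1
  have h2 : Nat.card V ∣ Nat.card (h.NJ ⊓ Subgroup.centralizer (V : Set G) : Subgroup G) := by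
    apply Subgroup.card_dvd_of_le
    refine le_inf (le_inf h.VJ Subgroup.le_normalizer) ?_
    intro v hv
    rw [Subgroup.mem_centralizer_iff]
    intro w hw
    exact h.loc.oct.comm hw hv
  rw [h.loc.oct.card] at h2
  have h3 : 64 ∣ Nat.card J := by
    have h4 : Nat.card h.NJ ∣ Nat.card J := Subgroup.card_dvd_of_le inf_le_left
    refine Dvd.dvd.trans ?_ h4
    rw [← h1]
    exact (show 64 = 8 * 8 by norm_num) ▸ Nat.mul_dvd_mul (by norm_num) h2
  have h5 := Cfsg.Agent.Lib.SylowNormalInf.card_mul_relIndex (h.U S) J inf_le_right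
  rw [← h5] at h3
  have h6 : Nat.Coprime 64 ((h.U S).relIndex J) := by
    rw [show 64 = 2 ^ 6 by norm_num]
    apply Nat.Coprime.pow_left
    exact (Nat.Prime.coprime_iff_not_dvd Nat.prime_two).2 (h.not_dvd_relIndex hS)
  have h7 : 64 ∣ Nat.card (h.U S) := Nat.Coprime.dvd_of_dvd_mul_right h6 h3
  have h8 : Nat.card (h.U S) ∣ 128 := by
    rw [← hS.card]
    exact Subgroup.card_dvd_of_le inf_le_left
  have h9 : Nat.card (h.U S) ≠ 128 := by
    intro h10
    have h11 : h.U S = S := Subgroup.eq_of_le_of_card_ge inf_le_left (by rw [h10, hS.card])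
    apply h.tJ
    have h12 : t ∈ h.U S := by rw [h11]; exact hS.E_le h.loc.tE
    exact h12.2
  obtain ⟨m, hm⟩ := h7
  have h10 : Nat.card (h.U S) ≤ 128 := Nat.le_of_dvd (by norm_num) h8
  have h11 : 0 < Nat.card (h.U S) := Nat.card_pos
  omega

/-- every element of `S` is in `U` or in `tU`. -/
theorem mem_or (h : Hyp J t V) (hS : h.loc.IsSyl S) {s : G} (hs : s ∈ S) :
    s ∈ h.U S ∨ t * s ∈ h.U S := by
  have h1 := Cfsg.Agent.Lib.SylowNormalInf.card_mul_relIndex (h.U S) S inf_le_left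
  rw [h.card_U hS, hS.card] at h1
  have h2 : (h.U S).relIndex S = 2 := by omega
  by_cases h3 : s ∈ h.U S
  · exact Or.inl h3
  · right
    have htS : t ∈ S := hS.E_le h.loc.tE
    have h4 := Subgroup.mul_mem_iff_of_index_two (H := (h.U S).subgroupOf S) h2
      (a := ⟨t, htS⟩) (b := ⟨s, hs⟩)
    have h5 : (⟨t, htS⟩ : S) ∉ (h.U S).subgroupOf S := fun h6 =>
      h.tJ (Subgroup.mem_subgroupOf.1 h6).2
    have h6 : (⟨s, hs⟩ : S) ∉ (h.U S).subgroupOf S := fun h6 =>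
      h3 (Subgroup.mem_subgroupOf.1 h6)
    exact Subgroup.mem_subgroupOf.1 (h4.2 (iff_of_false h5 h6))

/-- The flag for `U`. -/
theorem exists_flag (h : Hyp J t V) (hS : h.loc.IsSyl S) : ∃ z a b, Flag (h.U S) V z a b := by
  obtain ⟨z, a, b, F⟩ := G23Loc.exists_flag h.loc.oct (hS.le.trans h.loc.N_le) hS.card_img
  refine ⟨z, a, b, F.bas, fun s hs => F.fz s hs.1, fun s hs => F.fa s hs.1, ?_⟩
  intro i j k
  obtain ⟨s, hs, e1, e2, e3⟩ := F.ex i j k
  rcases h.mem_or hS hs with h1 | h1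
  · exact ⟨s, h1, e1, e2, e3⟩
  · have htc : ∀ v ∈ V, t * s * v * (t * s)⁻¹ = s * v * s⁻¹ := by
      intro v hv
      have h2 : s * v * s⁻¹ ∈ V := h.loc.N_conj_mem (hS.le hs) hv
      have h3 := h.loc.tconj h2
      calc t * s * v * (t * s)⁻¹ = t * (s * v * s⁻¹) * t⁻¹ := by group
        _ = _ := h3
    refine ⟨t * s, h1, ?_, ?_, ?_⟩
    · rw [htc z F.bas.hx, e1]
    · rw [htc a F.bas.hy, e2]
    · rw [htc b F.bas.hw, e3]

/-- `C_N(V)` has Sylow 2-subgroup `E`. -/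
theorem odd_index (h : Hyp J t V) :
    ¬ 2 ∣ h.loc.E.relIndex (h.loc.N ⊓ Subgroup.centralizer (V : Set G)) := by
  intro h2
  have hE : h.loc.E ≤ h.loc.N ⊓ Subgroup.centralizer (V : Set G) := by
    refine le_inf h.loc.E_le_N ?_
    intro e he
    rw [Subgroup.mem_centralizer_iff]
    intro v hv
    exact h.loc.E_comm (h.loc.VE hv) he
  have h3 := Cfsg.Agent.Lib.SylowNormalInf.card_mul_relIndex _ _ hE
  rw [h.loc.card_E] at h3
  have h4 : 32 ∣ Nat.card (h.loc.N ⊓ Subgroup.centralizer (V : Set G) : Subgroup G) := by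
    rw [← h3]
    exact Nat.mul_dvd_mul_left 16 h2
  have h5 := h.loc.card_N_eq
  apply h.loc.not_dvd
  have h6 : Nat.card h.loc.N ∣ Nat.card G := Subgroup.card_subgroup_dvd_card _
  refine Dvd.dvd.trans ?_ h6
  rw [← h5]
  exact (show 256 = 8 * 32 by norm_num) ▸ Nat.mul_dvd_mul (by norm_num) h4

/-- Elements of `U` acting as involutions on `V` are conjugate modulo `V`. -/
theorem conj_mod (h : Hyp J t V) (hS : h.loc.IsSyl S) {w w' : G} (hw : w ∈ h.U S)
    (hw' : w' ∈ h.U S) (hwV : w ∉ V) (hwV' : w' ∉ V)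
    (hww : ∀ v ∈ V, (w * w) * v * (w * w)⁻¹ = v) (hww' : ∀ v ∈ V, (w' * w') * v * (w' * w')⁻¹ = v) :
    ∃ n ∈ h.loc.N, ∃ v ∈ V, n * w * n⁻¹ = w' * v := by
  haveI := h.loc.oct.finite_aut
  haveI := h.loc.oct.simple_aut
  haveI := h.nJ
  have key : ∀ x ∈ h.U S, x ∉ V → (∀ v ∈ V, (x * x) * v * (x * x)⁻¹ = v) →
      ∃ ξ : MulAut V, (∀ v : V, x * (v : G) * x⁻¹ = ξ v) ∧ orderOf ξ = 2 := by
    intro x hx hxV hxx
    refine ⟨V.normalizerMonoidHom ⟨x, h.U_le_norm hS hx⟩, fun v => rfl, ?_⟩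
    apply orderOf_eq_prime
    · rw [pow_two, ← map_mul]
      ext v
      exact hxx v v.2
    · intro e
      apply hxV
      apply h.U_cent hS hx
      intro v hv
      have h2 := congrArg (fun φ : MulAut V => ((φ ⟨v, hv⟩ : V) : G)) e
      have h3 : x * v * x⁻¹ = v := h2
      exact mul_inv_eq_iff_eq_mul.1 h3
  obtain ⟨ξ, hξ, hξ2⟩ := key w hw hwV hww
  obtain ⟨ξ', hξ', hξ2'⟩ := key w' hw' hwV' hww'
  obtain ⟨φ, hφ⟩ := isConj_iff.1 (Cfsg.Agent.SmallSimple.Simple168Classes.isConj_of_orderOf_two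
    h.loc.oct.card_aut ξ ξ' hξ2 hξ2')
  obtain ⟨n, hn, hnv⟩ := h.loc.full φ
  have hwN := h.U_le_N hS hw
  have hwN' := h.U_le_N hS hw'
  have hact : ∀ v : V, (n * w * n⁻¹) * (v : G) * (n * w * n⁻¹)⁻¹ = w' * v * w'⁻¹ := by
    intro v
    have h1 : n⁻¹ * (v : G) * n = φ⁻¹ v := by
      have h2 := hnv (φ⁻¹ v)
      rw [MulAut.apply_inv_self] at h2
      rw [← h2]
      group
    have h2 : (n * w * n⁻¹) * (v : G) * (n * w * n⁻¹)⁻¹ = n * (w * (n⁻¹ * v * n) * w⁻¹) * n⁻¹ := by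
      group
    rw [h2, h1, hξ, hnv, hξ', ← hφ]
    rfl
  have h3 : w'⁻¹ * (n * w * n⁻¹) ∈ h.loc.N ⊓ Subgroup.centralizer (V : Set G) := by
    refine Subgroup.mem_inf.2 ⟨?_, ?_⟩
    · exact Subgroup.mul_mem _ (Subgroup.inv_mem _ hwN')
        (Subgroup.mul_mem _ (Subgroup.mul_mem _ hn hwN) (Subgroup.inv_mem _ hn))
    · rw [Subgroup.mem_centralizer_iff]
      intro v hv
      have h4 := hact ⟨v, hv⟩
      have h5 : (n * w * n⁻¹) * v = w' * v * w'⁻¹ * (n * w * n⁻¹) := by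
        rw [← mul_inv_eq_iff_eq_mul]; exact h4
      calc v * (w'⁻¹ * (n * w * n⁻¹)) = w'⁻¹ * (w' * v * w'⁻¹ * (n * w * n⁻¹)) := by group
        _ = w'⁻¹ * ((n * w * n⁻¹) * v) := by rw [h5]
        _ = _ := by group
  have hnC : w' ∈ Subgroup.normalizer
      ((h.loc.N ⊓ Subgroup.centralizer (V : Set G) : Subgroup G) : Set G) := by
    have hkey : ∀ x ∈ h.loc.N, ∀ c ∈ h.loc.N ⊓ Subgroup.centralizer (V : Set G),
        x * c * x⁻¹ ∈ h.loc.N ⊓ Subgroup.centralizer (V : Set G) := by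
      intro x hx c hc
      obtain ⟨hc1, hc2⟩ := Subgroup.mem_inf.1 hc
      refine Subgroup.mem_inf.2
        ⟨Subgroup.mul_mem _ (Subgroup.mul_mem _ hx hc1) (Subgroup.inv_mem _ hx), ?_⟩
      rw [Subgroup.mem_centralizer_iff]
      intro v hv
      have h4 : x⁻¹ * v * x⁻¹⁻¹ ∈ V := h.loc.N_conj_mem (Subgroup.inv_mem _ hx) hv
      have h5 := Subgroup.mem_centralizer_iff.1 hc2 _ h4
      calc v * (x * c * x⁻¹) = x * ((x⁻¹ * v * x⁻¹⁻¹) * c) * x⁻¹ := by group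
        _ = x * (c * (x⁻¹ * v * x⁻¹⁻¹)) * x⁻¹ := by rw [h5]
        _ = _ := by group
    rw [Subgroup.mem_normalizer_iff]
    intro c
    constructor
    · exact hkey w' hwN' c
    · intro hc
      have := hkey w'⁻¹ (Subgroup.inv_mem _ hwN') _ hc
      rwa [show w'⁻¹ * (w' * c * w'⁻¹) * w'⁻¹⁻¹ = c by group] at this
  obtain ⟨c, hc, e, he, hce⟩ := exists_conj_coset (C := h.loc.N ⊓ Subgroup.centralizer (V : Set G))
    (E := h.loc.E) (by
      refine le_inf h.loc.E_le_N ?_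
      intro e he
      rw [Subgroup.mem_centralizer_iff]
      intro v hv
      exact h.loc.E_comm (h.loc.VE hv) he) inf_le_left h.loc.E_pgroup h.odd_index
    (TwoEl.of_mem (h.U_pgroup hS) hw') ((TwoEl.of_mem (h.U_pgroup hS) hw).conj n) hnC hwN' h3
  refine ⟨c * n, Subgroup.mul_mem _ hc.1 hn, e, ?_, ?_⟩
  · apply h.mem_V _ he
    have h6 : e = w'⁻¹ * (c * (n * w * n⁻¹) * c⁻¹) := by rw [hce]; group
    rw [h6]
    exact J.mul_mem (J.inv_mem hw'.2) (h.nJ.conj_mem _ (h.nJ.conj_mem _ hw.2 n) c)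
  · rw [← hce]; group

/-- All involutions of `U` outside `V` are conjugate under `N`. -/
theorem conj_inv (h : Hyp J t V) (hS : h.loc.IsSyl S) {w w' : G} (hw : w ∈ h.U S)
    (hw' : w' ∈ h.U S) (hwV : w ∉ V) (hwV' : w' ∉ V) (hww : w * w = 1) (hww' : w' * w' = 1) :
    ∃ n ∈ h.loc.N, n * w * n⁻¹ = w' := by
  obtain ⟨n, hn, v, hv, hnv⟩ := h.conj_mod hS hw hw' hwV hwV'
    (by intro v _; rw [hww]; group) (by intro v _; rw [hww']; group)
  have hwE' : w' ∉ h.loc.E := fun hE => hwV' (h.mem_V hw'.2 hE)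
  have h1 := (h.loc.coset (h.U_le_N hS hw') (TwoEl.of_sq hww') hwE' (by
    intro v _
    rw [show w' * (w' * v * w'⁻¹) * w'⁻¹ = (w' * w') * v * (w' * w')⁻¹ by group, hww']
    group)).2.2 hww' v (h.loc.VE hv) (by
      rw [← hnv, show n * w * n⁻¹ * (n * w * n⁻¹) = n * (w * w) * n⁻¹ by group, hww]
      group)
  obtain ⟨-, f, hf, hfe⟩ := h1
  refine ⟨f⁻¹ * n, Subgroup.mul_mem _ (Subgroup.inv_mem _ (h.loc.E_le_N hf)) hn, ?_⟩
  calc f⁻¹ * n * w * (f⁻¹ * n)⁻¹ = f⁻¹ * (n * w * n⁻¹) * f := by group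
    _ = f⁻¹ * (f * w' * f⁻¹) * f := by rw [hnv, hfe]
    _ = w' := by group

end Hyp

end Cfsg.Agent.StdL2.G23U
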