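import Mathlib
import Cfsg.Agent.StdL2.G23U

/-!
S1773, case q = 8, N(E)/C(E) = L3(2): squares in `U`; the subgroup `W`.
-/

set_option autoImplicit false
set_option linter.style.haveILetI false
set_option linter.unusedSectionVars false

namespace Cfsg.Agent.StdL2.G23U

open G23Aut G23Coset G23Loc

variable {G : Type*} [Group G]

abbrev F3 := ZMod 2 × ZMod 2 × ZMod 2

/-- Coordinates on an elementary abelian group of order 8. -/
structure Coord (V : Subgroup G) (z a b : G) (q : F3 → G) : Prop where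
  add : ∀ p p', q (p + p') = q p * q p'
  inj : Function.Injective q
  mem : ∀ p, q p ∈ V
  surj : ∀ v ∈ V, ∃ p, q p = v
  hz : q (1, 0, 0) = z
  ha : q (0, 1, 0) = a
  hb : q (0, 0, 1) = b

variable [Finite G]

theorem exists_coord {V : Subgroup G} (h : Oct V) {z a b : G} (B : Bas V z a b) :
    ∃ q, Coord V z a b q := by
  obtain ⟨e, he⟩ := B.exists_equiv h
  refine ⟨fun p => (e (Multiplicative.ofAdd p) : G), ?_, ?_, ?_, ?_, ?_, ?_, ?_⟩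
  · intro p p'
    rw [ofAdd_add, map_mul, Subgroup.coe_mul]
  · intro p p' hpp
    exact e.injective (Subtype.ext hpp)
  · intro p
    exact (e _).2
  · intro v hv
    obtain ⟨p, hp⟩ := e.surjective ⟨v, hv⟩
    exact ⟨p.toAdd, by
      change (e p : G) = v
      rw [hp]⟩
  · rw [he]; simp
  · rw [he]; simp
  · rw [he]; simp

theorem Coord.zero {V : Subgroup G} {z a b : G} {q : F3 → G} (Q : Coord V z a b q) :
    q 0 = 1 := by
  have := Q.add 0 0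
  rw [add_zero] at this
  exact mul_eq_left.1 this.symm

theorem smul3 (i j k : ZMod 2) (x y w : F3) :
    i • x + j • y + k • w = (i * x.1 + j * y.1 + k * w.1,
      i * x.2.1 + j * y.2.1 + k * w.2.1, i * x.2.2 + j * y.2.2 + k * w.2.2) := rfl

theorem Coord.conj {V : Subgroup G} {z a b : G} {q : F3 → G} (Q : Coord V z a b q) {g : G}
    {pz pa pb : F3} (h1 : g * z * g⁻¹ = q pz) (h2 : g * a * g⁻¹ = q pa) (h3 : g * b * g⁻¹ = q pb)
    (i j k : ZMod 2) : g * q (i, j, k) * g⁻¹ = q (i • pz + j • pa + k • pb) := by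
  have e : ∀ x y : G, g * (x * y) * g⁻¹ = (g * x * g⁻¹) * (g * y * g⁻¹) := by
    intro x y; group
  have e1 : ∀ (i : ZMod 2) (x : F3) (y : F3), g * q x * g⁻¹ = q y → g * q (i • x) * g⁻¹ = q (i • y) := by
    intro i x y hxy
    rcases zmod2 i with rfl | rfl
    · rw [zero_smul, zero_smul, Q.zero]; group
    · rw [one_smul, one_smul]; exact hxy
  have e2 : ((i, j, k) : F3) = i • (1, 0, 0) + j • (0, 1, 0) + k • (0, 0, 1) := by
    rw [smul3]; simp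
  rw [e2, Q.add, Q.add, Q.add, Q.add, e, e, e1 i _ pz (by rw [Q.hz]; exact h1),
    e1 j _ pa (by rw [Q.ha]; exact h2), e1 k _ pb (by rw [Q.hb]; exact h3)]

theorem Coord.sub {V : Subgroup G} {z a b : G} {q : F3 → G} (Q : Coord V z a b q) (p : F3) :
    (q p)⁻¹ = q p := by
  have h1 : p + p = 0 := by
    obtain ⟨i, j, k⟩ := p
    revert i j k; decide
  have h2 := Q.add p p
  rw [h1, Q.zero] at h2
  exact inv_eq_of_mul_eq_one_left h2.symm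

theorem arith {i j k i1 j1 k1 i2 j2 k2 i3 j3 k3 : ZMod 2} (g1 : i1 + k1 = i1)
    (g2 : i2 + j2 = i2) (g3 : i3 + j3 + k3 = i3) (hn1 : ¬ (j1 = 0 ∧ k1 = 0))
    (hn2 : ¬ (j2 = 0 ∧ k2 = 0)) (hn3 : ¬ (j3 = 0 ∧ k3 = 0))
    (g4 : i3 = i + k + i1 + i2 ∧ j3 = j + j1 + j2 ∧ k3 = k + k1 + k2)
    (g5 : i1 + j1 = i + (i + k) + i1 ∧ j1 = j + j + j1 ∧ k1 = k + k + k1) : False := by
  have e1 : ∀ x y : ZMod 2, x + y = x → y = 0 := by decide
  have e2 : ∀ x y z : ZMod 2, x + y + z = x → ¬ (y = 0 ∧ z = 0) → y = 1 ∧ z = 1 := by decide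
  have e3 : ∀ x : ZMod 2, x ≠ 0 → x = 1 := by decide
  have k10 := e1 _ _ g1
  have j20 := e1 _ _ g2
  obtain ⟨j31, k31⟩ := e2 _ _ _ g3 hn3
  subst k10 j20 j31 k31
  have j11 := e3 j1 (fun e => hn1 ⟨e, rfl⟩)
  have k21 := e3 k2 (fun e => hn2 ⟨rfl, e⟩)
  subst j11 k21
  have e4 : ∀ x : ZMod 2, 1 = x + 1 + 0 → x = 0 := by decide
  have e5 : ∀ x : ZMod 2, 1 = x + 0 + 1 → x = 0 := by decide
  have j0 := e4 _ g4.2.1
  have k0 := e5 _ g4.2.2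
  subst j0 k0
  have e6 : ∀ x y : ZMod 2, x + 1 ≠ y + (y + 0) + x := by decide
  exact e6 _ _ g5.1

variable {J : Subgroup G} {t : G} {V S : Subgroup G}

namespace Hyp

theorem sq_mem (h : Hyp J t V) (hS : h.loc.IsSyl S) {w : G} (hw : w ∈ h.U S) (hwV : w ∉ V)
    (hww : ∀ v ∈ V, (w * w) * v * (w * w)⁻¹ = v) : w * w ∈ V :=
  (h.loc.coset (h.U_le_N hS hw) (TwoEl.of_mem (h.U_pgroup hS) hw)
    (fun hE => hwV (h.mem_V hw.2 hE)) (by
      intro v hv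
      rw [show w * (w * v * w⁻¹) * w⁻¹ = (w * w) * v * (w * w)⁻¹ by group]
      exact hww v hv)).1

/-- Over every involution induced on `V` by `U` there is an involution of `U`. -/
theorem exists_inv (h : Hyp J t V) (hS : h.loc.IsSyl S) {w : G} (hw : w ∈ h.U S) (hwV : w ∉ V)
    (hww : ∀ v ∈ V, (w * w) * v * (w * w)⁻¹ = v) : ∃ v ∈ V, w * v * (w * v) = 1 := by
  by_contra hcon
  push Not at hcon
  have hbad : ∀ w' ∈ h.U S, w' ∉ V → (∀ v ∈ V, (w' * w') * v * (w' * w')⁻¹ = v) →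
      ∀ v ∈ V, w' * v * (w' * v) ≠ 1 := by
    intro w' hw' hwV' hww' v hv hcon'
    obtain ⟨n, hn, v₀, hv₀, hnv⟩ := h.conj_mod hS hw' hw hwV' hwV hww' hww
    apply hcon (v₀ * (n * v * n⁻¹)) (V.mul_mem hv₀ (h.loc.N_conj_mem hn hv))
    calc w * (v₀ * (n * v * n⁻¹)) * (w * (v₀ * (n * v * n⁻¹)))
        = (w * v₀) * (n * v * n⁻¹) * ((w * v₀) * (n * v * n⁻¹)) := by group
      _ = (n * w' * n⁻¹) * (n * v * n⁻¹) * ((n * w' * n⁻¹) * (n * v * n⁻¹)) := by rw [← hnv]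
      _ = n * (w' * v * (w' * v)) * n⁻¹ := by group
      _ = 1 := by rw [hcon']; group
  obtain ⟨z, a, b, F⟩ := h.exists_flag hS
  obtain ⟨q, Q⟩ := exists_coord h.loc.oct F.bas
  obtain ⟨w₁, hw₁, z1, a1, b1⟩ := F.ex 0 0 1
  obtain ⟨w₂, hw₂, z2, a2, b2⟩ := F.ex 1 0 0
  simp only [pw_zero, pw_one, mul_one] at a1 b1 a2 b2
  have c1 := Q.conj (g := w₁) (pz := (1, 0, 0)) (pa := (0, 1, 0)) (pb := (1, 0, 1))
    (by rw [z1, Q.hz]) (by rw [a1, Q.ha]) (by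
      rw [b1, ← Q.hb, ← Q.hz, ← Q.add]; rfl)
  have c2 := Q.conj (g := w₂) (pz := (1, 0, 0)) (pa := (1, 1, 0)) (pb := (0, 0, 1))
    (by rw [z2, Q.hz]) (by rw [a2, ← Q.ha, ← Q.hz, ← Q.add]; rfl) (by
      rw [b2, ← Q.hb])
  simp only [smul3, mul_one, mul_zero, add_zero, zero_add] at c1 c2
  have ecomp : ∀ g g' p : G, (g * g') * p * (g * g')⁻¹ = g * (g' * p * g'⁻¹) * g⁻¹ := by
    intro g g' p; group
  have c3 : ∀ i j k, (w₁ * w₂) * q (i, j, k) * (w₁ * w₂)⁻¹ = q (i + j + k, j, k) := by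
    intro i j k
    rw [ecomp, c2, c1]
  have hq2 : ∀ i : ZMod 2, i + i = 0 := by decide
  -- the general fact
  have gen : ∀ w' ∈ h.U S, (∀ i j k, ∃ i', w' * q (i, j, k) * w'⁻¹ = q (i', j, k)) →
      (∀ v ∈ V, (w' * w') * v * (w' * w')⁻¹ = v) → (∃ v ∈ V, w' * v * w'⁻¹ ≠ v) →
      ∃ p : F3, q p = w' * w' ∧ w' * q p * w'⁻¹ = q p ∧ ¬ (p.2.1 = 0 ∧ p.2.2 = 0) := by
    intro w' hw' hz' hww' hne'
    have hwV' : w' ∉ V := by
      intro hV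
      obtain ⟨v, hv, hne⟩ := hne'
      exact hne (mul_inv_eq_iff_eq_mul.2 (h.loc.oct.comm hV hv))
    obtain ⟨p, hp⟩ := Q.surj _ (h.sq_mem hS hw' hwV' hww')
    refine ⟨p, hp, by rw [hp]; group, ?_⟩
    rintro ⟨h1, h2⟩
    obtain ⟨i, j, k⟩ := p
    simp only at h1 h2
    subst h1 h2
    rcases zmod2 i with rfl | rfl
    · refine hbad w' hw' hwV' hww' 1 V.one_mem ?_
      rw [mul_one, ← hp]
      exact Q.zero
    · obtain ⟨v, hv, hne⟩ := hne'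
      obtain ⟨⟨i1, j1, k1⟩, rfl⟩ := Q.surj v hv
      obtain ⟨i', hi'⟩ := hz' i1 j1 k1
      have hii : i' = i1 + 1 := by
        have h3 : i' ≠ i1 := by
          rintro rfl
          exact hne hi'
        have h4 : ∀ x y : ZMod 2, x ≠ y → x = y + 1 := by decide
        exact h4 _ _ h3
      refine hbad w' hw' hwV' hww' _ hv ?_
      have e1 : w' * q (i1, j1, k1) * (w' * q (i1, j1, k1)) =
          (w' * q (i1, j1, k1) * w'⁻¹) * (w' * w') * q (i1, j1, k1) := by group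
      rw [e1, hi', ← hp, ← Q.add, ← Q.add, hii, ← Q.zero]
      congr 1
      ext
      · change i1 + 1 + 1 + i1 = 0
        have h4 : ∀ x : ZMod 2, x + 1 + 1 + x = 0 := by decide
        exact h4 _
      · change j1 + 0 + j1 = 0
        have h4 : ∀ x : ZMod 2, x + 0 + x = 0 := by decide
        exact h4 _
      · change k1 + 0 + k1 = 0
        have h4 : ∀ x : ZMod 2, x + 0 + x = 0 := by decide
        exact h4 _
  have triv : ∀ g : G, (∀ i j k, g * q (i, j, k) * g⁻¹ = q (i, j, k)) → ∀ v ∈ V, g * v * g⁻¹ = v := by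
    intro g hg v hv
    obtain ⟨⟨i, j, k⟩, rfl⟩ := Q.surj v hv
    exact hg i j k
  obtain ⟨⟨i1, j1, k1⟩, hp1, hf1, hn1⟩ := gen w₁ hw₁ (fun i j k => ⟨_, c1 i j k⟩)
    (triv _ (by intro i j k; rw [ecomp, c1, c1]; congr 1; ext <;> simp [add_assoc, hq2]))
    ⟨b, F.bas.hw, by rw [b1]; exact fun e => F.bas.x1 (mul_eq_left.1 e)⟩
  obtain ⟨⟨i2, j2, k2⟩, hp2, hf2, hn2⟩ := gen w₂ hw₂ (fun i j k => ⟨_, c2 i j k⟩)
    (triv _ (by intro i j k; rw [ecomp, c2, c2]; congr 1; ext <;> simp [add_assoc, hq2]))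
    ⟨a, F.bas.hy, by rw [a2]; exact fun e => F.bas.x1 (mul_eq_left.1 e)⟩
  obtain ⟨⟨i3, j3, k3⟩, hp3, hf3, hn3⟩ := gen (w₁ * w₂) (Subgroup.mul_mem _ hw₁ hw₂)
    (fun i j k => ⟨_, c3 i j k⟩)
    (triv _ (by
      intro i j k
      rw [ecomp, c3, c3]
      congr 1
      ext
      · change i + j + k + j + k = i
        revert i j k; decide
      · rfl
      · rfl))
    ⟨a, F.bas.hy, by
      rw [ecomp, a2, show w₁ * (a * z) * w₁⁻¹ = (w₁ * a * w₁⁻¹) * (w₁ * z * w₁⁻¹) by group, a1, z1]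
      exact fun e => F.bas.x1 (mul_eq_left.1 e)⟩
  rw [c1] at hf1
  rw [c2] at hf2
  rw [c3] at hf3
  have g1 := Q.inj hf1
  have g2 := Q.inj hf2
  have g3 := Q.inj hf3
  simp only [Prod.mk.injEq, and_true] at g1 g2 g3
  -- the commutator
  have hcV : w₁ * w₂ * w₁⁻¹ * w₂⁻¹ ∈ V := by
    apply h.U_cent hS
    · exact Subgroup.mul_mem _ (Subgroup.mul_mem _ (Subgroup.mul_mem _ hw₁ hw₂)
        (Subgroup.inv_mem _ hw₁)) (Subgroup.inv_mem _ hw₂)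
    · intro v hv
      rw [← mul_inv_eq_iff_eq_mul]
      have h12 : ∀ v ∈ V, w₁ * (w₂ * v * w₂⁻¹) * w₁⁻¹ = w₂ * (w₁ * v * w₁⁻¹) * w₂⁻¹ := by
        intro v hv
        obtain ⟨⟨i, j, k⟩, rfl⟩ := Q.surj v hv
        rw [c2, c1, c1, c2]
        congr 1
        ext
        · change i + j + k = i + k + j
          ring
        · rfl
        · rfl
      have hv' : w₁⁻¹ * (w₂⁻¹ * v * w₂⁻¹⁻¹) * w₁⁻¹⁻¹ ∈ V :=
        h.loc.N_conj_mem (Subgroup.inv_mem _ (h.U_le_N hS hw₁))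
          (h.loc.N_conj_mem (Subgroup.inv_mem _ (h.U_le_N hS hw₂)) hv)
      have h13 := h12 _ hv'
      calc w₁ * w₂ * w₁⁻¹ * w₂⁻¹ * v * (w₁ * w₂ * w₁⁻¹ * w₂⁻¹)⁻¹
          = w₁ * (w₂ * (w₁⁻¹ * (w₂⁻¹ * v * w₂⁻¹⁻¹) * w₁⁻¹⁻¹) * w₂⁻¹) * w₁⁻¹ := by group
        _ = w₂ * (w₁ * (w₁⁻¹ * (w₂⁻¹ * v * w₂⁻¹⁻¹) * w₁⁻¹⁻¹) * w₁⁻¹) * w₂⁻¹ := h13
        _ = v := by group
  obtain ⟨⟨i, j, k⟩, hc⟩ := Q.surj _ hcV
  -- `(w₁ w₂)² = (w₁ c⁻¹ w₁⁻¹) w₁² w₂²`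
  have h14 : q (i3, j3, k3) = q (i + k, j, k) * q (i1, j1, k1) * q (i2, j2, k2) := by
    rw [hp3, hp1, hp2, ← c1 i j k, ← Q.sub (i, j, k), hc]
    group
  rw [← Q.add, ← Q.add] at h14
  have g4 := Q.inj h14
  -- `w₂ w₁² w₂⁻¹ = (c⁻¹ w₁)²`
  have h15 : w₂ * q (i1, j1, k1) * w₂⁻¹ = q (i, j, k) * (w₁ * q (i, j, k) * w₁⁻¹) * q (i1, j1, k1) := by
    rw [← Q.sub (i, j, k), hp1, hc]
    group
  rw [c2, c1, ← Q.add, ← Q.add] at h15
  have g5 := Q.inj h15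
  simp only [Prod.mk_add_mk, Prod.mk.injEq] at g4 g5 hn1 hn2 hn3
  exact arith g1 g2 g3 hn1 hn2 hn3 g4 g5

end Hyp

end Cfsg.Agent.StdL2.G23U
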