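import Mathlib
import Cfsg.Agent.StdL2.G23Sq
import Cfsg.Agent.TwoFusion.StronglyEmbeddedBasic
import Cfsg.Prelude.Def_TwoFusion
import Cfsg.Prelude.Def_Involutions

/-!
S1773, case q = 8, N(E)/C(E) = L3(2): all involutions of `J` are conjugate in `G` (uses the
strongly closed abelian theorem S1169 as a hypothesis).
-/

set_option autoImplicit false
set_option linter.style.haveILetI false
set_option linter.unusedSectionVars false

namespace Cfsg.Agent.StdL2.G23U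

open G23Aut G23Coset G23Loc

universe u

/-- The statement of S1169 at one universe level. -/
def Gold : Prop := ∀ (G : Type u) [Group G] [Finite G] [IsSimpleGroup G] (S : Sylow 2 G)
    (A : Subgroup G), A ≠ ⊥ → IsMulCommutative A → Cfsg.IsStronglyClosed A (S : Subgroup G) →
    IsMulCommutative (S : Subgroup G) ∨ ∃ H : Subgroup G, Cfsg.IsStronglyEmbedded H

variable {G : Type u} [Group G] [Finite G] {J : Subgroup G} {t : G} {V S : Subgroup G}

theorem orderOf_two {G : Type*} [Group G] {x : G} (h : x * x = 1) (h1 : x ≠ 1) :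
    orderOf x = 2 := orderOf_eq_prime (by rw [pow_two]; exact h) h1

namespace Hyp

/-- any two nontrivial elements of `V` are conjugate in `N(E)` -/
theorem conj_V (h : Hyp J t V) {v w : G} (hv : v ∈ V) (hv1 : v ≠ 1) (hw : w ∈ V) (hw1 : w ≠ 1) :
    ∃ n ∈ h.loc.N, n * v * n⁻¹ = w := by
  obtain ⟨b, c, B⟩ := h.loc.oct.exists_bas hv hv1
  obtain ⟨b', c', B'⟩ := h.loc.oct.exists_bas hw hw1
  obtain ⟨n, hn, -, h1, -, -⟩ := h.loc.full.bas h.loc.oct B B'
  exact ⟨n, hn, h1⟩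

/-- `U` contains an involution outside `V`. -/
theorem exists_outside (h : Hyp J t V) (hS : h.loc.IsSyl S) :
    ∃ u ∈ h.U S, u ∉ V ∧ u * u = 1 := by
  obtain ⟨z, a, b, F⟩ := h.exists_flag hS
  obtain ⟨w, hw, z1, a1, b1⟩ := F.ex 0 0 1
  simp only [pw_zero, pw_one, mul_one] at a1 b1
  have hwV : w ∉ V := by
    intro hV
    have h1 : w * b * w⁻¹ = b := mul_inv_eq_iff_eq_mul.2 (h.loc.oct.comm hV F.bas.hw)
    rw [b1] at h1
    exact F.bas.x1 (mul_eq_left.1 h1)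
  have hww : ∀ v ∈ V, (w * w) * v * (w * w)⁻¹ = v := by
    have ecomp : ∀ p : G, (w * w) * p * (w * w)⁻¹ = w * (w * p * w⁻¹) * w⁻¹ := by
      intro p; group
    apply Bas.fix h.loc.oct F.bas
    · rw [ecomp, z1, z1]
    · rw [ecomp, a1, a1]
    · rw [ecomp, b1, show w * (b * z) * w⁻¹ = (w * b * w⁻¹) * (w * z * w⁻¹) by group, b1, z1,
        mul_assoc, h.loc.oct.sq z F.bas.hx, mul_one]
  obtain ⟨v, hv, hwv⟩ := h.exists_inv hS hw hwV hww
  refine ⟨w * v, Subgroup.mul_mem _ hw (h.V_le_U hS hv), ?_, hwv⟩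
  intro hV
  apply hwV
  rw [show w = w * v * v⁻¹ by group]
  exact V.mul_mem hV (V.inv_mem hv)

/-- Some involution of `U - V` is conjugate in `G` to an element of `V`. -/
theorem exists_fused (h : Hyp J t V) (hS : h.loc.IsSyl S) (gold : Gold.{u}) :
    ∃ v ∈ V, v ≠ 1 ∧ ∃ g : G, g * v * g⁻¹ ∈ h.U S ∧ g * v * g⁻¹ ∉ V := by
  haveI := h.nJ
  haveI := h.simple
  haveI : Fact (Nat.Prime 2) := ⟨Nat.prime_two⟩
  by_contra hcon
  push Not at hcon
  -- `V` is strongly closed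
  have hUp : IsPGroup 2 ((h.U S).subgroupOf J) :=
    (h.U_pgroup hS).of_equiv (Subgroup.subgroupOfEquivOfLe inf_le_right).symm
  let P : Sylow 2 J := hUp.toSylow (h.not_dvd_relIndex hS)
  have hPm : ∀ x : J, x ∈ (P : Subgroup J) ↔ (x : G) ∈ h.U S := fun x => Subgroup.mem_subgroupOf
  obtain ⟨z, a, b, F⟩ := h.exists_flag hS
  obtain ⟨u, hu, huV, huu⟩ := h.exists_outside hS
  have hVb : (V.subgroupOf J) ≠ ⊥ := by
    intro hb
    have h1 : (⟨z, h.VJ F.bas.hx⟩ : J) ∈ V.subgroupOf J := Subgroup.mem_subgroupOf.2 F.bas.hx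
    rw [hb, Subgroup.mem_bot] at h1
    exact F.bas.x1 (congrArg Subtype.val h1)
  have hVc : IsMulCommutative (V.subgroupOf J) := by
    constructor
    constructor
    rintro ⟨x, hx⟩ ⟨y, hy⟩
    apply Subtype.ext
    apply Subtype.ext
    exact h.loc.oct.comm (Subgroup.mem_subgroupOf.1 hx) (Subgroup.mem_subgroupOf.1 hy)
  have hsc : Cfsg.IsStronglyClosed (V.subgroupOf J) (P : Subgroup J) := by
    refine ⟨?_, ?_⟩
    · intro x hx
      exact (hPm x).2 (h.V_le_U hS (Subgroup.mem_subgroupOf.1 hx))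
    · intro x hx g hg
      by_cases hx1 : x = 1
      · rw [hx1]
        rw [mul_one, mul_inv_cancel]
        exact Subgroup.one_mem _
      · exact Subgroup.mem_subgroupOf.2 (hcon x (Subgroup.mem_subgroupOf.1 hx)
          (fun e => hx1 (Subtype.ext e)) g ((hPm _).1 hg))
  rcases gold J P (V.subgroupOf J) hVb hVc hsc with hcomm | ⟨H, hH⟩
  · -- `U` is not commutative
    obtain ⟨w, hw, -, -, b1⟩ := F.ex 0 0 1
    simp only [pw_zero, pw_one, mul_one] at b1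
    have h1 : (⟨⟨w, hw.2⟩, (hPm _).2 hw⟩ : (P : Subgroup J)) *
        ⟨⟨b, h.VJ F.bas.hw⟩, (hPm _).2 (h.V_le_U hS F.bas.hw)⟩ =
        ⟨⟨b, h.VJ F.bas.hw⟩, (hPm _).2 (h.V_le_U hS F.bas.hw)⟩ * ⟨⟨w, hw.2⟩, (hPm _).2 hw⟩ :=
      hcomm.is_comm.comm _ _
    have h2 : w * b = b * w := congrArg (fun x : (P : Subgroup J) => ((x : J) : G)) h1
    have h3 : w * b * w⁻¹ = b := mul_inv_eq_iff_eq_mul.2 h2
    rw [b1] at h3
    exact F.bas.x1 (mul_eq_left.1 h3)
  · -- one class of involutions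
    have hu1 : u ≠ 1 := fun e => huV (e ▸ V.one_mem)
    have h1 : orderOf (⟨z, h.VJ F.bas.hx⟩ : J) = 2 :=
      orderOf_two (Subtype.ext (h.loc.oct.sq z F.bas.hx)) (fun e => F.bas.x1 (congrArg Subtype.val e))
    have h2 : orderOf (⟨u, hu.2⟩ : J) = 2 :=
      orderOf_two (Subtype.ext huu) (fun e => hu1 (congrArg Subtype.val e))
    obtain ⟨g, hg⟩ := isConj_iff.1
      (Cfsg.Agent.TwoFusion.StronglyEmbeddedBasic.isConj_of_involutions hH _ _ h1 h2)
    have h3 : (g : G) * z * (g : G)⁻¹ = u := congrArg Subtype.val hg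
    apply huV
    rw [← h3]
    exact hcon z F.bas.hx F.bas.x1 g (by rw [h3]; exact hu)

/-- All involutions of `J` are conjugate in `G` to a given involution of `V`. -/
theorem one_class (h : Hyp J t V) (hS : h.loc.IsSyl S) (gold : Gold.{u}) {z : G} (hz : z ∈ V)
    (hz1 : z ≠ 1) {j : G} (hj : j ∈ J) (hjj : j * j = 1) (hj1 : j ≠ 1) :
    ∃ g : G, g * j * g⁻¹ = z := by
  obtain ⟨x, hx, hxr⟩ := exists_conj_mem (B := J) (S := h.U S) (h.U_pgroup hS) inf_le_right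
    (h.not_dvd_relIndex hS) (R := Subgroup.zpowers j) (TwoEl.of_sq hjj)
    (by rwa [Subgroup.zpowers_le])
  have h1 := hxr j (Subgroup.mem_zpowers j)
  have hne : x * j * x⁻¹ ≠ 1 := fun e => hj1 (by
    rw [show j = x⁻¹ * (x * j * x⁻¹) * x by group, e]; group)
  have hsq : x * j * x⁻¹ * (x * j * x⁻¹) = 1 := by
    rw [show x * j * x⁻¹ * (x * j * x⁻¹) = x * (j * j) * x⁻¹ by group, hjj]; group
  by_cases hV : x * j * x⁻¹ ∈ V
  · obtain ⟨n, -, hn⟩ := h.conj_V hV hne hz hz1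
    exact ⟨n * x, by rw [← hn]; group⟩
  · obtain ⟨v, hv, hv1, g, hgU, hgV⟩ := h.exists_fused hS gold
    have hgsq : g * v * g⁻¹ * (g * v * g⁻¹) = 1 := by
      rw [show g * v * g⁻¹ * (g * v * g⁻¹) = g * (v * v) * g⁻¹ by group, h.loc.oct.sq v hv]; group
    obtain ⟨n, -, hn⟩ := h.conj_inv hS h1 hgU hV hgV hsq hgsq
    obtain ⟨m, -, hm⟩ := h.conj_V hv hv1 hz hz1
    refine ⟨m * g⁻¹ * n * x, ?_⟩
    calc m * g⁻¹ * n * x * j * (m * g⁻¹ * n * x)⁻¹
        = m * (g⁻¹ * (n * (x * j * x⁻¹) * n⁻¹) * g) * m⁻¹ := by group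
      _ = m * (g⁻¹ * (g * v * g⁻¹) * g) * m⁻¹ := by rw [hn]
      _ = m * v * m⁻¹ := by group
      _ = z := hm

end Hyp

end Cfsg.Agent.StdL2.G23U
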