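import Mathlib
import Cfsg.Agent.StdL2.G23Sq
import Cfsg.Agent.SignalizersComponents.Components
import Cfsg.Agent.SignalizersComponents.CompBasic
import Cfsg.Agent.SignalizersComponents.PCompCore

/-!
S1773, case q = 8, N(E)/C(E) = L3(2): components of `C(z)/O`: general lemmas.
-/

set_option autoImplicit false
set_option linter.style.haveILetI false
set_option linter.unusedSectionVars false

namespace Cfsg.Agent.StdL2.G23Comp

open Cfsg Cfsg.Agent.SignalizersComponents.Components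
open G23Aut G23Coset G23Loc G23U

universe u

variable {H : Type u} [Group H]

/-- An involution with solvable centraliser normalises every component. -/
theorem map_eq_of_solvable {L : Subgroup H} (hL : IsComponent L) {s : H} (hss : s * s = 1)
    (hs : Group.IsSolvable ↥(Subgroup.centralizer ({s} : Set H))) :
    L.map (MulAut.conj s).toMonoidHom = L := by
  by_contra hne
  have hL' : IsComponent (L.map (MulAut.conj s).toMonoidHom) := isComponent_conj s hL
  have hcomm : L.map (MulAut.conj s).toMonoidHom ≤ Subgroup.centralizer (L : Set H) :=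
    component_le_centralizer_of_ne hL' hL hne
  have hsinv : s⁻¹ = s := inv_eq_of_mul_eq_one_left hss
  have hc : ∀ l ∈ L, ∀ m ∈ L, l * (s * m * s⁻¹) = (s * m * s⁻¹) * l := by
    intro l hl m hm
    exact Subgroup.mem_centralizer_iff.1 (hcomm ⟨m, hm, rfl⟩) l hl
  let f : L →* Subgroup.centralizer ({s} : Set H) :=
    { toFun := fun l => ⟨l * (s * l * s⁻¹), by
        rw [Subgroup.mem_centralizer_singleton_iff]
        have h1 := hc l l.2 l l.2
        calc (l : H) * (s * l * s⁻¹) * s = (s * l * s⁻¹) * l * s := by rw [h1]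
          _ = s * l * s⁻¹ * l * s := by group
          _ = s * (l * (s * l * s)) := by rw [hsinv]; group
          _ = s * (l * (s * l * s⁻¹)) := by rw [hsinv]⟩
      map_one' := Subtype.ext (by simp)
      map_mul' := by
        intro l m
        apply Subtype.ext
        simp only [Subgroup.coe_mul]
        have h1 := hc m m.2 l l.2
        calc (l : H) * m * (s * (l * m) * s⁻¹) = l * (m * (s * l * s⁻¹)) * (s * m * s⁻¹) := by group
          _ = l * ((s * l * s⁻¹) * m) * (s * m * s⁻¹) := by rw [h1]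
          _ = l * (s * l * s⁻¹) * (m * (s * m * s⁻¹)) := by group }
  have hker : f.ker ≤ Subgroup.center L := by
    intro l hl
    rw [Subgroup.mem_center_iff]
    intro m
    have h1 : (l : H) * (s * l * s⁻¹) = 1 := congrArg Subtype.val (MonoidHom.mem_ker.1 hl)
    have h2 : s * (l : H) * s⁻¹ = (l : H)⁻¹ := (inv_eq_of_mul_eq_one_right h1).symm
    have h3 := hc m m.2 l l.2
    rw [h2] at h3
    apply Subtype.ext
    change (m : H) * l = l * m
    have h4 : Commute (m : H) (l : H)⁻¹ := h3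
    exact Commute.inv_right_iff.1 h4
  apply quasisimple_not_isSolvable hL.2
  haveI := hs
  haveI : Group.IsSolvable f.ker := by
    haveI : Group.IsSolvable (Subgroup.center L) := by
      apply Group.isSolvable_of_comm
      intro a b
      exact Subtype.ext (Subgroup.mem_center_iff.1 b.2 a)
    exact Group.isSolvable_of_isSolvable_injective (Subgroup.inclusion_injective hker)
  exact Group.isSolvable_of_ker_le_range f.ker.subtype f (by rw [Subgroup.range_subtype])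

open scoped IsMulCommutative in
/-- A central element of an abelian Sylow 2-subgroup of a perfect group is trivial. -/
theorem eq_one_of_abelian {K : Type u} [Group K] [Finite K] (hK : Group.IsPerfect K)
    (P : Sylow 2 K) (hcomm : IsMulCommutative (P : Subgroup K)) {y : K}
    (hy : y ∈ (P : Subgroup K)) (hyc : y ∈ Subgroup.center K) : y = 1 := by
  haveI : Fact (Nat.Prime 2) := ⟨Nat.prime_two⟩
  have key : ∀ (k : ℕ) (g₀ : K), g₀⁻¹ * y ^ k * g₀ ∈ (P : Subgroup K) →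
      g₀⁻¹ * y ^ k * g₀ = y ^ k := by
    intro k g₀ _
    have h1 := Subgroup.mem_center_iff.1 (Subgroup.pow_mem _ hyc k) g₀
    rw [mul_assoc, ← h1]; group
  have h1 := MonoidHom.transfer_eq_pow (MonoidHom.id (P : Subgroup K)) y key
  have h2 : MonoidHom.transfer (MonoidHom.id (P : Subgroup K)) y = 1 :=
    Cfsg.Agent.SignalizersComponents.CompBasic.hom_eq_one_of_perfect hK _ y
  rw [h2] at h1
  have h3 : y ^ (P : Subgroup K).index = 1 := (congrArg Subtype.val h1).symm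
  obtain ⟨k, hk⟩ := P.isPGroup' ⟨y, hy⟩
  have h4 : y ^ 2 ^ k = 1 := congrArg Subtype.val hk
  rw [← orderOf_eq_one_iff]
  apply Nat.eq_one_of_dvd_coprimes (a := 2 ^ k) (b := (P : Subgroup K).index)
  · apply Nat.Coprime.pow_left
    rw [Nat.prime_two.coprime_iff_not_dvd]
    exact P.not_dvd_index
  · rwa [orderOf_dvd_iff_pow_eq_one]
  · rwa [orderOf_dvd_iff_pow_eq_one]

/-- The odd order theorem at one universe level. -/
def OddSolv : Prop := ∀ (G : Type u) [Group G] [Finite G], Odd (Nat.card G) → Group.IsSolvable G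

/-- The configuration in `C(z)/O`. -/
structure Ctx [Finite H] (Y U V : Subgroup H) (z t : H) : Prop where
  nY : Y.Normal
  UY : U ≤ Y
  Up : IsPGroup 2 U
  cU : Nat.card U = 64
  odd : ¬ 2 ∣ U.relIndex Y
  oct : Oct V
  VU : V ≤ U
  UN : U ≤ Subgroup.normalizer (V : Set H)
  zV : z ∈ V
  z1 : z ≠ 1
  zc : ∀ g : H, g * z = z * g
  tt : t * t = 1
  tV : ∀ v ∈ V, t * v = v * t
  tU : ∀ u ∈ U, t * u * t⁻¹ * u⁻¹ ∈ V
  ct : ∀ u ∈ U, t * u = u * t → u ∈ V
  cV : ∀ u ∈ U, (∀ v ∈ V, u * v = v * u) → u ∈ V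
  full : ∀ φ : MulAut V, ((φ ⟨z, zV⟩ : V) : H) = z →
    ∃ n ∈ Y, n ∈ Subgroup.normalizer (V : Set H) ∧ ∀ v : V, n * (v : H) * n⁻¹ = φ v
  solv : ∀ v ∈ V, Group.IsSolvable ↥(Subgroup.centralizer ({t * v} : Set H))
  flag : ∃ a b, Flag U V z a b
  inv : ∀ w ∈ U, w ∉ V → (∀ v ∈ V, (w * w) * v * (w * w)⁻¹ = v) → ∃ v ∈ V, w * v * (w * v) = 1

namespace Ctx

variable [Finite H] {Y U V : Subgroup H} {z t : H}

theorem tv_sq (c : Ctx Y U V z t) {v : H} (hv : v ∈ V) : t * v * (t * v) = 1 := by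
  calc t * v * (t * v) = t * (v * t) * v := by group
    _ = t * (t * v) * v := by rw [c.tV v hv]
    _ = (t * t) * (v * v) := by group
    _ = 1 := by rw [c.tt, c.oct.sq v hv, one_mul]

theorem mem_norm_iff {L : Subgroup H} {g : H} :
    g ∈ Subgroup.normalizer (L : Set H) ↔ L.map (MulAut.conj g).toMonoidHom = L :=
  Subgroup.mem_normalizer_iff_map_conj_eq

theorem tv_norm (c : Ctx Y U V z t) {L : Subgroup H} (hL : IsComponent L) {v : H} (hv : v ∈ V) :
    t * v ∈ Subgroup.normalizer (L : Set H) :=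
  mem_norm_iff.2 (map_eq_of_solvable hL (c.tv_sq hv) (c.solv v hv))

theorem t_norm (c : Ctx Y U V z t) {L : Subgroup H} (hL : IsComponent L) :
    t ∈ Subgroup.normalizer (L : Set H) := by
  have := c.tv_norm hL V.one_mem
  rwa [mul_one] at this

theorem odd_L (c : Ctx Y U V z t) {L : Subgroup H} (hL : IsComponent L) (hLY : L ≤ Y) :
    ¬ 2 ∣ (U ⊓ L).relIndex L := by
  rw [Subgroup.inf_relIndex_right]
  intro h
  exact c.odd (h.trans
    (Cfsg.Agent.SignalizersComponents.PCompCore.relIndex_dvd_relIndex_of_subnormal U hL.1 hLY))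

/-- the Sylow 2-subgroup of a component -/
theorem exists_sylow (c : Ctx Y U V z t) {L : Subgroup H} (hL : IsComponent L) (hLY : L ≤ Y) :
    ∃ P : Sylow 2 L, (P : Subgroup L) = (U ⊓ L).subgroupOf L := by
  haveI : Fact (Nat.Prime 2) := ⟨Nat.prime_two⟩
  have h1 : IsPGroup 2 ((U ⊓ L).subgroupOf L) :=
    (c.Up.to_le inf_le_left).of_equiv (Subgroup.subgroupOfEquivOfLe inf_le_right).symm
  exact ⟨h1.toSylow (c.odd_L hL hLY), rfl⟩

theorem not_central (c : Ctx Y U V z t) (hodd : OddSolv.{u}) {L : Subgroup H}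
    (hL : IsComponent L) (hLY : L ≤ Y) : ¬ ∀ s ∈ U ⊓ L, ∀ l ∈ L, s * l = l * s := by
  haveI : Fact (Nat.Prime 2) := ⟨Nat.prime_two⟩
  intro hcen
  obtain ⟨P, hP⟩ := c.exists_sylow hL hLY
  have h2 : 2 ∣ Nat.card L := by
    by_contra h3
    exact quasisimple_not_isSolvable hL.2
      (hodd L (Nat.odd_iff.2 (Nat.two_dvd_ne_zero.1 h3)))
  apply Cfsg.Agent.SignalizersComponents.CompBasic.sylow_not_le_center_of_perfect hL.2.1 2 h2 P
  intro x hx
  rw [hP] at hx
  rw [Subgroup.mem_center_iff]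
  intro l
  exact Subtype.ext (hcen x (Subgroup.mem_subgroupOf.1 hx) l l.2).symm

theorem not_abelian (c : Ctx Y U V z t) {L : Subgroup H}
    (hL : IsComponent L) (hLY : L ≤ Y) (hz : z ∈ L)
    (hab : ∀ s ∈ U ⊓ L, ∀ s' ∈ U ⊓ L, s * s' = s' * s) : False := by
  obtain ⟨P, hP⟩ := c.exists_sylow hL hLY
  have h1 : (⟨z, hz⟩ : L) = 1 := by
    apply eq_one_of_abelian hL.2.1 P
    · rw [hP]
      constructor
      constructor
      rintro ⟨x, hx⟩ ⟨y, hy⟩
      apply Subtype.ext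
      apply Subtype.ext
      exact hab x (Subgroup.mem_subgroupOf.1 hx) y (Subgroup.mem_subgroupOf.1 hy)
    · rw [hP]
      exact Subgroup.mem_subgroupOf.2 ⟨c.VU c.zV, hz⟩
    · rw [Subgroup.mem_center_iff]
      intro l
      exact Subtype.ext (c.zc l)
  exact c.z1 (congrArg Subtype.val h1)

/-- The key inequality. -/
theorem key (c : Ctx Y U V z t) {R : Subgroup H} (hRU : R ≤ U) (ht : ∀ s ∈ R, t * s * t⁻¹ ∈ R) :
    Nat.card R ≤ Nat.card (R ⊓ V : Subgroup H) * Nat.card (R ⊓ V : Subgroup H) := by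
  let f : R → (R ⊓ V : Subgroup H) := fun s => ⟨t * s * t⁻¹ * (s : H)⁻¹,
    Subgroup.mem_inf.2 ⟨R.mul_mem (ht s s.2) (R.inv_mem s.2), c.tU s (hRU s.2)⟩⟩
  have h1 := Cfsg.Agent.StdL2.G23Coset.card_le_mul_of_fibers f (Nat.card (R ⊓ V : Subgroup H)) (by
    intro s
    -- the fibre of `s` is contained in `s (R ⊓ V)`
    have : ∀ r : {r : R // f r = f s}, (s : H)⁻¹ * (r : R) ∈ R ⊓ V := by
      rintro ⟨r, hr⟩
      have h2 : t * (r : H) * t⁻¹ * (r : H)⁻¹ = t * s * t⁻¹ * (s : H)⁻¹ := congrArg Subtype.val hr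
      refine Subgroup.mem_inf.2 ⟨R.mul_mem (R.inv_mem s.2) r.2, ?_⟩
      apply c.ct _ (U.mul_mem (U.inv_mem (hRU s.2)) (hRU r.2))
      have h3 : t * (s : H)⁻¹ * t⁻¹ * (t * (r : H) * t⁻¹ * (r : H)⁻¹) * r =
          t * (s : H)⁻¹ * t⁻¹ * (t * s * t⁻¹ * (s : H)⁻¹) * r := by rw [h2]
      have h4 : t * (s : H)⁻¹ * r * t⁻¹ = (s : H)⁻¹ * r := by
        calc t * (s : H)⁻¹ * r * t⁻¹
            = t * (s : H)⁻¹ * t⁻¹ * (t * (r : H) * t⁻¹ * (r : H)⁻¹) * r := by group
          _ = t * (s : H)⁻¹ * t⁻¹ * (t * s * t⁻¹ * (s : H)⁻¹) * r := h3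
          _ = (s : H)⁻¹ * r := by group
      calc t * ((s : H)⁻¹ * (r : H)) = (t * (s : H)⁻¹ * r * t⁻¹) * t := by group
        _ = (s : H)⁻¹ * (r : H) * t := by rw [h4]
    exact Nat.card_le_card_of_injective (fun r : {r : R // f r = f s} =>
      (⟨_, this r⟩ : (R ⊓ V : Subgroup H))) (by
        intro r r' hrr
        have h5 : (s : H)⁻¹ * (r : R) = (s : H)⁻¹ * (r' : R) := congrArg Subtype.val hrr
        exact Subtype.ext (Subtype.ext (mul_left_cancel h5))))
  exact h1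

theorem U_conj (c : Ctx Y U V z t) {u : H} (hu : u ∈ U) : t * u * t⁻¹ ∈ U := by
  have h1 := U.mul_mem (c.VU (c.tU u hu)) hu
  rwa [show t * u * t⁻¹ * u⁻¹ * u = t * u * t⁻¹ by group] at h1

/-- Each component contains an element of `V` outside `⟨z⟩`. -/
theorem exists_mem (c : Ctx Y U V z t) (hodd : OddSolv.{u}) {L : Subgroup H}
    (hL : IsComponent L) (hLY : L ≤ Y) : ∃ v ∈ V, v ∈ L ∧ v ≠ 1 ∧ v ≠ z := by
  haveI : Fact (Nat.Prime 2) := ⟨Nat.prime_two⟩
  by_contra hcon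
  push Not at hcon
  have hk := c.key (R := U ⊓ L) inf_le_left (by
    intro s hs
    exact Subgroup.mem_inf.2 ⟨c.U_conj hs.1,
      (Subgroup.mem_normalizer_iff.1 (c.t_norm hL) s).1 hs.2⟩)
  by_cases hz : z ∈ L
  · apply c.not_abelian hL hLY hz
    have h2 : Nat.card (U ⊓ L ⊓ V : Subgroup H) ≤ 2 := by
      have h3 : (U ⊓ L ⊓ V : Subgroup H) ≤ Subgroup.zpowers z := by
        rintro v ⟨⟨hvU, hvL⟩, hvV⟩
        by_cases hv1 : v = 1
        · rw [hv1]; exact Subgroup.one_mem _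
        · rw [hcon v hvV hvL hv1]
          exact Subgroup.mem_zpowers z
      refine (Subgroup.card_le_of_le h3).trans ?_
      rw [Nat.card_zpowers]
      exact Nat.le_of_dvd (by norm_num) (orderOf_dvd_of_pow_eq_one (by
        rw [pow_two]; exact c.oct.sq z c.zV))
    have h4 : Nat.card (U ⊓ L : Subgroup H) ≤ 4 := by nlinarith
    obtain ⟨n, hn⟩ := IsPGroup.iff_card.1 (c.Up.to_le (inf_le_left : U ⊓ L ≤ U))
    have h5 : n ≤ 2 := by
      by_contra h6
      push Not at h6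
      have : 2 ^ 3 ≤ 2 ^ n := Nat.pow_le_pow_right (by norm_num) h6
      omega
    have h7 : ∀ a b : (U ⊓ L : Subgroup H), a * b = b * a := by
      interval_cases n
      · rw [pow_zero] at hn
        haveI := (Nat.card_eq_one_iff_unique.1 hn).1
        intro a b
        exact Subsingleton.elim _ _
      · rw [pow_one] at hn
        haveI : IsCyclic (U ⊓ L : Subgroup H) := isCyclic_of_prime_card hn
        intro a b
        letI := IsCyclic.commGroup (α := (U ⊓ L : Subgroup H))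
        exact mul_comm a b
      · have h8 := IsPGroup.isMulCommutative_of_card_eq_prime_sq hn
        exact fun a b => h8.is_comm.comm a b
    intro s hs s' hs'
    exact congrArg Subtype.val (h7 ⟨s, hs⟩ ⟨s', hs'⟩)
  · apply c.not_central hodd hL hLY
    have h2 : Nat.card (U ⊓ L ⊓ V : Subgroup H) = 1 := by
      have h3 : (U ⊓ L ⊓ V : Subgroup H) = ⊥ := by
        rw [eq_bot_iff]
        rintro v ⟨⟨hvU, hvL⟩, hvV⟩
        rw [Subgroup.mem_bot]
        by_contra hv1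
        apply hz
        rw [← hcon v hvV hvL hv1]
        exact hvL
      rw [h3, Subgroup.card_bot]
    rw [h2] at hk
    have h4 : (U ⊓ L : Subgroup H) = ⊥ := by
      apply Subgroup.eq_bot_of_card_le
      simpa using hk
    intro s hs l _
    rw [h4, Subgroup.mem_bot] at hs
    rw [hs, one_mul, mul_one]

/-- two elements of `V` outside `⟨z⟩` are conjugate in `N_Y(V)` -/
theorem conj_V (c : Ctx Y U V z t) {v w : H} (hv : v ∈ V) (hv1 : v ≠ 1) (hvz : v ≠ z)
    (hw : w ∈ V) (hw1 : w ≠ 1) (hwz : w ≠ z) :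
    ∃ n ∈ Y, n ∈ Subgroup.normalizer (V : Set H) ∧ n * v * n⁻¹ = w := by
  obtain ⟨b, B⟩ := c.oct.exists_bas' c.zV c.z1 hv hv1 hvz
  obtain ⟨b', B'⟩ := c.oct.exists_bas' c.zV c.z1 hw hw1 hwz
  obtain ⟨φ, h1, h2, -⟩ := B.exists_aut c.oct B'
  obtain ⟨n, hn, hnV, hnv⟩ := c.full φ (congrArg Subtype.val h1)
  refine ⟨n, hn, hnV, ?_⟩
  have h3 := hnv ⟨v, hv⟩
  rw [h2] at h3
  exact h3

theorem conj_comp (c : Ctx Y U V z t) {L : Subgroup H} (hL : IsComponent L) (hLY : L ≤ Y)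
    (n : H) : IsComponent (L.map (MulAut.conj n).toMonoidHom) ∧
      L.map (MulAut.conj n).toMonoidHom ≤ Y := by
  refine ⟨isComponent_conj n hL, ?_⟩
  rintro _ ⟨l, hl, rfl⟩
  exact c.nY.conj_mem l (hLY hl) n

/-- An element of `V` outside `⟨z⟩` does not centralise the component it is contained in. -/
theorem no_cent (c : Ctx Y U V z t) (hodd : OddSolv.{u}) {L : Subgroup H}
    (hL : IsComponent L) (hLY : L ≤ Y) {v : H} (hv : v ∈ V) (hv1 : v ≠ 1) (hvz : v ≠ z)
    (hvL : v ∈ L) : ¬ ∀ l ∈ L, v * l = l * v := by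
  intro hcen
  have h1 : ∀ w ∈ V, w ∈ Subgroup.centralizer (L : Set H) := by
    intro w hw
    by_cases hw1 : w = 1
    · rw [hw1]; exact Subgroup.one_mem _
    by_cases hwz : w = z
    · rw [hwz, Subgroup.mem_centralizer_iff]
      intro l _
      exact c.zc l
    obtain ⟨n, hn, -, hnv⟩ := c.conj_V hv hv1 hvz hw hw1 hwz
    obtain ⟨h2, h3⟩ := c.conj_comp hL hLY n
    have hwL : w ∈ L.map (MulAut.conj n).toMonoidHom := ⟨v, hvL, hnv⟩
    by_cases hne : L.map (MulAut.conj n).toMonoidHom = L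
    · rw [Subgroup.mem_centralizer_iff]
      intro l hl
      have hl' : l ∈ L.map (MulAut.conj n).toMonoidHom := by rw [hne]; exact hl
      obtain ⟨m, hm, rfl⟩ := hl'
      have h4 := hcen m hm
      change n * m * n⁻¹ * w = w * (n * m * n⁻¹)
      rw [← hnv]
      calc n * m * n⁻¹ * (n * v * n⁻¹) = n * (m * v) * n⁻¹ := by group
        _ = n * (v * m) * n⁻¹ := by rw [h4]
        _ = _ := by group
    · exact component_le_centralizer_of_ne h2 hL hne hwL
  apply c.not_central hodd hL hLY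
  intro s hs l hl
  have hsV : s ∈ V := by
    apply c.cV s hs.1
    intro w hw
    exact Subgroup.mem_centralizer_iff.1 (h1 w hw) s hs.2
  exact (Subgroup.mem_centralizer_iff.1 (h1 s hsV) l hl).symm

theorem exists_comp (c : Ctx Y U V z t) (hodd : OddSolv.{u}) {L : Subgroup H}
    (hL : IsComponent L) (hLY : L ≤ Y) {v : H} (hv : v ∈ V) (hv1 : v ≠ 1) (hvz : v ≠ z) :
    ∃ L' : Subgroup H, IsComponent L' ∧ L' ≤ Y ∧ v ∈ L' := by
  obtain ⟨w, hw, hwL, hw1, hwz⟩ := c.exists_mem hodd hL hLY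
  obtain ⟨n, hn, -, hnv⟩ := c.conj_V hw hw1 hwz hv hv1 hvz
  obtain ⟨h2, h3⟩ := c.conj_comp hL hLY n
  exact ⟨_, h2, h3, ⟨w, hwL, hnv⟩⟩

theorem unique (c : Ctx Y U V z t) (hodd : OddSolv.{u}) {L₁ L₂ : Subgroup H}
    (h₁ : IsComponent L₁) (h₁Y : L₁ ≤ Y) (h₂ : IsComponent L₂) (h₂Y : L₂ ≤ Y) {v₁ v₂ : H}
    (hv₁ : v₁ ∈ V) (hv₁1 : v₁ ≠ 1) (hv₁z : v₁ ≠ z) (hv₁L : v₁ ∈ L₁)
    (hv₂ : v₂ ∈ V) (hv₂1 : v₂ ≠ 1) (hv₂z : v₂ ≠ z) (hv₂L : v₂ ∈ L₂) : L₁ = L₂ := by
  by_contra hne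
  have h12 : L₂ ≤ Subgroup.centralizer (L₁ : Set H) :=
    component_le_centralizer_of_ne h₂ h₁ (Ne.symm hne)
  have h21 : L₁ ≤ Subgroup.centralizer (L₂ : Set H) := component_le_centralizer_of_ne h₁ h₂ hne
  have hzc : ∀ L : Subgroup H, z ∈ Subgroup.centralizer (L : Set H) := by
    intro L
    rw [Subgroup.mem_centralizer_iff]
    intro l _
    exact c.zc l
  have n1 : v₁ ∉ Subgroup.centralizer (L₁ : Set H) := fun h => c.no_cent hodd h₁ h₁Y hv₁ hv₁1 hv₁z hv₁L
    (fun l hl => (Subgroup.mem_centralizer_iff.1 h l hl).symm)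
  have n2 : v₂ ∉ Subgroup.centralizer (L₂ : Set H) := fun h => c.no_cent hodd h₂ h₂Y hv₂ hv₂1 hv₂z hv₂L
    (fun l hl => (Subgroup.mem_centralizer_iff.1 h l hl).symm)
  have hv12 : v₁ * v₂ ∈ V := V.mul_mem hv₁ hv₂
  have e1 : v₁ = v₁ * v₂ * v₂ := by rw [mul_assoc, c.oct.sq v₂ hv₂, mul_one]
  have e2 : v₂ = v₁ * (v₁ * v₂) := by rw [← mul_assoc, c.oct.sq v₁ hv₁, one_mul]
  by_cases h3 : v₁ * v₂ = 1
  · apply n1
    rw [e1, h3, one_mul]
    exact h12 hv₂L
  by_cases h4 : v₁ * v₂ = z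
  · apply n1
    rw [e1, h4]
    exact Subgroup.mul_mem _ (hzc _) (h12 hv₂L)
  obtain ⟨L₃, h₃, h₃Y, hv₃⟩ := c.exists_comp hodd h₁ h₁Y hv12 h3 h4
  by_cases h5 : L₃ = L₁
  · rw [h5] at hv₃
    apply n2
    rw [e2]
    exact Subgroup.mul_mem _ (h21 hv₁L) (h21 hv₃)
  · apply n1
    rw [e1]
    exact Subgroup.mul_mem _ (component_le_centralizer_of_ne h₃ h₁ h5 hv₃) (h12 hv₂L)

theorem V_le (c : Ctx Y U V z t) (hodd : OddSolv.{u}) {L : Subgroup H}
    (hL : IsComponent L) (hLY : L ≤ Y) : V ≤ L := by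
  obtain ⟨w, hw, hwL, hw1, hwz⟩ := c.exists_mem hodd hL hLY
  have h1 : ∀ v ∈ V, v ≠ 1 → v ≠ z → v ∈ L := by
    intro v hv hv1 hvz
    obtain ⟨L', h2, h3, h4⟩ := c.exists_comp hodd hL hLY hv hv1 hvz
    rw [c.unique hodd hL hLY h2 h3 hw hw1 hwz hwL hv hv1 hvz h4]
    exact h4
  intro v hv
  by_cases hv1 : v = 1
  · rw [hv1]; exact L.one_mem
  by_cases hvz : v = z
  · rw [hvz]
    have h2 : w * z ∈ L := by
      apply h1 _ (V.mul_mem hw c.zV)
      · intro e
        exact hwz (c.oct.eq_of_mul c.zV e)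
      · intro e
        exact hw1 (mul_eq_right.1 e)
    have h3 : z = w⁻¹ * (w * z) := by group
    rw [h3]
    exact L.mul_mem (L.inv_mem hwL) h2
  · exact h1 v hv hv1 hvz

/-- The component is normal. -/
theorem normal (c : Ctx Y U V z t) (hodd : OddSolv.{u}) {L : Subgroup H}
    (hL : IsComponent L) (hLY : L ≤ Y) : L.Normal := by
  have h1 : ∀ n : H, L.map (MulAut.conj n).toMonoidHom = L := by
    intro n
    obtain ⟨h2, h3⟩ := c.conj_comp hL hLY n
    obtain ⟨w, hw, hwL, hw1, hwz⟩ := c.exists_mem hodd hL hLY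
    exact c.unique hodd h2 h3 hL hLY hw hw1 hwz (c.V_le hodd h2 h3 hw) hw hw1 hwz hwL
  constructor
  intro l hl g
  rw [← h1 g]
  exact ⟨l, hl, rfl⟩

end Ctx

end Cfsg.Agent.StdL2.G23Comp
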