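import Mathlib
import Cfsg.Agent.StdL2.G23Comp
import Cfsg.Agent.Lib.SylowNormalInf

/-!
S1773, case q = 8, N(E)/C(E) = L3(2): the extraspecial subgroup `W` of `U`, and the Sylow
2-subgroup of a component of `C(z)/O`.
-/

set_option autoImplicit false
set_option linter.style.haveILetI false
set_option linter.unusedSectionVars false

namespace Cfsg.Agent.StdL2.G23Comp

open Cfsg Cfsg.Agent.SignalizersComponents.Components
open G23Aut G23Coset G23Loc G23U

universe u

variable {H : Type u} [Group H] [Finite H]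

/-- the action of an element of `U` in coordinates -/
theorem flag_action {U V : Subgroup H} (h : Oct V) (UN : U ≤ Subgroup.normalizer (V : Set H))
    {z a b : H} (F : Flag U V z a b) {q : F3 → H}
    (Q : Coord V z a b q) {u : H} (hu : u ∈ U) : ∃ i j k : ZMod 2, ∀ i' j' k' : ZMod 2,
      u * q (i', j', k') * u⁻¹ = q (i' + i * j' + k * k', j' + j * k', k') := by
  have hz : u * z * u⁻¹ = q (1, 0, 0) := by rw [F.fz u hu, Q.hz]
  obtain ⟨i, hi⟩ : ∃ i : ZMod 2, u * a * u⁻¹ = q (i, 1, 0) := by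
    rcases F.fa u hu with h1 | h1
    · exact ⟨0, by rw [h1, Q.ha]⟩
    · refine ⟨1, ?_⟩
      rw [h1, ← Q.ha, ← Q.hz, ← Q.add]
      rfl
  have hbV : u * b * u⁻¹ ∈ V := (Subgroup.mem_normalizer_iff.1 (UN hu) b).1 F.bas.hw
  obtain ⟨⟨k, j, l⟩, hb⟩ := Q.surj _ hbV
  have key := Q.conj hz hi hb.symm
  have hl : l = 1 := by
    rcases zmod2 l with rfl | rfl
    · exfalso
      have h1 := key (k + i * j) j 0
      simp only [smul3, mul_one, mul_zero, zero_mul, add_zero, zero_add] at h1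
      have e : k + i * j + j * i = k := by
        have : ∀ k i j : ZMod 2, k + i * j + j * i = k := by decide
        exact this k i j
      rw [e, hb] at h1
      have h2 : q (k + i * j, j, 0) = b := mul_left_cancel (mul_right_cancel h1)
      rw [← Q.hb] at h2
      have h3 := Q.inj h2
      simp only [Prod.mk.injEq] at h3
      exact absurd h3.2.2 (by decide)
    · rfl
  refine ⟨i, j, k, fun i' j' k' => ?_⟩
  rw [key i' j' k', hl]
  congr 1
  simp only [smul3, mul_one, mul_zero, add_zero, zero_add, mul_comm]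

namespace Ctx

variable {Y U V : Subgroup H} {z t : H}

/-- The elements of `U` inducing transvections with centre `z` on `V`. -/
def W (c : Ctx Y U V z t) : Subgroup H where
  carrier := {w | w ∈ U ∧ ∀ v ∈ V, w * v * w⁻¹ = v ∨ w * v * w⁻¹ = v * z}
  one_mem' := ⟨U.one_mem, fun v _ => Or.inl (by group)⟩
  mul_mem' := by
    rintro w w' ⟨hw, h1⟩ ⟨hw', h2⟩
    refine ⟨U.mul_mem hw hw', fun v hv => ?_⟩
    have e1 : w * w' * v * (w * w')⁻¹ = w * (w' * v * w'⁻¹) * w⁻¹ := by group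
    have e2 : w * (v * z) * w⁻¹ = (w * v * w⁻¹) * z := by
      calc w * (v * z) * w⁻¹ = w * v * (z * w⁻¹) := by group
        _ = w * v * (w⁻¹ * z) := by rw [← c.zc]
        _ = _ := by group
    rw [e1]
    rcases h2 v hv with h3 | h3
    · rw [h3]; exact h1 v hv
    · rw [h3, e2]
      rcases h1 v hv with h4 | h4
      · rw [h4]; exact Or.inr rfl
      · rw [h4, mul_assoc, c.oct.sq z c.zV, mul_one]; exact Or.inl rfl
  inv_mem' := by
    rintro w ⟨hw, h1⟩
    refine ⟨U.inv_mem hw, fun v hv => ?_⟩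
    have hv' : w⁻¹ * v * w⁻¹⁻¹ ∈ V :=
      (Subgroup.mem_normalizer_iff.1 (c.UN (U.inv_mem hw)) v).1 hv
    rcases h1 _ hv' with h2 | h2
    · left
      rw [← h2]; group
    · right
      have e : w * (w⁻¹ * v * w⁻¹⁻¹) * w⁻¹ = v := by group
      rw [e] at h2
      have h3 : v * z = (w⁻¹ * v * w⁻¹⁻¹ * z) * z := congrArg (· * z) h2
      rw [mul_assoc (w⁻¹ * v * w⁻¹⁻¹), c.oct.sq z c.zV, mul_one] at h3
      exact h3.symm

theorem mem_W (c : Ctx Y U V z t) {w : H} :
    w ∈ c.W ↔ w ∈ U ∧ ∀ v ∈ V, w * v * w⁻¹ = v ∨ w * v * w⁻¹ = v * z := Iff.rfl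

theorem V_le_W (c : Ctx Y U V z t) : V ≤ c.W := by
  intro v hv
  refine c.mem_W.2 ⟨c.VU hv, fun w hw => Or.inl ?_⟩
  exact mul_inv_eq_iff_eq_mul.2 (c.oct.comm hv hw)

theorem W_le_U (c : Ctx Y U V z t) : c.W ≤ U := fun _ h => h.1

theorem zconj (c : Ctx Y U V z t) (w v : H) : w * (v * z) * w⁻¹ = (w * v * w⁻¹) * z := by
  calc w * (v * z) * w⁻¹ = w * v * (z * w⁻¹) := by group
    _ = w * v * (w⁻¹ * z) := by rw [← c.zc]
    _ = _ := by group

theorem W_sq (c : Ctx Y U V z t) {w : H} (hw : w ∈ c.W) : w * w = 1 ∨ w * w = z := by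
  by_cases hwV : w ∈ V
  · exact Or.inl (c.oct.sq w hwV)
  · have hww : ∀ v ∈ V, (w * w) * v * (w * w)⁻¹ = v := by
      intro v hv
      rw [show (w * w) * v * (w * w)⁻¹ = w * (w * v * w⁻¹) * w⁻¹ by group]
      rcases hw.2 v hv with h1 | h1
      · rw [h1, h1]
      · rw [h1, c.zconj, h1, mul_assoc, c.oct.sq z c.zV, mul_one]
    obtain ⟨v, hv, h1⟩ := c.inv w hw.1 hwV hww
    have h2 : w * w = v * (w⁻¹ * v * w⁻¹⁻¹) := by
      have e : w * v * (w * v) = (w * w) * (w⁻¹ * v * w⁻¹⁻¹) * v := by group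
      rw [e] at h1
      have h3 := eq_inv_of_mul_eq_one_left h1
      rw [c.oct.inv hv] at h3
      have hv' : w⁻¹ * v * w⁻¹⁻¹ ∈ V :=
        (Subgroup.mem_normalizer_iff.1 (c.UN (U.inv_mem hw.1)) v).1 hv
      calc w * w = (w * w) * (w⁻¹ * v * w⁻¹⁻¹) * (w⁻¹ * v * w⁻¹⁻¹)⁻¹ := by group
        _ = v * (w⁻¹ * v * w⁻¹⁻¹)⁻¹ := by rw [h3]
        _ = _ := by rw [c.oct.inv hv']
    rcases (c.W.inv_mem hw).2 v hv with h3 | h3
    · left
      rw [h2, h3, c.oct.sq v hv]
    · right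
      rw [h2, h3, ← mul_assoc, c.oct.sq v hv, one_mul]

/-- an element of `U` in `W`, in coordinates -/
theorem mem_W_iff (c : Ctx Y U V z t) {a b : H} {q : F3 → H} (Q : Coord V z a b q) {u : H}
    (hu : u ∈ U) {i j k : ZMod 2}
    (hc : ∀ i' j' k' : ZMod 2, u * q (i', j', k') * u⁻¹ = q (i' + i * j' + k * k', j' + j * k', k')) :
    u ∈ c.W ↔ j = 0 := by
  constructor
  · intro hW
    have h1 := hW.2 (q (0, 0, 1)) (Q.mem _)
    rw [hc] at h1
    rcases zmod2 j with h2 | h2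
    · exact h2
    · exfalso
      rcases h1 with h1 | h1
      · have h3 := Q.inj h1
        rw [h2] at h3
        simp only [Prod.mk.injEq] at h3
        exact absurd h3.2.1 (by decide)
      · rw [← Q.hz, ← Q.add] at h1
        have h3 := Q.inj h1
        rw [h2] at h3
        simp only [Prod.mk_add_mk, Prod.mk.injEq] at h3
        exact absurd h3.2.1 (by decide)
  · intro hj
    refine c.mem_W.2 ⟨hu, fun v hv => ?_⟩
    obtain ⟨⟨i', j', k'⟩, rfl⟩ := Q.surj v hv
    rw [hc, hj]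
    rcases zmod2 (i * j' + k * k') with h1 | h1
    · left
      congr 1
      ext
      · change i' + i * j' + k * k' = i'
        rw [add_assoc, h1, add_zero]
      · change j' + 0 * k' = j'
        rw [zero_mul, add_zero]
      · rfl
    · right
      rw [← Q.hz, ← Q.add]
      congr 1
      ext
      · change i' + i * j' + k * k' = i' + 1
        rw [add_assoc, h1]
      · change j' + 0 * k' = j' + 0
        rw [zero_mul]
      · change k' = k' + 0
        rw [add_zero]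

theorem W_relIndex (c : Ctx Y U V z t) : c.W.relIndex U = 2 := by
  obtain ⟨a, b, F⟩ := c.flag
  obtain ⟨q, Q⟩ := exists_coord c.oct F.bas
  obtain ⟨y, hy, z1, a1, b1⟩ := F.ex 0 1 0
  simp only [pw_zero, pw_one, mul_one] at a1 b1
  have hyW : y ∉ c.W := by
    intro h
    rcases h.2 b F.bas.hw with h1 | h1
    · rw [b1] at h1; exact F.bas.y1 (mul_eq_left.1 h1)
    · rw [b1] at h1; exact F.bas.yx (mul_left_cancel h1)
  have hya := Q.conj (g := y) (pz := (1, 0, 0)) (pa := (0, 1, 0)) (pb := (0, 1, 1))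
    (by rw [z1, Q.hz]) (by rw [a1, Q.ha]) (by rw [b1, ← Q.hb, ← Q.ha, ← Q.add]; rfl)
  simp only [smul3, mul_one, mul_zero, add_zero, zero_add] at hya
  have hdvd : c.W.relIndex U ∣ 2 := by
    rw [Subgroup.relIndex_dvd_two_iff]
    refine ⟨y, hy, fun u hu => ?_⟩
    obtain ⟨i, j, k, hc⟩ := flag_action c.oct c.UN F Q hu
    rcases zmod2 j with hj | hj
    · exact Or.inr ((c.mem_W_iff Q hu hc).2 hj)
    · left
      have hc' : ∀ i' j' k' : ZMod 2, (u * y) * q (i', j', k') * (u * y)⁻¹ =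
          q (i' + i * j' + (k + i) * k', j' + 0 * k', k') := by
        intro i' j' k'
        rw [show (u * y) * q (i', j', k') * (u * y)⁻¹ = u * (y * q (i', j', k') * y⁻¹) * u⁻¹ by group,
          hya, hc, hj]
        congr 1
        ext
        · change i' + i * (j' + k') + k * k' = i' + i * j' + (k + i) * k'
          ring
        · change j' + k' + 1 * k' = j' + 0 * k'
          have : ∀ x y : ZMod 2, x + y + 1 * y = x + 0 * y := by decide
          exact this _ _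
        · rfl
      exact (c.mem_W_iff Q (U.mul_mem hu hy) hc').2 rfl
  have hne : c.W.relIndex U ≠ 1 := fun h => hyW (Subgroup.relIndex_eq_one.1 h hy)
  have := Nat.le_of_dvd (by norm_num) hdvd
  interval_cases hN : c.W.relIndex U
  · simp at hdvd
  · exact absurd rfl hne
  · rfl

theorem card_W (c : Ctx Y U V z t) : Nat.card c.W = 32 := by
  have h1 := Cfsg.Agent.Lib.SylowNormalInf.card_mul_relIndex c.W U c.W_le_U
  rw [c.W_relIndex, c.cU] at h1
  omega

/-- the fixed elements of `W` in `V` -/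
theorem fixed (c : Ctx Y U V z t) {v : H} (hv : v ∈ V) (hfix : ∀ w ∈ c.W, w * v = v * w) :
    v = 1 ∨ v = z := by
  obtain ⟨a, b, F⟩ := c.flag
  obtain ⟨q, Q⟩ := exists_coord c.oct F.bas
  obtain ⟨⟨i, j, k⟩, rfl⟩ := Q.surj v hv
  have h1 : j = 0 := by
    obtain ⟨w, hw, z1, a1, b1⟩ := F.ex 1 0 0
    simp only [pw_zero, pw_one, mul_one] at a1 b1
    have hwa := Q.conj (g := w) (pz := (1, 0, 0)) (pa := (1, 1, 0)) (pb := (0, 0, 1))
      (by rw [z1, Q.hz]) (by rw [a1, ← Q.ha, ← Q.hz, ← Q.add]; rfl) (by rw [b1, ← Q.hb])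
    simp only [smul3, mul_one, mul_zero, add_zero, zero_add] at hwa
    have hwW : w ∈ c.W := by
      refine (c.mem_W_iff Q hw (i := 1) (j := 0) (k := 0) ?_).2 rfl
      intro i' j' k'
      rw [hwa]
      congr 1
      ext <;> simp
    have h2 := mul_inv_eq_iff_eq_mul.2 (hfix w hwW)
    rw [hwa] at h2
    have h3 := Q.inj h2
    simp only [Prod.mk.injEq] at h3
    exact add_eq_left.1 h3.1
  have h2 : k = 0 := by
    obtain ⟨w, hw, z1, a1, b1⟩ := F.ex 0 0 1
    simp only [pw_zero, pw_one, mul_one] at a1 b1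
    have hwa := Q.conj (g := w) (pz := (1, 0, 0)) (pa := (0, 1, 0)) (pb := (1, 0, 1))
      (by rw [z1, Q.hz]) (by rw [a1, ← Q.ha]) (by rw [b1, ← Q.hb, ← Q.hz, ← Q.add]; rfl)
    simp only [smul3, mul_one, mul_zero, add_zero, zero_add] at hwa
    have hwW : w ∈ c.W := by
      refine (c.mem_W_iff Q hw (i := 0) (j := 0) (k := 1) ?_).2 rfl
      intro i' j' k'
      rw [hwa]
      congr 1
      ext <;> simp
    have h2 := mul_inv_eq_iff_eq_mul.2 (hfix w hwW)
    rw [hwa] at h2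
    have h3 := Q.inj h2
    simp only [Prod.mk.injEq] at h3
    exact add_eq_left.1 h3.1
  subst h1 h2
  rcases zmod2 i with rfl | rfl
  · exact Or.inl Q.zero
  · exact Or.inr Q.hz

/-- an element of `W - V` acts on a suitable basis as `b ↦ b z` -/
theorem exists_basis (c : Ctx Y U V z t) {w : H} (hw : w ∈ c.W) (hwV : w ∉ V) :
    ∃ a b, Bas V z a b ∧ w * z * w⁻¹ = z ∧ w * a * w⁻¹ = a ∧ w * b * w⁻¹ = b * z := by
  have hz : w * z * w⁻¹ = z := by rw [c.zc]; group
  obtain ⟨b, hb, hne⟩ : ∃ b ∈ V, w * b * w⁻¹ ≠ b := by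
    by_contra hcon
    push Not at hcon
    exact hwV (c.cV w hw.1 (fun v hv => mul_inv_eq_iff_eq_mul.1 (hcon v hv)))
  have hbz := (hw.2 b hb).resolve_left hne
  have hb1 : b ≠ 1 := by rintro rfl; exact hne (by group)
  have hbz' : b ≠ z := by rintro rfl; exact hne hz
  obtain ⟨a, B⟩ := c.oct.exists_bas' c.zV c.z1 hb hb1 hbz'
  rcases hw.2 a B.hw with h1 | h1
  · exact ⟨a, b, B.swap23 c.oct, hz, h1, hbz⟩
  · refine ⟨a * b, b, ?_, hz, ?_, hbz⟩
    · have := (B.swap23 c.oct).mul2w c.oct 1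
      rwa [pw_one] at this
    · rw [show w * (a * b) * w⁻¹ = (w * a * w⁻¹) * (w * b * w⁻¹) by group, h1, hbz]
      calc a * z * (b * z) = a * (z * b) * z := by group
        _ = a * (b * z) * z := by rw [c.oct.comm c.zV hb]
        _ = a * b * (z * z) := by group
        _ = a * b := by rw [c.oct.sq z c.zV, mul_one]

/-- `C_Y(V)` has Sylow 2-subgroup `V`. -/
theorem odd_cent (c : Ctx Y U V z t) :
    ¬ 2 ∣ V.relIndex (Y ⊓ Subgroup.centralizer (V : Set H)) := by
  intro h2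
  have hVC : V ≤ Y ⊓ Subgroup.centralizer (V : Set H) := by
    refine le_inf (c.VU.trans c.UY) ?_
    intro v hv
    rw [Subgroup.mem_centralizer_iff]
    intro w hw
    exact c.oct.comm hw hv
  have h3 := Cfsg.Agent.Lib.SylowNormalInf.card_mul_relIndex _ _ hVC
  rw [c.oct.card] at h3
  have h16 : 16 ∣ Nat.card (Y ⊓ Subgroup.centralizer (V : Set H) : Subgroup H) := by
    rw [← h3]
    exact Nat.mul_dvd_mul_left 8 h2
  set N := Y ⊓ Subgroup.normalizer (V : Set H) with hN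
  have hNN : N ≤ Subgroup.normalizer (V : Set H) := inf_le_right
  have h4 := card_img_mul hNN
  have h5 : (N ⊓ Subgroup.centralizer (V : Set H) : Subgroup H) =
      Y ⊓ Subgroup.centralizer (V : Set H) := by
    rw [hN, inf_assoc]
    congr 1
    exact inf_eq_right.2 (Subgroup.centralizer_le_normalizer _)
  rw [h5] at h4
  have h6 := card_img_mul c.UN
  have h7 : (U ⊓ Subgroup.centralizer (V : Set H) : Subgroup H) = V := by
    apply le_antisymm
    · rintro x ⟨hx, hxV⟩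
      exact c.cV x hx (fun v hv => (Subgroup.mem_centralizer_iff.1 hxV v hv).symm)
    · exact le_inf c.VU (hVC.trans inf_le_right)
  rw [h7, c.oct.card, c.cU] at h6
  have h8 : Nat.card (img U V) = 8 := by omega
  have h9 : 8 ∣ Nat.card (img N V) := by
    haveI := c.oct.finite_aut
    rw [← h8]
    exact Subgroup.card_dvd_of_le (Loc.img_mono (le_inf c.UY c.UN) V)
  have h10 : 128 ∣ Nat.card Y := by
    have h11 : Nat.card N ∣ Nat.card Y := Subgroup.card_dvd_of_le inf_le_left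
    refine Dvd.dvd.trans ?_ h11
    rw [← h4]
    exact (show 128 = 8 * 16 by norm_num) ▸ Nat.mul_dvd_mul h9 h16
  apply c.odd
  have h12 := Cfsg.Agent.Lib.SylowNormalInf.card_mul_relIndex U Y c.UY
  rw [c.cU] at h12
  omega

/-- The Sylow 2-subgroup of a component contains `W`, or is `V`. -/
theorem W_le (c : Ctx Y U V z t) (hodd : OddSolv.{u}) {L : Subgroup H}
    (hL : IsComponent L) (hLY : L ≤ Y) : U ⊓ L ≤ V ∨ c.W ≤ L := by
  have hn := c.normal hodd hL hLY
  have hVL := c.V_le hodd hL hLY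
  by_cases hR : U ⊓ L ≤ V
  · exact Or.inl hR
  right
  obtain ⟨u, hu, huV⟩ := SetLike.not_le_iff_exists.1 hR
  -- an element of `W ∩ L` outside `V`
  obtain ⟨u', hu'W, hu'L, hu'V⟩ : ∃ u' ∈ c.W, u' ∈ L ∧ u' ∉ V := by
    by_cases huW : u ∈ c.W
    · exact ⟨u, huW, hu.2, huV⟩
    obtain ⟨a, b, F⟩ := c.flag
    obtain ⟨q, Q⟩ := exists_coord c.oct F.bas
    obtain ⟨i, j, k, hc⟩ := flag_action c.oct c.UN F Q hu.1
    have hj : j = 1 := (zmod2 j).resolve_left (fun e => huW ((c.mem_W_iff Q hu.1 hc).2 e))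
    obtain ⟨w, hw, z1, a1, b1⟩ := F.ex 1 0 0
    simp only [pw_zero, pw_one, mul_one] at a1 b1
    have hwa := Q.conj (g := w) (pz := (1, 0, 0)) (pa := (1, 1, 0)) (pb := (0, 0, 1))
      (by rw [z1, Q.hz]) (by rw [a1, ← Q.ha, ← Q.hz, ← Q.add]; rfl) (by rw [b1, ← Q.hb])
    simp only [smul3, mul_one, mul_zero, add_zero, zero_add] at hwa
    have hwW : w ∈ c.W := by
      refine (c.mem_W_iff Q hw (i := 1) (j := 0) (k := 0) ?_).2 rfl
      intro i' j' k'
      rw [hwa]
      congr 1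
      ext <;> simp
    haveI : (c.W.subgroupOf U).Normal := Subgroup.normal_of_index_eq_two c.W_relIndex
    refine ⟨u * w * u⁻¹ * w⁻¹, ?_, ?_, ?_⟩
    · refine c.W.mul_mem ?_ (c.W.inv_mem hwW)
      exact Subgroup.mem_subgroupOf.1 ((inferInstance : (c.W.subgroupOf U).Normal).conj_mem
        ⟨w, hw⟩ (Subgroup.mem_subgroupOf.2 hwW) ⟨u, hu.1⟩)
    · rw [show u * w * u⁻¹ * w⁻¹ = u * (w * u⁻¹ * w⁻¹) by group]
      exact L.mul_mem hu.2 (hn.conj_mem _ (L.inv_mem hu.2) w)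
    · intro hV
      have h1 : u * w * u⁻¹ * w⁻¹ * (w * (u * b * u⁻¹) * w⁻¹) * (u * w * u⁻¹ * w⁻¹)⁻¹ =
          w * (u * b * u⁻¹) * w⁻¹ := by
        apply mul_inv_eq_iff_eq_mul.2
        apply c.oct.comm hV
        exact (Subgroup.mem_normalizer_iff.1 (c.UN hw) _).1
          ((Subgroup.mem_normalizer_iff.1 (c.UN hu.1) _).1 F.bas.hw)
      have h2 : u * w * u⁻¹ * w⁻¹ * (w * (u * b * u⁻¹) * w⁻¹) * (u * w * u⁻¹ * w⁻¹)⁻¹ =
          u * (w * b * w⁻¹) * u⁻¹ := by group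
      rw [h2, b1, ← Q.hb, hc, hwa, hj] at h1
      have h3 := Q.inj h1
      simp only [Prod.mk.injEq] at h3
      have h4 : ∀ i k : ZMod 2, ¬ (0 + i * 0 + k * 1 = 0 + i * 0 + k * 1 + (0 + 1 * 1)) := by decide
      exact h4 i k h3.1
  -- every element of `W - V` is conjugate to `u'` modulo `V`
  intro w hw
  by_cases hwV : w ∈ V
  · exact hVL hwV
  obtain ⟨a₁, b₁, B₁, z1, a1, b1⟩ := c.exists_basis hu'W hu'V
  obtain ⟨a₂, b₂, B₂, z2, a2, b2⟩ := c.exists_basis hw hwV
  obtain ⟨φ, e1, e2, e3⟩ := B₁.exists_aut c.oct B₂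
  obtain ⟨n, hn', hnV, hnv⟩ := c.full φ (congrArg Subtype.val e1)
  have nz : n * z * n⁻¹ = z := by rw [c.zc]; group
  have na : n * a₁ * n⁻¹ = a₂ := by
    have := hnv ⟨a₁, B₁.hy⟩
    rw [e2] at this
    exact this
  have nb : n * b₁ * n⁻¹ = b₂ := by
    have := hnv ⟨b₁, B₁.hw⟩
    rw [e3] at this
    exact this
  have hact : ∀ v ∈ V, (w⁻¹ * (n * u' * n⁻¹)) * v * (w⁻¹ * (n * u' * n⁻¹))⁻¹ = v := by
    have ecomp : ∀ v : H, (w⁻¹ * (n * u' * n⁻¹)) * v * (w⁻¹ * (n * u' * n⁻¹))⁻¹ =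
        w⁻¹ * (n * (u' * (n⁻¹ * v * n) * u'⁻¹) * n⁻¹) * w := by
      intro v; group
    apply Bas.fix c.oct B₂
    · rw [ecomp]
      rw [show n⁻¹ * z * n = z by rw [mul_assoc, ← c.zc]; group, z1, nz,
        show w⁻¹ * z * w = z by rw [mul_assoc, ← c.zc]; group]
    · rw [ecomp, ← na, show n⁻¹ * (n * a₁ * n⁻¹) * n = a₁ by group, a1, na]
      nth_rewrite 1 [← a2]
      group
    · rw [ecomp, ← nb, show n⁻¹ * (n * b₁ * n⁻¹) * n = b₁ by group, b1, c.zconj, nb, ← b2]
      group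
  have hVC : V ≤ Y ⊓ Subgroup.centralizer (V : Set H) := by
    refine le_inf (c.VU.trans c.UY) ?_
    intro v hv
    rw [Subgroup.mem_centralizer_iff]
    intro w hw
    exact c.oct.comm hw hv
  have hVp : IsPGroup 2 V := c.Up.to_le c.VU
  haveI := c.nY
  obtain ⟨x, hx, e, he, hxe⟩ := exists_conj_coset (C := Y ⊓ Subgroup.centralizer (V : Set H))
    (E := V) hVC (inf_le_right.trans (Subgroup.centralizer_le_normalizer _)) hVp c.odd_cent
    (w := w) (w1 := n * u' * n⁻¹) (TwoEl.of_mem c.Up hw.1) ((TwoEl.of_mem c.Up hu'W.1).conj n)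
    (by
      have hkey : ∀ x ∈ Subgroup.normalizer (V : Set H), ∀ y ∈ Y ⊓ Subgroup.centralizer (V : Set H),
          x * y * x⁻¹ ∈ Y ⊓ Subgroup.centralizer (V : Set H) := by
        intro x hx y hy
        obtain ⟨hy1, hy2⟩ := Subgroup.mem_inf.1 hy
        refine Subgroup.mem_inf.2 ⟨c.nY.conj_mem y hy1 x, ?_⟩
        rw [Subgroup.mem_centralizer_iff]
        intro v hv
        have h4 : x⁻¹ * v * x⁻¹⁻¹ ∈ V :=
          (Subgroup.mem_normalizer_iff.1 (Subgroup.inv_mem _ hx) v).1 hv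
        have h5 := Subgroup.mem_centralizer_iff.1 hy2 _ h4
        calc v * (x * y * x⁻¹) = x * ((x⁻¹ * v * x⁻¹⁻¹) * y) * x⁻¹ := by group
          _ = x * (y * (x⁻¹ * v * x⁻¹⁻¹)) * x⁻¹ := by rw [h5]
          _ = _ := by group
      rw [Subgroup.mem_normalizer_iff]
      intro y
      constructor
      · exact hkey w (c.UN hw.1) y
      · intro hy
        have := hkey w⁻¹ (Subgroup.inv_mem _ (c.UN hw.1)) _ hy
        rwa [show w⁻¹ * (w * y * w⁻¹) * w⁻¹⁻¹ = y by group] at this)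
    (c.UN hw.1) (by
      refine Subgroup.mem_inf.2 ⟨?_, ?_⟩
      · exact Y.mul_mem (Y.inv_mem (c.UY hw.1)) (c.nY.conj_mem _ (c.UY hu'W.1) n)
      · rw [Subgroup.mem_centralizer_iff]
        intro v hv
        exact (mul_inv_eq_iff_eq_mul.1 (hact v hv)).symm)
  have h1 : w = (x * (n * u' * n⁻¹) * x⁻¹) * e⁻¹ := by rw [hxe]; group
  rw [h1]
  exact L.mul_mem (hn.conj_mem _ (hn.conj_mem _ hu'L n) x) (L.inv_mem (hVL he))

end Ctx

end Cfsg.Agent.StdL2.G23Comp
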