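import Mathlib
import Cfsg.Agent.StdL2.G23Coset
import Cfsg.Agent.SylowSp4.ExtTransfer

/-!
S1773, case q = 8, N(E)/C(E) = L3(2): a finite group with Sylow 2-subgroup `(Z2 × Z2) wr Z2` has a
subgroup of index two.
-/

set_option autoImplicit false
set_option linter.style.haveILetI false
set_option linter.unusedSectionVars false

namespace Cfsg.Agent.StdL2.G23Wr

open Cfsg.Agent.StdL2.G23Coset

/-- `S = A⟨y⟩`, `A` elementary of order 16, `y` an involution with `|C_A(y)| ≤ 4`. -/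
structure Wr {G : Type*} [Group G] (S A : Subgroup G) (y : G) : Prop where
  AS : A ≤ S
  card : Nat.card A = 16
  sq : ∀ a ∈ A, a * a = 1
  idx : A.relIndex S = 2
  yS : y ∈ S
  yA : y ∉ A
  yy : y * y = 1
  fix : Nat.card (A ⊓ Subgroup.centralizer {y} : Subgroup G) ≤ 4

namespace Wr

variable {G : Type*} [Group G] [Finite G] {S A : Subgroup G} {y : G}

theorem inv (h : Wr S A y) {a : G} (ha : a ∈ A) : a⁻¹ = a := inv_eq_of_mul_eq_one_left (h.sq a ha)

theorem comm (h : Wr S A y) {a b : G} (ha : a ∈ A) (hb : b ∈ A) : a * b = b * a := by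
  have h1 := h.inv (A.mul_mem ha hb)
  rw [mul_inv_rev, h.inv ha, h.inv hb] at h1
  exact h1.symm

theorem norm (h : Wr S A y) {s a : G} (hs : s ∈ S) (ha : a ∈ A) : s * a * s⁻¹ ∈ A := by
  haveI : (A.subgroupOf S).Normal := Subgroup.normal_of_index_eq_two h.idx
  exact Subgroup.mem_subgroupOf.1 ((inferInstance : (A.subgroupOf S).Normal).conj_mem
        ⟨a, h.AS ha⟩ (Subgroup.mem_subgroupOf.2 ha) ⟨s, hs⟩)

/-- the subgroup `B = C_A(y)` -/
def B (_ : Wr S A y) : Subgroup G := A ⊓ Subgroup.centralizer {y}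

theorem mem_B (h : Wr S A y) {b : G} : b ∈ h.B ↔ b ∈ A ∧ b * y = y * b := by
  unfold B
  rw [Subgroup.mem_inf, Subgroup.mem_centralizer_singleton_iff]

theorem delta_mem (h : Wr S A y) {a : G} (ha : a ∈ A) : y * a * y⁻¹ * a⁻¹ ∈ h.B := by
  have h1 : y * a * y⁻¹ * a⁻¹ ∈ A := A.mul_mem (h.norm h.yS ha) (A.inv_mem ha)
  refine h.mem_B.2 ⟨h1, ?_⟩
  have hy : y⁻¹ = y := inv_eq_of_mul_eq_one_left h.yy
  have h2 := h.inv h1
  calc y * a * y⁻¹ * a⁻¹ * y = (y * a * y⁻¹ * a⁻¹)⁻¹ * y := by rw [h2]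
    _ = a * y * a⁻¹ := by group
    _ = a * y⁻¹ * a⁻¹ := by rw [hy]
    _ = (y * y) * a * y⁻¹ * a⁻¹ := by rw [h.yy, one_mul]
    _ = y * (y * a * y⁻¹ * a⁻¹) := by group

/-- the commutator map -/
def delta (h : Wr S A y) : A →* h.B where
  toFun a := ⟨y * a * y⁻¹ * (a : G)⁻¹, h.delta_mem a.2⟩
  map_one' := Subtype.ext (by simp)
  map_mul' a b := by
    apply Subtype.ext
    simp only [Subgroup.coe_mul]
    have h1 : (y * b * y⁻¹ * (b : G)⁻¹) * (a : G)⁻¹ = (a : G)⁻¹ * (y * b * y⁻¹ * (b : G)⁻¹) :=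
      h.comm (h.mem_B.1 (h.delta_mem b.2)).1 (A.inv_mem a.2)
    calc y * ((a : G) * b) * y⁻¹ * ((a : G) * b)⁻¹
        = y * a * y⁻¹ * ((y * b * y⁻¹ * (b : G)⁻¹) * (a : G)⁻¹) := by group
      _ = _ := by rw [h1]; group

theorem surj (h : Wr S A y) : Nat.card h.B = 4 ∧ ∀ b ∈ h.B, ∃ a ∈ A, y * a * y⁻¹ * a⁻¹ = b := by
  have hker : h.delta.ker = h.B.subgroupOf A := by
    ext a
    rw [MonoidHom.mem_ker, Subgroup.mem_subgroupOf, h.mem_B]
    constructor
    · intro h1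
      have h2 : y * (a : G) * y⁻¹ * (a : G)⁻¹ = 1 := congrArg Subtype.val h1
      refine ⟨a.2, ?_⟩
      rw [mul_inv_eq_one, mul_inv_eq_iff_eq_mul] at h2
      exact h2.symm
    · rintro ⟨-, h1⟩
      apply Subtype.ext
      change y * (a : G) * y⁻¹ * (a : G)⁻¹ = 1
      rw [← h1]; group
  have hBA : h.B ≤ A := inf_le_left
  have h1 := Subgroup.card_mul_index h.delta.ker
  rw [Subgroup.index_ker, h.card, hker,
    Nat.card_congr (Subgroup.subgroupOfEquivOfLe hBA).toEquiv] at h1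
  have h2 : Nat.card h.delta.range ≤ Nat.card h.B := Subgroup.card_le_card_group _
  have h3 : Nat.card h.B ≤ 4 := h.fix
  have h4 : Nat.card h.B = 4 := by nlinarith
  refine ⟨h4, ?_⟩
  have h5 : Nat.card h.delta.range = Nat.card h.B := by
    rw [h4] at h1 ⊢; omega
  have h6 := Subgroup.eq_top_of_card_eq _ h5
  intro b hb
  have h7 : (⟨b, hb⟩ : h.B) ∈ h.delta.range := by rw [h6]; exact Subgroup.mem_top _
  obtain ⟨a, ha⟩ := h7
  exact ⟨a, a.2, congrArg Subtype.val ha⟩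

theorem cases (h : Wr S A y) {s : G} (hs : s ∈ S) : s ∈ A ∨ ∃ a ∈ A, s = a * y := by
  by_cases h1 : s ∈ A
  · exact Or.inl h1
  · right
    have h2 : (⟨s, hs⟩ : S) * (⟨y, h.yS⟩ : S) ∈ A.subgroupOf S := by
      rw [Subgroup.mul_mem_iff_of_index_two h.idx]
      simp only [Subgroup.mem_subgroupOf]
      exact iff_of_false h1 h.yA
    exact ⟨s * y, Subgroup.mem_subgroupOf.1 h2, by rw [mul_assoc, h.yy, mul_one]⟩

theorem cent_B (h : Wr S A y) {s b : G} (hs : s ∈ S) (hb : b ∈ h.B) : s * b = b * s := by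
  obtain ⟨h1, h2⟩ := h.mem_B.1 hb
  rcases h.cases hs with h3 | ⟨a, ha, rfl⟩
  · exact h.comm h3 h1
  · rw [mul_assoc, ← h2, ← mul_assoc, h.comm ha h1, mul_assoc]

theorem centr (h : Wr S A y) {s a : G} (hs : s ∈ S) (hsA : s ∉ A) (ha : a ∈ A)
    (hc : s * a = a * s) : a ∈ h.B := by
  rcases h.cases hs with h3 | ⟨c, hc', rfl⟩
  · exact absurd h3 hsA
  · refine h.mem_B.2 ⟨ha, ?_⟩
    have h4 : c * (y * a) = c * (a * y) := by
      rw [← mul_assoc, hc, ← mul_assoc, ← mul_assoc, h.comm ha hc']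
    exact (mul_left_cancel h4).symm

theorem inv_out (h : Wr S A y) {s : G} (hs : s ∈ S) (hsA : s ∉ A) (hss : s * s = 1) :
    ∃ b ∈ h.B, s = b * y := by
  rcases h.cases hs with h3 | ⟨a, ha, rfl⟩
  · exact absurd h3 hsA
  · refine ⟨a, h.mem_B.2 ⟨ha, ?_⟩, rfl⟩
    have h1 : a * y = (a * y)⁻¹ := (inv_eq_of_mul_eq_one_left hss).symm
    rw [h1, mul_inv_rev, h.inv ha, inv_eq_of_mul_eq_one_left h.yy]

/-- conjugating `y` by elements of `A` -/
theorem conj_y (h : Wr S A y) {b : G} (hb : b ∈ h.B) : ∃ a ∈ A, a * y * a⁻¹ = b * y := by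
  obtain ⟨a, ha, h1⟩ := h.surj.2 b hb
  refine ⟨a, ha, ?_⟩
  have h2 : a * y * a⁻¹ = (y * a * y⁻¹ * a⁻¹)⁻¹ * y := by group
  rw [h2, h1, h.inv (h.mem_B.1 hb).1]

/-- weak closure -/
theorem weak (h : Wr S A y) {g : G} (hg : ∀ a ∈ A, g * a * g⁻¹ ∈ S) :
    ∀ a ∈ A, g * a * g⁻¹ ∈ A := by
  by_contra hcon
  push Not at hcon
  obtain ⟨a, ha, haA⟩ := hcon
  set A' : Subgroup G := A.map (MulAut.conj g).toMonoidHom with hA'
  have hA'S : A' ≤ S := by
    rintro _ ⟨x, hx, rfl⟩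
    exact hg x hx
  have hcard : Nat.card A' = 16 := by
    rw [hA', Subgroup.card_map_of_injective (MulAut.conj g).injective, h.card]
  have h1 : (A ⊓ A').relIndex A' ≤ 2 := by
    rw [Subgroup.inf_relIndex_right, ← h.idx]
    apply Subgroup.relIndex_le_of_le_right hA'S
    rw [h.idx]; norm_num
  have h2 : Nat.card (A ⊓ A' : Subgroup G) * (A ⊓ A').relIndex A' = Nat.card A' := by
    have := Subgroup.card_mul_index ((A ⊓ A').subgroupOf A')
    rwa [Nat.card_congr (Subgroup.subgroupOfEquivOfLe (inf_le_right : A ⊓ A' ≤ A')).toEquiv] at this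
  have h3 : (A ⊓ A' : Subgroup G) ≤ h.B := by
    rintro x ⟨hx, ⟨x', hx', rfl⟩⟩
    refine h.centr (hg a ha) haA hx ?_
    change g * a * g⁻¹ * (g * x' * g⁻¹) = g * x' * g⁻¹ * (g * a * g⁻¹)
    rw [show g * a * g⁻¹ * (g * x' * g⁻¹) = g * (a * x') * g⁻¹ by group, h.comm ha hx']
    group
  have h4 := Subgroup.card_le_of_le h3
  rw [h.surj.1] at h4
  rw [hcard] at h2
  nlinarith

theorem conj_back (h : Wr S A y) {g x : G} (hg : ∀ a ∈ A, g * a * g⁻¹ ∈ A)
    (hx : g * x * g⁻¹ ∈ A) : x ∈ A := by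
  have h1 : A.map (MulAut.conj g).toMonoidHom ≤ A := by
    rintro _ ⟨a, ha, rfl⟩
    exact hg a ha
  have h2 : A.map (MulAut.conj g).toMonoidHom = A :=
    Subgroup.eq_of_le_of_card_ge h1 (by rw [Subgroup.card_map_of_injective (MulAut.conj g).injective])
  rw [← h2] at hx
  obtain ⟨a, ha, h3⟩ := hx
  have h4 : g * a * g⁻¹ = g * x * g⁻¹ := h3
  rw [← mul_left_cancel (mul_right_cancel h4)]
  exact ha

end Wr

open Wr in
/-- There is a subgroup of index two. -/
theorem exists_hom {G : Type*} [Group G] [Finite G] (S : Sylow 2 G) {A : Subgroup G} {y : G}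
    (h : Wr (S : Subgroup G) A y) : ∃ f : G →* ℤˣ, f ≠ 1 := by
  haveI : Fact (Nat.Prime 2) := ⟨Nat.prime_two⟩
  by_contra hcon
  push Not at hcon
  have hodd : ∀ K : Subgroup G, (S : Subgroup G) ≤ K → ¬ 2 ∣ (S : Subgroup G).relIndex K :=
    fun K hK h2 => S.not_dvd_index (h2.trans (Subgroup.relIndex_dvd_index_of_le hK))
  set F : Subgroup G := S ⊓ Subgroup.centralizer {y} with hF
  have memF : ∀ x, x ∈ F ↔ x ∈ S ∧ x * y = y * x := by
    intro x
    rw [hF, Subgroup.mem_inf, Subgroup.mem_centralizer_singleton_iff]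
    rfl
  obtain ⟨g, hg1, hg2⟩ := Cfsg.Agent.SylowSp4.ExtTransfer.exists_extremal S A h.AS h.idx y h.yy
    (fun f => by rw [hcon f]; rfl) F (S.isPGroup'.to_le inf_le_left) (fun r hr => ((memF r).1 hr).2)
  -- the elements of `F`
  have hBF : ∀ b ∈ h.B, b ∈ F := fun b hb => (memF b).2 ⟨h.AS (h.mem_B.1 hb).1, (h.mem_B.1 hb).2⟩
  have hyF : y ∈ F := (memF y).2 ⟨h.yS, rfl⟩
  have hFcase : ∀ x ∈ F, x ∈ h.B ∨ ∃ b ∈ h.B, x = b * y := by
    intro x hx
    obtain ⟨hx1, hx2⟩ := (memF x).1 hx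
    rcases h.cases hx1 with h3 | ⟨a, ha, rfl⟩
    · exact Or.inl (h.mem_B.2 ⟨h3, hx2⟩)
    · right
      refine ⟨a, h.mem_B.2 ⟨ha, ?_⟩, rfl⟩
      have h4 : a * y * y = y * a * y := by rw [hx2, mul_assoc]
      exact mul_right_cancel h4
  have hFB : ∀ x ∈ F, ∀ b ∈ h.B, x * b = b * x := fun x hx b hb => h.cent_B ((memF x).1 hx).1 hb
  have hFcomm : ∀ x ∈ F, ∀ x' ∈ F, x * x' = x' * x := by
    intro x hx x' hx'
    rcases hFcase x hx with h1 | ⟨b, hb, rfl⟩
    · exact (hFB x' hx' x h1).symm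
    · rw [mul_assoc, ← ((memF x').1 hx').2, ← mul_assoc, ← hFB x' hx' b hb, mul_assoc]
  have hFsq : ∀ x ∈ F, x * x = 1 := by
    intro x hx
    rcases hFcase x hx with h1 | ⟨b, hb, rfl⟩
    · exact h.sq x (h.mem_B.1 h1).1
    · calc b * y * (b * y) = b * (y * b) * y := by group
        _ = b * (b * y) * y := by rw [← (h.mem_B.1 hb).2]
        _ = (b * b) * (y * y) := by group
        _ = 1 := by rw [h.sq b (h.mem_B.1 hb).1, h.yy, one_mul]
  set D : Subgroup G := Subgroup.centralizer (h.B : Set G) with hD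
  have memD : ∀ x, x ∈ D ↔ ∀ b ∈ h.B, b * x = x * b := fun x => Subgroup.mem_centralizer_iff
  have hSD : (S : Subgroup G) ≤ D := fun s hs => (memD s).2 (fun b hb => (h.cent_B hs hb).symm)
  by_cases hcase : ∀ r ∈ F, g * r * g⁻¹ ∈ A
  · -- case 1
    have hR : ∀ a ∈ A, g⁻¹ * a * g ∈ D := by
      intro a ha
      refine (memD _).2 (fun b hb => ?_)
      have h1 := h.comm (hcase b (hBF b hb)) ha
      calc b * (g⁻¹ * a * g) = g⁻¹ * (g * b * g⁻¹ * a) * g := by group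
        _ = g⁻¹ * (a * (g * b * g⁻¹)) * g := by rw [h1]
        _ = _ := by group
    obtain ⟨c, hc, hc2⟩ := exists_conj_mem (S.isPGroup') hSD (hodd D hSD)
      (R := A.map (MulAut.conj g⁻¹).toMonoidHom) ((S.isPGroup'.to_le h.AS).map _) (by
        rintro _ ⟨a, ha, rfl⟩
        have := hR a ha
        change g⁻¹ * a * g⁻¹⁻¹ ∈ D
        rwa [inv_inv])
    have hk : ∀ a ∈ A, (c * g⁻¹) * a * (c * g⁻¹)⁻¹ ∈ A := by
      apply h.weak
      intro a ha
      have h1 := hc2 _ (Subgroup.mem_map_of_mem _ ha)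
      change c * (g⁻¹ * a * g⁻¹⁻¹) * c⁻¹ ∈ (S : Subgroup G) at h1
      rw [show (c * g⁻¹) * a * (c * g⁻¹)⁻¹ = c * (g⁻¹ * a * g⁻¹⁻¹) * c⁻¹ by group]
      exact h1
    set y' := c * y * c⁻¹ with hy'
    have hy'A : y' ∈ A := by
      have h1 := hk _ hg1
      rwa [show (c * g⁻¹) * (g * y * g⁻¹) * (c * g⁻¹)⁻¹ = c * y * c⁻¹ by group] at h1
    have hcinv : ∀ b ∈ h.B, c * b * c⁻¹ = b := by
      intro b hb
      rw [← (memD c).1 hc b hb]; group
    -- the subgroup `D1`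
    let D1 : Subgroup G :=
      { carrier := {d | d ∈ D ∧ d * y' * d⁻¹ * y'⁻¹ ∈ h.B}
        one_mem' := ⟨D.one_mem, by simp⟩
        mul_mem' := by
          rintro d d' ⟨hd, h1⟩ ⟨hd', h2⟩
          refine ⟨D.mul_mem hd hd', ?_⟩
          have h3 := (memD d).1 hd _ h2
          have e : d * d' * y' * (d * d')⁻¹ * y'⁻¹ =
              (d * (d' * y' * d'⁻¹ * y'⁻¹)) * d⁻¹ * (d * y' * d⁻¹ * y'⁻¹) := by group
          rw [e, ← h3]
          have e2 : (d' * y' * d'⁻¹ * y'⁻¹) * d * d⁻¹ * (d * y' * d⁻¹ * y'⁻¹) =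
            (d' * y' * d'⁻¹ * y'⁻¹) * (d * y' * d⁻¹ * y'⁻¹) := by group
          rw [e2]
          exact Subgroup.mul_mem _ h2 h1
        inv_mem' := by
          rintro d ⟨hd, h1⟩
          refine ⟨D.inv_mem hd, ?_⟩
          have h3 := (memD d).1 hd _ h1
          have h4 := (h.mem_B.1 h1).1
          have e : d⁻¹ * y' * d⁻¹⁻¹ * y'⁻¹ = d⁻¹ * (d * y' * d⁻¹ * y'⁻¹)⁻¹ * d := by group
          rw [e, h.inv h4, mul_assoc, h3]
          rw [show d⁻¹ * (d * (d * y' * d⁻¹ * y'⁻¹)) = d * y' * d⁻¹ * y'⁻¹ by group]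
          exact h1 }
    have memD1 : ∀ d, d ∈ D1 ↔ d ∈ D ∧ d * y' * d⁻¹ * y'⁻¹ ∈ h.B := fun d => Iff.rfl
    -- commutators in `S`
    have hSA : ∀ s ∈ S, ∀ a ∈ A, s * a * s⁻¹ * a⁻¹ ∈ h.B := by
      intro s hs a ha
      rcases h.cases hs with h3 | ⟨a', ha', rfl⟩
      · rw [h.comm h3 ha]
        rw [show a * s * s⁻¹ * a⁻¹ = 1 by group]
        exact Subgroup.one_mem _
      · have h4 := h.delta_mem ha
        have h5 := h.comm ha' (h.mem_B.1 h4).1
        have h6 : a' * a = a * a' := h.comm ha' ha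
        rw [show a' * y * a * (a' * y)⁻¹ * a⁻¹ =
          (a' * (y * a * y⁻¹ * a⁻¹)) * (a * a'⁻¹ * a⁻¹) by group, h5]
        have h7 : a * a'⁻¹ * a⁻¹ = a'⁻¹ := by
          rw [h.inv ha', ← h6]; group
        rw [h7, mul_assoc, mul_inv_cancel, mul_one]
        exact h4
    have hSS : ∀ s ∈ S, s * y * s⁻¹ * y⁻¹ ∈ h.B := by
      intro s hs
      rcases h.cases hs with h3 | ⟨a', ha', rfl⟩
      · have h4 := h.delta_mem h3
        have h5 := h.inv (h.mem_B.1 h4).1
        rw [← h5] at h4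
        rwa [show (y * s * y⁻¹ * s⁻¹)⁻¹ = s * y * s⁻¹ * y⁻¹ by group] at h4
      · have h4 := h.delta_mem ha'
        have h5 := h.inv (h.mem_B.1 h4).1
        rw [← h5] at h4
        rwa [show (y * a' * y⁻¹ * a'⁻¹)⁻¹ = a' * y * y * (a' * y)⁻¹ * y⁻¹ by group] at h4
    have hSD1 : (S : Subgroup G) ≤ D1 := fun s hs =>
      (memD1 s).2 ⟨hSD hs, hSA s hs y' hy'A⟩
    obtain ⟨d, hd, hd2⟩ := exists_conj_mem (S.isPGroup') hSD1 (hodd D1 hSD1)
      (R := (S : Subgroup G).map (MulAut.conj c).toMonoidHom) (S.isPGroup'.map _) (by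
        rintro _ ⟨s, hs, rfl⟩
        change c * s * c⁻¹ ∈ D1
        refine (memD1 _).2 ⟨D.mul_mem (D.mul_mem hc (hSD hs)) (D.inv_mem hc), ?_⟩
        have h1 := hcinv _ (hSS s hs)
        rw [show c * s * c⁻¹ * y' * (c * s * c⁻¹)⁻¹ * y'⁻¹ = c * (s * y * s⁻¹ * y⁻¹) * c⁻¹ by
          rw [hy']; group, h1]
        exact hSS s hs)
    have hn : ∀ a ∈ A, (d * c) * a * (d * c)⁻¹ ∈ A := by
      apply h.weak
      intro a ha
      have h1 := hd2 _ (Subgroup.mem_map_of_mem _ (h.AS ha))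
      change d * (c * a * c⁻¹) * d⁻¹ ∈ (S : Subgroup G) at h1
      rwa [show (d * c) * a * (d * c)⁻¹ = d * (c * a * c⁻¹) * d⁻¹ by group]
    apply h.yA
    apply h.conj_back hn
    rw [show (d * c) * y * (d * c)⁻¹ = (d * y' * d⁻¹ * y'⁻¹) * y' by rw [hy']; group]
    exact A.mul_mem (h.mem_B.1 ((memD1 d).1 hd).2).1 hy'A
  · -- case 2
    push Not at hcase
    obtain ⟨r, hr, hrA⟩ := hcase
    obtain ⟨b0, hb0, hrb⟩ := h.inv_out (hg2 r hr) hrA (by
      rw [show g * r * g⁻¹ * (g * r * g⁻¹) = g * (r * r) * g⁻¹ by group, hFsq r hr]; group)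
    have hconj : ∀ f ∈ F, g * f * g⁻¹ ∈ F := by
      intro f hf
      by_cases h1 : g * f * g⁻¹ ∈ A
      · apply hBF
        refine h.centr (hg2 r hr) hrA h1 ?_
        rw [show g * r * g⁻¹ * (g * f * g⁻¹) = g * (r * f) * g⁻¹ by group, hFcomm r hr f hf]
        group
      · obtain ⟨b1, hb1, h2⟩ := h.inv_out (hg2 f hf) h1 (by
          rw [show g * f * g⁻¹ * (g * f * g⁻¹) = g * (f * f) * g⁻¹ by group, hFsq f hf]; group)
        rw [h2]
        exact F.mul_mem (hBF _ hb1) hyF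
    have hconj' : ∀ f ∈ F, g⁻¹ * f * g ∈ F := by
      intro f hf
      have h1 : F.map (MulAut.conj g).toMonoidHom ≤ F := by
        rintro _ ⟨a, ha, rfl⟩
        exact hconj a ha
      have h2 : F.map (MulAut.conj g).toMonoidHom = F :=
        Subgroup.eq_of_le_of_card_ge h1
          (by rw [Subgroup.card_map_of_injective (MulAut.conj g).injective])
      have hf' := hf
      rw [← h2] at hf'
      obtain ⟨a, ha, h3⟩ := hf'
      have h4 : g * a * g⁻¹ = f := h3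
      rw [← h4, show g⁻¹ * (g * a * g⁻¹) * g = a by group]
      exact ha
    set w := g * y * g⁻¹ with hw
    have hwB : w ∈ h.B := by
      rcases hFcase w (hconj y hyF) with h1 | ⟨b, hb, h1⟩
      · exact h1
      · exfalso
        apply h.yA
        have h2 : y = b⁻¹ * w := by rw [h1]; group
        rw [h2]
        exact A.mul_mem (A.inv_mem (h.mem_B.1 hb).1) hg1
    -- an element of `B` different from `1`, `w`
    obtain ⟨β, hβ, hβ1, hβw⟩ : ∃ β ∈ h.B, β ≠ 1 ∧ β ≠ w := by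
      by_contra hcon2
      push Not at hcon2
      have h1 : (h.B : Set G) ⊆ {1, w} := by
        intro x hx
        by_cases hx1 : x = 1
        · exact Or.inl hx1
        · exact Or.inr (hcon2 x hx hx1)
      have h2 : Nat.card h.B ≤ 2 := by
        have h3 : Nat.card h.B = (h.B : Set G).ncard := Nat.card_coe_set_eq (h.B : Set G)
        rw [h3]
        refine (Set.ncard_le_ncard h1 (Set.toFinite _)).trans ((Set.ncard_insert_le _ _).trans ?_)
        rw [Set.ncard_singleton]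
      rw [h.surj.1] at h2
      omega
    -- `x0 ∈ B ∩ B^{g⁻¹}`
    obtain ⟨x0, hx0, hx01, hx0B⟩ : ∃ x0 ∈ h.B, x0 ≠ 1 ∧ g * x0 * g⁻¹ ∈ h.B := by
      rcases hFcase _ (hconj' β (hBF β hβ)) with h1 | ⟨b, hb, h1⟩
      · refine ⟨_, h1, ?_, ?_⟩
        · intro e
          apply hβ1
          rw [show β = g * (g⁻¹ * β * g) * g⁻¹ by group, e]; group
        · rw [show g * (g⁻¹ * β * g) * g⁻¹ = β by group]
          exact hβ
      · refine ⟨b, hb, ?_, ?_⟩
        · rintro rfl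
          apply hβw
          rw [one_mul] at h1
          rw [hw, ← h1]; group
        · have h2 : b = g⁻¹ * β * g * y⁻¹ := by rw [h1]; group
          rw [h2, show g * (g⁻¹ * β * g * y⁻¹) * g⁻¹ = β * w⁻¹ by rw [hw]; group]
          exact Subgroup.mul_mem _ hβ (Subgroup.inv_mem _ hwB)
    obtain ⟨a, ha, hay⟩ := h.conj_y hx0B
    set r := g⁻¹ * a * g with hr'
    have hact : ∀ f ∈ F, r * f * r⁻¹ = f ∨ (g * f * g⁻¹ ∉ h.B ∧ r * f * r⁻¹ = x0 * f) := by
      intro f hf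
      rcases hFcase _ (hconj f hf) with h1 | ⟨b, hb, h1⟩
      · left
        have h2 := h.comm ha (h.mem_B.1 h1).1
        rw [show r * f * r⁻¹ = g⁻¹ * (a * (g * f * g⁻¹)) * a⁻¹ * g by rw [hr']; group, h2]
        group
      · right
        constructor
        · intro h2
          rw [h1] at h2
          apply h.yA
          rw [show y = b⁻¹ * (b * y) by group]
          exact A.mul_mem (A.inv_mem (h.mem_B.1 hb).1) (h.mem_B.1 h2).1
        · have h3 : a * (b * y) * a⁻¹ = (g * x0 * g⁻¹) * (b * y) := by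
            have h4 := h.comm ha (h.mem_B.1 hb).1
            have h5 := h.comm (h.mem_B.1 hb).1 (h.mem_B.1 hx0B).1
            calc a * (b * y) * a⁻¹ = (a * b) * y * a⁻¹ := by group
              _ = b * (a * y * a⁻¹) := by rw [h4]; group
              _ = b * (g * x0 * g⁻¹) * y := by rw [hay]; group
              _ = _ := by rw [h5]; group
          rw [show r * f * r⁻¹ = g⁻¹ * (a * (g * f * g⁻¹) * a⁻¹) * g by rw [hr']; group, h1, h3, ← h1]
          group
    -- `r` normalises `D`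
    have hrB : ∀ b ∈ h.B, r * b * r⁻¹ ∈ h.B := by
      intro b hb
      rcases hact b (hBF b hb) with h1 | ⟨-, h1⟩
      · rw [h1]; exact hb
      · rw [h1]; exact Subgroup.mul_mem _ hx0 hb
    have hrr : r * r = 1 := by
      rw [show r * r = g⁻¹ * (a * a) * g by rw [hr']; group, h.sq a ha]; group
    have hrinv : r⁻¹ = r := inv_eq_of_mul_eq_one_left hrr
    have hrN : r ∈ Subgroup.normalizer (D : Set G) := by
      have hkey : ∀ x ∈ D, r * x * r⁻¹ ∈ D := by
        intro x hx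
        refine (memD _).2 (fun b hb => ?_)
        have h1 := (memD x).1 hx _ (hrB b hb)
        calc b * (r * x * r⁻¹) = r⁻¹ * (r * b * r⁻¹ * (r * r) * x) * r⁻¹ := by group
          _ = r⁻¹ * ((r * b * r⁻¹) * x) * r⁻¹ := by rw [hrr, mul_one]
          _ = r⁻¹ * (x * (r * b * r⁻¹)) * r⁻¹ := by rw [h1]
          _ = r⁻¹ * x * r * b * (r * r)⁻¹ := by group
          _ = r * x * r⁻¹ * b := by rw [hrr, hrinv]; group
      rw [Subgroup.mem_normalizer_iff]
      intro x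
      refine ⟨hkey x, fun hx => ?_⟩
      have h1 := hkey _ hx
      rwa [show r * (r * x * r⁻¹) * r⁻¹ = (r * r) * x * (r * r)⁻¹ by group, hrr, one_mul,
        inv_one, mul_one] at h1
    obtain ⟨b, hb, hb2⟩ := exists_conj_mem (S.isPGroup')
      (hSD.trans Subgroup.le_normalizer) (hodd _ (hSD.trans Subgroup.le_normalizer))
      (R := Subgroup.zpowers r) (by
        have h1 := TwoEl.of_sq hrr
        exact h1) (by rwa [Subgroup.zpowers_le])
    have hrD : r ∈ D := by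
      have h1 := hSD (hb2 r (Subgroup.mem_zpowers r))
      exact (Subgroup.mem_normalizer_iff.1 hb r).2 h1
    -- contradiction
    obtain ⟨β', hβ', hβ'2⟩ : ∃ β' ∈ h.B, g * β' * g⁻¹ ∉ h.B := by
      by_contra hcon3
      push Not at hcon3
      apply h.yA
      have h1 : h.B.map (MulAut.conj g).toMonoidHom ≤ h.B := by
        rintro _ ⟨a, ha, rfl⟩
        exact hcon3 a ha
      have h2 : h.B.map (MulAut.conj g).toMonoidHom = h.B :=
        Subgroup.eq_of_le_of_card_ge h1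
          (by rw [Subgroup.card_map_of_injective (MulAut.conj g).injective])
      have hf' := hwB
      rw [← h2] at hf'
      obtain ⟨a, ha, h3⟩ := hf'
      have h4 : g * a * g⁻¹ = g * y * g⁻¹ := h3
      rw [← mul_left_cancel (mul_right_cancel h4)]
      exact (h.mem_B.1 ha).1
    rcases hact β' (hBF β' hβ') with h1 | ⟨-, h1⟩
    · -- `r` fixes `β'`: then `g β' g⁻¹ ∈ B`
      rcases hFcase _ (hconj β' (hBF β' hβ')) with h2 | ⟨b', hb', h2⟩
      · exact hβ'2 h2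
      · apply hx01
        have h3 : a * (b' * y) * a⁻¹ = b' * y := by
          rw [← h2]
          have : r * β' * r⁻¹ = g⁻¹ * (a * (g * β' * g⁻¹) * a⁻¹) * g := by rw [hr']; group
          rw [this] at h1
          calc a * (g * β' * g⁻¹) * a⁻¹ = g * (g⁻¹ * (a * (g * β' * g⁻¹) * a⁻¹) * g) * g⁻¹ := by group
            _ = _ := by rw [h1]
        have h4 := h.comm ha (h.mem_B.1 hb').1
        have h5 : a * (b' * y) * a⁻¹ = b' * (g * x0 * g⁻¹ * y) := by
          rw [← hay]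
          calc a * (b' * y) * a⁻¹ = (a * b') * y * a⁻¹ := by group
            _ = _ := by rw [h4]; group
        rw [h5] at h3
        have h6 : g * x0 * g⁻¹ = 1 := mul_eq_right.1 (mul_left_cancel h3)
        rw [show x0 = g⁻¹ * (g * x0 * g⁻¹) * g by group, h6]; group
    · apply hx01
      have h2 := (memD r).1 hrD β' hβ'
      rw [← h2] at h1
      rw [show β' * r * r⁻¹ = β' by group] at h1
      exact mul_eq_right.1 h1.symm

end Cfsg.Agent.StdL2.G23Wr
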