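import Mathlib
import Cfsg.Agent.StdL2.G23W
import Cfsg.Agent.StdL2.G23Wr
import Cfsg.Agent.WeakTI.PslTwo
import Cfsg.Agent.SmallSimple.PSLTwoPart
import Cfsg.Agent.StdSz.EquivMaps

/-!
S1773, case q = 8, N(E)/C(E) = L3(2): `C(z)/O` has no component.
-/

set_option autoImplicit false
set_option linter.style.haveILetI false
set_option linter.unusedSectionVars false

namespace Cfsg.Agent.StdL2.G23NoComp

open Cfsg Cfsg.Agent.SignalizersComponents.Components
open G23Aut G23Coset G23Loc G23U G23Comp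

universe u

/-- The classification of simple groups with abelian Sylow 2-subgroups (S0506) at one universe
level. -/
def Walter : Prop := ∀ (G : Type u) [Group G] [Finite G] [IsSimpleGroup G],
  ¬ IsMulCommutative G → ∀ (S : Sylow 2 G), IsMulCommutative (S : Subgroup G) →
    (∃ a : ℕ, 2 ≤ a ∧ ∃ (F : Type) (_ : Field F) (_ : Fintype F), Fintype.card F = 2 ^ a ∧
      Nonempty (G ≃* Matrix.ProjectiveSpecialLinearGroup (Fin 2) F)) ∨
      (∃ (F : Type) (_ : Field F) (_ : Fintype F), (Fintype.card F % 8 = 3 ∨ Fintype.card F % 8 = 5) ∧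
        Nonempty (G ≃* Matrix.ProjectiveSpecialLinearGroup (Fin 2) F)) ∨
      Cfsg.IsRee G ∨ Cfsg.IsJ1 G

theorem card_map_mul_card {G G' : Type*} [Group G] [Group G'] (f : G →* G') (K : Subgroup G) :
    Nat.card (K.map f) * Nat.card ↥(f.ker ⊓ K) = Nat.card K := by
  have h1 := Subgroup.relIndex_ker f (K := K)
  have h2 : (⊥ : Subgroup G).relIndex (f.ker ⊓ K) * (f.ker ⊓ K).relIndex K =
      (⊥ : Subgroup G).relIndex K :=
    Subgroup.relIndex_mul_relIndex _ _ _ bot_le inf_le_right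
  rw [Subgroup.relIndex_bot_left, Subgroup.relIndex_bot_left, Subgroup.inf_relIndex_right, h1] at h2
  rw [mul_comm]; exact h2

theorem nine_pow (m : ℕ) : (3 ^ (2 * m + 1)) % 16 = 3 ∨ (3 ^ (2 * m + 1)) % 16 = 11 := by
  induction m with
  | zero => left; norm_num
  | succ m ih =>
    have e : 3 ^ (2 * (m + 1) + 1) = 9 * 3 ^ (2 * m + 1) := by
      rw [show 2 * (m + 1) + 1 = 2 + (2 * m + 1) by ring, pow_add]; norm_num
    rw [e]
    omega

theorem ree_mod (m : ℕ) : ¬ 16 ∣ (3 ^ (2 * m + 1)) ^ 3 * ((3 ^ (2 * m + 1)) ^ 3 + 1) *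
    (3 ^ (2 * m + 1) - 1) := by
  have h := nine_pow m
  generalize 3 ^ (2 * m + 1) = q at h ⊢
  obtain ⟨k, hk⟩ : ∃ k, q = 16 * k + q % 16 := ⟨q / 16, by omega⟩
  intro h16
  rcases h with h | h
  · rw [h] at hk
    subst hk
    rw [show 16 * k + 3 - 1 = 16 * k + 2 by omega] at h16
    have : ((16 * k + 3) ^ 3 * ((16 * k + 3) ^ 3 + 1) * (16 * k + 2)) % 16 = 8 := by
      simp [Nat.mul_mod, Nat.add_mod, Nat.pow_mod]
    omega
  · rw [h] at hk
    subst hk
    rw [show 16 * k + 11 - 1 = 16 * k + 10 by omega] at h16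
    have : ((16 * k + 11) ^ 3 * ((16 * k + 11) ^ 3 + 1) * (16 * k + 10)) % 16 = 8 := by
      simp [Nat.mul_mod, Nat.add_mod, Nat.pow_mod]
    omega

/-- In a simple group of order divisible by 16 with abelian Sylow 2-subgroups, all involutions are
conjugate. -/
theorem conj_of_walter (hW : Walter.{u}) {K : Type u} [Group K] [Finite K] [IsSimpleGroup K]
    (hK : ¬ IsMulCommutative K) (S : Sylow 2 K) (hS : IsMulCommutative (S : Subgroup K))
    (h16 : 16 ∣ Nat.card K) {x y : K} (hx : x * x = 1) (hx1 : x ≠ 1) (hy : y * y = 1)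
    (hy1 : y ≠ 1) : ∃ g : K, g * x * g⁻¹ = y := by
  rcases hW K hK S hS with ⟨a, ha, F, i1, i2, hF, ⟨e⟩⟩ | ⟨F, i1, i2, hF, ⟨e⟩⟩ | h | h
  · haveI : CharP F 2 := Cfsg.Agent.StdSz.EquivMaps.charP_two hF
    exact Cfsg.Agent.WeakTI.PslTwo.exists_conj e hx hx1 hy hy1
  · exfalso
    have hodd : Odd (Fintype.card F) := by rw [Nat.odd_iff]; omega
    have h1 := Cfsg.Agent.SmallSimple.PSLTwoPart.card_psl_two_odd hodd
    rw [← Nat.card_congr e.toEquiv] at h1
    obtain ⟨k, hk⟩ := h16
    rw [hk] at h1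
    generalize Fintype.card F = q at h1 hF
    obtain ⟨l, hl⟩ : ∃ l, q = 8 * l + q % 8 := ⟨q / 8, by omega⟩
    rcases hF with h | h
    · rw [h] at hl
      have h2 : q ^ 2 - 1 = 8 * (8 * l ^ 2 + 6 * l + 1) := by
        rw [hl, show (8 * l + 3) ^ 2 = 8 * (8 * l ^ 2 + 6 * l + 1) + 1 by ring]
        simp
      have h3 : q * (q ^ 2 - 1) = 8 * (2 * (32 * l ^ 3 + 36 * l ^ 2 + 13 * l + 1) + 1) := by
        rw [h2, hl]; ring
      rw [h3] at h1
      omega
    · rw [h] at hl
      have h2 : q ^ 2 - 1 = 8 * (8 * l ^ 2 + 10 * l + 3) := by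
        rw [hl, show (8 * l + 5) ^ 2 = 8 * (8 * l ^ 2 + 10 * l + 3) + 1 by ring]
        simp
      have h3 : q * (q ^ 2 - 1) = 8 * (2 * (32 * l ^ 3 + 60 * l ^ 2 + 37 * l + 7) + 1) := by
        rw [h2, hl]; ring
      rw [h3] at h1
      omega
  · exfalso
    obtain ⟨-, m, -, h1⟩ := h
    rw [h1] at h16
    exact ree_mod m h16
  · exfalso
    rw [h.2] at h16
    omega

variable {H : Type u} [Group H] [Finite H] {Y U V : Subgroup H} {z t : H}

theorem cases_zpowers (c : Ctx Y U V z t) {x : H} (hx : x ∈ Subgroup.zpowers z) : x = 1 ∨ x = z := by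
  have h2 : z * z = 1 := c.oct.sq z c.zV
  obtain ⟨n, rfl⟩ := Subgroup.mem_zpowers_iff.1 hx
  have h3 : z ^ (2 : ℤ) = 1 := by rw [zpow_two]; exact h2
  rcases Int.even_or_odd' n with ⟨m, rfl | rfl⟩
  · left
    rw [zpow_mul, h3, one_zpow]
  · right
    rw [zpow_add, zpow_mul, h3, one_zpow, one_mul, zpow_one]

theorem card_zpowers (c : Ctx Y U V z t) : Nat.card (Subgroup.zpowers z) = 2 := by
  rw [Nat.card_zpowers]
  exact orderOf_eq_prime (by rw [pow_two]; exact c.oct.sq z c.zV) c.z1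

theorem W_comm (c : Ctx Y U V z t) {w w' : H} (hw : w ∈ c.W) (hw' : w' ∈ c.W) :
    w * w' * w⁻¹ * w'⁻¹ ∈ Subgroup.zpowers z := by
  have hsq : ∀ x ∈ c.W, x * x ∈ Subgroup.zpowers z := by
    intro x hx
    rcases c.W_sq hx with h | h
    · rw [h]; exact Subgroup.one_mem _
    · rw [h]; exact Subgroup.mem_zpowers z
  have hzz : ∀ x ∈ Subgroup.zpowers z, ∀ g : H, g * x = x * g := by
    intro x hx g
    rcases cases_zpowers c hx with rfl | rfl
    · rw [mul_one, one_mul]
    · exact c.zc g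
  have h1 := hsq _ (c.W.mul_mem hw hw')
  have h2 := hsq _ (c.W.inv_mem hw)
  have h3 := hsq _ (c.W.inv_mem hw')
  have e : w * w' * w⁻¹ * w'⁻¹ = (w * w' * (w * w')) * (w'⁻¹ * (w⁻¹ * w⁻¹) * w') * (w'⁻¹ * w'⁻¹) := by
    group
  rw [e]
  refine Subgroup.mul_mem _ (Subgroup.mul_mem _ h1 ?_) h3
  rw [hzz _ h2 w'⁻¹, mul_assoc, inv_mul_cancel, mul_one]
  exact h2

theorem exists_sq (c : Ctx Y U V z t) : ∃ w ∈ c.W, w * w = z := by
  by_contra hcon
  push Not at hcon
  have hsq : ∀ w ∈ c.W, w * w = 1 := fun w hw => (c.W_sq hw).resolve_right (hcon w hw)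
  have hinv : ∀ w ∈ c.W, w⁻¹ = w := fun w hw => inv_eq_of_mul_eq_one_left (hsq w hw)
  have h1 : c.W ≤ V := by
    intro w hw
    apply c.cV w (c.W_le_U hw)
    intro v hv
    have h2 := hinv _ (c.W.mul_mem hw (c.V_le_W hv))
    rw [mul_inv_rev, hinv w hw, hinv v (c.V_le_W hv)] at h2
    exact h2.symm
  have h2 := Subgroup.card_le_of_le h1
  rw [c.card_W, c.oct.card] at h2
  omega

/-- Elements of `W` commuting with `W`. -/
theorem center_W (c : Ctx Y U V z t) {x : H} (hx : x ∈ U) (hc : ∀ w ∈ c.W, w * x = x * w) :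
    x = 1 ∨ x = z := by
  have h1 : x ∈ V := c.cV x hx (fun v hv => (hc v (c.V_le_W hv)).symm)
  exact c.fixed h1 hc

/-- The Sylow 2-subgroup of a component is not `W`. -/
theorem case_W (c : Ctx Y U V z t) (hodd : OddSolv.{u}) (hwal : Walter.{u}) {L : Subgroup H}
    (hL : IsComponent L) (hLY : L ≤ Y) (hR : U ⊓ L = c.W) : False := by
  haveI : Fact (Nat.Prime 2) := ⟨Nat.prime_two⟩
  haveI : IsSimpleGroup (L ⧸ Subgroup.center L) := hL.2.2
  have hWL : c.W ≤ L := hR ▸ inf_le_right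
  have hVL : V ≤ L := c.V_le_W.trans hWL
  obtain ⟨P, hP⟩ := c.exists_sylow hL hLY
  have hzL : z ∈ L := hVL c.zV
  have hzc : (⟨z, hzL⟩ : L) ∈ Subgroup.center L := by
    rw [Subgroup.mem_center_iff]
    intro l
    exact Subtype.ext (c.zc l)
  have hzpc : ∀ x : L, (x : H) ∈ Subgroup.zpowers z → x ∈ Subgroup.center L := by
    intro x hx
    rcases cases_zpowers c hx with h | h
    · rw [show x = 1 from Subtype.ext h]; exact Subgroup.one_mem _
    · rw [show x = ⟨z, hzL⟩ from Subtype.ext h]; exact hzc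
  set π := QuotientGroup.mk' (Subgroup.center L) with hπ
  let S : Sylow 2 (L ⧸ Subgroup.center L) := P.mapSurjective (QuotientGroup.mk'_surjective _)
  have hS : (S : Subgroup (L ⧸ Subgroup.center L)) = (P : Subgroup L).map π := rfl
  have memP : ∀ x : L, x ∈ (P : Subgroup L) ↔ (x : H) ∈ c.W := by
    intro x
    rw [hP, Subgroup.mem_subgroupOf, hR]
  have hSc : IsMulCommutative (S : Subgroup (L ⧸ Subgroup.center L)) := by
    refine ⟨⟨?_⟩⟩
    rintro ⟨x, hx⟩ ⟨y, hy⟩
    have hx0 := hx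
    have hy0 := hy
    rw [hS] at hx0 hy0
    obtain ⟨x, hx1, rfl⟩ := hx0
    obtain ⟨y, hy1, rfl⟩ := hy0
    apply Subtype.ext
    change π x * π y = π y * π x
    have h1 : x * y * x⁻¹ * y⁻¹ ∈ Subgroup.center L :=
      hzpc _ (W_comm c ((memP x).1 hx1) ((memP y).1 hy1))
    have h2 : π (x * y * x⁻¹ * y⁻¹) = 1 := (QuotientGroup.eq_one_iff _).2 h1
    rw [map_mul, map_mul, map_mul, map_inv, map_inv, mul_inv_eq_one, mul_inv_eq_iff_eq_mul] at h2
    exact h2
  have hcard : 16 ∣ Nat.card (L ⧸ Subgroup.center L) := by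
    have h1 := card_map_mul_card π (P : Subgroup L)
    have h2 : Nat.card (π.ker ⊓ (P : Subgroup L) : Subgroup L) ≤ 2 := by
      have h3 : (π.ker ⊓ (P : Subgroup L) : Subgroup L) ≤ Subgroup.zpowers ⟨z, hzL⟩ := by
        rintro x ⟨hx1, hx2⟩
        have hx3 : x ∈ Subgroup.center L := by rwa [hπ, QuotientGroup.ker_mk'] at hx1
        have hx4 : (x : H) = 1 ∨ (x : H) = z := by
          apply center_W c (c.W_le_U ((memP x).1 hx2))
          intro w hw
          exact congrArg Subtype.val (Subgroup.mem_center_iff.1 hx3 ⟨w, hWL hw⟩)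
        rcases hx4 with h | h
        · rw [show x = 1 from Subtype.ext h]; exact Subgroup.one_mem _
        · rw [show x = ⟨z, hzL⟩ from Subtype.ext h]; exact Subgroup.mem_zpowers _
      refine (Subgroup.card_le_of_le h3).trans ?_
      rw [Nat.card_zpowers]
      refine Nat.le_of_dvd (by norm_num) (orderOf_dvd_of_pow_eq_one ?_)
      apply Subtype.ext
      change z ^ 2 = 1
      rw [pow_two]; exact c.oct.sq z c.zV
    have h4 : Nat.card (P : Subgroup L) = 32 := by
      rw [hP, hR, Nat.card_congr (Subgroup.subgroupOfEquivOfLe hWL).toEquiv, c.card_W]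
    rw [h4] at h1
    have h5 : 16 ∣ Nat.card ((P : Subgroup L).map π) := by
      interval_cases h6 : Nat.card (π.ker ⊓ (P : Subgroup L) : Subgroup L)
      · omega
      · omega
      · omega
    exact h5.trans (Subgroup.card_subgroup_dvd_card _)
  have hnc : ¬ IsMulCommutative (L ⧸ Subgroup.center L) := by
    intro hc
    apply quasisimple_not_isSolvable hL.2
    haveI h1 : Group.IsSolvable (L ⧸ Subgroup.center L) := Group.isSolvable_of_comm hc.is_comm.comm
    haveI : Group.IsSolvable (Subgroup.center L) := by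
      apply Group.isSolvable_of_comm
      intro a b
      exact Subtype.ext (Subgroup.mem_center_iff.1 b.2 a)
    exact Group.isSolvable_of_ker_le_range (Subgroup.center L).subtype π
      (by rw [hπ, QuotientGroup.ker_mk', Subgroup.range_subtype])
  obtain ⟨w, hw, hwz⟩ := exists_sq c
  obtain ⟨v, hv, hvL, hv1, hvz⟩ := c.exists_mem hodd hL hLY
  obtain ⟨g, hg⟩ := conj_of_walter hwal hnc S hSc hcard (x := π ⟨v, hvL⟩) (y := π ⟨w, hWL hw⟩)
    (by
      rw [← map_mul]
      have : (⟨v, hvL⟩ : L) * ⟨v, hvL⟩ = 1 := Subtype.ext (c.oct.sq v hv)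
      rw [this, map_one])
    (by
      intro h1
      have h2 := (QuotientGroup.eq_one_iff _).1 h1
      apply c.no_cent hodd hL hLY hv hv1 hvz hvL
      intro l hl
      exact (congrArg Subtype.val (Subgroup.mem_center_iff.1 h2 ⟨l, hl⟩)).symm)
    (by
      rw [← map_mul]
      refine (QuotientGroup.eq_one_iff _).2 ?_
      rw [show (⟨w, hWL hw⟩ : L) * ⟨w, hWL hw⟩ = ⟨z, hzL⟩ from Subtype.ext hwz]
      exact hzc)
    (by
      intro h1
      have h2 := (QuotientGroup.eq_one_iff _).1 h1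
      have h3 : w ∈ V := by
        apply c.cV w (c.W_le_U hw)
        intro v hv
        exact (congrArg Subtype.val (Subgroup.mem_center_iff.1 h2 ⟨v, hVL hv⟩)).symm
      apply c.z1
      rw [← hwz, c.oct.sq w h3])
  obtain ⟨g, rfl⟩ := QuotientGroup.mk'_surjective _ g
  have h1 : π (⟨w, hWL hw⟩⁻¹ * (g * ⟨v, hvL⟩ * g⁻¹)) = 1 := by
    rw [map_mul, map_mul, map_mul, map_inv, map_inv, hg, inv_mul_cancel]
  set d : L := ⟨w, hWL hw⟩⁻¹ * (g * ⟨v, hvL⟩ * g⁻¹) with hd
  have hdc : d ∈ Subgroup.center L := (QuotientGroup.eq_one_iff _).1 h1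
  have hdH : ∀ l ∈ L, l * (d : H) = d * l := fun l hl =>
    congrArg Subtype.val (Subgroup.mem_center_iff.1 hdc ⟨l, hl⟩)
  have hdval : (d : H) = w⁻¹ * (g * v * (g : H)⁻¹) := rfl
  have hdd : (d : H) * d = z := by
    have h2 : w * d * (w * d) = 1 := by
      rw [hdval]
      calc w * (w⁻¹ * (g * v * (g : H)⁻¹)) * (w * (w⁻¹ * (g * v * (g : H)⁻¹))) =
          g * (v * v) * (g : H)⁻¹ := by group
        _ = 1 := by rw [c.oct.sq v hv]; group
    have h3 : w * d * (w * d) = (w * w) * (d * d) := by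
      calc w * d * (w * d) = w * (d * w) * d := by group
        _ = w * (w * d) * d := by rw [hdH w (hWL hw)]
        _ = _ := by group
    rw [h3, hwz] at h2
    have h4 := eq_inv_of_mul_eq_one_right h2
    rw [h4, c.oct.inv c.zV]
  have hd4 : (d : H) ^ 2 ^ 2 = 1 := by
    rw [show (2 : ℕ) ^ 2 = 2 * 2 by norm_num, pow_mul, pow_two (d : H), hdd, pow_two]
    exact c.oct.sq z c.zV
  obtain ⟨b, hb, hb2⟩ := exists_conj_mem (B := L) (S := U ⊓ L) (c.Up.to_le inf_le_left) inf_le_right
    (c.odd_L hL hLY) (R := Subgroup.zpowers (d : H)) (TwoEl.of_pow hd4)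
    (by rw [Subgroup.zpowers_le]; exact d.2)
  have h5 := hb2 d (Subgroup.mem_zpowers _)
  rw [hdH b hb, mul_assoc, mul_inv_cancel, mul_one] at h5
  have h6 : (d : H) ∈ V := c.cV _ h5.1 (fun v hv => (hdH v (hVL hv)).symm)
  apply c.z1
  rw [← hdd, c.oct.sq _ h6]

/-- An involution of `U` outside `W`, in coordinates. -/
theorem exists_out (c : Ctx Y U V z t) {a b : H} (F : Flag U V z a b) {q : F3 → H}
    (Q : Coord V z a b q) :
    ∃ y ∈ U, y ∉ c.W ∧ y * y = 1 ∧ ∀ i j k : ZMod 2, y * q (i, j, k) * y⁻¹ = q (i, j + k, k) := by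
  obtain ⟨y, hy, z1, a1, b1⟩ := F.ex 0 1 0
  simp only [pw_zero, pw_one, mul_one] at a1 b1
  have hya := Q.conj (g := y) (pz := (1, 0, 0)) (pa := (0, 1, 0)) (pb := (0, 1, 1))
    (by rw [z1, Q.hz]) (by rw [a1, Q.ha]) (by rw [b1, ← Q.hb, ← Q.ha, ← Q.add]; rfl)
  simp only [smul3, mul_one, mul_zero, add_zero, zero_add] at hya
  have hyV : y ∉ V := by
    intro h
    have h1 := c.oct.comm h F.bas.hw
    rw [← mul_inv_eq_iff_eq_mul, b1] at h1
    exact F.bas.y1 (mul_eq_left.1 h1)
  obtain ⟨v, hv, hvv⟩ := c.inv y hy hyV (by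
    intro v hv
    obtain ⟨⟨i, j, k⟩, rfl⟩ := Q.surj v hv
    rw [show y * y * q (i, j, k) * (y * y)⁻¹ = y * (y * q (i, j, k) * y⁻¹) * y⁻¹ by group, hya, hya]
    congr 1
    ext
    · rfl
    · change j + k + k = j
      have : ∀ j k : ZMod 2, j + k + k = j := by decide
      exact this j k
    · rfl)
  have hact : ∀ i j k : ZMod 2, (y * v) * q (i, j, k) * (y * v)⁻¹ = q (i, j + k, k) := by
    intro i j k
    rw [show (y * v) * q (i, j, k) * (y * v)⁻¹ = y * (v * q (i, j, k) * v⁻¹) * y⁻¹ by group]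
    have h1 := c.oct.comm hv (Q.mem (i, j, k))
    rw [← mul_inv_eq_iff_eq_mul] at h1
    rw [h1, hya]
  refine ⟨y * v, U.mul_mem hy (c.VU hv), ?_, hvv, hact⟩
  intro h
  have h1 := (c.mem_W_iff Q (U.mul_mem hy (c.VU hv)) (i := 0) (j := 1) (k := 0) (by
    intro i' j' k'
    rw [hact]
    congr 1
    ext <;> simp)).1 h
  exact absurd h1 (by decide)

/-- The subgroup of `w ∈ W` commuting with `y` modulo `⟨z⟩` has order at most 8. -/
theorem card_le_eight (c : Ctx Y U V z t) {a b : H} (F : Flag U V z a b) {q : F3 → H}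
    (Q : Coord V z a b q) {y : H} (hy : y ∈ U)
    (hya : ∀ i j k : ZMod 2, y * q (i, j, k) * y⁻¹ = q (i, j + k, k)) (K : Subgroup H)
    (hK : ∀ w ∈ K, w ∈ c.W ∧ y * w * y⁻¹ * w⁻¹ ∈ Subgroup.zpowers z) : Nat.card K ≤ 8 := by
  -- action of `K`
  have hact : ∀ w ∈ K, ∃ k : ZMod 2, ∀ i' j' k' : ZMod 2,
      w * q (i', j', k') * w⁻¹ = q (i' + k * k', j', k') := by
    intro w hw
    obtain ⟨hwW, hwy⟩ := hK w hw
    obtain ⟨i, j, k, hc⟩ := flag_action c.oct c.UN F Q (c.W_le_U hwW)
    have hj := (c.mem_W_iff Q (c.W_le_U hwW) hc).1 hwW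
    subst hj
    obtain ⟨ε, hε, hεc⟩ : ∃ ε ∈ V, y * w = ε * (w * y) := by
      refine ⟨y * w * y⁻¹ * w⁻¹, ?_, by group⟩
      rcases cases_zpowers c hwy with h | h
      · rw [h]; exact V.one_mem
      · rw [h]; exact c.zV
    have h1 : (y * w) * q (0, 0, 1) * (y * w)⁻¹ = (w * y) * q (0, 0, 1) * (w * y)⁻¹ := by
      rw [hεc]
      have h2 : (w * y) * q (0, 0, 1) * (w * y)⁻¹ ∈ V :=
        (Subgroup.mem_normalizer_iff.1 (c.UN (U.mul_mem (c.W_le_U hwW) hy)) _).1 (Q.mem _)
      have h3 := c.oct.comm hε h2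
      rw [← mul_inv_eq_iff_eq_mul] at h3
      rw [← h3]; group
    rw [show (y * w) * q (0, 0, 1) * (y * w)⁻¹ = y * (w * q (0, 0, 1) * w⁻¹) * y⁻¹ by group,
      show (w * y) * q (0, 0, 1) * (w * y)⁻¹ = w * (y * q (0, 0, 1) * y⁻¹) * w⁻¹ by group,
      hc, hya, hya, hc] at h1
    have h2 := congrArg Prod.fst (Q.inj h1)
    simp only [mul_zero, mul_one, add_zero, zero_add] at h2
    have hi : i = 0 := by
      have h3 : ∀ i k : ZMod 2, k = i + k → i = 0 := by decide
      exact h3 i k h2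
    refine ⟨k, fun i' j' k' => ?_⟩
    rw [hc, hi]
    congr 1
    ext <;> simp
  -- `V` has index at most 2
  have hidx : V.relIndex K ≤ 2 := by
    by_cases hKV : K ≤ V
    · rw [Subgroup.relIndex_eq_one.2 hKV]; norm_num
    obtain ⟨x, hx, hxV⟩ := SetLike.not_le_iff_exists.1 hKV
    have hk1 : ∀ w ∈ K, w ∉ V → ∀ i' j' k' : ZMod 2,
        w * q (i', j', k') * w⁻¹ = q (i' + k', j', k') := by
      intro w hw hwV i' j' k'
      obtain ⟨k, hk⟩ := hact w hw
      rcases zmod2 k with rfl | rfl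
      · exfalso
        apply hwV
        apply c.cV w (c.W_le_U (hK w hw).1)
        intro v hv
        obtain ⟨⟨i', j', k'⟩, rfl⟩ := Q.surj v hv
        rw [← mul_inv_eq_iff_eq_mul, hk]
        congr 1
        ext <;> simp
      · rw [hk, one_mul]
    have h1 : V.relIndex K ∣ 2 := by
      rw [Subgroup.relIndex_dvd_two_iff]
      refine ⟨x, hx, fun u hu => ?_⟩
      by_cases huV : u ∈ V
      · exact Or.inr huV
      · left
        apply c.cV _ (U.mul_mem (c.W_le_U (hK u hu).1) (c.W_le_U (hK x hx).1))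
        intro v hv
        obtain ⟨⟨i', j', k'⟩, rfl⟩ := Q.surj v hv
        rw [← mul_inv_eq_iff_eq_mul]
        rw [show u * x * q (i', j', k') * (u * x)⁻¹ = u * (x * q (i', j', k') * x⁻¹) * u⁻¹ by group,
          hk1 x hx hxV, hk1 u hu huV]
        congr 1
        ext
        · change i' + k' + k' = i'
          have : ∀ j k : ZMod 2, j + k + k = j := by decide
          exact this i' k'
        · rfl
        · rfl
    exact Nat.le_of_dvd (by norm_num) h1
  -- `K ⊓ V` has order at most 4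
  have hKV : Nat.card (V ⊓ K : Subgroup H) ≤ 4 := by
    have h1 : Nat.card (V ⊓ K : Subgroup H) ∣ 8 := by
      rw [← c.oct.card]
      exact Subgroup.card_dvd_of_le inf_le_left
    have h2 : Nat.card (V ⊓ K : Subgroup H) ≠ 8 := by
      intro h3
      have h4 : (V ⊓ K : Subgroup H) = V :=
        Subgroup.eq_of_le_of_card_ge inf_le_left (by rw [h3, c.oct.card])
      have h5 : q (0, 0, 1) ∈ K := by
        have h6 := Q.mem (0, 0, 1)
        rw [← h4] at h6
        exact h6.2
      have h6 := (hK _ h5).2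
      rw [hya, c.oct.inv (Q.mem (0, 0, 1)), ← Q.add] at h6
      rcases cases_zpowers c h6 with h7 | h7
      · rw [← Q.zero] at h7
        exact absurd (Q.inj h7) (by decide)
      · rw [← Q.hz] at h7
        exact absurd (Q.inj h7) (by decide)
    have h3 := Nat.le_of_dvd (by norm_num) h1
    interval_cases hN : Nat.card (V ⊓ K : Subgroup H) <;> omega
  have h1 := Cfsg.Agent.Lib.SylowNormalInf.card_mul_relIndex (V ⊓ K) K inf_le_right
  rw [Subgroup.inf_relIndex_right] at h1
  rw [← h1]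
  calc _ ≤ 4 * 2 := Nat.mul_le_mul hKV hidx
    _ = 8 := by norm_num

/-- `U` is not contained in a component. -/
theorem case_U (c : Ctx Y U V z t) {L : Subgroup H}
    (hL : IsComponent L) (hLY : L ≤ Y) (hUL : U ≤ L) : False := by
  haveI : Fact (Nat.Prime 2) := ⟨Nat.prime_two⟩
  obtain ⟨a, b, F⟩ := c.flag
  obtain ⟨q, Q⟩ := exists_coord c.oct F.bas
  obtain ⟨y, hyU, hyW, hyy, hya⟩ := exists_out c F Q
  have hWL : c.W ≤ L := c.W_le_U.trans hUL
  have hVL : V ≤ L := c.VU.trans hUL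
  have hzL : z ∈ L := hVL c.zV
  obtain ⟨P, hP⟩ := c.exists_sylow hL hLY
  rw [inf_eq_left.2 hUL] at hP
  haveI : ((Subgroup.zpowers z).subgroupOf L).Normal := by
    constructor
    intro x hx g
    rw [Subgroup.mem_subgroupOf] at hx ⊢
    have h1 : (g : H) * x = x * g := by
      rcases cases_zpowers c hx with h | h
      · rw [h]; group
      · rw [h]; exact c.zc g
    rw [Subgroup.coe_mul, Subgroup.coe_mul, h1]
    rw [show (x : H) * g * ((g⁻¹ : L) : H) = x by rw [Subgroup.coe_inv]; group]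
    exact hx
  set Z := (Subgroup.zpowers z).subgroupOf L with hZ
  set π := QuotientGroup.mk' Z with hπ
  have hker : π.ker = Z := QuotientGroup.ker_mk' _
  have hzzU : Subgroup.zpowers z ≤ V := by rw [Subgroup.zpowers_le]; exact c.zV
  have hZcard : Nat.card Z = 2 := by
    rw [hZ, Nat.card_congr (Subgroup.subgroupOfEquivOfLe (hzzU.trans hVL)).toEquiv, card_zpowers c]
  have hmap : ∀ K : Subgroup L, Z ≤ K → Nat.card (K.map π) * 2 = Nat.card K := by
    intro K hK
    have h1 := card_map_mul_card π K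
    rwa [hker, inf_eq_left.2 hK, hZcard] at h1
  have hmem : ∀ (K : Subgroup L) (x : L), Z ≤ K → (π x ∈ K.map π ↔ x ∈ K) := by
    intro K x hK
    constructor
    · rintro ⟨k, hk, h1⟩
      have h2 : k⁻¹ * x ∈ Z := by
        rw [← hker, MonoidHom.mem_ker, map_mul, map_inv, h1, inv_mul_cancel]
      have h3 := K.mul_mem hk (hK h2)
      rwa [mul_inv_cancel_left] at h3
    · intro hx
      exact ⟨x, hx, rfl⟩
  let S : Sylow 2 (L ⧸ Z) := P.mapSurjective (QuotientGroup.mk'_surjective _)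
  have hS : (S : Subgroup (L ⧸ Z)) = (U.subgroupOf L).map π := by
    rw [← hP]; rfl
  have hZW : Z ≤ c.W.subgroupOf L := by
    intro x hx
    exact c.V_le_W (hzzU hx)
  have hZU : Z ≤ U.subgroupOf L := by
    intro x hx
    exact c.VU (hzzU hx)
  have hcardA : Nat.card ((c.W.subgroupOf L).map π) = 16 := by
    have h1 := hmap _ hZW
    rw [Nat.card_congr (Subgroup.subgroupOfEquivOfLe hWL).toEquiv, c.card_W] at h1
    omega
  have hcardS : Nat.card ((U.subgroupOf L).map π) = 32 := by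
    have h1 := hmap _ hZU
    rw [Nat.card_congr (Subgroup.subgroupOfEquivOfLe hUL).toEquiv, c.cU] at h1
    omega
  have hAS : (c.W.subgroupOf L).map π ≤ (U.subgroupOf L).map π := by
    apply Subgroup.map_mono
    intro x hx
    exact c.W_le_U hx
  have hone : ∀ x : L, (x : H) ∈ Subgroup.zpowers z → π x = 1 := by
    intro x hx
    rw [← MonoidHom.mem_ker, hker]
    exact hx
  obtain ⟨f, hf⟩ := G23Wr.exists_hom S (A := (c.W.subgroupOf L).map π) (y := π ⟨y, hUL hyU⟩)
    { AS := by rw [hS]; exact hAS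
      card := hcardA
      sq := by
        rintro _ ⟨x, hx, rfl⟩
        rw [← map_mul]
        apply hone
        rcases c.W_sq hx with h | h
        · rw [Subgroup.coe_mul]
          have h' : (x : H) * x = 1 := h
          rw [h']; exact Subgroup.one_mem _
        · rw [Subgroup.coe_mul]
          have h' : (x : H) * x = z := h
          rw [h']; exact Subgroup.mem_zpowers z
      idx := by
        have h1 := Cfsg.Agent.Lib.SylowNormalInf.card_mul_relIndex _ _ hAS
        rw [hcardA, hcardS] at h1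
        rw [hS]
        omega
      yS := by
        rw [hS, hmem _ _ hZU]
        exact hyU
      yA := by
        rw [hmem _ _ hZW]
        exact hyW
      yy := by
        rw [← map_mul]
        apply hone
        rw [Subgroup.coe_mul, hyy]
        exact Subgroup.one_mem _
      fix := by
        set C := (c.W.subgroupOf L).map π ⊓ Subgroup.centralizer {π ⟨y, hUL hyU⟩} with hC
        set K := C.comap π with hK
        have hZK : Z ≤ K := by
          rw [← hker]
          exact MonoidHom.ker_le_comap _ _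
        have h1 := hmap K hZK
        have h2 : K.map π = C := Subgroup.map_comap_eq_self_of_surjective
          (QuotientGroup.mk'_surjective _) C
        rw [h2] at h1
        have h3 : Nat.card (K.map L.subtype) ≤ 8 := by
          apply card_le_eight c F Q hyU hya
          rintro _ ⟨k, hk, rfl⟩
          obtain ⟨hk1, hk2⟩ := Subgroup.mem_inf.1 (Subgroup.mem_comap.1 hk)
          constructor
          · exact (hmem _ _ hZW).1 hk1
          · rw [Subgroup.mem_centralizer_singleton_iff] at hk2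
            have h4 : π (⟨y, hUL hyU⟩ * k * ⟨y, hUL hyU⟩⁻¹ * k⁻¹) = 1 := by
              rw [map_mul, map_mul, map_mul, map_inv, map_inv, mul_inv_eq_one, mul_inv_eq_iff_eq_mul]
              exact hk2.symm
            rw [← MonoidHom.mem_ker, hker] at h4
            exact h4
        rw [Subgroup.card_map_of_injective L.subtype_injective] at h3
        omega }
  -- `L ⧸ Z` is perfect
  apply hf
  apply MonoidHom.ext
  intro x
  obtain ⟨x, rfl⟩ := QuotientGroup.mk'_surjective _ x
  exact Cfsg.Agent.SignalizersComponents.CompBasic.hom_eq_one_of_perfect hL.2.1 (f.comp π) x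

/-- There is no component. -/
theorem no_comp (c : Ctx Y U V z t) (hodd : OddSolv.{u}) (hwal : Walter.{u}) {L : Subgroup H}
    (hL : IsComponent L) (hLY : L ≤ Y) : False := by
  have hVL := c.V_le hodd hL hLY
  rcases c.W_le hodd hL hLY with h | h
  · -- `U ⊓ L = V`
    apply c.not_abelian hL hLY (hVL c.zV)
    intro s hs s' hs'
    exact c.oct.comm (h hs) (h hs')
  · have h1 : c.W ≤ U ⊓ L := le_inf c.W_le_U h
    have h2 := Subgroup.relIndex_mul_relIndex c.W (U ⊓ L) U h1 inf_le_left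
    rw [c.W_relIndex] at h2
    have h3 : (U ⊓ L).relIndex U ∣ 2 := ⟨_, by rw [mul_comm]; exact h2.symm⟩
    rcases (Nat.dvd_prime Nat.prime_two).1 h3 with h4 | h4
    · exact case_U c hL hLY ((Subgroup.relIndex_eq_one.1 h4).trans inf_le_right)
    · rw [h4] at h2
      have h5 : c.W.relIndex (U ⊓ L) = 1 := by omega
      exact case_W c hodd hwal hL hLY (le_antisymm (Subgroup.relIndex_eq_one.1 h5) h1)

end Cfsg.Agent.StdL2.G23NoComp
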