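import Mathlib
import Cfsg.Agent.StdL2.G23Fus
import Cfsg.Agent.StdL2.G23NoComp
import Cfsg.Agent.PLocal.CoprimeLift

/-!
S1773, case q = 8, N(E)/C(E) = L3(2): the configuration in `C(z)/M`, `M` normal of odd order.
-/

set_option autoImplicit false
set_option linter.style.haveILetI false
set_option linter.unusedSectionVars false

namespace Cfsg.Agent.StdL2.G23Ctx

open Cfsg Cfsg.Agent.SignalizersComponents.Components
open G23Aut G23Coset G23Loc G23U G23Comp

universe u

section map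

variable {G : Type*} [Group G] {G' : Type*} [Group G']

/-- the isomorphism onto the image -/
noncomputable def mapEquiv (f : G →* G') (V : Subgroup G) (hf : ∀ v ∈ V, f v = 1 → v = 1) :
    V ≃* V.map f :=
  MulEquiv.ofBijective (f.subgroupMap V) ⟨by
    rw [injective_iff_map_eq_one]
    intro v hv
    exact Subtype.ext (hf v v.2 (congrArg Subtype.val hv)), MonoidHom.subgroupMap_surjective f V⟩

theorem mapEquiv_coe (f : G →* G') (V : Subgroup G) (hf : ∀ v ∈ V, f v = 1 → v = 1) (v : V) :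
    ((mapEquiv f V hf v : V.map f) : G') = f v := rfl

theorem inj_of (f : G →* G') {V : Subgroup G} (hf : ∀ v ∈ V, f v = 1 → v = 1) {v w : G}
    (hv : v ∈ V) (hw : w ∈ V) (h : f v = f w) : v = w := by
  have h1 := hf _ (V.mul_mem (V.inv_mem hv) hw) (by rw [map_mul, map_inv, h, inv_mul_cancel])
  exact inv_mul_eq_one.1 h1

theorem oct_map (f : G →* G') {V : Subgroup G} (h : Oct V) (hf : ∀ v ∈ V, f v = 1 → v = 1) :
    Oct (V.map f) where
  card := by rw [← Nat.card_congr (mapEquiv f V hf).toEquiv, h.card]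
  sq := by
    rintro _ ⟨v, hv, rfl⟩
    rw [← map_mul, h.sq v hv, map_one]

theorem bas_map (f : G →* G') {V : Subgroup G} {x y w : G} (B : Bas V x y w)
    (hf : ∀ v ∈ V, f v = 1 → v = 1) : Bas (V.map f) (f x) (f y) (f w) where
  hx := ⟨x, B.hx, rfl⟩
  hy := ⟨y, B.hy, rfl⟩
  hw := ⟨w, B.hw, rfl⟩
  x1 := fun h => B.x1 (hf x B.hx h)
  y1 := fun h => B.y1 (hf y B.hy h)
  yx := fun h => B.yx (inj_of f hf B.hy B.hx h)
  w1 := fun h => B.w1 (hf w B.hw h)
  wx := fun h => B.wx (inj_of f hf B.hw B.hx h)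
  wy := fun h => B.wy (inj_of f hf B.hw B.hy h)
  wxy := fun h => B.wxy (inj_of f hf B.hw (V.mul_mem B.hx B.hy) (by rw [map_mul]; exact h))

theorem pw_map (f : G →* G') (x : G) (i : ZMod 2) : f (pw x i) = pw (f x) i := by
  rcases zmod2 i with rfl | rfl
  · rw [pw_zero, pw_zero, map_one]
  · rw [pw_one, pw_one]

theorem flag_map (f : G →* G') {S V : Subgroup G} {z a b : G} (F : Flag S V z a b)
    (hf : ∀ v ∈ V, f v = 1 → v = 1) : Flag (S.map f) (V.map f) (f z) (f a) (f b) where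
  bas := bas_map f F.bas hf
  fz := by
    rintro _ ⟨s, hs, rfl⟩
    rw [← map_mul, ← map_inv, ← map_mul, F.fz s hs]
  fa := by
    rintro _ ⟨s, hs, rfl⟩
    rw [← map_mul, ← map_inv, ← map_mul, ← map_mul]
    rcases F.fa s hs with h | h
    · left; rw [h]
    · right; rw [h]
  ex := by
    intro i j k
    obtain ⟨s, hs, h1, h2, h3⟩ := F.ex i j k
    refine ⟨f s, ⟨s, hs, rfl⟩, ?_, ?_, ?_⟩
    · rw [← map_mul, ← map_inv, ← map_mul, h1]
    · rw [← map_mul, ← map_inv, ← map_mul, h2, map_mul, pw_map]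
    · rw [← map_mul, ← map_inv, ← map_mul, h3, map_mul, map_mul, pw_map, pw_map]

/-- restriction of the flag to a subgroup -/
theorem flag_sub {C S V : Subgroup G} {z a b : G} (F : Flag S V z a b) (hSC : S ≤ C) (hVC : V ≤ C) :
    Flag (S.subgroupOf C) (V.subgroupOf C) (⟨z, hVC F.bas.hx⟩ : C) ⟨a, hVC F.bas.hy⟩
      ⟨b, hVC F.bas.hw⟩ where
  bas :=
    { hx := F.bas.hx
      hy := F.bas.hy
      hw := F.bas.hw
      x1 := fun h => F.bas.x1 (congrArg Subtype.val h)
      y1 := fun h => F.bas.y1 (congrArg Subtype.val h)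
      yx := fun h => F.bas.yx (congrArg Subtype.val h)
      w1 := fun h => F.bas.w1 (congrArg Subtype.val h)
      wx := fun h => F.bas.wx (congrArg Subtype.val h)
      wy := fun h => F.bas.wy (congrArg Subtype.val h)
      wxy := fun h => F.bas.wxy (congrArg Subtype.val h) }
  fz := fun s hs => Subtype.ext (F.fz s hs)
  fa := fun s hs => by
    rcases F.fa s hs with h | h
    · exact Or.inl (Subtype.ext h)
    · exact Or.inr (Subtype.ext h)
  ex := by
    intro i j k
    obtain ⟨s, hs, h1, h2, h3⟩ := F.ex i j k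
    have hp : ∀ (x : C) (i : ZMod 2), ((pw x i : C) : G) = pw (x : G) i := fun x i =>
      pw_map C.subtype x i
    refine ⟨⟨s, hSC hs⟩, hs, Subtype.ext h1, Subtype.ext ?_, Subtype.ext ?_⟩
    · have e := hp ⟨z, hVC F.bas.hx⟩ i
      change s * a * s⁻¹ = a * ((pw (⟨z, hVC F.bas.hx⟩ : C) i : C) : G)
      rw [e]; exact h2
    · have e := hp ⟨z, hVC F.bas.hx⟩ k
      have e' := hp ⟨a, hVC F.bas.hy⟩ j
      change s * b * s⁻¹ = b * ((pw (⟨a, hVC F.bas.hy⟩ : C) j : C) : G) *
        ((pw (⟨z, hVC F.bas.hx⟩ : C) k : C) : G)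
      rw [e, e']; exact h3

theorem solvable_of_conj {A B : Subgroup G} (g : G) (h : ∀ x ∈ A, g * x * g⁻¹ ∈ B)
    (hB : Group.IsSolvable B) : Group.IsSolvable A := by
  haveI := hB
  let f : A →* B :=
    { toFun := fun x => ⟨g * x * g⁻¹, h x x.2⟩
      map_one' := Subtype.ext (by simp)
      map_mul' := fun x y => Subtype.ext (by
        change g * (x * y) * g⁻¹ = (g * x * g⁻¹) * (g * y * g⁻¹)
        group) }
  refine Group.isSolvable_of_isSolvable_injective (f := f) ?_
  intro x y hxy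
  have h1 : g * (x : G) * g⁻¹ = g * y * g⁻¹ := congrArg Subtype.val hxy
  exact Subtype.ext (mul_left_cancel (mul_right_cancel h1))

end map

variable {G : Type u} [Group G] [Finite G] {J V S : Subgroup G} {t z a b : G}

/-- `C_U(t) = V` -/
theorem U_comm_t (h : Hyp J t V) (hS : h.loc.IsSyl S) {u : G} (hu : u ∈ h.U S)
    (hc : u * t = t * u) : u ∈ V :=
  h.mem_V hu.2 (h.loc.mem_E_of_comm (h.U_le_N hS hu) (TwoEl.of_mem (h.U_pgroup hS) hu) hc)

/-- `[t, u] ∈ V` -/
theorem comm_mem (h : Hyp J t V) (hS : h.loc.IsSyl S) {u : G} (hu : u ∈ h.U S) :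
    t * u * t⁻¹ * u⁻¹ ∈ V := by
  obtain ⟨v, hv, h1⟩ := hS.tconj hu.1
  have h2 : t * u * t⁻¹ * u⁻¹ = t * (u * t * u⁻¹)⁻¹ := by group
  rw [h2, h1, mul_inv_rev, h.loc.oct.inv hv, h.loc.tinv, ← mul_assoc, h.loc.comm v hv, mul_assoc,
    h.loc.tt, mul_one]
  exact hv

/-- `tV = t^U` -/
theorem exists_conj_t (h : Hyp J t V) (hS : h.loc.IsSyl S) {v : G} (hv : v ∈ V) :
    ∃ u ∈ h.U S, u * t * u⁻¹ = t * v := by
  have h1 := ncard_conj (h.U S) t
  have h2 : (h.U S ⊓ Subgroup.centralizer {t} : Subgroup G) = V := by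
    apply le_antisymm
    · rintro x ⟨hx, hxt⟩
      exact U_comm_t h hS hx (Subgroup.mem_centralizer_singleton_iff.1 hxt)
    · refine le_inf (h.V_le_U hS) ?_
      intro v hv
      rw [Subgroup.mem_centralizer_singleton_iff]
      exact (h.loc.comm v hv).symm
  rw [h2, h.loc.oct.card, h.card_U hS] at h1
  have h3 := ncard_coset V t
  rw [h.loc.oct.card] at h3
  have h4 : {y | ∃ k ∈ h.U S, k * t * k⁻¹ = y} ⊆ {y | ∃ v ∈ V, y = t * v} := by
    rintro _ ⟨k, hk, rfl⟩
    exact hS.tconj hk.1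
  have h5 := Set.eq_of_subset_of_ncard_le h4 (by omega) (Set.toFinite _)
  have h6 : t * v ∈ {y | ∃ k ∈ h.U S, k * t * k⁻¹ = y} := by
    rw [h5]; exact ⟨v, hv, rfl⟩
  exact h6

theorem z_comm (h : Hyp J t V) (F : Flag (h.U S) V z a b) {u : G} (hu : u ∈ h.U S) :
    u * z = z * u := mul_inv_eq_iff_eq_mul.1 (F.fz u hu)

theorem U_le_C (h : Hyp J t V) (F : Flag (h.U S) V z a b) :
    h.U S ≤ Subgroup.centralizer ({z} : Set G) := fun u hu => by
  rw [Subgroup.mem_centralizer_singleton_iff]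
  exact z_comm h F hu

theorem t_mem_C (h : Hyp J t V) (F : Flag (h.U S) V z a b) :
    t ∈ Subgroup.centralizer ({z} : Set G) := by
  rw [Subgroup.mem_centralizer_singleton_iff]
  exact h.loc.comm z F.bas.hx

theorem z_mem_C (z : G) : z ∈ Subgroup.centralizer ({z} : Set G) := by
  rw [Subgroup.mem_centralizer_singleton_iff]

/-- The configuration in `C(z)/M`. -/
theorem ctx (h : Hyp J t V) (hS : h.loc.IsSyl S) (F : Flag (h.U S) V z a b)
    (hsol : Group.IsSolvable
      ↥(Subgroup.centralizer ({t} : Set G) ⊓ Subgroup.centralizer ({z} : Set G)))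
    (C : Subgroup G) (hC : ∀ g, g ∈ C ↔ g * z = z * g) (hzC : z ∈ C) (htC : t ∈ C)
    (M : Subgroup C) [hMn : M.Normal] (hM : (Nat.card M).Coprime 2) :
    Ctx ((J.subgroupOf C).map (QuotientGroup.mk' M))
      (((h.U S).subgroupOf C).map (QuotientGroup.mk' M))
      ((V.subgroupOf C).map (QuotientGroup.mk' M))
      (QuotientGroup.mk' M ⟨z, hzC⟩) (QuotientGroup.mk' M ⟨t, htC⟩) := by
  haveI : Fact (Nat.Prime 2) := ⟨Nat.prime_two⟩
  set π := QuotientGroup.mk' M with hπ
  have hUC : h.U S ≤ C := fun u hu => (hC u).2 (z_comm h F hu)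
  have hVU := h.V_le_U hS
  have hVC : V ≤ C := hVU.trans hUC
  have hpi : ∀ x : C, π x = 1 ↔ x ∈ M := fun x => QuotientGroup.eq_one_iff x
  have hker : ∀ x : C, (x : G) ∈ h.U S → π x = 1 → x = 1 := by
    intro x hx h1
    have h2 := (hpi x).1 h1
    obtain ⟨n, hn⟩ := h.U_pgroup hS ⟨x, hx⟩
    have h3' : (x : G) ^ 2 ^ n = 1 := congrArg Subtype.val hn
    have h3 : x ^ 2 ^ n = 1 := Subtype.ext (by rw [Subgroup.coe_pow]; exact h3')
    have h4 : x ^ Nat.card M = 1 := by
      have := pow_card_eq_one' (G := M) (x := ⟨x, h2⟩)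
      exact congrArg Subtype.val this
    rw [← orderOf_eq_one_iff]
    apply Nat.eq_one_of_dvd_coprimes (a := 2 ^ n) (b := Nat.card M)
    · exact Nat.Coprime.pow_left n hM.symm
    · rwa [orderOf_dvd_iff_pow_eq_one]
    · rwa [orderOf_dvd_iff_pow_eq_one]
  have hkerV : ∀ x ∈ V.subgroupOf C, π x = 1 → x = 1 := fun x hx => hker x (hVU hx)
  haveI := h.nJ
  have hVeq : Nat.card (V.subgroupOf C) = 8 := by
    rw [Nat.card_congr (Subgroup.subgroupOfEquivOfLe hVC).toEquiv, h.loc.oct.card]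
  have hoctC : Oct (V.subgroupOf C) := ⟨hVeq, fun v hv => Subtype.ext (h.loc.oct.sq v hv)⟩
  have hYn : ((J.subgroupOf C).map π).Normal :=
    Subgroup.Normal.map (inferInstance) π (QuotientGroup.mk'_surjective M)
  have hnormC : ∀ n : C, (n : G) ∈ Subgroup.normalizer (V : Set G) →
      n ∈ Subgroup.normalizer ((V.subgroupOf C : Subgroup C) : Set C) := by
    intro n hn
    rw [Subgroup.mem_normalizer_iff] at hn ⊢
    intro x
    exact hn x
  have hnorm : ∀ n : C, (n : G) ∈ Subgroup.normalizer (V : Set G) →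
      π n ∈ Subgroup.normalizer (((V.subgroupOf C).map π : Subgroup (C ⧸ M)) : Set (C ⧸ M)) :=
    fun n hn => Cfsg.Agent.PLocal.CoprimeLift.map_normalizer_le π _ ⟨n, hnormC n hn, rfl⟩
  constructor
  case nY => exact hYn
  case UY =>
    apply Subgroup.map_mono
    intro x hx
    exact hx.2
  case Up =>
    exact ((h.U_pgroup hS).of_equiv (Subgroup.subgroupOfEquivOfLe hUC).symm).map π
  case cU =>
    rw [← Nat.card_congr (mapEquiv π ((h.U S).subgroupOf C) (fun x hx => hker x hx)).toEquiv,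
      Nat.card_congr (Subgroup.subgroupOfEquivOfLe hUC).toEquiv, h.card_U hS]
  case odd =>
    intro h2
    have hcU : Nat.card (((h.U S).subgroupOf C).map π) = 64 := by
      rw [← Nat.card_congr (mapEquiv π ((h.U S).subgroupOf C) (fun x hx => hker x hx)).toEquiv,
        Nat.card_congr (Subgroup.subgroupOfEquivOfLe hUC).toEquiv, h.card_U hS]
    have h3 := Cfsg.Agent.Lib.SylowNormalInf.card_mul_relIndex (((h.U S).subgroupOf C).map π)
      ((J.subgroupOf C).map π) (Subgroup.map_mono (fun x hx => hx.2))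
    have h4 : 128 ∣ Nat.card ((J.subgroupOf C).map π) := by
      rw [← h3, hcU]
      exact (show 128 = 64 * 2 by norm_num) ▸ Nat.mul_dvd_mul_left 64 h2
    have h5 : Nat.card ((J.subgroupOf C).map π) ∣ Nat.card J := by
      have h6 := G23NoComp.card_map_mul_card π (J.subgroupOf C)
      have h7 : Nat.card (J.subgroupOf C) ∣ Nat.card J := by
        rw [← Subgroup.inf_subgroupOf_right,
          Nat.card_congr (Subgroup.subgroupOfEquivOfLe (inf_le_right : J ⊓ C ≤ C)).toEquiv]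
        exact Subgroup.card_dvd_of_le inf_le_left
      exact Dvd.dvd.trans ⟨_, h6.symm⟩ h7
    have h8 := Cfsg.Agent.Lib.SylowNormalInf.card_mul_relIndex (h.U S) J inf_le_right
    rw [h.card_U hS] at h8
    have h9 := h4.trans h5
    apply h.not_dvd_relIndex hS
    omega
  case oct => exact oct_map π hoctC hkerV
  case VU =>
    apply Subgroup.map_mono
    intro x hx
    exact hVU hx
  case UN =>
    rintro _ ⟨u, hu, rfl⟩
    exact hnorm u (h.U_le_norm hS hu)
  case zV => exact ⟨⟨z, hzC⟩, F.bas.hx, rfl⟩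
  case z1 =>
    intro h1
    exact F.bas.x1 (congrArg Subtype.val (hkerV _ F.bas.hx h1))
  case zc =>
    intro g
    obtain ⟨g, rfl⟩ := QuotientGroup.mk'_surjective M g
    rw [← map_mul, ← map_mul]
    congr 1
    exact Subtype.ext ((hC g).1 g.2)
  case tt =>
    rw [← map_mul]
    rw [show (⟨t, htC⟩ : C) * ⟨t, htC⟩ = 1 from Subtype.ext h.loc.tt, map_one]
  case tV =>
    rintro _ ⟨v, hv, rfl⟩
    rw [← map_mul, ← map_mul]
    congr 1
    exact Subtype.ext (h.loc.comm v hv)
  case tU =>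
    rintro _ ⟨u, hu, rfl⟩
    rw [← map_mul, ← map_inv, ← map_mul, ← map_inv, ← map_mul]
    exact ⟨_, comm_mem h hS hu, rfl⟩
  case ct =>
    rintro _ ⟨u, hu, rfl⟩ h1
    refine ⟨u, ?_, rfl⟩
    rw [← mul_inv_eq_iff_eq_mul, ← mul_inv_eq_one, ← map_mul, ← map_inv, ← map_mul, ← map_inv,
      ← map_mul] at h1
    have h2 := hker _ (hVU (comm_mem h hS hu)) h1
    apply U_comm_t h hS hu
    rw [mul_inv_eq_one, mul_inv_eq_iff_eq_mul] at h2
    exact (congrArg Subtype.val h2).symm
  case cV =>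
    rintro _ ⟨u, hu, rfl⟩ h1
    refine ⟨u, ?_, rfl⟩
    apply h.U_cent hS hu
    intro v hv
    have h2 := h1 _ ⟨⟨v, hVC hv⟩, hv, rfl⟩
    rw [← mul_inv_eq_iff_eq_mul, ← mul_inv_eq_one, ← map_mul, ← map_inv, ← map_mul, ← map_inv,
      ← map_mul] at h2
    have h3 := hker _ (by
      have h4 : (u : G) * v * (u : G)⁻¹ ∈ V :=
        (Subgroup.mem_normalizer_iff.1 (h.U_le_norm hS hu) v).1 hv
      exact hVU (V.mul_mem h4 (V.inv_mem hv))) h2
    rw [mul_inv_eq_one, mul_inv_eq_iff_eq_mul] at h3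
    exact congrArg Subtype.val h3
  case full =>
    intro φ hφ
    let e : V ≃* (V.subgroupOf C).map π :=
      (Subgroup.subgroupOfEquivOfLe hVC).symm.trans (mapEquiv π (V.subgroupOf C) hkerV)
    have he : ∀ v : V, ((e v : (V.subgroupOf C).map π) : C ⧸ M) = π ⟨v, hVC v.2⟩ := fun v => rfl
    let ψ : MulAut V := (e.trans φ).trans e.symm
    have hψ : ∀ v : V, e (ψ v) = φ (e v) := by
      intro v
      change e (e.symm (φ (e v))) = φ (e v)
      rw [MulEquiv.apply_symm_apply]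
    obtain ⟨n, hn, hnv⟩ := h.full_NJ ψ
    have hez : e ⟨z, F.bas.hx⟩ = ⟨π ⟨z, hzC⟩, ⟨⟨z, hzC⟩, F.bas.hx, rfl⟩⟩ := Subtype.ext (he _)
    have hz : ψ ⟨z, F.bas.hx⟩ = ⟨z, F.bas.hx⟩ := by
      apply e.injective
      rw [hψ, hez]
      exact Subtype.ext hφ
    have hnz : n * z = z * n := by
      have h1 := hnv ⟨z, F.bas.hx⟩
      rw [hz] at h1
      exact mul_inv_eq_iff_eq_mul.1 h1
    have hnC : n ∈ C := (hC n).2 hnz
    refine ⟨π ⟨n, hnC⟩, ⟨⟨n, hnC⟩, hn.1, rfl⟩, hnorm _ hn.2, ?_⟩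
    intro v
    obtain ⟨v, rfl⟩ := e.surjective v
    rw [← hψ, he, he, ← map_mul, ← map_inv, ← map_mul]
    congr 1
    exact Subtype.ext (hnv v)
  case solv =>
    rintro _ ⟨v, hv, rfl⟩
    rw [← map_mul]
    set s : C := ⟨t, htC⟩ * v with hs
    have hss : s * s = 1 := by
      apply Subtype.ext
      change t * v * (t * v) = 1
      calc t * (v : G) * (t * v) = t * (v * t) * v := by group
        _ = t * (t * v) * v := by rw [h.loc.comm v hv]
        _ = (t * t) * (v * v) := by group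
        _ = 1 := by rw [h.loc.tt, h.loc.oct.sq v hv, one_mul]
    have h1 := Cfsg.Agent.PLocal.CoprimeLift.map_centralizer_mk M (Subgroup.zpowers s) hM
      (TwoEl.of_sq hss)
    rw [MonoidHom.map_zpowers] at h1
    have h2 : ∀ {X : Type u} [Group X] (x : X),
        Subgroup.centralizer ((Subgroup.zpowers x : Subgroup X) : Set X) =
          Subgroup.centralizer ({x} : Set X) := by
      intro X _ x
      rw [Subgroup.zpowers_eq_closure, Subgroup.centralizer_closure]
    rw [h2, h2] at h1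
    rw [← h1]
    have h3 : Group.IsSolvable ↥(Subgroup.centralizer ({s} : Set C)) := by
      obtain ⟨u, hu, hut⟩ := exists_conj_t h hS hv
      have hut : u * t * u⁻¹ = t * (v : G) := hut
      have h4 : Group.IsSolvable ↥((Subgroup.centralizer ({s} : Set C)).map C.subtype) := by
        apply solvable_of_conj (B := Subgroup.centralizer ({t} : Set G) ⊓
          Subgroup.centralizer ({z} : Set G)) u⁻¹ _ hsol
        rintro _ ⟨x, hx, rfl⟩
        have hx1 : (x : G) * (t * v) = (t * v) * x :=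
          congrArg Subtype.val (Subgroup.mem_centralizer_singleton_iff.1 hx)
        have hx2 := (hC x).1 x.2
        have hu1 := z_comm h F hu
        refine Subgroup.mem_inf.2 ⟨?_, ?_⟩
        · rw [Subgroup.mem_centralizer_singleton_iff]
          change u⁻¹ * x * u⁻¹⁻¹ * t = t * (u⁻¹ * x * u⁻¹⁻¹)
          calc u⁻¹ * (x : G) * u⁻¹⁻¹ * t = u⁻¹ * (x * (u * t * u⁻¹)) * u := by group
            _ = u⁻¹ * ((u * t * u⁻¹) * x) * u := by rw [hut, hx1]
            _ = _ := by group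
        · rw [Subgroup.mem_centralizer_singleton_iff]
          change u⁻¹ * x * u⁻¹⁻¹ * z = z * (u⁻¹ * x * u⁻¹⁻¹)
          calc u⁻¹ * (x : G) * u⁻¹⁻¹ * z = u⁻¹ * (x * (u * z)) := by group
            _ = u⁻¹ * (x * z) * u := by rw [hu1]; group
            _ = u⁻¹ * z * x * u := by rw [hx2]; group
            _ = z * (u⁻¹ * x * u⁻¹⁻¹) := by
              rw [show u⁻¹ * z = z * u⁻¹ by
                rw [eq_mul_inv_iff_mul_eq, mul_assoc, ← hu1, ← mul_assoc, inv_mul_cancel, one_mul]]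
              group
      haveI := h4
      exact Group.isSolvable_of_isSolvable_injective
        (f := (C.subtype.subgroupMap (Subgroup.centralizer ({s} : Set C))))
        (by
          intro x y hxy
          have hxy' : C.subtype x = C.subtype y := congrArg
            (fun w : ((Subgroup.centralizer ({s} : Set C)).map C.subtype : Subgroup G) => (w : G)) hxy
          exact Subtype.ext (C.subtype_injective hxy'))
    haveI := h3
    exact Group.isSolvable_of_surjective (f := π.subgroupMap (Subgroup.centralizer ({s} : Set C)))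
      (MonoidHom.subgroupMap_surjective _ _)
  case flag => exact ⟨_, _, flag_map π (flag_sub F hUC hVC) hkerV⟩
  case inv =>
    rintro _ ⟨w, hw, rfl⟩ hwV hww
    have hwV' : (w : G) ∉ V := fun h1 => hwV ⟨w, h1, rfl⟩
    obtain ⟨v, hv, h1⟩ := h.exists_inv hS hw hwV' (by
      intro v hv
      have h2 := hww _ ⟨⟨v, hVC hv⟩, hv, rfl⟩
      rw [← mul_inv_eq_one, ← map_mul, ← map_mul, ← map_inv, ← map_mul, ← map_inv, ← map_mul] at h2
      have h3 := hker _ (by
        have h4 : ((w : G) * w) * v * ((w : G) * w)⁻¹ ∈ V :=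
          (Subgroup.mem_normalizer_iff.1 (h.U_le_norm hS (Subgroup.mul_mem _ hw hw)) v).1 hv
        exact hVU (V.mul_mem h4 (V.inv_mem hv))) h2
      rw [mul_inv_eq_one] at h3
      exact congrArg Subtype.val h3)
    refine ⟨π ⟨v, hVC hv⟩, ⟨⟨v, hVC hv⟩, hv, rfl⟩, ?_⟩
    rw [← map_mul, ← map_mul, show w * ⟨v, hVC hv⟩ * (w * ⟨v, hVC hv⟩) = 1 from Subtype.ext h1,
      map_one]

end Cfsg.Agent.StdL2.G23Ctx
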