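import Mathlib
import Cfsg.Agent.StdL2.G23Ctx
import Cfsg.Agent.Lib.Cores

/-!
S1773, case q = 8, N(E)/C(E) = L3(2): `J` is not of component type.
-/

set_option autoImplicit false
set_option linter.style.haveILetI false
set_option linter.unusedSectionVars false

namespace Cfsg.Agent.StdL2.G23Type

open Cfsg Cfsg.Agent.SignalizersComponents.Components
open G23Aut G23Coset G23Loc G23U G23Comp G23NoComp G23Ctx

universe u

theorem isComponent_quot_equiv {X X' : Type*} [Group X] [Group X'] (e : X ≃* X')
    (h : HasComponent (X ⧸ oddCore X)) : HasComponent (X' ⧸ oddCore X') := by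
  obtain ⟨K, hK, hq⟩ := h
  have h2 := isComponent_map_equiv
    (QuotientGroup.congr (Cfsg.oddCore _) (Cfsg.oddCore _) e
      (Cfsg.Agent.Lib.Cores.map_equiv_pPrimeCore e 2)) (K := K) ⟨hK, hq⟩
  exact ⟨_, h2.1, h2.2⟩

variable {G : Type u} [Group G] [Finite G] {J V S : Subgroup G} {t z a b : G}

/-- the odd core of `J ∩ C`, as a subgroup of `C` -/
def MC (J C : Subgroup G) : Subgroup C := (oddCore (J.subgroupOf C)).map (J.subgroupOf C).subtype

theorem MC_normal [hJ : J.Normal] (C : Subgroup G) : (MC J C).Normal := by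
  haveI := Cfsg.Agent.Lib.Cores.pPrimeCore_characteristic (G := J.subgroupOf C) 2
  haveI : (J.subgroupOf C).Normal := inferInstance
  exact ConjAct.normal_of_characteristic_of_normal

theorem MC_card (J C : Subgroup G) : (Nat.card (MC J C)).Coprime 2 := by
  unfold MC
  rw [Subgroup.card_map_of_injective (Subgroup.subtype_injective _)]
  exact Cfsg.Agent.Lib.Cores.pPrimeCore_coprime 2

/-- `(J ∩ C)/O(J ∩ C)` has no component. -/
theorem no_component_C (h : Hyp J t V) (hS : h.loc.IsSyl S) (F : Flag (h.U S) V z a b)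
    (hsol : Group.IsSolvable
      ↥(Subgroup.centralizer ({t} : Set G) ⊓ Subgroup.centralizer ({z} : Set G)))
    (hodd : OddSolv.{u}) (hwal : Walter.{u})
    (C : Subgroup G) (hC : ∀ g, g ∈ C ↔ g * z = z * g) :
    ¬ HasComponent ((J.subgroupOf C) ⧸ oddCore (J.subgroupOf C)) := by
  rintro ⟨K, hK, hq⟩
  haveI := h.nJ
  haveI : (J.subgroupOf C).Normal := inferInstance
  haveI hMn : (MC J C).Normal := MC_normal C
  have hzC : z ∈ C := (hC z).2 rfl
  have htC : t ∈ C := (hC t).2 (h.loc.comm z F.bas.hx)
  have c := ctx h hS F hsol C hC hzC htC (MC J C) (MC_card J C)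
  set π := QuotientGroup.mk' (MC J C) with hπ
  set Y := (J.subgroupOf C).map π with hY
  -- the isomorphism
  let f : (J.subgroupOf C) →* Y := π.subgroupMap (J.subgroupOf C)
  have hf : Function.Surjective f := MonoidHom.subgroupMap_surjective _ _
  have hfk : f.ker = oddCore (J.subgroupOf C) := by
    ext x
    rw [MonoidHom.mem_ker]
    constructor
    · intro h1
      have h2 : π x = 1 := congrArg Subtype.val h1
      obtain ⟨y, hy, h3⟩ := (QuotientGroup.eq_one_iff (x : C)).1 h2
      rw [← Subtype.ext h3]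
      exact hy
    · intro h1
      apply Subtype.ext
      exact (QuotientGroup.eq_one_iff (x : C)).2 ⟨x, h1, rfl⟩
  let e : ((J.subgroupOf C) ⧸ oddCore (J.subgroupOf C)) ≃* Y :=
    (QuotientGroup.quotientMulEquivOfEq hfk.symm).trans
      (QuotientGroup.quotientKerEquivOfSurjective f hf)
  have h1 := isComponent_map_equiv e (K := K) ⟨hK, hq⟩
  have hYn : Y.Normal := c.nY
  have h2 := isComponent_map_subtype (H := Y) (hYn.isSubnormal) h1
  exact no_comp c hodd hwal h2 (Subgroup.map_subtype_le _)

/-- `J` is not of component type. -/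
theorem not_componentType (h : Hyp J t V) (gold : Gold.{u}) (hodd : OddSolv.{u})
    (hwal : Walter.{u}) (hsol : ∀ v ∈ V, v ≠ 1 → Group.IsSolvable
      ↥(Subgroup.centralizer ({t} : Set G) ⊓ Subgroup.centralizer ({v} : Set G))) :
    ¬ IsComponentType J := by
  rintro ⟨s, hs, hcomp⟩
  haveI := h.nJ
  obtain ⟨S, hS, -⟩ := h.loc.exists_syl (R := ⊥) (IsPGroup.of_bot) bot_le
  obtain ⟨z, a, b, F⟩ := h.exists_flag hS
  have hs2 : (s : G) * s = 1 := by
    have := pow_orderOf_eq_one s
    rw [hs, pow_two] at this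
    exact congrArg Subtype.val this
  have hs1 : (s : G) ≠ 1 := by
    intro h1
    have h2 : s = 1 := Subtype.ext h1
    rw [h2, orderOf_one] at hs
    omega
  obtain ⟨g, hg⟩ := h.one_class hS gold F.bas.hx F.bas.x1 s.2 hs2 hs1
  set C := Subgroup.centralizer ({z} : Set G) with hCdef
  have hC : ∀ g, g ∈ C ↔ g * z = z * g := fun g => Subgroup.mem_centralizer_singleton_iff
  apply no_component_C h hS F (hsol z F.bas.hx F.bas.x1) hodd hwal C hC
  refine isComponent_quot_equiv ?_ hcomp
  exact
    { toFun := fun x => ⟨⟨g * (x : J) * g⁻¹, by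
        have h1 : ((x : J) : G) * s = s * (x : J) :=
          congrArg Subtype.val (Subgroup.mem_centralizer_singleton_iff.1 x.2)
        rw [hC, ← hg]
        calc g * ((x : J) : G) * g⁻¹ * (g * s * g⁻¹) = g * (((x : J) : G) * s) * g⁻¹ := by group
          _ = g * (s * ((x : J) : G)) * g⁻¹ := by rw [h1]
          _ = _ := by group⟩, h.nJ.conj_mem _ (x : J).2 g⟩
      invFun := fun y => ⟨⟨g⁻¹ * ((y : C) : G) * g, by
        have := h.nJ.conj_mem _ y.2 g⁻¹
        rwa [inv_inv] at this⟩, by
        rw [Subgroup.mem_centralizer_singleton_iff]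
        apply Subtype.ext
        change g⁻¹ * ((y : C) : G) * g * s = s * (g⁻¹ * ((y : C) : G) * g)
        have h1 := (hC _).1 (y : C).2
        rw [← hg] at h1
        calc g⁻¹ * ((y : C) : G) * g * s = g⁻¹ * (((y : C) : G) * (g * s * g⁻¹)) * g := by group
          _ = g⁻¹ * ((g * s * g⁻¹) * ((y : C) : G)) * g := by rw [h1]
          _ = _ := by group⟩
      left_inv := fun x => Subtype.ext (Subtype.ext (by
        change g⁻¹ * (g * ((x : J) : G) * g⁻¹) * g = _
        group))
      right_inv := fun y => Subtype.ext (Subtype.ext (by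
        change g * (g⁻¹ * ((y : C) : G) * g) * g⁻¹ = _
        group))
      map_mul' := fun x y => Subtype.ext (Subtype.ext (by
        change g * (((x : J) : G) * (y : J)) * g⁻¹ =
          (g * ((x : J) : G) * g⁻¹) * (g * ((y : J) : G) * g⁻¹)
        group)) }

end Cfsg.Agent.StdL2.G23Type
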