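import Mathlib
import Cfsg.Agent.StdL2.G23Type
import Cfsg.Agent.GH.C2Extra

/-!
S1773, case q = 8, N(E)/C(E) = L3(2): `J` of characteristic 2 type: `F*(C_J(z))` is extraspecial of
order 32.
-/

set_option autoImplicit false
set_option linter.style.haveILetI false
set_option linter.unusedSectionVars false

namespace Cfsg.Agent.StdL2.G23Char

open Cfsg Cfsg.Agent.SignalizersComponents.Components
open G23Aut G23Coset G23Loc G23U G23Comp G23NoComp G23Ctx G23Type

universe u

section abs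

variable {H : Type u} [Group H] [Finite H] {Y U V : Subgroup H} {z t : H}

/-- A normal 2-subgroup contained in `Y` is contained in `W`. -/
theorem le_W (c : Ctx Y U V z t) {Q : Subgroup H} (hQY : Q ≤ Y) (hQn : Q.Normal)
    (hQp : IsPGroup 2 Q) : Q ≤ c.W := by
  -- `Q ≤ U`
  have hQU : Q ≤ U := by
    obtain ⟨y, hy, h1⟩ := exists_conj_mem c.Up c.UY c.odd hQp hQY
    intro q hq
    have h2 := h1 _ (hQn.conj_mem q hq y⁻¹)
    rwa [show y * (y⁻¹ * q * y⁻¹⁻¹) * y⁻¹ = q by group] at h2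
  intro x hx
  obtain ⟨a, b, F⟩ := c.flag
  obtain ⟨q, Q'⟩ := exists_coord c.oct F.bas
  obtain ⟨i, j, k, hc⟩ := flag_action c.oct c.UN F Q' (hQU hx)
  refine (c.mem_W_iff Q' (hQU hx) hc).2 ?_
  rcases zmod2 j with hj | hj
  · exact hj
  exfalso
  obtain ⟨φ, e1, e2, e3⟩ := F.bas.exists_aut c.oct (F.bas.swap23 c.oct)
  obtain ⟨n, hn, hnV, hnv⟩ := c.full φ (congrArg Subtype.val e1)
  have na : n * a * n⁻¹ = b := by
    have := hnv ⟨a, F.bas.hy⟩
    rw [e2] at this
    exact this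
  have nb : n * b * n⁻¹ = a := by
    have := hnv ⟨b, F.bas.hw⟩
    rw [e3] at this
    exact this
  have nz : n * z * n⁻¹ = z := by rw [c.zc]; group
  have h1 := F.fa _ (hQU (hQn.conj_mem x hx n))
  have h2 : n * x * n⁻¹ * a * (n * x * n⁻¹)⁻¹ = n * (x * (n⁻¹ * a * n) * x⁻¹) * n⁻¹ := by group
  have h3 : n⁻¹ * a * n = b := by rw [← nb]; group
  rw [h2, h3, ← Q'.hb, hc, hj] at h1
  have h4 := Q'.conj (g := n) (pz := (1, 0, 0)) (pa := (0, 0, 1)) (pb := (0, 1, 0))
    (by rw [nz, Q'.hz]) (by rw [na, Q'.hb]) (by rw [nb, Q'.ha]) (0 + i * 0 + k * 1) (0 + 1 * 1) 1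
  rw [h4] at h1
  simp only [smul3, mul_one, mul_zero, add_zero, zero_add] at h1
  rw [← Q'.hz, ← Q'.ha, ← Q'.add] at h1
  rcases h1 with h1 | h1
  · have h5 := Q'.inj h1
    simp only [Prod.mk.injEq] at h5
    exact absurd h5.2.2 (by decide)
  · have h5 := Q'.inj h1
    simp only [Prod.mk_add_mk, Prod.mk.injEq] at h5
    exact absurd h5.2.2 (by decide)

theorem eq_W (c : Ctx Y U V z t) {Q : Subgroup H} (hQY : Q ≤ Y) (hQn : Q.Normal)
    (hQp : IsPGroup 2 Q)
    (hmax : ∀ N : Subgroup H, N.Normal → N ≤ Y → IsPGroup 2 N → N ≤ Q)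
    (hcent : ∀ y ∈ Y, (∀ q ∈ Q, y * q = q * y) → y ∈ Q) : Q = c.W := by
  haveI := c.nY
  have hQW := le_W c hQY hQn hQp
  apply le_antisymm hQW
  have hzz : ∀ x ∈ Subgroup.zpowers z, ∀ g : H, g * x = x * g := by
    intro x hx g
    rcases cases_zpowers c hx with rfl | rfl
    · rw [mul_one, one_mul]
    · exact c.zc g
  let D : Subgroup H :=
    { carrier := {x | x ∈ Y ∧ ∀ q ∈ Q, x * q * x⁻¹ * q⁻¹ ∈ Subgroup.zpowers z}
      one_mem' := ⟨Y.one_mem, fun q _ => by simp⟩
      mul_mem' := by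
        rintro x y ⟨hx, h1⟩ ⟨hy, h2⟩
        refine ⟨Y.mul_mem hx hy, fun q hq => ?_⟩
        have h3 := hzz _ (h2 q hq) x
        rw [show x * y * q * (x * y)⁻¹ * q⁻¹ = (x * (y * q * y⁻¹ * q⁻¹)) * (q * x⁻¹ * q⁻¹) by group,
          h3, show (y * q * y⁻¹ * q⁻¹) * x * (q * x⁻¹ * q⁻¹) =
            (y * q * y⁻¹ * q⁻¹) * (x * q * x⁻¹ * q⁻¹) by group]
        exact Subgroup.mul_mem _ (h2 q hq) (h1 q hq)
      inv_mem' := by
        rintro x ⟨hx, h1⟩
        refine ⟨Y.inv_mem hx, fun q hq => ?_⟩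
        have h3 := hzz _ (Subgroup.inv_mem _ (h1 q hq)) x⁻¹
        rw [show x⁻¹ * q * x⁻¹⁻¹ * q⁻¹ = x⁻¹ * (x * q * x⁻¹ * q⁻¹)⁻¹ * x by group, h3, mul_assoc,
          inv_mul_cancel, mul_one]
        exact Subgroup.inv_mem _ (h1 q hq) }
  have memD : ∀ x, x ∈ D ↔ x ∈ Y ∧ ∀ q ∈ Q, x * q * x⁻¹ * q⁻¹ ∈ Subgroup.zpowers z :=
    fun x => Iff.rfl
  have hWD : c.W ≤ D := fun w hw => (memD w).2 ⟨c.UY (c.W_le_U hw), fun q hq => W_comm c hw (hQW hq)⟩
  refine hWD.trans (hmax D ?_ (fun x hx => hx.1) ?_)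
  · constructor
    intro x hx g
    refine (memD _).2 ⟨c.nY.conj_mem x hx.1 g, fun q hq => ?_⟩
    have h1 := hx.2 _ (hQn.conj_mem q hq g⁻¹)
    have h2 := hzz _ h1 g
    have h3 : g * x * g⁻¹ * q * (g * x * g⁻¹)⁻¹ * q⁻¹ =
        g * (x * (g⁻¹ * q * g⁻¹⁻¹) * x⁻¹ * (g⁻¹ * q * g⁻¹⁻¹)⁻¹) * g⁻¹ := by group
    rw [h3, h2, mul_assoc, mul_inv_cancel, mul_one]
    exact h1
  · rintro ⟨x, hx⟩
    have hxx : x * x ∈ Q := by
      apply hcent _ (Y.mul_mem hx.1 hx.1)
      intro q hq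
      have h1 := hx.2 q hq
      set e := x * q * x⁻¹ * q⁻¹ with he
      have h2 : x * q = e * q * x := by rw [he]; group
      have h3 : x * e = e * x := hzz e h1 x
      have h4 : e * e = 1 := by
        rcases cases_zpowers c h1 with h | h
        · rw [h, one_mul]
        · rw [h]; exact c.oct.sq z c.zV
      calc x * x * q = x * (x * q) := by group
        _ = (x * e) * q * x := by rw [h2]; group
        _ = e * (x * q) * x := by rw [h3]; group
        _ = (e * e) * q * (x * x) := by rw [h2]; group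
        _ = q * (x * x) := by rw [h4, one_mul]
    obtain ⟨n, hn⟩ := hQp ⟨x * x, hxx⟩
    have h5 : (x * x) ^ 2 ^ n = 1 := congrArg Subtype.val hn
    refine ⟨n + 1, Subtype.ext ?_⟩
    change x ^ 2 ^ (n + 1) = 1
    rw [pow_succ', pow_mul, pow_two]
    exact h5

end abs

/-- centralisers of involutions in a group of characteristic 2 type -/
theorem char_centralizer {X : Type*} [Group X] (h : Cfsg.IsCharacteristicTwoType X) {z : X}
    (hz2 : z * z = 1) (hz1 : z ≠ 1) :
    Cfsg.IsOfCharacteristicTwo (Subgroup.centralizer ({z} : Set X)) := by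
  haveI : Fact (Nat.Prime 2) := ⟨Nat.prime_two⟩
  have h1 := h.2 (Subgroup.zpowers z) (TwoEl.of_sq hz2) (by rw [Ne, Subgroup.zpowers_eq_bot]; exact hz1)
  have h2 : Subgroup.normalizer ((Subgroup.zpowers z : Subgroup X) : Set X) =
      Subgroup.centralizer ({z} : Set X) := by
    have hmem : ∀ x, x ∈ Subgroup.zpowers z ↔ x = 1 ∨ x = z := by
      intro x
      constructor
      · intro hx
        obtain ⟨n, rfl⟩ := Subgroup.mem_zpowers_iff.1 hx
        have h3 : z ^ (2 : ℤ) = 1 := by rw [zpow_two]; exact hz2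
        rcases Int.even_or_odd' n with ⟨m, rfl | rfl⟩
        · left
          rw [zpow_mul, h3, one_zpow]
        · right
          rw [zpow_add, zpow_mul, h3, one_zpow, one_mul, zpow_one]
      · rintro (rfl | rfl)
        · exact Subgroup.one_mem _
        · exact Subgroup.mem_zpowers _
    ext g
    rw [Subgroup.mem_normalizer_iff, Subgroup.mem_centralizer_singleton_iff]
    constructor
    · intro hg
      have h3 := (hg z).1 (Subgroup.mem_zpowers z)
      rcases (hmem _).1 h3 with h4 | h4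
      · exfalso
        apply hz1
        rw [show z = g⁻¹ * (g * z * g⁻¹) * g by group, h4]; group
      · exact mul_inv_eq_iff_eq_mul.1 h4
    · intro hg x
      have hgi : g⁻¹ * z * g = z := by rw [mul_assoc, ← hg]; group
      constructor
      · intro hx
        rcases (hmem _).1 hx with rfl | rfl
        · rw [mul_one, mul_inv_cancel]; exact Subgroup.one_mem _
        · rw [mul_inv_eq_iff_eq_mul.2 hg]; exact hx
      · intro hx
        rcases (hmem _).1 hx with h3 | h3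
        · rw [show x = g⁻¹ * (g * x * g⁻¹) * g by group, h3, mul_one, inv_mul_cancel]
          exact Subgroup.one_mem _
        · rw [show x = g⁻¹ * (g * x * g⁻¹) * g by group, h3, hgi]
          exact Subgroup.mem_zpowers _
  rwa [h2] at h1

variable {G : Type u} [Group G] [Finite G] {J V S : Subgroup G} {t z a b : G}

/-- `J` of characteristic 2 type: the hypotheses of S1759. -/
theorem extra32 (h : Hyp J t V) (hsol : ∀ v ∈ V, v ≠ 1 → Group.IsSolvable
      ↥(Subgroup.centralizer ({t} : Set G) ⊓ Subgroup.centralizer ({v} : Set G)))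
    (hchar : IsCharacteristicTwoType J) : GH.C2Extra.Extra32 J := by
  haveI : Fact (Nat.Prime 2) := ⟨Nat.prime_two⟩
  haveI := h.nJ
  obtain ⟨S, hS, -⟩ := h.loc.exists_syl (R := ⊥) (IsPGroup.of_bot) bot_le
  obtain ⟨z, a, b, F⟩ := h.exists_flag hS
  have hzV := F.bas.hx
  have hz1 := F.bas.x1
  have hzz : z * z = 1 := h.loc.oct.sq z hzV
  obtain ⟨C, hCdef⟩ : ∃ C : Subgroup G, C = Subgroup.centralizer ({z} : Set G) := ⟨_, rfl⟩
  have hC : ∀ g, g ∈ C ↔ g * z = z * g := by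
    intro g
    rw [hCdef, Subgroup.mem_centralizer_singleton_iff]
  have hzC : z ∈ C := (hC z).2 rfl
  have htC : t ∈ C := (hC t).2 (h.loc.comm z hzV)
  have c := ctx h hS F (hsol z hzV hz1) C hC hzC htC (⊥ : Subgroup C)
    (by rw [Subgroup.card_bot]; exact Nat.coprime_one_left 2)
  set π := QuotientGroup.mk' (⊥ : Subgroup C) with hπ
  have hπi : Function.Injective π := by
    rw [injective_iff_map_eq_one]
    intro x hx
    exact Subgroup.mem_bot.1 ((QuotientGroup.eq_one_iff x).1 hx)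
  set Y := (J.subgroupOf C).map π with hY
  haveI hYn : Y.Normal := c.nY
  let z' : J := ⟨z, h.VJ hzV⟩
  have hz'z' : z' * z' = 1 := Subtype.ext hzz
  have hz'1 : z' ≠ 1 := fun e => hz1 (congrArg Subtype.val e)
  let ι : Subgroup.centralizer ({z'} : Set J) →* C :=
    { toFun := fun x => ⟨((x : J) : G), (hC _).2
        (congrArg Subtype.val (Subgroup.mem_centralizer_singleton_iff.1 x.2))⟩
      map_one' := rfl
      map_mul' := fun x y => rfl }
  have hιi : Function.Injective ι := by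
    intro x y hxy
    have h1 : ((x : J) : G) = (y : J) := congrArg (fun w : C => (w : G)) hxy
    exact Subtype.ext (Subtype.ext h1)
  let Φ := π.comp ι
  have hΦi : Function.Injective Φ := hπi.comp hιi
  have hΦY : ∀ x, Φ x ∈ Y := fun x => ⟨ι x, (x : J).2, rfl⟩
  have hΦs : ∀ y ∈ Y, ∃ x, Φ x = y := by
    rintro _ ⟨y, hy, rfl⟩
    exact ⟨⟨⟨(y : G), hy⟩, by
      rw [Subgroup.mem_centralizer_singleton_iff]
      exact Subtype.ext ((hC _).1 y.2)⟩, rfl⟩
  let e : Subgroup.centralizer ({z'} : Set J) ≃* Y :=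
    MulEquiv.ofBijective (Φ.codRestrict Y hΦY)
      ⟨fun x y hxy => hΦi (congrArg Subtype.val hxy), fun y => by
        obtain ⟨x, hx⟩ := hΦs y y.2
        exact ⟨x, Subtype.ext hx⟩⟩
  have hX := char_centralizer hchar hz'z' hz'1
  -- the image of the core
  have hQ : (pCore 2 (Subgroup.centralizer ({z'} : Set J))).map Φ = Y ⊓ pCore 2 (C ⧸ (⊥ : Subgroup C)) := by
    rw [← Cfsg.Agent.Lib.Cores.map_subtype_pCore 2 hYn, ← Cfsg.Agent.Lib.Cores.map_equiv_pCore e,
      Subgroup.map_map]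
    rfl
  have hW : (pCore 2 (Subgroup.centralizer ({z'} : Set J))).map Φ = c.W := by
    rw [hQ]
    haveI := Cfsg.Agent.Lib.Cores.pCore_normal (G := C ⧸ (⊥ : Subgroup C)) 2
    apply eq_W c inf_le_left inferInstance
      ((Cfsg.Agent.Lib.Cores.pCore_isPGroup 2).to_le inf_le_right)
    · intro N hN hNY hNp
      exact le_inf hNY (Cfsg.Agent.Lib.Cores.le_pCore hN hNp)
    · intro y hy hyc
      obtain ⟨x, rfl⟩ := hΦs y hy
      rw [← hQ]
      refine ⟨x, hX ?_, rfl⟩
      rw [Subgroup.mem_centralizer_iff]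
      intro q hq
      apply hΦi
      rw [map_mul, map_mul]
      exact (hyc _ (by rw [← hQ]; exact ⟨q, hq, rfl⟩)).symm
  have hz'X : z' ∈ Subgroup.centralizer ({z'} : Set J) := by
    rw [Subgroup.mem_centralizer_singleton_iff]
  have hΦz : Φ ⟨z', hz'X⟩ = π ⟨z, hzC⟩ := rfl
  have hmemW : ∀ x ∈ pCore 2 (Subgroup.centralizer ({z'} : Set J)), Φ x ∈ c.W := by
    intro x hx
    rw [← hW]
    exact ⟨x, hx, rfl⟩
  have hcases : ∀ x, Φ x = 1 ∨ Φ x = π ⟨z, hzC⟩ → (x : J) = 1 ∨ (x : J) = z' := by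
    intro x hx
    rcases hx with h1 | h1
    · left
      have h2 : x = 1 := hΦi (by rw [h1, map_one])
      rw [h2]; rfl
    · right
      have h2 : x = ⟨z', hz'X⟩ := hΦi (by rw [h1, hΦz])
      rw [h2]
  apply GH.C2Extra.extra32_of (z := z') (orderOf_eq_prime (by rw [pow_two]; exact hz'z') hz'1) hX
    (T := (pCore 2 (Subgroup.centralizer ({z'} : Set J))).map
      (Subgroup.centralizer ({z'} : Set J)).subtype)
  constructor
  · rw [Subgroup.card_map_of_injective (Subgroup.subtype_injective _),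
      ← Subgroup.card_map_of_injective hΦi, hW, c.card_W]
  · exact le_rfl
  · have h1 : π ⟨z, hzC⟩ ∈ c.W := c.V_le_W c.zV
    rw [← hW] at h1
    obtain ⟨x, hx, h2⟩ := h1
    have h3 : x = ⟨z', hz'X⟩ := hΦi h2
    exact ⟨x, hx, by rw [h3]; rfl⟩
  · rintro _ ⟨x, hx, rfl⟩ _ ⟨y, hy, rfl⟩
    have h1 := cases_zpowers c (W_comm c (hmemW x hx) (hmemW y hy))
    rw [← map_mul, ← map_inv, ← map_mul, ← map_inv, ← map_mul] at h1
    rcases hcases _ h1 with h2 | h2
    · change ((x * y * x⁻¹ * y⁻¹ : Subgroup.centralizer ({z'} : Set J)) : J) ∈ _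
      rw [h2]; exact Subgroup.one_mem _
    · change ((x * y * x⁻¹ * y⁻¹ : Subgroup.centralizer ({z'} : Set J)) : J) ∈ _
      rw [h2]; exact Subgroup.mem_zpowers _
  · rintro _ ⟨x, hx, rfl⟩ hxc
    apply hcases x
    apply center_W c (c.W_le_U (hmemW x hx))
    intro w hw
    rw [← hW] at hw
    obtain ⟨y, hy, rfl⟩ := hw
    have h1 := hxc _ ⟨y, hy, rfl⟩
    have h2 : x * y = y * x := Subtype.ext h1
    rw [← map_mul, ← map_mul, h2]

end Cfsg.Agent.StdL2.G23Char
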