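import Mathlib
import Cfsg.Agent.StdL2.G23Char
import Cfsg.Agent.StdL2.G23Alt
import Cfsg.Agent.S0243
import Cfsg.Agent.S0280
import Cfsg.Agent.MTwelveType.SylowModel
import Cfsg.Agent.S1619
import Cfsg.Agent.J3Type.ClosingApply
import Cfsg.Agent.StdL2.Assemble
import Cfsg.Agent.OddHalf.Soft

/-!
S1773, case q = 8, N(E)/C(E) = L3(2): identification of `J` as `G2(3)`.
-/

set_option autoImplicit false
set_option linter.style.haveILetI false
set_option linter.unusedSectionVars false

namespace Cfsg.Agent.StdL2.G23Ident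

open Cfsg Cfsg.Agent.SignalizersComponents.Components
open G23Aut G23Coset G23Loc G23U G23Comp G23NoComp G23Ctx G23Type G23Char

universe u

/-- The statement of S1759 at one universe level. -/
def Small : Prop := ∀ (G : Type u) [Group G] [Finite G] (z : G), orderOf z = 2 →
    Cfsg.IsOfSymplecticType ↥(Cfsg.generalizedFittingSubgroup ↥(Subgroup.centralizer ({z} : Set G))) →
    Cfsg.IsExtraspecial 2 ↥(Cfsg.generalizedFittingSubgroup ↥(Subgroup.centralizer ({z} : Set G))) →
    Nat.card ↥(Cfsg.generalizedFittingSubgroup ↥(Subgroup.centralizer ({z} : Set G))) = 32 →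
    IsSimpleGroup ↥(Cfsg.generalizedFittingSubgroup G) →
    ¬ IsMulCommutative ↥(Cfsg.generalizedFittingSubgroup G) →
    (∃ (F : Type) (_ : Field F) (_ : Fintype F), Fintype.card F = 9 ∧ (Nonempty (↥(Cfsg.generalizedFittingSubgroup G) ≃* Cfsg.PSU 3 F 3) ∨ Nonempty (↥(Cfsg.generalizedFittingSubgroup G) ≃* Cfsg.PSU 4 F 3))) ∨
      (∃ (F : Type) (_ : Field F) (_ : Fintype F), Fintype.card F = 4 ∧ Nonempty (↥(Cfsg.generalizedFittingSubgroup G) ≃* Cfsg.PSU 4 F 2)) ∨
      (∃ (F : Type) (_ : Field F) (_ : Fintype F), Fintype.card F = 3 ∧ (Nonempty (↥(Cfsg.generalizedFittingSubgroup G) ≃* Matrix.ProjectiveSpecialLinearGroup (Fin 4) F) ∨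
        Nonempty (↥(Cfsg.generalizedFittingSubgroup G) ≃* ↥(Cfsg.Lie.chevG2.group F)))) ∨
      Nonempty (↥(Cfsg.generalizedFittingSubgroup G) ≃* ↥(alternatingGroup (Fin 8))) ∨
      Nonempty (↥(Cfsg.generalizedFittingSubgroup G) ≃* ↥(alternatingGroup (Fin 9))) ∨
      Cfsg.Spor.IsoM12 ↥(Cfsg.generalizedFittingSubgroup G) ∨ Cfsg.Spor.IsoJ2 ↥(Cfsg.generalizedFittingSubgroup G) ∨
      Cfsg.Spor.IsoJ3 ↥(Cfsg.generalizedFittingSubgroup G)

/-- The statement of S1296 at one universe level. -/
def Dich : Prop := ∀ (G : Type u) [Group G] [Finite G], Even (Nat.card G) →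
    (∀ N : Subgroup G, N.Normal → N.index ≠ 2) → Cfsg.oddCore G = ⊥ →
    Cfsg.PRankLE 2 2 G ∨ Cfsg.IsComponentType G ∨ Cfsg.IsCharacteristicTwoType G

theorem card_psu33 {F : Type} [Field F] [Fintype F] (hF : Fintype.card F = 9) :
    Nat.card (Cfsg.PSU 3 F 3) = 6048 := by
  have h := Cfsg.Agent.S0280.result (F := F) (q := 3) (by rw [hF]; norm_num) 3 (by norm_num)
  simp [Finset.prod_range_succ, Nat.even_iff] at h
  omega

theorem card_psu43 {F : Type} [Field F] [Fintype F] (hF : Fintype.card F = 9) :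
    Nat.card (Cfsg.PSU 4 F 3) = 3265920 := by
  have h := Cfsg.Agent.S0280.result (F := F) (q := 3) (by rw [hF]; norm_num) 4 (by norm_num)
  simp [Finset.prod_range_succ, Nat.even_iff] at h
  omega

theorem card_psu42 {F : Type} [Field F] [Fintype F] (hF : Fintype.card F = 4) :
    Nat.card (Cfsg.PSU 4 F 2) = 25920 := by
  have h := Cfsg.Agent.S0280.result (F := F) (q := 2) (by rw [hF]; norm_num) 4 (by norm_num)
  simp [Finset.prod_range_succ, Nat.even_iff] at h
  omega

theorem card_psl43 {F : Type} [Field F] [Fintype F] (hF : Fintype.card F = 3) :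
    Nat.card (Matrix.ProjectiveSpecialLinearGroup (Fin 4) F) = 6065280 := by
  have h := Cfsg.Agent.S0243.result (F := F) hF 4 (by norm_num)
  simp [Fin.prod_univ_succ] at h
  omega

/-- centralisers and isomorphisms -/
theorem card_centralizer_equiv {X X' : Type*} [Group X] [Group X'] (e : X ≃* X') (x : X) :
    Nat.card (Subgroup.centralizer ({x} : Set X)) =
      Nat.card (Subgroup.centralizer ({e x} : Set X')) := by
  have h1 : (Subgroup.centralizer ({x} : Set X)).map e.toMonoidHom =
      Subgroup.centralizer ({e x} : Set X') := by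
    ext y
    rw [Subgroup.mem_centralizer_singleton_iff]
    constructor
    · rintro ⟨w, hw, rfl⟩
      have h2 := Subgroup.mem_centralizer_singleton_iff.1 hw
      change e w * e x = e x * e w
      rw [← map_mul, h2, map_mul]
    · intro hy
      refine ⟨e.symm y, ?_, e.apply_symm_apply y⟩
      change e.symm y ∈ Subgroup.centralizer ({x} : Set X)
      rw [Subgroup.mem_centralizer_singleton_iff]
      apply e.injective
      rw [map_mul, map_mul, e.apply_symm_apply]
      exact hy
  rw [← h1, Subgroup.card_map_of_injective (f := e.toMonoidHom) e.injective]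

/-- Identification. -/
theorem ident {L : Type u} [Group L] [Finite L] [IsSimpleGroup L] (hna : ¬ IsMulCommutative L)
    (hs : Small.{u}) (hE : GH.C2Extra.Extra32 L) (h64 : 64 ∣ Nat.card L)
    (h128 : ¬ 128 ∣ Nat.card L) (h7 : 7 ∣ Nat.card L)
    (hinv : ∀ x : L, orderOf x = 2 → 64 ∣ Nat.card (Subgroup.centralizer ({x} : Set L))) :
    Cfsg.Agent.StdL2.Assemble.IsoG23 L := by
  obtain ⟨z, hz, h1, h2, h3⟩ := hE
  let e := Cfsg.Agent.OddHalf.Soft.fstarEquiv hna
  haveI : Nontrivial ↥(Cfsg.generalizedFittingSubgroup L) := e.symm.injective.nontrivial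
  have hFs : IsSimpleGroup ↥(Cfsg.generalizedFittingSubgroup L) :=
    IsSimpleGroup.isSimpleGroup_of_surjective e.symm.toMonoidHom e.symm.surjective
  have hFn : ¬ IsMulCommutative ↥(Cfsg.generalizedFittingSubgroup L) := by
    intro hc
    apply hna
    refine ⟨⟨fun a b => ?_⟩⟩
    apply e.symm.injective
    rw [map_mul, map_mul]
    exact hc.is_comm.comm _ _
  have alt : ∀ n : ℕ, (∃ x : alternatingGroup (Fin n), orderOf x = 2 ∧
      ¬ 64 ∣ Nat.card (Subgroup.centralizer ({x} : Set (alternatingGroup (Fin n))))) →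
      Nonempty (↥(Cfsg.generalizedFittingSubgroup L) ≃* ↥(alternatingGroup (Fin n))) → False := by
    rintro n ⟨x, hx, hxc⟩ ⟨f⟩
    apply hxc
    have hy := hinv ((f.symm.trans e) x) (by
      rw [← hx]
      exact orderOf_injective (f.symm.trans e).toMonoidHom (f.symm.trans e).injective x)
    rwa [← card_centralizer_equiv] at hy
  have card : ∀ {X : Type} [Group X] {n : ℕ}, Nat.card X = n →
      Nonempty (↥(Cfsg.generalizedFittingSubgroup L) ≃* X) → Nat.card L = n := by
    rintro X _ n hn ⟨f⟩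
    rw [← hn, ← Nat.card_congr (e.symm.trans f).toEquiv]
  rcases hs L z hz h1 h2 h3 hFs hFn with ⟨F, i1, i2, hF, h | h⟩ | ⟨F, i1, i2, hF, h⟩ |
    ⟨F, i1, i2, hF, h | h⟩ | h | h | h | h | h
  · exfalso
    have h4 := card (card_psu33 hF) h
    rw [h4] at h64
    omega
  · exfalso
    have h4 := card (card_psu43 hF) h
    rw [h4] at h128
    omega
  · exfalso
    have h4 := card (card_psu42 hF) h
    rw [h4] at h7
    omega
  · exfalso
    have h4 := card (card_psl43 hF) h
    rw [h4] at h128
    omega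
  · obtain ⟨f⟩ := h
    exact ⟨F, i1, i2, hF, ⟨e.symm.trans f⟩⟩
  · exact absurd h (fun h => alt 8 G23Alt.exists_inv_eight h)
  · exact absurd h (fun h => alt 9 G23Alt.exists_inv_nine h)
  · exfalso
    have h4 := card Cfsg.Agent.MTwelveType.SylowModel.card_M12 h
    rw [h4] at h7
    omega
  · exfalso
    have h4 := card Cfsg.Agent.S1619.result.2.2.2 h
    rw [h4] at h128
    omega
  · exfalso
    have h4 := (Cfsg.Agent.J3Type.ClosingApply.isoJ3_facts h).1
    rw [Nat.card_congr e.toEquiv] at h4
    rw [h4] at h128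
    omega

/-- The exceptional case at the bottom: `J` is isomorphic to `G2(3)`. -/
theorem main {G : Type u} [Group G] [Finite G] {J V : Subgroup G} {t : G} (h : Hyp J t V)
    (hsol : ∀ v ∈ V, v ≠ 1 → Group.IsSolvable
      ↥(Subgroup.centralizer ({t} : Set G) ⊓ Subgroup.centralizer ({v} : Set G)))
    (gold : Gold.{u}) (hodd : OddSolv.{u}) (hwal : Walter.{u}) (hdich : Dich.{u})
    (hsmall : Small.{u}) : Cfsg.Agent.StdL2.Assemble.IsoG23 J := by
  haveI := h.nJ
  haveI := h.simple
  obtain ⟨S, hS, -⟩ := h.loc.exists_syl (R := ⊥) (IsPGroup.of_bot) bot_le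
  obtain ⟨z, a, b, F⟩ := h.exists_flag hS
  have hUJ := Cfsg.Agent.Lib.SylowNormalInf.card_mul_relIndex (h.U S) J inf_le_right
  rw [h.card_U hS] at hUJ
  have h64 : 64 ∣ Nat.card J := ⟨_, hUJ.symm⟩
  have h128 : ¬ 128 ∣ Nat.card J := by
    intro h2
    apply h.not_dvd_relIndex hS
    omega
  have h7 : 7 ∣ Nat.card J := by
    have h1 : Nat.card (img h.NJ V) ∣ Nat.card h.NJ :=
      ⟨_, (card_img_mul (K := h.NJ) inf_le_right).symm⟩
    rw [h.img_NJ, Subgroup.card_top, h.loc.oct.card_aut] at h1
    have h2 : Nat.card h.NJ ∣ Nat.card J := Subgroup.card_dvd_of_le inf_le_left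
    exact (by norm_num : 7 ∣ 168).trans (h1.trans h2)
  have hinv : ∀ x : J, orderOf x = 2 → 64 ∣ Nat.card (Subgroup.centralizer ({x} : Set J)) := by
    intro x hx
    have hx2 : (x : G) * x = 1 := by
      have := pow_orderOf_eq_one x
      rw [hx, pow_two] at this
      exact congrArg Subtype.val this
    have hx1 : (x : G) ≠ 1 := by
      intro h1
      have h2 : x = 1 := Subtype.ext h1
      rw [h2, orderOf_one] at hx
      omega
    obtain ⟨g, hg⟩ := h.one_class hS gold F.bas.hx F.bas.x1 x.2 hx2 hx1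
    let f : h.U S →* Subgroup.centralizer ({x} : Set J) :=
      { toFun := fun u => ⟨⟨g⁻¹ * u * g, by
          have := h.nJ.conj_mem (u : G) u.2.2 g⁻¹
          rwa [inv_inv] at this⟩, by
          rw [Subgroup.mem_centralizer_singleton_iff]
          apply Subtype.ext
          change g⁻¹ * u * g * x = x * (g⁻¹ * u * g)
          have h1 := z_comm h F u.2
          rw [← hg] at h1
          calc g⁻¹ * (u : G) * g * x = g⁻¹ * (u * (g * x * g⁻¹)) * g := by group
            _ = g⁻¹ * ((g * x * g⁻¹) * u) * g := by rw [h1]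
            _ = _ := by group⟩
        map_one' := Subtype.ext (Subtype.ext (by
          change g⁻¹ * 1 * g = 1
          group))
        map_mul' := fun u v => Subtype.ext (Subtype.ext (by
          change g⁻¹ * (u * v) * g = (g⁻¹ * u * g) * (g⁻¹ * v * g)
          group)) }
    have hf : Function.Injective f := by
      intro u v huv
      have h1 : g⁻¹ * (u : G) * g = g⁻¹ * v * g :=
        congrArg (fun w : Subgroup.centralizer ({x} : Set J) => ((w : J) : G)) huv
      exact Subtype.ext (mul_left_cancel (mul_right_cancel h1))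
    rw [← h.card_U hS]
    exact Subgroup.card_dvd_of_injective f hf
  apply ident h.nonab hsmall ?_ h64 h128 h7 hinv
  have heven : Even (Nat.card J) := by
    rw [even_iff_two_dvd]
    exact (by norm_num : 2 ∣ 64).trans h64
  have hcoprime : Cfsg.oddCore J = ⊥ := by
    rcases (Cfsg.Agent.Lib.Cores.pPrimeCore_normal (G := J) 2).eq_bot_or_eq_top with h1 | h1
    · exact h1
    · exfalso
      have h2 := Cfsg.Agent.Lib.Cores.pPrimeCore_coprime (G := J) 2
      rw [h1, Subgroup.card_top] at h2
      have h3 := Nat.Coprime.eq_one_of_dvd (h2.symm) (even_iff_two_dvd.1 heven)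
      omega
  rcases hdich J heven (by
    intro N hN hidx
    rcases hN.eq_bot_or_eq_top with h1 | h1
    · rw [h1, Subgroup.index_bot] at hidx
      rw [hidx] at h64
      omega
    · rw [h1, Subgroup.index_top] at hidx
      omega) hcoprime with h1 | h1 | h1
  · exfalso
    have h2 := h1 (V.subgroupOf J) ⟨⟨fun x y => Subtype.ext (Subtype.ext
      (h.loc.oct.comm (Subgroup.mem_subgroupOf.1 x.2) (Subgroup.mem_subgroupOf.1 y.2)))⟩⟩ (by
      intro x hx
      rw [pow_two]
      exact Subtype.ext (h.loc.oct.sq _ hx))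
    rw [Nat.card_congr (Subgroup.subgroupOfEquivOfLe h.VJ).toEquiv, h.loc.oct.card] at h2
    omega
  · exact absurd h1 (not_componentType h gold hodd hwal hsol)
  · exact extra32 h hsol h1

end Cfsg.Agent.StdL2.G23Ident
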