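import Mathlib
import Cfsg.Agent.SectRankFour.OutAb
import Cfsg.Agent.WeakTI.PslTwo

/-!
S1773: `C(t) ∩ C(v)` is solvable.
-/

set_option autoImplicit false
set_option linter.style.haveILetI false
set_option linter.unusedSectionVars false

namespace Cfsg.Agent.StdL2.G23Solv

universe u

/-- Cyclic Sylow 2-subgroups and the odd order theorem. -/
theorem solvable_of_cyclic {X : Type u} [Group X] [Finite X]
    (hodd : ∀ (G : Type u) [Group G] [Finite G], Odd (Nat.card G) → Group.IsSolvable G)
    (h : ∀ R : Sylow 2 X, IsCyclic (R : Subgroup X)) : Group.IsSolvable X := by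
  haveI : Fact (Nat.Prime 2) := ⟨Nat.prime_two⟩
  by_cases h2 : Odd (Nat.card X)
  · exact hodd X h2
  have heven : 2 ∣ Nat.card X := even_iff_two_dvd.1 (Nat.not_odd_iff_even.1 h2)
  have hmin : (Nat.card X).minFac = 2 := (Nat.minFac_eq_two_iff _).2 heven
  let P : Sylow 2 X := default
  have hP := h P
  have hc := IsCyclic.isComplement' hmin hP
  set K := (MonoidHom.transferSylow P (hP.normalizer_le_centralizer hmin)).ker with hK
  haveI : K.Normal := MonoidHom.normal_ker _
  have hKc : Nat.card K * Nat.card P = Nat.card X := hc.card_mul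
  have hKodd : Odd (Nat.card K) := by
    rw [← Nat.not_even_iff_odd, even_iff_two_dvd]
    intro h3
    have h4 : Nat.card K = (P : Subgroup X).index := by
      have h5 := (P : Subgroup X).card_mul_index
      have h6 : 0 < Nat.card (P : Subgroup X) := Nat.card_pos
      have h7 : Nat.card (P : Subgroup X) * Nat.card K =
        Nat.card (P : Subgroup X) * (P : Subgroup X).index := by
        rw [h5, ← hKc, mul_comm]
      exact Nat.eq_of_mul_eq_mul_left h6 h7
    rw [h4] at h3
    exact P.not_dvd_index h3
  haveI : Group.IsSolvable K := hodd K hKodd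
  haveI : Group.IsSolvable (X ⧸ K) := by
    haveI : Group.IsSolvable P := by
      apply Group.isSolvable_of_comm
      intro a b
      letI := IsCyclic.commGroup (α := (P : Subgroup X))
      exact mul_comm a b
    have hs : Function.Surjective ((QuotientGroup.mk' K).comp (P : Subgroup X).subtype) := by
      intro q
      obtain ⟨x, rfl⟩ := QuotientGroup.mk'_surjective K q
      obtain ⟨⟨k, p⟩, hkp⟩ := hc.2 x
      refine ⟨p, ?_⟩
      have h1 : (k : X) * p = x := hkp
      change QuotientGroup.mk' K (p : X) = QuotientGroup.mk' K x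
      have h2 : QuotientGroup.mk' K (k : X) = 1 := (QuotientGroup.eq_one_iff (k : X)).2 k.2
      rw [← h1, map_mul, h2, one_mul]
    exact Group.isSolvable_of_surjective hs
  exact Group.isSolvable_of_ker_le_range K.subtype (QuotientGroup.mk' K)
    (by rw [QuotientGroup.ker_mk', Subgroup.range_subtype])

open Cfsg.Agent.SectRankFour.OutAb in
/-- `C(t) ∩ C(v)` is solvable. -/
theorem solv {G : Type u} [Group G] [Finite G]
    (hodd : ∀ (G : Type u) [Group G] [Finite G], Odd (Nat.card G) → Group.IsSolvable G)
    {A : Subgroup G} {t v : G}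
    (hN : Subgroup.centralizer ({t} : Set G) ≤ Subgroup.normalizer (A : Set G))
    (hcyc : ∀ R : Sylow 2 ↥(Subgroup.centralizer (A : Set G)),
      IsCyclic (R : Subgroup ↥(Subgroup.centralizer (A : Set G))))
    {F : Type*} [Field F] [Finite F] [CharP F 2]
    (e : A ≃* Matrix.ProjectiveSpecialLinearGroup (Fin 2) F) (hv : v ∈ A) (hvv : v * v = 1)
    (hv1 : v ≠ 1) : Group.IsSolvable
      ↥(Subgroup.centralizer ({t} : Set G) ⊓ Subgroup.centralizer ({v} : Set G)) := by
  set X := Subgroup.centralizer ({t} : Set G) ⊓ Subgroup.centralizer ({v} : Set G) with hX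
  have hXN : X ≤ Subgroup.normalizer (A : Set G) := inf_le_left.trans hN
  let φ : X →* MulAut A := A.normalizerMonoidHom.comp (Subgroup.inclusion hXN)
  have hφ : ∀ (x : X) (a : A), ((φ x a : A) : G) = x * a * (x : G)⁻¹ := fun x a => rfl
  have hout : OutAb A := OutAb.congr e (psl_two F)
  -- `C(A)` is solvable
  haveI hCA : Group.IsSolvable ↥(Subgroup.centralizer (A : Set G)) := solvable_of_cyclic hodd hcyc
  haveI hker : Group.IsSolvable φ.ker := by
    let f : φ.ker →* Subgroup.centralizer (A : Set G) :=
      { toFun := fun x => ⟨((x : X) : G), by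
          rw [Subgroup.mem_centralizer_iff]
          intro a ha
          have h1 := DFunLike.congr_fun (MonoidHom.mem_ker.1 x.2) ⟨a, ha⟩
          have h2 : ((x : X) : G) * a * ((x : X) : G)⁻¹ = a := by
            rw [← hφ (x : X) ⟨a, ha⟩, h1]; rfl
          exact (mul_inv_eq_iff_eq_mul.1 h2).symm⟩
        map_one' := rfl
        map_mul' := fun x y => rfl }
    refine Group.isSolvable_of_isSolvable_injective (f := f) ?_
    intro x y hxy
    exact Subtype.ext (Subtype.ext (congrArg
      (fun w : Subgroup.centralizer (A : Set G) => (w : G)) hxy))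
  -- elements of the commutator subgroup
  have hcomm : ∀ x ∈ commutator X, ∃ a : A, a * ⟨v, hv⟩ = ⟨v, hv⟩ * a ∧ φ x = MulAut.conj a := by
    intro x hx
    have h1 : φ x ∈ commutator (MulAut A) := by
      have h2 : (commutator X).map φ ≤ commutator (MulAut A) := by
        rw [commutator_def, Subgroup.map_commutator, commutator_def]
        exact Subgroup.commutator_mono le_top le_top
      exact h2 ⟨x, hx, rfl⟩
    obtain ⟨a, ha⟩ := hout h1
    refine ⟨a, ?_, ha.symm⟩
    have h3 : φ x ⟨v, hv⟩ = ⟨v, hv⟩ := by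
      apply Subtype.ext
      rw [hφ]
      have h4 : (x : G) * v = v * x := Subgroup.mem_centralizer_singleton_iff.1 x.2.2
      change (x : G) * v * (x : G)⁻¹ = v
      rw [h4]; group
    rw [← ha] at h3
    exact mul_inv_eq_iff_eq_mul.1 h3
  have hsq : ∀ a : A, a * ⟨v, hv⟩ = ⟨v, hv⟩ * a → a * a = 1 := fun a ha =>
    Cfsg.Agent.WeakTI.PslTwo.cent e (x := ⟨v, hv⟩) (Subtype.ext hvv)
      (fun h => hv1 (congrArg Subtype.val h)) ha.symm
  have hab : ∀ a b : A, a * ⟨v, hv⟩ = ⟨v, hv⟩ * a → b * ⟨v, hv⟩ = ⟨v, hv⟩ * b → a * b = b * a := by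
    intro a b ha hb
    have h1 := hsq (a * b) (by rw [mul_assoc, hb, ← mul_assoc, ha, mul_assoc])
    have h2 := inv_eq_of_mul_eq_one_left h1
    rw [mul_inv_rev, inv_eq_of_mul_eq_one_left (hsq a ha), inv_eq_of_mul_eq_one_left (hsq b hb)] at h2
    exact h2.symm
  let ψ : commutator X →* MulAut A := φ.comp (commutator X).subtype
  haveI : Group.IsSolvable ψ.range := by
    apply Group.isSolvable_of_comm
    rintro ⟨_, ⟨x, hx⟩, rfl⟩ ⟨_, ⟨y, hy⟩, rfl⟩
    apply Subtype.ext
    change φ x * φ y = φ y * φ x
    obtain ⟨a, ha, h1⟩ := hcomm x hx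
    obtain ⟨b, hb, h2⟩ := hcomm y hy
    rw [h1, h2, ← map_mul, ← map_mul, hab a b ha hb]
  haveI : Group.IsSolvable ψ.ker := by
    let f : ψ.ker →* φ.ker :=
      { toFun := fun x => ⟨((x : commutator X) : X), x.2⟩
        map_one' := rfl
        map_mul' := fun x y => rfl }
    refine Group.isSolvable_of_isSolvable_injective (f := f) ?_
    intro x y hxy
    exact Subtype.ext (Subtype.ext (congrArg (fun w : φ.ker => (w : X)) hxy))
  haveI : Group.IsSolvable (commutator X) :=
    Group.isSolvable_of_ker_le_range ψ.ker.subtype ψ.rangeRestrict (by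
      rw [Subgroup.range_subtype, MonoidHom.ker_rangeRestrict])
  haveI : Group.IsSolvable (Abelianization X) := Group.isSolvable_of_comm mul_comm
  exact Group.isSolvable_of_ker_le_range (commutator X).subtype (Abelianization.of (G := X)) (by
    rw [Abelianization.ker_of, Subgroup.range_subtype])

end Cfsg.Agent.StdL2.G23Solv
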