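import Mathlib
import Cfsg.Agent.S0563
import Cfsg.Agent.S0144

/-!
# Lemma X of S1773

A finite group `X` acts faithfully on an elementary abelian 2-group `E = ⟨t⟩ × V`, leaves `V`
invariant and is transitive on the coset `t V`; the stabiliser of `t` is `D H` with `D` abelian and
regular on the non-trivial elements of `V`, `H` cyclic of "field automorphisms".  Then `X`
contains the transvection group `{t ↦ t v, trivial on V}`, or `|V| = 8` and `|X| = 168`.
-/

set_option autoImplicit false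
set_option linter.unusedSectionVars false

open MulAction Subgroup

namespace Cfsg.Agent.StdL2.LemmaX

section Cyclic

/-- In a finite cyclic group, elements of the same order generate the same subgroup. -/
theorem mem_zpowers_of_orderOf {G : Type*} [Group G] [Finite G] {h0 x y : G}
    (hx : x ∈ zpowers h0) (hy : y ∈ zpowers h0) (h : orderOf x = orderOf y) : x ∈ zpowers y := by
  classical
  letI := Fintype.ofFinite (zpowers h0)
  have hle := IsCyclic.card_pow_eq_one_le (α := zpowers h0) (n := orderOf y) (orderOf_pos y)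
  let x' : zpowers h0 := ⟨x, hx⟩
  let y' : zpowers h0 := ⟨y, hy⟩
  have hsub : (Finset.univ.filter fun a : zpowers h0 => a ∈ zpowers y') ⊆
      (Finset.univ.filter fun a : zpowers h0 => a ^ orderOf y = 1) := by
    intro a ha
    simp only [Finset.mem_filter, Finset.mem_univ, true_and] at ha ⊢
    obtain ⟨k, rfl⟩ := ha
    have : y' ^ orderOf y = 1 := Subtype.ext (by simpa [y'] using pow_orderOf_eq_one y)
    rw [← zpow_natCast, ← zpow_mul, mul_comm, zpow_mul, zpow_natCast, this, one_zpow]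
  have hcard : (Finset.univ.filter fun a : zpowers h0 => a ∈ zpowers y').card = orderOf y := by
    rw [← Fintype.card_subtype]
    have : Fintype.card {a : zpowers h0 // a ∈ zpowers y'} = Nat.card (zpowers y') := by
      rw [Nat.card_eq_fintype_card]
    rw [this, Nat.card_zpowers]
    simp only [y', orderOf_mk]
  have heq := Finset.eq_of_subset_of_card_le hsub (by rw [hcard]; exact hle)
  have hx' : x' ∈ (Finset.univ.filter fun a : zpowers h0 => a ^ orderOf y = 1) := by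
    simp only [Finset.mem_filter, Finset.mem_univ, true_and]
    exact Subtype.ext (by simpa [x', h] using pow_orderOf_eq_one x)
  rw [← heq] at hx'
  simp only [Finset.mem_filter, Finset.mem_univ, true_and] at hx'
  obtain ⟨k, hk⟩ := hx'
  exact ⟨k, by simpa [x', y'] using congrArg Subtype.val hk⟩

theorem mem_normalizer_zpowers {G : Type*} [Group G] [Finite G] {g h : G}
    (hg : g * h * g⁻¹ ∈ zpowers h) : g ∈ normalizer (zpowers h : Set G) := by
  have hle : (zpowers h).map (MulAut.conj g).toMonoidHom ≤ zpowers h := by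
    rw [MonoidHom.map_zpowers, zpowers_le]
    simpa [MulAut.conj_apply] using hg
  have heq : (zpowers h).map (MulAut.conj g).toMonoidHom = zpowers h := by
    refine Subgroup.eq_of_le_of_card_ge hle ?_
    rw [Nat.card_congr ((zpowers h).equivMapOfInjective _ (MulAut.conj g).injective).symm.toEquiv]
  rw [mem_normalizer_iff]
  intro x
  constructor
  · intro hx
    have : (MulAut.conj g).toMonoidHom x ∈ (zpowers h).map (MulAut.conj g).toMonoidHom :=
      mem_map_of_mem _ hx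
    rw [heq] at this
    simpa [MulAut.conj_apply] using this
  · intro hx
    have hx' : g * x * g⁻¹ ∈ (zpowers h).map (MulAut.conj g).toMonoidHom := by rw [heq]; exact hx
    obtain ⟨y, hy, hyx⟩ := hx'
    have : y = x := (MulAut.conj g).injective (by simpa [MulAut.conj_apply] using hyx)
    rwa [← this]

end Cyclic

/-- The configuration of Lemma X. -/
structure Cfg {X E : Type*} [Group X] [CommGroup E] [MulDistribMulAction X E]
    (V : Subgroup E) (t v0 : E) (D : Subgroup X) (h0 : X) : Prop where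
  faithful : ∀ x : X, (∀ e : E, x • e = e) → x = 1
  sq : ∀ e : E, e * e = 1
  tV : t ∉ V
  idx : ∀ e : E, e ∉ V → t * e ∈ V
  inv : ∀ (x : X), ∀ v ∈ V, x • v ∈ V
  trans : ∀ e : E, e ∉ V → ∃ x : X, x • t = e
  Dt : ∀ d ∈ D, d • t = t
  Dn : ∀ x : X, x • t = t → ∀ d ∈ D, x * d * x⁻¹ ∈ D
  Dcomm : ∀ d ∈ D, ∀ e ∈ D, d * e = e * d
  v0V : v0 ∈ V
  v01 : v0 ≠ 1
  Dtrans : ∀ v ∈ V, v ≠ 1 → ∃ d ∈ D, d • v0 = v
  Dfree : ∀ d ∈ D, ∀ v ∈ V, v ≠ 1 → d • v = v → d = 1
  h0t : h0 • t = t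
  h0v : h0 • v0 = v0
  Hcyc : ∀ h : X, h • t = t → h • v0 = v0 → h ∈ zpowers h0
  hfix : ∀ h : X, h • t = t → h • v0 = v0 →
    (Nat.card {v : E // v ∈ V ∧ h • v = v}) ^ orderOf h = Nat.card V

namespace Cfg

variable {X E : Type*} [Group X] [Finite X] [CommGroup E] [Finite E] [MulDistribMulAction X E]
  {V : Subgroup E} {t v0 : E} {D : Subgroup X} {h0 : X}

theorem smul_mem_iff (C : Cfg V t v0 D h0) (x : X) (v : E) : x • v ∈ V ↔ v ∈ V := by
  refine ⟨fun h => ?_, C.inv x v⟩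
  have := C.inv x⁻¹ _ h
  rwa [inv_smul_smul] at this

theorem inv_eq (C : Cfg V t v0 D h0) (e : E) : e⁻¹ = e :=
  (eq_inv_of_mul_eq_one_left (C.sq e)).symm

theorem mul_mem (C : Cfg V t v0 D h0) {u w : E} (hu : u ∉ V) (hw : w ∉ V) : u * w ∈ V := by
  have h := V.mul_mem (C.idx u hu) (C.idx w hw)
  have : t * u * (t * w) = u * w := by
    rw [mul_mul_mul_comm, C.sq t, one_mul]
  rwa [this] at h

theorem mul_notMem (C : Cfg V t v0 D h0) {u w : E} (hu : u ∉ V) (hw : w ∈ V) : u * w ∉ V :=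
  fun h => hu ((V.mul_mem_cancel_right hw).1 h)

theorem tv0 (C : Cfg V t v0 D h0) : t * v0 ∉ V := C.mul_notMem C.tV C.v0V

theorem tv0_ne (C : Cfg V t v0 D h0) : t * v0 ≠ t := fun h => C.v01 (by simpa using h)

/-- an element fixing two different points of the coset `tV` fixes their product -/
theorem fix_mul (C : Cfg V t v0 D h0) {x : X} {u w : E} (hu : x • u = u) (hw : x • w = w) :
    x • (u * w) = u * w := by
  rw [smul_mul', hu, hw]

theorem two_trans (C : Cfg V t v0 D h0) {u w : E} (hu : u ∉ V) (hw : w ∉ V) (huw : u ≠ w) :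
    ∃ g : X, g • t = u ∧ g • (t * v0) = w := by
  obtain ⟨x, hx⟩ := C.trans u hu
  have hw' : x⁻¹ • w ∉ V := fun h => hw ((C.smul_mem_iff x⁻¹ w).1 h)
  have hne : t * x⁻¹ • w ≠ 1 := by
    intro h
    have h1 : t = x⁻¹ • w := by
      have := eq_inv_of_mul_eq_one_left h
      rwa [C.inv_eq] at this
    apply huw
    rw [← hx, h1, smul_inv_smul]
  obtain ⟨d, hd, hdv⟩ := C.Dtrans _ (C.idx _ hw') hne
  refine ⟨x * d, by rw [mul_smul, C.Dt d hd, hx], ?_⟩
  rw [mul_smul, smul_mul', C.Dt d hd, hdv, ← mul_assoc, C.sq t, one_mul, smul_inv_smul]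

/-- transporter between pairs -/
theorem two_trans' (C : Cfg V t v0 D h0) {u w u' w' : E} (hu : u ∉ V) (hw : w ∉ V) (huw : u ≠ w)
    (hu' : u' ∉ V) (hw' : w' ∉ V) (huw' : u' ≠ w') : ∃ g : X, g • u = u' ∧ g • w = w' := by
  obtain ⟨g1, h1, h1'⟩ := C.two_trans hu hw huw
  obtain ⟨g2, h2, h2'⟩ := C.two_trans hu' hw' huw'
  refine ⟨g2 * g1⁻¹, ?_, ?_⟩
  · rw [mul_smul, ← h1, inv_smul_smul, h2]
  · rw [mul_smul, ← h1', inv_smul_smul, h2']

/-- elements of `H` -/
def IsH (_C : Cfg V t v0 D h0) (h : X) : Prop := h • t = t ∧ h • v0 = v0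

theorem IsH.comm {C : Cfg V t v0 D h0} {h k : X} (hh : C.IsH h) (hk : C.IsH k) :
    h * k = k * h := by
  obtain ⟨a, rfl⟩ := C.Hcyc h hh.1 hh.2
  obtain ⟨b, rfl⟩ := C.Hcyc k hk.1 hk.2
  exact Commute.zpow_zpow (Commute.refl _) _ _

theorem IsH.mul {C : Cfg V t v0 D h0} {h k : X} (hh : C.IsH h) (hk : C.IsH k) :
    C.IsH (h * k) := ⟨by rw [mul_smul, hk.1, hh.1], by rw [mul_smul, hk.2, hh.2]⟩

theorem IsH.inv {C : Cfg V t v0 D h0} {h : X} (hh : C.IsH h) : C.IsH h⁻¹ :=
  ⟨by rw [inv_smul_eq_iff, hh.1], by rw [inv_smul_eq_iff, hh.2]⟩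

theorem IsH.pow {C : Cfg V t v0 D h0} {h : X} (hh : C.IsH h) (n : ℕ) : C.IsH (h ^ n) := by
  induction n with
  | zero => exact ⟨by simp, by simp⟩
  | succ n ih => rw [pow_succ]; exact ih.mul hh

theorem IsH.of_mem_zpowers {C : Cfg V t v0 D h0} {h k : X} (hh : C.IsH h) (hk : k ∈ zpowers h) :
    C.IsH k := by
  obtain ⟨n, rfl⟩ := hk
  obtain ⟨m, hm⟩ : ∃ m : ℕ, h ^ m = h ^ n := by
    have := mem_powers_iff_mem_zpowers.2 (⟨n, rfl⟩ : h ^ n ∈ zpowers h)
    exact this
  simp only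
  rw [← hm]; exact hh.pow m

/-- fixing `t` and `t v0` is the same as being in `H` -/
theorem isH_iff (C : Cfg V t v0 D h0) {h : X} : C.IsH h ↔ h • t = t ∧ h • (t * v0) = t * v0 := by
  constructor
  · rintro ⟨h1, h2⟩; exact ⟨h1, by rw [smul_mul', h1, h2]⟩
  · rintro ⟨h1, h2⟩
    rw [smul_mul', h1] at h2
    exact ⟨h1, mul_left_cancel h2⟩

/-- decomposition `B = D H` -/
theorem exists_DH (C : Cfg V t v0 D h0) {b : X} (hb : b • t = t) :
    ∃ d ∈ D, C.IsH (d⁻¹ * b) := by
  have h1 : b • v0 ≠ 1 := fun h => C.v01 (by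
    have := congrArg (fun e => b⁻¹ • e) h
    simpa using this)
  obtain ⟨d, hd, hdv⟩ := C.Dtrans _ (C.inv b v0 C.v0V) h1
  refine ⟨d, hd, ?_, ?_⟩
  · rw [mul_smul, hb, inv_smul_eq_iff, C.Dt d hd]
  · rw [mul_smul, ← hdv, inv_smul_smul]

theorem DH_trivial (C : Cfg V t v0 D h0) {d : X} (hd : d ∈ D) (h : C.IsH d) : d = 1 :=
  C.Dfree d hd v0 C.v0V C.v01 h.2

/-- an element of `B` conjugating `h ∈ H` into `H` centralises `h` -/
theorem weak (C : Cfg V t v0 D h0) {b h : X} (hb : b • t = t) (hh : C.IsH h)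
    (hbh : C.IsH (b * h * b⁻¹)) : b * h * b⁻¹ = h := by
  obtain ⟨d, hd, hk⟩ := C.exists_DH hb
  have hkh : (d⁻¹ * b) * h = h * (d⁻¹ * b) := hk.comm hh
  have e1 : b * h * b⁻¹ = d * h * d⁻¹ := by
    have : b * h * b⁻¹ = d * ((d⁻¹ * b) * h * (d⁻¹ * b)⁻¹) * d⁻¹ := by group
    rw [this, hkh]; group
  have h2 : d * (h * d⁻¹ * h⁻¹) ∈ D := D.mul_mem hd (C.Dn h hh.1 _ (D.inv_mem hd))
  have h3 : d * (h * d⁻¹ * h⁻¹) = (b * h * b⁻¹) * h⁻¹ := by rw [e1]; group
  have h4 : d * (h * d⁻¹ * h⁻¹) = 1 := C.DH_trivial h2 (by rw [h3]; exact hbh.mul hh.inv)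
  rw [h3] at h4
  exact mul_inv_eq_one.1 h4

/-- transporting an element of `B` with a fixed vector into `H` -/
theorem toH (C : Cfg V t v0 D h0) {k : X} (hk : k • t = t) {v : E} (hv : v ∈ V) (hv1 : v ≠ 1)
    (hkv : k • v = v) : ∃ d ∈ D, C.IsH (d⁻¹ * k * d) := by
  obtain ⟨d, hd, hdv⟩ := C.Dtrans v hv hv1
  refine ⟨d, hd, ?_, ?_⟩
  · rw [mul_smul, mul_smul, C.Dt d hd, hk, inv_smul_eq_iff, C.Dt d hd]
  · rw [mul_smul, mul_smul, hdv, hkv, ← hdv, inv_smul_smul]

/-- Part A: if `h ∈ H` fixes a third vector then `N(⟨h⟩) = C(h)`. -/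
theorem claimA (C : Cfg V t v0 D h0) {h : X} (hh : C.IsH h) {v1 : E} (hv1 : v1 ∈ V)
    (hv11 : v1 ≠ 1) (hv10 : v1 ≠ v0) (hhv : h • v1 = v1) {n : X}
    (hn : n ∈ normalizer (zpowers h : Set X)) : n * h * n⁻¹ = h := by
  -- elements of the normaliser map fixed points of `h` to fixed points
  have hpt : ∀ n : X, n ∈ normalizer (zpowers h : Set X) → ∀ u : E, h • u = u →
      h • (n • u) = n • u := by
    intro n hn u hu
    have h1 : n⁻¹ * h * n ∈ zpowers h := by
      have := (mem_normalizer_iff.1 ((normalizer (zpowers h : Set X)).inv_mem hn) h).1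
        (mem_zpowers h)
      simpa using this
    obtain ⟨k, hk⟩ := h1
    have h2 : (n⁻¹ * h * n) • u = u := by
      rw [← hk]
      have : h ∈ stabilizer X u := hu
      exact (stabilizer X u).zpow_mem this k
    have h3 : h * n = n * (n⁻¹ * h * n) := by group
    rw [← mul_smul, h3, mul_smul, h2]
  -- 2-transitivity on the fixed points
  have h2t : ∀ u w u' w' : E, u ∉ V → w ∉ V → u ≠ w → u' ∉ V → w' ∉ V → u' ≠ w' →
      h • u = u → h • w = w → h • u' = u' → h • w' = w' →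
      ∃ g ∈ normalizer (zpowers h : Set X), g • u = u' ∧ g • w = w' := by
    intro u w u' w' hu hw huw hu' hw' huw' e1 e2 e3 e4
    obtain ⟨g1, h1, h1'⟩ := C.two_trans hu hw huw
    obtain ⟨g2, h2, h2'⟩ := C.two_trans hu' hw' huw'
    have k1 : C.IsH (g1⁻¹ * h * g1) := by
      rw [isH_iff]
      constructor
      · rw [mul_smul, mul_smul, h1, e1, ← h1, inv_smul_smul]
      · rw [mul_smul, mul_smul, h1', e2, ← h1', inv_smul_smul]
    have k2 : C.IsH (g2⁻¹ * h * g2) := by
      rw [isH_iff]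
      constructor
      · rw [mul_smul, mul_smul, h2, e3, ← h2, inv_smul_smul]
      · rw [mul_smul, mul_smul, h2', e4, ← h2', inv_smul_smul]
    have ho : orderOf (g1⁻¹ * h * g1) = orderOf (g2⁻¹ * h * g2) := by
      have a1 : orderOf (g1⁻¹ * h * g1) = orderOf h := by
        have := orderOf_injective (MulAut.conj g1⁻¹).toMonoidHom (MulAut.conj g1⁻¹).injective h
        simpa [MulAut.conj_apply] using this
      have a2 : orderOf (g2⁻¹ * h * g2) = orderOf h := by
        have := orderOf_injective (MulAut.conj g2⁻¹).toMonoidHom (MulAut.conj g2⁻¹).injective h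
        simpa [MulAut.conj_apply] using this
      rw [a1, a2]
    obtain ⟨k, hk⟩ := mem_zpowers_of_orderOf (C.Hcyc _ k1.1 k1.2) (C.Hcyc _ k2.1 k2.2) ho
    refine ⟨g2 * g1⁻¹, ?_, ?_, ?_⟩
    · have hmem : (g2 * g1⁻¹) * h * (g2 * g1⁻¹)⁻¹ ∈ zpowers h := by
        have : (g2 * g1⁻¹) * h * (g2 * g1⁻¹)⁻¹ = g2 * (g1⁻¹ * h * g1) * g2⁻¹ := by group
        rw [this, ← hk]
        refine ⟨k, ?_⟩
        have hc : (g2⁻¹ * h * g2) ^ k = g2⁻¹ * h ^ k * g2 := by
          have := conj_zpow (i := k) (a := g2⁻¹) (b := h)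
          simpa using this
        simp only [hc]
        group
      exact mem_normalizer_zpowers hmem
    · rw [mul_smul, ← h1, inv_smul_smul, h2]
    · rw [mul_smul, ← h1', inv_smul_smul, h2']
  -- conjugating the centraliser by the normaliser
  have hCN : ∀ n ∈ normalizer (zpowers h : Set X), ∀ c : X, c * h = h * c →
      (n * c * n⁻¹) * h = h * (n * c * n⁻¹) := by
    intro n hn c hc
    have h1 : n⁻¹ * h * n ∈ zpowers h := by
      have := (mem_normalizer_iff.1 ((normalizer (zpowers h : Set X)).inv_mem hn) h).1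
        (mem_zpowers h)
      simpa using this
    obtain ⟨k, hk⟩ := h1
    have h2 : c * (n⁻¹ * h * n) = (n⁻¹ * h * n) * c := by
      rw [← hk]
      exact (Commute.zpow_right hc k).eq
    calc (n * c * n⁻¹) * h = n * (c * (n⁻¹ * h * n)) * n⁻¹ := by group
      _ = n * ((n⁻¹ * h * n) * c) * n⁻¹ := by rw [h2]
      _ = h * (n * c * n⁻¹) := by group
  have hht : h • (t * v0) = t * v0 := (isH_iff C).1 hh |>.2
  have htv1 : t * v1 ∉ V := C.mul_notMem C.tV hv1
  have hh1 : h • (t * v1) = t * v1 := by rw [smul_mul', hh.1, hhv]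
  have hne01 : t * v0 ≠ t * v1 := fun e => hv10 (mul_left_cancel e).symm
  have hne1 : t * v1 ≠ t := fun e => hv11 (by simpa using e)
  -- Step 1
  obtain ⟨c, hcN, hct, hcv⟩ := h2t t (t * v0) t (t * v1) C.tV C.tv0 C.tv0_ne.symm C.tV htv1
    hne1.symm hh.1 hht hh.1 hh1
  have hBN : ∀ b : X, b • t = t → b ∈ normalizer (zpowers h : Set X) → b * h * b⁻¹ = h := by
    intro b hb hbn
    exact C.weak hb hh (hh.of_mem_zpowers ((mem_normalizer_iff.1 hbn h).1 (mem_zpowers h)))
  have hcC : c * h = h * c := by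
    have := hBN c hct hcN
    rw [mul_inv_eq_iff_eq_mul] at this
    exact this
  -- Step 2 : the centraliser is transitive
  have htr : ∀ u : E, u ∉ V → h • u = u → ∃ c : X, c * h = h * c ∧ c • t = u := by
    intro u hu hhu
    by_cases hut : u = t
    · exact ⟨1, by simp, by simp [hut]⟩
    obtain ⟨m, hmN, hm1, hm2⟩ := h2t (t * v0) (t * v1) t u C.tv0 htv1 hne01 C.tV hu
      (Ne.symm hut) hht hh1 hh.1 hhu
    refine ⟨m * c * m⁻¹, hCN m hmN c hcC, ?_⟩
    rw [mul_smul, mul_smul, ← hm1, inv_smul_smul, hcv, hm2]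
  -- Step 3
  have hnt : h • (n • t) = n • t := hpt n hn t hh.1
  have hntV : n • t ∉ V := fun e => C.tV ((C.smul_mem_iff n t).1 e)
  obtain ⟨c', hc', hc't⟩ := htr (n • t) hntV hnt
  have hb : (c'⁻¹ * n) • t = t := by rw [mul_smul, inv_smul_eq_iff, hc't]
  have hc'N : c' ∈ normalizer (zpowers h : Set X) := by
    apply mem_normalizer_zpowers
    rw [hc', mul_inv_cancel_right]; exact mem_zpowers h
  have hbN : c'⁻¹ * n ∈ normalizer (zpowers h : Set X) :=
    (normalizer (zpowers h : Set X)).mul_mem ((normalizer (zpowers h : Set X)).inv_mem hc'N) hn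
  have h5 := hBN _ hb hbN
  have h6 : n * h * n⁻¹ = c' * ((c'⁻¹ * n) * h * (c'⁻¹ * n)⁻¹) * c'⁻¹ := by group
  rw [h6, h5, hc', mul_inv_cancel_right]

/-- the coset `t V` -/
def Om (C : Cfg V t v0 D h0) : SubMulAction X E where
  carrier := {u | u ∉ V}
  smul_mem' := fun x u hu h => hu ((C.smul_mem_iff x u).1 h)

/-- the nontrivial elements of `V` -/
def Vs (C : Cfg V t v0 D h0) : SubMulAction X E where
  carrier := {v | v ∈ V ∧ v ≠ 1}
  smul_mem' := fun x v hv => ⟨C.inv x v hv.1, fun h => hv.2 (by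
    have := congrArg (fun e => x⁻¹ • e) h
    simpa using this)⟩

theorem smul_ne_one {x : X} {v : E} (hv : v ≠ 1) : x • v ≠ 1 := fun h => hv (by
    have := congrArg (fun e => x⁻¹ • e) h
    simpa using this)

theorem card_Om (C : Cfg V t v0 D h0) : Nat.card C.Om = Nat.card V := by
  refine Nat.card_congr (Equiv.ofBijective
    (fun u => (⟨t * (u : E), C.idx _ u.2⟩ : V)) ⟨?_, ?_⟩)
  · intro u w h
    exact Subtype.ext (mul_left_cancel (congrArg Subtype.val h))
  · intro v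
    refine ⟨⟨t * v, C.mul_notMem C.tV v.2⟩, Subtype.ext ?_⟩
    change t * (t * (v : E)) = v
    rw [← mul_assoc, C.sq, one_mul]

theorem card_Vs (C : Cfg V t v0 D h0) : Nat.card C.Vs + 1 = Nat.card V := by
  classical
  have e : Option C.Vs ≃ V := by
    refine Equiv.ofBijective
      (fun o => match o with
        | none => (1 : V)
        | some v => ⟨v, v.2.1⟩) ⟨?_, ?_⟩
    · rintro (_ | v) (_ | w) h
      · rfl
      · exact absurd (congrArg Subtype.val h).symm w.2.2
      · exact absurd (congrArg Subtype.val h) v.2.2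
      · simp only [Subtype.mk.injEq] at h
        exact congrArg some (Subtype.ext h)
    · intro v
      by_cases hv : (v : E) = 1
      · exact ⟨none, Subtype.ext hv.symm⟩
      · exact ⟨some ⟨v, v.2, hv⟩, rfl⟩
  rw [← Nat.card_congr e, Finite.card_option]

theorem card_D (C : Cfg V t v0 D h0) : Nat.card D + 1 = Nat.card V := by
  rw [← C.card_Vs]
  congr 1
  refine Nat.card_congr (Equiv.ofBijective
    (fun d => (⟨(d : X) • v0, C.inv _ _ C.v0V, smul_ne_one C.v01⟩ : C.Vs)) ⟨?_, ?_⟩)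
  · intro d e h
    have h1 : (d : X) • v0 = (e : X) • v0 := congrArg Subtype.val h
    have h2 : ((e : X)⁻¹ * d) • v0 = v0 := by rw [mul_smul, h1, inv_smul_smul]
    have h3 := C.Dfree _ (D.mul_mem (D.inv_mem e.2) d.2) v0 C.v0V C.v01 h2
    exact Subtype.ext (inv_mul_eq_one.1 h3).symm
  · rintro ⟨v, hv, hv1⟩
    obtain ⟨d, hd, hdv⟩ := C.Dtrans v hv hv1
    exact ⟨⟨d, hd⟩, Subtype.ext hdv⟩

theorem index_B (C : Cfg V t v0 D h0) : (stabilizer X t).index = Nat.card V := by
  rw [index_stabilizer, ← Nat.card_coe_set_eq, ← C.card_Om]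
  refine Nat.card_congr (Equiv.subtypeEquivRight ?_)
  intro e
  constructor
  · rintro ⟨x, rfl⟩ h
    exact C.tV ((C.smul_mem_iff x t).1 h)
  · intro h
    obtain ⟨x, hx⟩ := C.trans e h
    exact ⟨x, hx⟩

/-- transfer formula -/
theorem transfer_eq {G A : Type*} [Group G] [Finite G] [CommGroup A] (B : Subgroup G) (φ : B →* A)
    (g : G) (c : A)
    (key : ∀ (k : ℕ) (g₀ : G) (hk : g₀⁻¹ * g ^ k * g₀ ∈ B), φ ⟨g₀⁻¹ * g ^ k * g₀, hk⟩ = c ^ k) :
    MonoidHom.transfer φ g = c ^ B.index := by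
  classical
  letI := B.fintypeQuotientOfFiniteIndex
  rw [MonoidHom.transfer_eq_prod_quotient_orbitRel_zpowers_quot, index_eq_sum_minimalPeriod B g,
    ← Finset.prod_pow_eq_pow_sum]
  exact Finset.prod_congr rfl fun q _ => key _ _ _

theorem orderOf_conj {G : Type*} [Group G] (g h : G) : orderOf (g⁻¹ * h * g) = orderOf h := by
  have := orderOf_injective (MulAut.conj g⁻¹).toMonoidHom (MulAut.conj g⁻¹).injective h
  simpa [MulAut.conj_apply] using this

/-- From a nontrivial abelian normal subgroup we obtain the translations. -/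
theorem of_abelian_normal (C : Cfg V t v0 D h0) (a : ℕ) (hq : Nat.card V = 2 ^ a) (ha : 2 ≤ a)
    (N : Subgroup X) (hNn : N.Normal) (hN1 : N ≠ ⊥) (hNc : ∀ x ∈ N, ∀ y ∈ N, x * y = y * x) :
    ∃ n : X, n • t = t * v0 ∧ ∀ v ∈ V, n • v = v := by
  classical
  -- some element of `N` moves `t`
  obtain ⟨n1, hn1, hn1t⟩ : ∃ n ∈ N, n • t ≠ t := by
    by_contra hcon
    push Not at hcon
    apply hN1
    rw [eq_bot_iff]
    intro n hn
    have hfix : ∀ u : E, u ∉ V → n • u = u := by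
      intro u hu
      obtain ⟨g, hg⟩ := C.trans u hu
      have h1 : g⁻¹ * n * g ∈ N := by
        have := hNn.conj_mem n hn g⁻¹
        simpa using this
      have h2 := hcon _ h1
      rw [mul_smul, mul_smul, hg, inv_smul_eq_iff, hg] at h2
      exact h2
    apply C.faithful
    intro e
    by_cases he : e ∈ V
    · have h3 := hfix (t * e) (C.mul_notMem C.tV he)
      rw [smul_mul', hfix t C.tV] at h3
      exact mul_left_cancel h3
    · exact hfix e he
  have htrans : ∀ u : E, u ∉ V → ∃ n ∈ N, n • t = u := by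
    intro u hu
    by_cases hut : u = t
    · exact ⟨1, N.one_mem, by simp [hut]⟩
    obtain ⟨m, hm1, hm2⟩ := C.two_trans' C.tV (fun e => C.tV ((C.smul_mem_iff n1 t).1 e))
      (Ne.symm hn1t) C.tV hu (Ne.symm hut)
    refine ⟨m * n1 * m⁻¹, hNn.conj_mem _ hn1 m, ?_⟩
    have : m⁻¹ • t = t := by rw [inv_smul_eq_iff, hm1]
    rw [mul_smul, mul_smul, this, hm2]
  have hreg : ∀ n ∈ N, n • t = t → n = 1 := by
    intro n hn hnt
    have hfix : ∀ u : E, u ∉ V → n • u = u := by
      intro u hu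
      obtain ⟨m, hm, rfl⟩ := htrans u hu
      rw [← mul_smul, hNc n hn m hm, mul_smul, hnt]
    apply C.faithful
    intro e
    by_cases he : e ∈ V
    · have h3 := hfix (t * e) (C.mul_notMem C.tV he)
      rw [smul_mul', hnt] at h3
      exact mul_left_cancel h3
    · exact hfix e he
  have hcardN : Nat.card N = 2 ^ a := by
    rw [← hq, ← C.card_Om]
    refine Nat.card_congr (Equiv.ofBijective
      (fun n => (⟨(n : X) • t, fun h => C.tV ((C.smul_mem_iff _ t).1 h)⟩ : C.Om)) ⟨?_, ?_⟩)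
    · intro n m h
      have h1 : (n : X) • t = (m : X) • t := congrArg Subtype.val h
      have h2 : ((m : X)⁻¹ * n) • t = t := by rw [mul_smul, h1, inv_smul_smul]
      have h3 := hreg _ (N.mul_mem (N.inv_mem m.2) n.2) h2
      exact Subtype.ext (inv_mul_eq_one.1 h3).symm
    · rintro ⟨u, hu⟩
      obtain ⟨n, hn, hnu⟩ := htrans u hu
      exact ⟨⟨n, hn⟩, Subtype.ext hnu⟩
  haveI : Fact (Nat.Prime 2) := ⟨Nat.prime_two⟩
  have hNp : IsPGroup 2 N := IsPGroup.of_card hcardN
  have hnd : ¬ 2 ∣ Nat.card C.Vs := by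
    have h1 := C.card_Vs
    rw [hq] at h1
    have h2 : 2 ∣ 2 ^ a := dvd_pow_self 2 (by omega)
    omega
  obtain ⟨v1, hv1⟩ := hNp.nonempty_fixed_point_of_prime_not_dvd_card C.Vs hnd
  have hv1' : ∀ n ∈ N, n • (v1 : E) = v1 := by
    intro n hn
    exact congrArg Subtype.val (hv1 ⟨n, hn⟩)
  have hall : ∀ n ∈ N, ∀ v ∈ V, n • v = v := by
    intro n hn v hv
    by_cases hv1e : v = 1
    · rw [hv1e, smul_one]
    obtain ⟨d1, hd1, e1⟩ := C.Dtrans v1 v1.2.1 v1.2.2
    obtain ⟨d2, hd2, e2⟩ := C.Dtrans v hv hv1e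
    have h1 : (d2 * d1⁻¹) • (v1 : E) = v := by rw [mul_smul, ← e1, inv_smul_smul, e2]
    have h2 : (d2 * d1⁻¹)⁻¹ * n * (d2 * d1⁻¹) ∈ N := by
      have := hNn.conj_mem n hn (d2 * d1⁻¹)⁻¹
      simpa using this
    have h3 := hv1' _ h2
    rw [mul_smul, mul_smul, h1, inv_smul_eq_iff, h1] at h3
    exact h3
  obtain ⟨n, hn, hnt⟩ := htrans (t * v0) C.tv0
  exact ⟨n, hnt, hall n hn⟩

/-- Part B -/
theorem partB (C : Cfg V t v0 D h0) (a : ℕ) (hq : Nat.card V = 2 ^ a) (ha : 2 ≤ a)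
    (hN : ∀ h : X, C.IsH h → (orderOf h).Prime → orderOf h ≠ 2 →
      ∀ n ∈ normalizer (zpowers h : Set X), n * h * n⁻¹ = h) :
    ∃ n : X, n • t = t * v0 ∧ ∀ v ∈ V, n • v = v := by
  classical
  haveI : Fact (Nat.Prime 2) := ⟨Nat.prime_two⟩
  haveI hDn : (D.subgroupOf (stabilizer X t)).Normal :=
    ⟨fun d hd b => by
      rw [mem_subgroupOf] at hd ⊢
      exact C.Dn b b.2 d hd⟩
  have hcommA : ∀ x y : (stabilizer X t) ⧸ (D.subgroupOf (stabilizer X t)), x * y = y * x := by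
    have key : ∀ x : (stabilizer X t) ⧸ (D.subgroupOf (stabilizer X t)),
        ∃ h : stabilizer X t, C.IsH (h : X) ∧ (QuotientGroup.mk h : (stabilizer X t) ⧸
          (D.subgroupOf (stabilizer X t))) = x := by
      intro x
      obtain ⟨b, rfl⟩ := QuotientGroup.mk_surjective x
      obtain ⟨d, hd, hh⟩ := C.exists_DH b.2
      refine ⟨⟨d⁻¹ * b, hh.1⟩, hh, ?_⟩
      rw [QuotientGroup.eq, mem_subgroupOf]
      change (d⁻¹ * (b : X))⁻¹ * b ∈ D
      have : (d⁻¹ * (b : X))⁻¹ * b = (b : X)⁻¹ * d * (b : X) := by group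
      rw [this]
      have := C.Dn (b : X)⁻¹ ((stabilizer X t).inv_mem b.2) d hd
      simpa using this
    intro x y
    obtain ⟨h, hh, rfl⟩ := key x
    obtain ⟨k, hk, rfl⟩ := key y
    rw [← QuotientGroup.mk_mul, ← QuotientGroup.mk_mul]
    congr 1
    exact Subtype.ext (hh.comm hk)
  letI : CommGroup ((stabilizer X t) ⧸ (D.subgroupOf (stabilizer X t))) :=
    { (inferInstance : Group ((stabilizer X t) ⧸ (D.subgroupOf (stabilizer X t)))) with
      mul_comm := hcommA }
  let φ : stabilizer X t →* (stabilizer X t) ⧸ (D.subgroupOf (stabilizer X t)) :=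
    QuotientGroup.mk' _
  have hφ : ∀ (x : X) (hx : x ∈ stabilizer X t), φ ⟨x, hx⟩ = 1 ↔ x ∈ D := by
    intro x hx
    change (QuotientGroup.mk (⟨x, hx⟩ : stabilizer X t) : _ ⧸ _) = 1 ↔ _
    rw [QuotientGroup.eq_one_iff, mem_subgroupOf]
  let τ : X →* (stabilizer X t) ⧸ (D.subgroupOf (stabilizer X t)) := MonoidHom.transfer φ
  have hidx := C.index_B
  rw [hq] at hidx
  -- (1)
  have hτD : ∀ d ∈ D, τ d = 1 := by
    intro d hd
    have h := transfer_eq (stabilizer X t) φ d 1 (by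
      intro k g₀ hk
      rw [one_pow, hφ]
      have hk' : (g₀⁻¹ * d ^ k * g₀) • t = t := hk
      by_cases hg : g₀ • t = t
      · have := C.Dn g₀⁻¹ (by rw [inv_smul_eq_iff, hg]) (d ^ k) (D.pow_mem hd k)
        simpa using this
      · have h1 : d ^ k • (g₀ • t) = g₀ • t := by
          rw [mul_smul, mul_smul, inv_smul_eq_iff] at hk'
          exact hk'
        have hgV : g₀ • t ∉ V := fun e => C.tV ((C.smul_mem_iff g₀ t).1 e)
        have h2 : d ^ k = 1 := by
          refine C.Dfree _ (D.pow_mem hd k) (t * g₀ • t) (C.idx _ hgV) ?_ ?_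
          · intro e
            have := eq_inv_of_mul_eq_one_left e
            rw [C.inv_eq] at this
            exact hg this.symm
          · rw [smul_mul', h1, C.Dt _ (D.pow_mem hd k)]
        rw [h2]; simpa using D.one_mem)
    rw [one_pow] at h
    exact h
  -- (2)
  have hτH : ∀ h : X, ∀ hh : C.IsH h, (orderOf h).Prime → orderOf h ≠ 2 →
      τ h = φ ⟨h, hh.1⟩ ^ (2 ^ a) := by
    intro h hh hp hp2
    rw [← hidx]
    refine transfer_eq (stabilizer X t) φ h (φ ⟨h, hh.1⟩) ?_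
    intro k g₀ hk
    rw [← map_pow]
    by_cases h1 : h ^ k = 1
    · congr 1
      refine Subtype.ext ?_
      change g₀⁻¹ * h ^ k * g₀ = h ^ k
      rw [h1]; simp
    have hh' : C.IsH (h ^ k) := hh.pow k
    have ho : orderOf (h ^ k) = orderOf h := by
      haveI := Fact.mk hp
      have hd : orderOf (h ^ k) ∣ orderOf h := orderOf_pow_dvd k
      rcases (Nat.dvd_prime hp).1 hd with h2 | h2
      · exact absurd (orderOf_eq_one_iff.1 h2) h1
      · exact h2
    have hxt : (g₀⁻¹ * h ^ k * g₀) • t = t := hk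
    have hv' : g₀⁻¹ • v0 ∈ V := C.inv _ _ C.v0V
    obtain ⟨d, hd, hk'⟩ := C.toH hxt hv' (smul_ne_one C.v01) (by
      rw [mul_smul, mul_smul, smul_inv_smul, hh'.2])
    have e1 : d⁻¹ * (g₀⁻¹ * h ^ k * g₀) * d = (g₀ * d)⁻¹ * h ^ k * (g₀ * d) := by group
    rw [e1] at hk'
    have h3 : (g₀ * d)⁻¹ * h ^ k * (g₀ * d) ∈ zpowers (h ^ k) :=
      mem_zpowers_of_orderOf (C.Hcyc _ hk'.1 hk'.2) (C.Hcyc _ hh'.1 hh'.2) (orderOf_conj _ _)
    have h4 : (g₀ * d)⁻¹ ∈ normalizer (zpowers (h ^ k) : Set X) :=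
      mem_normalizer_zpowers (by simpa using h3)
    have h5 := hN (h ^ k) hh' (by rw [ho]; exact hp) (by rw [ho]; exact hp2) _ h4
    rw [inv_inv, ← e1] at h5
    -- `x = d h' d⁻¹`
    have h6 : g₀⁻¹ * h ^ k * g₀ = d * h ^ k * d⁻¹ := by
      have := congrArg (fun y => d * y * d⁻¹) h5
      simpa [mul_assoc] using this
    have hdB : d ∈ stabilizer X t := C.Dt d hd
    have h7 : (⟨g₀⁻¹ * h ^ k * g₀, hk⟩ : stabilizer X t) =
        ⟨d, hdB⟩ * (⟨h, hh.1⟩ : stabilizer X t) ^ k * (⟨d, hdB⟩ : stabilizer X t)⁻¹ :=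
      Subtype.ext (by simpa using h6)
    rw [h7, map_mul, map_mul, map_inv, (hφ d hdB).2 hd, one_mul, inv_one, mul_one]
  -- the subgroup `X0`
  let P2 : Subgroup ((stabilizer X t) ⧸ (D.subgroupOf (stabilizer X t))) :=
    { carrier := {x | ∃ k : ℕ, x ^ (2 ^ k) = 1}
      mul_mem' := by
        rintro x y ⟨k, hk⟩ ⟨l, hl⟩
        refine ⟨k + l, ?_⟩
        rw [mul_pow, pow_add]
        conv_lhs => arg 2; rw [mul_comm (2 ^ k)]
        rw [pow_mul, pow_mul, hk, hl]; simp
      one_mem' := ⟨0, by simp⟩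
      inv_mem' := by
        rintro x ⟨k, hk⟩
        exact ⟨k, by rw [inv_pow, hk, inv_one]⟩ }
  let X0 : Subgroup X := P2.comap τ
  haveI hX0n : X0.Normal := by
    haveI : P2.Normal := ⟨fun n hn g => by rwa [mul_comm g n, mul_inv_cancel_right]⟩
    exact Subgroup.Normal.comap inferInstance τ
  have hDX0 : D ≤ X0 := by
    intro d hd
    change τ d ∈ P2
    rw [hτD d hd]; exact P2.one_mem
  let S : Subgroup X := X0 ⊓ stabilizer X v0
  have hS : ∃ n, Nat.card S = 2 ^ n := by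
    refine ⟨_, Nat.eq_prime_pow_of_unique_prime_dvd (Nat.card_pos.ne') ?_⟩
    intro p hp hpS
    by_contra hp2
    haveI := Fact.mk hp
    obtain ⟨x, hx⟩ := exists_prime_orderOf_dvd_card' p hpS
    have hxo : orderOf (x : X) = p := by rw [← hx]; exact orderOf_coe x
    have hxp : IsPGroup p (zpowers (x : X)) := IsPGroup.of_card (n := 1) (by
      rw [Nat.card_zpowers, hxo, pow_one])
    have hnd : ¬ p ∣ Nat.card C.Om := by
      rw [C.card_Om, hq]
      intro h
      exact hp2 ((Nat.prime_dvd_prime_iff_eq hp Nat.prime_two).1 (hp.dvd_of_dvd_pow h))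
    obtain ⟨u, hu⟩ := hxp.nonempty_fixed_point_of_prime_not_dvd_card C.Om hnd
    have hxu : (x : X) • (u : E) = u := congrArg Subtype.val (hu ⟨x, mem_zpowers _⟩)
    obtain ⟨g, hg⟩ := C.trans u u.2
    have hxv : (x : X) • v0 = v0 := x.2.2
    have hx't : (g⁻¹ * (x : X) * g) • t = t := by
      rw [mul_smul, mul_smul, hg, hxu, ← hg, inv_smul_smul]
    obtain ⟨d, hd, hh⟩ := C.toH hx't (C.inv g⁻¹ v0 C.v0V) (smul_ne_one C.v01) (by
      rw [mul_smul, mul_smul, smul_inv_smul, hxv])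
    have ho : orderOf (d⁻¹ * (g⁻¹ * (x : X) * g) * d) = p := by
      rw [orderOf_conj, orderOf_conj, hxo]
    have hmem : d⁻¹ * (g⁻¹ * (x : X) * g) * d ∈ X0 := by
      have e : d⁻¹ * (g⁻¹ * (x : X) * g) * d = (g * d)⁻¹ * x * (g * d)⁻¹⁻¹ := by group
      rw [e]
      exact hX0n.conj_mem _ x.2.1 _
    set h := d⁻¹ * (g⁻¹ * (x : X) * g) * d with hh_def
    have h1 := hτH h hh (by rw [ho]; exact hp) (by rw [ho]; exact hp2)
    obtain ⟨k, hk⟩ : ∃ k : ℕ, (τ h) ^ (2 ^ k) = 1 := hmem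
    rw [h1, ← pow_mul, ← pow_add] at hk
    have hc1 : φ ⟨h, hh.1⟩ ≠ 1 := by
      intro e
      have hD := (hφ h hh.1).1 e
      have := C.DH_trivial hD hh
      rw [this, orderOf_one] at ho
      exact hp.one_lt.ne ho
    have hcp : φ ⟨h, hh.1⟩ ^ p = 1 := by
      rw [← map_pow, ← map_one φ]
      congr 1
      refine Subtype.ext ?_
      change h ^ p = 1
      rw [← ho]; exact pow_orderOf_eq_one h
    have hco : orderOf (φ ⟨h, hh.1⟩) = p := orderOf_eq_prime hcp hc1
    have := orderOf_dvd_of_pow_eq_one hk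
    rw [hco] at this
    exact hp2 ((Nat.prime_dvd_prime_iff_eq hp Nat.prime_two).1 (hp.dvd_of_dvd_pow this))
  obtain ⟨m, hm⟩ := hS
  have hDodd : Odd (Nat.card D) := by
    have h1 := C.card_D
    rw [hq] at h1
    obtain ⟨b, rfl⟩ : ∃ b, a = b + 1 := ⟨a - 1, by omega⟩
    rw [pow_succ] at h1
    exact ⟨2 ^ b - 1, by have : 0 < 2 ^ b := by positivity
                         omega⟩
  have hsolv : Group.IsSolvable X0 := by
    have hcD : Nat.card (D.subgroupOf X0) = Nat.card D :=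
      Nat.card_congr (subgroupOfEquivOfLe hDX0).toEquiv
    have hcS : Nat.card (S.subgroupOf X0) = Nat.card S :=
      Nat.card_congr (subgroupOfEquivOfLe inf_le_left).toEquiv
    refine (Cfsg.Agent.S0563.result (G := X0) (D.subgroupOf X0) (S.subgroupOf X0) ?_ ?_ ?_ ?_).1
    · have hcom : ∀ x y : D.subgroupOf X0, x * y = y * x := by
        intro x y
        refine Subtype.ext (Subtype.ext ?_)
        exact C.Dcomm _ (mem_subgroupOf.1 x.2) _ (mem_subgroupOf.1 y.2)
      letI : CommGroup (D.subgroupOf X0) :=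
        { (inferInstance : Group (D.subgroupOf X0)) with mul_comm := hcom }
      exact CommGroup.isNilpotent
    · haveI : IsPGroup 2 (S.subgroupOf X0) := IsPGroup.of_card (n := m) (by rw [hcS, hm])
      exact this.isNilpotent
    · rw [hcD, hcS, hm]
      exact Nat.Coprime.pow_right _ (Nat.coprime_two_right.2 hDodd)
    · intro x
      have h1 : (x : X) • v0 ≠ 1 := smul_ne_one C.v01
      obtain ⟨d, hd, hdv⟩ := C.Dtrans _ (C.inv _ _ C.v0V) h1
      have hdX := hDX0 hd
      refine ⟨⟨d, hdX⟩, mem_subgroupOf.2 hd, ⟨d, hdX⟩⁻¹ * x, ?_, by group⟩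
      rw [mem_subgroupOf]
      refine ⟨X0.mul_mem (X0.inv_mem hdX) x.2, ?_⟩
      change (d⁻¹ * (x : X)) • v0 = v0
      rw [mul_smul, ← hdv, inv_smul_smul]
  haveI : Nontrivial X0 := by
    rw [nontrivial_iff_ne_bot]
    intro hbot
    have h1 : D = ⊥ := by rw [eq_bot_iff, ← hbot]; exact hDX0
    have h2 := C.card_D
    rw [h1, hq, card_bot] at h2
    have : 2 ^ 2 ≤ 2 ^ a := Nat.pow_le_pow_right (by norm_num) ha
    omega
  -- last term of the derived series
  have hex : ∃ n, derivedSeries X0 n = ⊥ := Group.IsSolvable.solvable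
  obtain ⟨k, hk⟩ : ∃ k, Nat.find hex = k + 1 := by
    refine Nat.exists_eq_succ_of_ne_zero ?_
    intro h0
    have := Nat.find_spec hex
    rw [h0, derivedSeries_zero] at this
    exact absurd this top_ne_bot
  refine C.of_abelian_normal a hq ha ((derivedSeries X0 k).map X0.subtype) inferInstance ?_ ?_
  · intro hbot
    refine Nat.find_min hex (m := k) (by omega) ?_
    rwa [map_eq_bot_iff_of_injective _ X0.subtype_injective] at hbot
  · have h1 := Nat.find_spec hex
    rw [hk, derivedSeries_succ, Subgroup.commutator_eq_bot_iff_le_centralizer] at h1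
    rintro _ ⟨x, hx, rfl⟩ _ ⟨y, hy, rfl⟩
    have := (Subgroup.mem_centralizer_iff.1 (h1 hx) y hy).symm
    exact congrArg Subtype.val this

end Cfg

end Cfsg.Agent.StdL2.LemmaX
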