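import Cfsg.Agent.StdL2.LemmaX

/-!
# Lemma X of S1773, the exceptional case `|H| = a` prime
-/

set_option autoImplicit false
set_option linter.unusedSectionVars false
set_option linter.style.haveILetI false

open MulAction Subgroup

namespace Cfsg.Agent.StdL2.LemmaXC

open Cfsg.Agent.StdL2.LemmaX Cfsg.Agent.StdL2.LemmaX.Cfg

theorem card_modEq_one {G : Type*} [Group G] [Finite G] {p : ℕ} [hp : Fact p.Prime] {x : G}
    (hx : orderOf x = p) (T : Subgroup G) (hn : x ∈ normalizer (T : Set G))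
    (hfix : ∀ s ∈ T, x * s = s * x → s = 1) : Nat.card T ≡ 1 [MOD p] := by
  classical
  let Z : Subgroup (ConjAct G) := zpowers (ConjAct.toConjAct x)
  have hZ : IsPGroup p Z := IsPGroup.of_card (n := 1) (by
    rw [Nat.card_zpowers, pow_one, ← hx]
    exact orderOf_injective (ConjAct.toConjAct (G := G)).toMonoidHom
      (ConjAct.toConjAct (G := G)).injective x)
  let S : SubMulAction Z G :=
    { carrier := T
      smul_mem' := by
        rintro ⟨z, hz⟩ s hs
        obtain ⟨k, rfl⟩ := hz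
        change (ConjAct.toConjAct x ^ k) • s ∈ T
        have hk : x ^ k ∈ normalizer (T : Set G) := (normalizer (T : Set G)).zpow_mem hn k
        have : (ConjAct.toConjAct x ^ k) • s = x ^ k * s * (x ^ k)⁻¹ := by
          rw [← map_zpow, ConjAct.toConjAct_smul]
        rw [this]
        exact (mem_normalizer_iff.1 hk s).1 hs }
  have h1 := hZ.card_modEq_card_fixedPoints S
  have hcS : Nat.card S = Nat.card T := rfl
  have hf : Nat.card (fixedPoints Z S) = 1 := by
    rw [Nat.card_eq_one_iff_unique]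
    refine ⟨⟨?_⟩, ⟨⟨⟨1, T.one_mem⟩, ?_⟩⟩⟩
    · have key : ∀ a : fixedPoints Z S, ((a : S) : G) = 1 := by
        rintro ⟨⟨s, hs⟩, ha⟩
        have := congrArg Subtype.val (ha ⟨ConjAct.toConjAct x, mem_zpowers _⟩)
        change (ConjAct.toConjAct x) • s = s at this
        rw [ConjAct.toConjAct_smul, mul_inv_eq_iff_eq_mul] at this
        exact hfix s hs this
      intro a b
      exact Subtype.ext (Subtype.ext ((key a).trans (key b).symm))
    · rintro ⟨z, hz⟩
      refine Subtype.ext ?_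
      obtain ⟨k, rfl⟩ := hz
      change (ConjAct.toConjAct x ^ k) • (1 : G) = 1
      exact smul_one _
  rw [hcS, hf] at h1
  exact h1

/-- The exceptional situation. -/
structure Exc {X E : Type*} [Group X] [CommGroup E] [MulDistribMulAction X E]
    {V : Subgroup E} {t v0 : E} {D : Subgroup X} {h0 : X} (C : Cfg V t v0 D h0)
    (r : ℕ) (h y : X) : Prop where
  rp : r.Prime
  r2 : r ≠ 2
  card : Nat.card V = 2 ^ r
  hh : C.IsH h
  ho : orderOf h = r
  hH : ∀ k : X, C.IsH k → k ∈ zpowers h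
  hV : ∀ v ∈ V, h • v = v → v = 1 ∨ v = v0
  yt : y • t = t * v0
  yt' : y • (t * v0) = t
  y2 : y * y = 1
  yh : y * h * y⁻¹ = h⁻¹

section

variable {X E : Type*} [Group X] [Finite X] [CommGroup E] [Finite E] [MulDistribMulAction X E]
  {V : Subgroup E} {t v0 : E} {D : Subgroup X} {h0 : X} {C : Cfg V t v0 D h0}

theorem exists_exc (C : Cfg V t v0 D h0) {h n : X}
    (hh : C.IsH h) (hp : (orderOf h).Prime) (hp2 : orderOf h ≠ 2)
    (hn : n ∈ normalizer (zpowers h : Set X)) (hne : n * h * n⁻¹ ≠ h) :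
    ∃ y, Exc C (orderOf h) h y := by
  classical
  haveI := Fact.mk hp
  have hV : ∀ v ∈ V, h • v = v → v = 1 ∨ v = v0 := by
    intro v hv hhv
    by_contra hcon
    push Not at hcon
    exact hne (C.claimA hh hv hcon.1 hcon.2 hhv hn)
  have hcard : Nat.card {v : E // v ∈ V ∧ h • v = v} = 2 := by
    have e : {v : E // v ∈ V ∧ h • v = v} ≃ ({1, v0} : Finset E) :=
      Equiv.subtypeEquivRight (by
        intro v
        simp only [Finset.mem_insert, Finset.mem_singleton]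
        constructor
        · rintro ⟨h1, h2⟩; exact hV v h1 h2
        · rintro (rfl | rfl)
          · exact ⟨V.one_mem, smul_one _⟩
          · exact ⟨C.v0V, hh.2⟩)
    rw [Nat.card_congr e, Nat.card_eq_fintype_card, Fintype.card_coe,
      Finset.card_pair C.v01.symm]
  have hVr : Nat.card V = 2 ^ orderOf h := by
    rw [← C.hfix h hh.1 hh.2, hcard]
  -- `H = ⟨h⟩`
  have hoH : ∀ k : X, C.IsH k → k ≠ 1 → orderOf k = orderOf h := by
    intro k hk hk1
    have h1 := C.hfix k hk.1 hk.2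
    rw [hVr] at h1
    obtain ⟨c, hc⟩ : ∃ c, Nat.card {v : E // v ∈ V ∧ k • v = v} = 2 ^ c := by
      have : Nat.card {v : E // v ∈ V ∧ k • v = v} ∣ 2 ^ orderOf h := by
        rw [← h1]
        exact dvd_pow_self _ (orderOf_pos k).ne'
      obtain ⟨c, _, hc⟩ := (Nat.dvd_prime_pow Nat.prime_two).1 this
      exact ⟨c, hc⟩
    rw [hc, ← pow_mul] at h1
    have h2 : c * orderOf k = orderOf h := Nat.pow_right_injective le_rfl h1
    have h3 : orderOf k ∣ orderOf h := ⟨c, by rw [← h2, mul_comm]⟩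
    rcases (Nat.dvd_prime hp).1 h3 with h4 | h4
    · exact absurd (orderOf_eq_one_iff.1 h4) hk1
    · exact h4
  have hH : ∀ k : X, C.IsH k → k ∈ zpowers h := by
    intro k hk
    by_cases hk1 : k = 1
    · rw [hk1]; exact one_mem _
    · exact mem_zpowers_of_orderOf (C.Hcyc k hk.1 hk.2) (C.Hcyc h hh.1 hh.2) (hoH k hk hk1)
  -- the involution
  obtain ⟨g, hg1, hg2⟩ := C.two_trans' C.tV C.tv0 C.tv0_ne.symm C.tv0 C.tV C.tv0_ne
  have hgg : C.IsH (g * g) := by
    rw [isH_iff]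
    exact ⟨by rw [mul_smul, hg1, hg2], by rw [mul_smul, hg2, hg1]⟩
  have hodd : Odd (orderOf h) := hp.odd_of_ne_two hp2
  obtain ⟨m, hm⟩ := hodd
  have hpow : ∀ k : X, C.IsH k → k ^ orderOf h = 1 := by
    intro k hk
    obtain ⟨j, rfl⟩ := hH k hk
    simp only
    rw [← zpow_natCast, ← zpow_mul, mul_comm, zpow_mul, zpow_natCast, pow_orderOf_eq_one,
      one_zpow]
  set y := g ^ orderOf h with hy
  have hy' : y = g * (g * g) ^ m := by
    rw [hy, hm, pow_succ', pow_mul, pow_two]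
  have hym : C.IsH ((g * g) ^ m) := hgg.pow m
  have yt : y • t = t * v0 := by rw [hy', mul_smul, hym.1, hg1]
  have yt' : y • (t * v0) = t := by
    rw [hy', mul_smul, ((isH_iff C).1 hym).2, hg2]
  have y2 : y * y = 1 := by
    have : y * y = (g * g) ^ orderOf h := by
      rw [hy, ← pow_two, ← pow_mul, ← pow_two, ← pow_mul, mul_comm]
    rw [this, hpow _ hgg]
  have yinv : y⁻¹ = y := inv_eq_of_mul_eq_one_left y2
  have hyH : ∀ k : X, C.IsH k → C.IsH (y * k * y⁻¹) := by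
    intro k hk
    rw [isH_iff] at hk ⊢
    rw [yinv]
    constructor
    · rw [mul_smul, mul_smul, yt, hk.2, yt']
    · rw [mul_smul, mul_smul, yt', hk.1, yt]
  -- points fixed by `h`
  have hpts : ∀ u : E, u ∉ V → h • u = u → u = t ∨ u = t * v0 := by
    intro u hu hhu
    have h1 : h • (t * u) = t * u := by rw [smul_mul', hh.1, hhu]
    have h2 : u = t * (t * u) := by rw [← mul_assoc, C.sq, one_mul]
    rcases hV _ (C.idx u hu) h1 with h3 | h3
    · left; rw [h2, h3, mul_one]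
    · right; rw [h2, h3]
  have hnt : h • (n • t) = n • t := by
    have h1 : n⁻¹ * h * n ∈ zpowers h := by
      have := (mem_normalizer_iff.1 ((normalizer (zpowers h : Set X)).inv_mem hn) h).1
        (mem_zpowers h)
      simpa using this
    have h2 : (n⁻¹ * h * n) • t = t := (hh.of_mem_zpowers h1).1
    have h3 : h * n = n * (n⁻¹ * h * n) := by group
    rw [← mul_smul, h3, mul_smul, h2]
  have hnh : C.IsH (n * h * n⁻¹) :=
    hh.of_mem_zpowers ((mem_normalizer_iff.1 hn h).1 (mem_zpowers h))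
  have hyh : y * h * y⁻¹ ≠ h := by
    rcases hpts _ (fun e => C.tV ((C.smul_mem_iff n t).1 e)) hnt with h1 | h1
    · exact absurd (C.weak h1 hh hnh) hne
    · intro hyh
      apply hne
      have hb : (y⁻¹ * n) • t = t := by rw [mul_smul, h1, yinv, yt']
      have e : (y⁻¹ * n) * h * (y⁻¹ * n)⁻¹ = y * (n * h * n⁻¹) * y⁻¹ := by
        rw [yinv, mul_inv_rev, yinv]; group
      have h2 := C.weak hb hh (by rw [e]; exact hyH _ hnh)
      rw [e] at h2
      have h3 : n * h * n⁻¹ = y⁻¹ * h * y := by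
        have := congrArg (fun z => y⁻¹ * z * y) h2
        simpa [mul_assoc] using this
      rw [h3, yinv]
      rw [yinv] at hyh
      exact hyh
  have hk : C.IsH ((y * h * y⁻¹) * h) := (hyH h hh).mul hh
  have hyhinv : y * h * y⁻¹ = h⁻¹ := by
    by_contra hcon
    have hk1 : (y * h * y⁻¹) * h ≠ 1 := fun e => hcon (eq_inv_of_mul_eq_one_left e)
    have hmem : h ∈ zpowers ((y * h * y⁻¹) * h) :=
      mem_zpowers_of_orderOf (C.Hcyc h hh.1 hh.2) (C.Hcyc _ hk.1 hk.2) (hoH _ hk hk1).symm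
    obtain ⟨j, hj⟩ := hmem
    simp only at hj
    have hc : y * ((y * h * y⁻¹) * h) * y⁻¹ = (y * h * y⁻¹) * h := by
      have e1 : y * ((y * h * y⁻¹) * h) * y⁻¹ = (y * y) * h * (y⁻¹ * y⁻¹) * (y * h * y⁻¹) := by
        group
      have e2 : y⁻¹ * y⁻¹ = 1 := by rw [yinv, y2]
      rw [e1, y2, e2, one_mul, mul_one]
      exact hh.comm (hyH h hh)
    apply hyh
    conv_lhs => rw [← hj]
    rw [← conj_zpow, hc, hj]
  exact ⟨y, ⟨hp, hp2, hVr, hh, rfl, hH, hV, yt, yt', y2, hyhinv⟩⟩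

namespace Exc

variable {r : ℕ} {h y : X}

theorem odd_r (Ex : Exc C r h y) : Odd r := Ex.rp.odd_of_ne_two Ex.r2

theorem yinv (Ex : Exc C r h y) : y⁻¹ = y := inv_eq_of_mul_eq_one_left Ex.y2

theorem pow_r (Ex : Exc C r h y) {k : X} (hk : C.IsH k) : k ^ r = 1 := by
  obtain ⟨j, rfl⟩ := Ex.hH k hk
  simp only
  rw [← zpow_natCast, ← zpow_mul, mul_comm, zpow_mul, zpow_natCast]
  have : h ^ r = 1 := by rw [← Ex.ho]; exact pow_orderOf_eq_one h
  rw [this, one_zpow]

theorem y_inverts (Ex : Exc C r h y) {k : X} (hk : C.IsH k) : y * k * y⁻¹ = k⁻¹ := by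
  obtain ⟨j, rfl⟩ := Ex.hH k hk
  simp only
  rw [← conj_zpow, Ex.yh, inv_zpow]

/-- an element of `H` equal to its inverse is trivial -/
theorem eq_one_of_inv (Ex : Exc C r h y) {k : X} (hk : C.IsH k) (e : k * k = 1) : k = 1 := by
  obtain ⟨m, hm⟩ := Ex.odd_r
  have h2 := Ex.pow_r hk
  rw [hm, pow_succ, pow_mul, pow_two, e, one_pow, one_mul] at h2
  exact h2

theorem h_ne (Ex : Exc C r h y) : h ≠ 1 := by
  intro e
  have := Ex.ho
  rw [e, orderOf_one] at this
  exact Ex.rp.one_lt.ne this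

theorem pts (Ex : Exc C r h y) {u : E} (hu : u ∉ V) (hhu : h • u = u) : u = t ∨ u = t * v0 := by
  have h1 : h • (t * u) = t * u := by rw [smul_mul', Ex.hh.1, hhu]
  have h2 : u = t * (t * u) := by rw [← mul_assoc, C.sq, one_mul]
  rcases Ex.hV _ (C.idx u hu) h1 with h3 | h3
  · left; rw [h2, h3, mul_one]
  · right; rw [h2, h3]

theorem isH_of_comm (Ex : Exc C r h y) {x : X} (hx : x * h = h * x) : C.IsH x := by
  have hxt : h • (x • t) = x • t := by rw [← mul_smul, ← hx, mul_smul, Ex.hh.1]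
  have hxt' : h • (x • (t * v0)) = x • (t * v0) := by
    rw [← mul_smul, ← hx, mul_smul, (C.isH_iff.1 Ex.hh).2]
  have htV : x • t ∉ V := fun e => C.tV ((C.smul_mem_iff x t).1 e)
  have htV' : x • (t * v0) ∉ V := fun e => C.tv0 ((C.smul_mem_iff x _).1 e)
  rw [isH_iff]
  rcases Ex.pts htV hxt with h1 | h1
  · refine ⟨h1, ?_⟩
    rcases Ex.pts htV' hxt' with h2 | h2
    · exfalso; exact C.tv0_ne (smul_left_cancel x (h2.trans h1.symm))
    · exact h2
  · exfalso
    have hb : (y⁻¹ * x) • t = t := by rw [mul_smul, h1, Ex.yinv, Ex.yt']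
    have e1 : (y⁻¹ * x) * h * (y⁻¹ * x)⁻¹ = h⁻¹ := by
      have : (y⁻¹ * x) * h * (y⁻¹ * x)⁻¹ = y⁻¹ * (x * h * x⁻¹) * y := by group
      rw [this, hx, mul_inv_cancel_right]
      have := Ex.yh
      rw [Ex.yinv] at this ⊢; exact this
    have h2 := C.weak hb Ex.hh (by rw [e1]; exact Ex.hh.inv)
    rw [e1] at h2
    refine Ex.h_ne (Ex.eq_one_of_inv Ex.hh ?_)
    nth_rewrite 1 [← h2]
    exact inv_mul_cancel h

theorem card_D' (Ex : Exc C r h y) : Nat.card D = 2 ^ r - 1 := by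
  have := C.card_D; rw [Ex.card] at this; omega

theorem card_B (Ex : Exc C r h y) : Nat.card (stabilizer X t) = (2 ^ r - 1) * r := by
  have h2 : Nat.card (zpowers h) = r := by rw [Nat.card_zpowers, Ex.ho]
  rw [← Ex.card_D']
  conv_rhs => rw [← h2]
  rw [← Nat.card_prod]
  have hmem : ∀ x : D × zpowers h, (x.1 : X) * x.2 ∈ stabilizer X t := by
    rintro ⟨⟨d, hd⟩, ⟨k, hk⟩⟩
    change (d * k) • t = t
    rw [mul_smul, (Ex.hh.of_mem_zpowers hk).1, C.Dt d hd]
  symm
  refine Nat.card_congr (Equiv.ofBijective (fun x : D × zpowers h =>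
    (⟨(x.1 : X) * x.2, hmem x⟩ : stabilizer X t)) ⟨?_, ?_⟩)
  · rintro ⟨⟨d, hd⟩, ⟨k, hk⟩⟩ ⟨⟨d', hd'⟩, ⟨k', hk'⟩⟩ e
    have e1 : d * k = d' * k' := congrArg Subtype.val e
    have e2 : d'⁻¹ * d = k' * k⁻¹ := by
      have := congrArg (fun z => d'⁻¹ * z * k⁻¹) e1
      simpa [mul_assoc] using this
    have h3 : d'⁻¹ * d = 1 := by
      refine C.DH_trivial (D.mul_mem (D.inv_mem hd') hd) ?_
      rw [e2]
      exact (Ex.hh.of_mem_zpowers hk').mul (Ex.hh.of_mem_zpowers hk).inv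
    have h4 : d' = d := inv_mul_eq_one.1 h3
    subst h4
    have h5 : k = k' := mul_left_cancel e1
    subst h5
    rfl
  · rintro ⟨b, hb⟩
    obtain ⟨d, hd, hk⟩ := C.exists_DH hb
    refine ⟨⟨⟨d, hd⟩, ⟨d⁻¹ * b, Ex.hH _ hk⟩⟩, Subtype.ext ?_⟩
    change d * (d⁻¹ * b) = b
    group

theorem one_le (_Ex : Exc C r h y) : 1 ≤ 2 ^ r := Nat.one_le_two_pow

theorem odd_pow (Ex : Exc C r h y) : Odd (2 ^ r - 1) := by
  have h1 : 0 < r := Ex.rp.pos
  obtain ⟨b, rfl⟩ : ∃ b, r = b + 1 := ⟨r - 1, by omega⟩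
  rw [pow_succ]
  exact ⟨2 ^ b - 1, by have : 0 < 2 ^ b := by positivity
                       omega⟩

theorem odd_B (Ex : Exc C r h y) : Odd (Nat.card (stabilizer X t)) := by
  rw [Ex.card_B]
  exact Ex.odd_pow.mul Ex.odd_r

theorem card_X (Ex : Exc C r h y) : Nat.card X = (2 ^ r - 1) * r * 2 ^ r := by
  rw [← card_mul_index (stabilizer X t), Ex.card_B, C.index_B, Ex.card]

/-- an involution fixes no point of the coset -/
theorem no_fix (Ex : Exc C r h y) {s : X} (hs : s * s = 1) {u : E} (hu : u ∉ V)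
    (hsu : s • u = u) : s = 1 := by
  obtain ⟨g, hg⟩ := C.trans u hu
  have h1 : g⁻¹ * s * g ∈ stabilizer X t := by
    change (g⁻¹ * s * g) • t = t
    rw [mul_smul, mul_smul, hg, hsu, ← hg, inv_smul_smul]
  have h2 : (⟨g⁻¹ * s * g, h1⟩ : stabilizer X t) ^ 2 = 1 := by
    refine Subtype.ext ?_
    change (g⁻¹ * s * g) ^ 2 = 1
    have : (g⁻¹ * s * g) ^ 2 = g⁻¹ * (s * s) * g := by rw [pow_two]; group
    rw [this, hs]; simp
  have h3 : (⟨g⁻¹ * s * g, h1⟩ : stabilizer X t) = 1 := by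
    have hco : Nat.Coprime 2 (Nat.card (stabilizer X t)) := Nat.coprime_two_left.2 Ex.odd_B
    rw [← orderOf_eq_one_iff]
    exact Nat.eq_one_of_dvd_coprimes hco (orderOf_dvd_of_pow_eq_one h2) (orderOf_dvd_natCard _)
  have h4 : g⁻¹ * s * g = 1 := congrArg Subtype.val h3
  have := congrArg (fun z => g * z * g⁻¹) h4
  simpa [mul_assoc] using this

/-- the involutions swapping `t` and `t v0` are in `y H` -/
theorem swap (Ex : Exc C r h y) {s : X} (h1 : s • t = t * v0) (h2 : s • (t * v0) = t) :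
    C.IsH (y⁻¹ * s) := by
  rw [isH_iff, Ex.yinv]
  constructor
  · rw [mul_smul, h1, Ex.yt']
  · rw [mul_smul, h2, Ex.yt]

/-- the centraliser of an involution is semiregular -/
theorem free (Ex : Exc C r h y) {s c : X} (hs : s * s = 1) (hs1 : s ≠ 1) (hc : c * s = s * c)
    {u : E} (hu : u ∉ V) (hcu : c • u = u) : c = 1 := by
  have hsu : s • u ≠ u := fun e => hs1 (Ex.no_fix hs hu e)
  have hsV : s • u ∉ V := fun e => hu ((C.smul_mem_iff s u).1 e)
  have hcw : c • (s • u) = s • u := by rw [← mul_smul, hc, mul_smul, hcu]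
  obtain ⟨g, hg1, hg2⟩ := C.two_trans hu hsV hsu.symm
  have hc' : C.IsH (g⁻¹ * c * g) := by
    rw [isH_iff]
    constructor
    · rw [mul_smul, mul_smul, hg1, hcu, ← hg1, inv_smul_smul]
    · rw [mul_smul, mul_smul, hg2, hcw, ← hg2, inv_smul_smul]
  have hk : C.IsH (y⁻¹ * (g⁻¹ * s * g)) := by
    apply Ex.swap
    · rw [mul_smul, mul_smul, hg1, ← hg2, inv_smul_smul]
    · rw [mul_smul, mul_smul, hg2, ← mul_smul s s, hs, one_smul, ← hg1, inv_smul_smul]
  -- `c'` commutes with `y`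
  have h1 : (g⁻¹ * c * g) * (g⁻¹ * s * g) = (g⁻¹ * s * g) * (g⁻¹ * c * g) := by
    have e1 : (g⁻¹ * c * g) * (g⁻¹ * s * g) = g⁻¹ * (c * s) * g := by group
    have e2 : (g⁻¹ * s * g) * (g⁻¹ * c * g) = g⁻¹ * (s * c) * g := by group
    rw [e1, e2, hc]
  have h2 : (g⁻¹ * c * g) * (y⁻¹ * (g⁻¹ * s * g)) = (y⁻¹ * (g⁻¹ * s * g)) * (g⁻¹ * c * g) :=
    hc'.comm hk
  set c' := g⁻¹ * c * g with hc'd
  set s' := g⁻¹ * s * g with hs'd
  have h3 : Commute c' (y⁻¹) := by
    have e : y⁻¹ = (y⁻¹ * s') * s'⁻¹ := by group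
    rw [e]
    exact Commute.mul_right h2 (Commute.inv_right h1)
  have h4 := Ex.y_inverts hc'
  have h5 : y * c' * y⁻¹ = c' := by
    have := (Commute.inv_right_iff.1 h3).eq
    rw [← this, mul_inv_cancel_right]
  rw [h5] at h4
  have h6 : c' = 1 := by
    apply Ex.eq_one_of_inv hc'
    nth_rewrite 1 [h4]
    exact inv_mul_cancel c'
  have := congrArg (fun z => g * z * g⁻¹) h6
  simpa [mul_assoc, hc'd] using this

/-- all involutions are conjugate to `y` -/
theorem conj_y (Ex : Exc C r h y) {s : X} (hs : s * s = 1) (hs1 : s ≠ 1) :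
    ∃ g : X, g * y * g⁻¹ = s := by
  have hst : s • t ≠ t := fun e => hs1 (Ex.no_fix hs C.tV e)
  have hsV : s • t ∉ V := fun e => C.tV ((C.smul_mem_iff s t).1 e)
  obtain ⟨g, hg1, hg2⟩ := C.two_trans C.tV hsV hst.symm
  have hk : C.IsH (y⁻¹ * (g⁻¹ * s * g)) := by
    apply Ex.swap
    · rw [mul_smul, mul_smul, hg1, ← hg2, inv_smul_smul]
    · rw [mul_smul, mul_smul, hg2, ← mul_smul s s, hs, one_smul, inv_smul_eq_iff, hg1]
  set k := y⁻¹ * (g⁻¹ * s * g) with hkd
  obtain ⟨m, hm⟩ := Ex.odd_r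
  have hkr := Ex.pow_r hk
  have hl : C.IsH (k ^ (m + 1)) := hk.pow _
  have hl2 : k ^ (m + 1) * k ^ (m + 1) = k := by
    rw [← pow_add]
    have : m + 1 + (m + 1) = r + 1 := by omega
    rw [this, pow_succ, hkr, one_mul]
  have hyl := Ex.y_inverts hl
  set l := k ^ (m + 1) with hld
  have e1 : g⁻¹ * s * g = y * k := by rw [hkd]; group
  have e2 : y * k = l⁻¹ * y * l := by
    rw [← hl2, ← hyl]
    group
  refine ⟨g * l⁻¹, ?_⟩
  have e3 : g * l⁻¹ * y * (g * l⁻¹)⁻¹ = g * (l⁻¹ * y * l) * g⁻¹ := by group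
  rw [e3, ← e2, ← e1]
  group

end Exc

end

end Cfsg.Agent.StdL2.LemmaXC
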