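import Cfsg.Agent.StdL2.LemmaXC

/-!
# Lemma X of S1773, the exceptional case: centralisers of involutions, Sylow 2-subgroups
-/

set_option autoImplicit false
set_option linter.unusedSectionVars false
set_option linter.style.haveILetI false

open MulAction Subgroup

namespace Cfsg.Agent.StdL2.LemmaXD

open Cfsg.Agent.StdL2.LemmaX Cfsg.Agent.StdL2.LemmaX.Cfg Cfsg.Agent.StdL2.LemmaXC

/-- fixed point free action of an element of prime order on a subgroup -/
theorem fix_modEq {X E : Type*} [Group X] [Finite X] [Group E] [Finite E]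
    [MulDistribMulAction X E] {p : ℕ} [hp : Fact p.Prime] {x : X} (hx : orderOf x = p)
    (W : Subgroup E) (hn : ∀ w ∈ W, x • w ∈ W) (hfix : ∀ w ∈ W, x • w = w → w = 1) :
    Nat.card W ≡ 1 [MOD p] := by
  classical
  have hZ : IsPGroup p (zpowers x) := IsPGroup.of_card (n := 1) (by
    rw [Nat.card_zpowers, pow_one, hx])
  have hpow : ∀ k : ℕ, ∀ w ∈ W, x ^ k • w ∈ W := by
    intro k
    induction k with
    | zero => intro w hw; rwa [pow_zero, one_smul]
    | succ k ih => intro w hw; rw [pow_succ, mul_smul]; exact ih _ (hn w hw)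
  let S : SubMulAction (zpowers x) E :=
    { carrier := W
      smul_mem' := by
        rintro ⟨z, hz⟩ s hs
        obtain ⟨k, hk⟩ := mem_powers_iff_mem_zpowers.2 hz
        have hk' : x ^ k = z := hk
        subst hk'
        exact hpow k s hs }
  have h1 := hZ.card_modEq_card_fixedPoints S
  have hcS : Nat.card S = Nat.card W := rfl
  have hf : Nat.card (fixedPoints (zpowers x) S) = 1 := by
    rw [Nat.card_eq_one_iff_unique]
    refine ⟨⟨?_⟩, ⟨⟨⟨1, W.one_mem⟩, ?_⟩⟩⟩
    · have key : ∀ a : fixedPoints (zpowers x) S, ((a : S) : E) = 1 := by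
        rintro ⟨⟨s, hs⟩, ha⟩
        have := congrArg Subtype.val (ha ⟨x, mem_zpowers _⟩)
        exact hfix s hs this
      intro a b
      exact Subtype.ext (Subtype.ext ((key a).trans (key b).symm))
    · rintro ⟨z, hz⟩
      refine Subtype.ext ?_
      change z • (1 : E) = 1
      exact smul_one _
  rw [hcS, hf] at h1
  exact h1

section

variable {X E : Type*} [Group X] [Finite X] [CommGroup E] [Finite E] [MulDistribMulAction X E]
  {V : Subgroup E} {t v0 : E} {D : Subgroup X} {h0 : X} {C : Cfg V t v0 D h0}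
  {r : ℕ} {h y : X}

/-- no translations: the action on `V` is faithful -/
theorem faithV (C : Cfg V t v0 D h0) (hno : ¬ ∃ n : X, n • t = t * v0 ∧ ∀ v ∈ V, n • v = v)
    {x : X} (hx : ∀ v ∈ V, x • v = v) : x = 1 := by
  by_contra hx1
  have hxt : x • t ≠ t := by
    intro e
    apply hx1
    apply C.faithful
    intro u
    by_cases hu : u ∈ V
    · exact hx u hu
    · have h1 := hx _ (C.idx u hu)
      rw [smul_mul', e] at h1
      exact mul_left_cancel h1
  have hxV : x • t ∉ V := fun e => C.tV ((C.smul_mem_iff x t).1 e)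
  have hw1 : t * x • t ≠ 1 := by
    intro e
    have := eq_inv_of_mul_eq_one_left e
    rw [C.inv_eq] at this
    exact hxt this.symm
  obtain ⟨d, hd, hdw⟩ := C.Dtrans _ (C.idx _ hxV) hw1
  apply hno
  refine ⟨d⁻¹ * x * d, ?_, ?_⟩
  · rw [mul_smul, mul_smul, C.Dt d hd, inv_smul_eq_iff, smul_mul', C.Dt d hd, hdw, ← mul_assoc,
      C.sq, one_mul]
  · intro v hv
    rw [mul_smul, mul_smul, inv_smul_eq_iff, hx _ (C.inv d v hv)]

/-- semiregular subgroups have order at most `|V|` -/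
theorem card_le_of_free (C : Cfg V t v0 D h0) (T : Subgroup X)
    (hT : ∀ x ∈ T, x • t = t → x = 1) : Nat.card T ≤ Nat.card V := by
  rw [← C.card_Om]
  refine Nat.card_le_card_of_injective
    (fun x : T => (⟨(x : X) • t, fun h => C.tV ((C.smul_mem_iff _ t).1 h)⟩ : C.Om)) ?_
  intro n m h
  have h1 : (n : X) • t = (m : X) • t := congrArg Subtype.val h
  have h2 : ((m : X)⁻¹ * n) • t = t := by rw [mul_smul, h1, inv_smul_smul]
  have h3 := hT _ (T.mul_mem (T.inv_mem m.2) n.2) h2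
  exact Subtype.ext (inv_mul_eq_one.1 h3).symm

theorem trans_of_free (C : Cfg V t v0 D h0) (T : Subgroup X)
    (hT : ∀ x ∈ T, x • t = t → x = 1) (hc : Nat.card T = Nat.card V) {u : E} (hu : u ∉ V) :
    ∃ x ∈ T, x • t = u := by
  have hinj : Function.Injective
    (fun x : T => (⟨(x : X) • t, fun h => C.tV ((C.smul_mem_iff _ t).1 h)⟩ : C.Om)) := by
    intro n m h
    have h1 : (n : X) • t = (m : X) • t := congrArg Subtype.val h
    have h2 : ((m : X)⁻¹ * n) • t = t := by rw [mul_smul, h1, inv_smul_smul]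
    have h3 := hT _ (T.mul_mem (T.inv_mem m.2) n.2) h2
    exact Subtype.ext (inv_mul_eq_one.1 h3).symm
  have hbij := (Nat.bijective_iff_injective_and_card _).2 ⟨hinj, by rw [C.card_Om, hc]⟩
  obtain ⟨⟨x, hx⟩, hxu⟩ := hbij.2 ⟨u, hu⟩
  exact ⟨x, hx, congrArg Subtype.val hxu⟩

theorem card_le_cent (Ex : Exc C r h y) {s : X} (hs : s * s = 1) (hs1 : s ≠ 1) :
    Nat.card (centralizer {s}) ≤ 2 ^ r := by
  rw [← Ex.card]
  refine card_le_of_free C _ ?_
  intro c hc hct
  exact Ex.free hs hs1 (mem_centralizer_singleton_iff.1 hc) C.tV hct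

/-- `|C(s)| = 2^r` for all involutions -/
theorem card_cent (Ex : Exc C r h y) {s : X} (hs : s * s = 1) (hs1 : s ≠ 1) :
    Nat.card (centralizer {s}) = 2 ^ r := by
  haveI : Fact (Nat.Prime 2) := ⟨Nat.prime_two⟩
  refine le_antisymm (card_le_cent Ex hs hs1) ?_
  obtain ⟨T⟩ : Nonempty (Sylow 2 X) := inferInstance
  have hT : Nat.card T = 2 ^ r := by
    have hd : 2 ^ r ∣ Nat.card T := T.pow_dvd_card_of_pow_dvd_card (by
      rw [Ex.card_X]; exact Dvd.intro_left _ rfl)
    obtain ⟨k, hk⟩ := (IsPGroup.iff_card.1 T.isPGroup')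
    rw [hk] at hd ⊢
    have h1 : r ≤ k := (Nat.pow_dvd_pow_iff_le_right (by norm_num)).1 hd
    have h2 : 2 ^ k ∣ (2 ^ r - 1) * r * 2 ^ r := by
      rw [← Ex.card_X, ← hk]; exact T.card_subgroup_dvd_card
    obtain ⟨j, rfl⟩ := Nat.exists_eq_add_of_le h1
    rw [pow_add, mul_comm (2 ^ r)] at h2
    have h3 := Nat.dvd_of_mul_dvd_mul_right (by positivity) h2
    have h4 : Nat.Coprime (2 ^ j) ((2 ^ r - 1) * r) := by
      refine Nat.Coprime.pow_left _ (Nat.coprime_two_left.2 (Ex.odd_pow.mul Ex.odd_r))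
    have h5 : 2 ^ j = 1 := Nat.eq_one_of_dvd_coprimes h4 dvd_rfl h3
    rw [pow_add, h5, mul_one]
  haveI : Nontrivial T := by
    rw [← Finite.one_lt_card_iff_nontrivial, hT]
    exact Nat.one_lt_two_pow Ex.rp.pos.ne'
  haveI := T.isPGroup'.center_nontrivial
  have hcen : 2 ∣ Nat.card (center T) := by
    obtain ⟨k, hk⟩ := (T.isPGroup'.to_subgroup (center T)).exists_card_eq
    have h1 : 1 < Nat.card (center T) := Finite.one_lt_card
    rw [hk] at h1 ⊢
    refine dvd_pow_self _ ?_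
    rintro rfl
    simp at h1
  obtain ⟨z, hz⟩ := exists_prime_orderOf_dvd_card' 2 hcen
  have hzo : orderOf (((z : T) : X)) = 2 :=
    (Subgroup.orderOf_coe (z : T)).trans ((Subgroup.orderOf_coe z).trans hz)
  have hz2 : ((z : T) : X) * ((z : T) : X) = 1 := by
    have := pow_orderOf_eq_one ((z : T) : X)
    rwa [hzo, pow_two] at this
  have hz1 : ((z : T) : X) ≠ 1 := by
    intro e; rw [e, orderOf_one] at hzo; norm_num at hzo
  have hTz : (T : Subgroup X) ≤ centralizer {((z : T) : X)} := by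
    intro x hx
    rw [mem_centralizer_singleton_iff]
    have := mem_center_iff.1 z.2 ⟨x, hx⟩
    exact congrArg Subtype.val this
  obtain ⟨g1, hg1⟩ := Ex.conj_y hz2 hz1
  obtain ⟨g2, hg2⟩ := Ex.conj_y hs hs1
  have hc : ∀ x : centralizer {((z : T) : X)}, g2 * g1⁻¹ * x * (g2 * g1⁻¹)⁻¹ ∈
      centralizer {s} := by
    rintro ⟨x, hx⟩
    rw [mem_centralizer_singleton_iff] at hx ⊢
    rw [← hg1] at hx
    rw [← hg2]
    simp only
    have e1 : g2 * g1⁻¹ * x * (g2 * g1⁻¹)⁻¹ * (g2 * y * g2⁻¹) =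
      g2 * g1⁻¹ * (x * (g1 * y * g1⁻¹)) * g1 * g2⁻¹ := by group
    have e2 : (g2 * y * g2⁻¹) * (g2 * g1⁻¹ * x * (g2 * g1⁻¹)⁻¹) =
      g2 * g1⁻¹ * ((g1 * y * g1⁻¹) * x) * g1 * g2⁻¹ := by group
    rw [e1, e2, hx]
  calc 2 ^ r = Nat.card T := hT.symm
    _ ≤ Nat.card (centralizer {((z : T) : X)}) := Nat.card_le_card_of_injective
        (fun x : T => (⟨x, hTz x.2⟩ : centralizer {((z : T) : X)})) (fun a b hab =>
          Subtype.ext (congrArg (fun w : centralizer {((z : T) : X)} => (w : X)) hab))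
    _ ≤ Nat.card (centralizer {s}) := Nat.card_le_card_of_injective
        (fun x => (⟨_, hc x⟩ : centralizer {s})) (fun a b hab => by
          have := congrArg Subtype.val hab
          simp only at this
          have h3 := mul_right_cancel this
          exact Subtype.ext (mul_left_cancel h3))

/-- subgroups of order `2^r` are semiregular -/
theorem free_of_card (Ex : Exc C r h y) {T : Subgroup X} (hT : Nat.card T = 2 ^ r) {x : X}
    (hx : x ∈ T) (hxt : x • t = t) : x = 1 := by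
  have h1 : orderOf x ∣ 2 ^ r := by rw [← hT]; exact Subgroup.orderOf_dvd_natCard _ hx
  have h2 : orderOf x ∣ Nat.card (stabilizer X t) := Subgroup.orderOf_dvd_natCard _ hxt
  rw [← orderOf_eq_one_iff]
  exact Nat.eq_one_of_dvd_coprimes
    (Nat.Coprime.pow_left r (Nat.coprime_two_left.2 Ex.odd_B)) h1 h2

theorem cent_eq (Ex : Exc C r h y) {T : Subgroup X} (hT : Nat.card T = 2 ^ r) {z : X}
    (hz : z * z = 1) (hz1 : z ≠ 1) (hzT : ∀ x ∈ T, x * z = z * x) : centralizer {z} = T := by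
  have hle : T ≤ centralizer {z} := fun x hx => mem_centralizer_singleton_iff.2 (hzT x hx)
  symm
  exact Subgroup.eq_of_le_of_card_ge hle (by rw [card_cent Ex hz hz1, hT])

theorem two_pow_modEq (Ex : Exc C r h y) : 2 ^ r ≡ 2 [MOD r] := by
  haveI := Fact.mk Ex.rp
  rw [← ZMod.natCast_eq_natCast_iff]
  push_cast
  exact ZMod.pow_card 2

theorem not_modEq_one (Ex : Exc C r h y) : ¬ 2 ^ r ≡ 1 [MOD r] := by
  intro h1
  have h2 := (two_pow_modEq Ex).symm.trans h1
  have h3 : r ∣ 2 - 1 := (Nat.modEq_iff_dvd' (by norm_num)).1 h2.symm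
  exact Ex.rp.one_lt.ne' (Nat.dvd_one.1 h3)

theorem norm_trivial (Ex : Exc C r h y)
    (hno : ¬ ∃ n : X, n • t = t * v0 ∧ ∀ v ∈ V, n • v = v) {T : Subgroup X}
    (hT : Nat.card T = 2 ^ r) {b : X} (hb : b • t = t)
    (hbT : b ∈ normalizer (T : Set X)) : b = 1 := by
  classical
  haveI := Fact.mk Ex.rp
  haveI : Fact (Nat.Prime 2) := ⟨Nat.prime_two⟩
  by_contra hb1
  obtain ⟨p, hp, hpb⟩ := Nat.exists_prime_and_dvd (n := orderOf b)
    (fun e => hb1 (orderOf_eq_one_iff.1 e))
  haveI := Fact.mk hp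
  have ho' : orderOf (b ^ (orderOf b / p)) = p :=
    orderOf_pow_orderOf_div (orderOf_pos b).ne' hpb
  have hb' : (b ^ (orderOf b / p)) • t = t := (stabilizer X t).pow_mem hb _
  have hbT' : b ^ (orderOf b / p) ∈ normalizer (T : Set X) :=
    (normalizer (T : Set X)).pow_mem hbT _
  generalize b ^ (orderOf b / p) = c at ho' hb' hbT'
  have hc1 : c ≠ 1 := by
    rintro rfl; rw [orderOf_one] at ho'; exact hp.one_lt.ne ho'
  by_cases hcD : c ∈ D
  · -- `W = C_V(T)`
    let W : Subgroup E :=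
      { carrier := {v | v ∈ V ∧ ∀ s ∈ T, s • v = v}
        mul_mem' := by
          rintro a b ⟨ha, ha'⟩ ⟨hb, hb'⟩
          exact ⟨V.mul_mem ha hb, fun s hs => by rw [smul_mul', ha' s hs, hb' s hs]⟩
        one_mem' := ⟨V.one_mem, fun s _ => smul_one s⟩
        inv_mem' := by
          rintro a ⟨ha, ha'⟩
          exact ⟨V.inv_mem ha, fun s hs => by rw [smul_inv', ha' s hs]⟩ }
    have hWV : W ≤ V := fun v hv => hv.1
    have hcW : ∀ w ∈ W, c • w ∈ W := by
      rintro w ⟨hw, hw'⟩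
      refine ⟨C.inv c w hw, fun s hs => ?_⟩
      have h1 : c⁻¹ * s * c ∈ T := by
        have := (mem_normalizer_iff.1 ((normalizer (T : Set X)).inv_mem hbT') s).1 hs
        simpa using this
      have h2 := hw' _ h1
      rw [mul_smul, mul_smul, inv_smul_eq_iff] at h2
      exact h2
    have hW1 := fix_modEq ho' W hcW
      (fun w hw e => by_contra fun hw1 => hc1 (C.Dfree c hcD w hw.1 hw1 e))
    have hV1 := fix_modEq ho' V (C.inv c)
      (fun w hw e => by_contra fun hw1 => hc1 (C.Dfree c hcD w hw hw1 e))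
    rw [Ex.card] at hV1
    have hWd : Nat.card W ∣ 2 ^ r := by rw [← Ex.card]; exact card_dvd_of_le hWV
    obtain ⟨j, hj, hWj⟩ := (Nat.dvd_prime_pow Nat.prime_two).1 hWd
    rw [hWj] at hW1
    have hj1 : 0 < j := by
      have hnd : ¬ 2 ∣ Nat.card C.Vs := by
        have h1 := C.card_Vs
        rw [Ex.card] at h1
        have h2 : 2 ∣ 2 ^ r := dvd_pow_self 2 Ex.rp.pos.ne'
        omega
      have hTp : IsPGroup 2 T := IsPGroup.of_card hT
      obtain ⟨v1, hv1⟩ := hTp.nonempty_fixed_point_of_prime_not_dvd_card C.Vs hnd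
      have hv1W : (v1 : E) ∈ W :=
        ⟨v1.2.1, fun s hs => congrArg Subtype.val (hv1 ⟨s, hs⟩)⟩
      rcases Nat.eq_zero_or_pos j with hj0 | hj0
      · exfalso
        rw [hj0, pow_zero] at hWj
        have := (Subgroup.eq_bot_of_card_eq W hWj)
        rw [this, mem_bot] at hv1W
        exact v1.2.2 hv1W
      · exact hj0
    have e1 : p ∣ 2 ^ j - 1 := (Nat.modEq_iff_dvd' Nat.one_le_two_pow).1 hW1.symm
    have e2 : p ∣ 2 ^ r - 1 := (Nat.modEq_iff_dvd' Nat.one_le_two_pow).1 hV1.symm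
    have e3 : p ∣ 2 ^ (Nat.gcd j r) - 1 := by
      have e5 := Nat.dvd_gcd e1 e2
      rwa [Nat.pow_sub_one_gcd_pow_sub_one] at e5
    rcases (Nat.dvd_prime Ex.rp).1 (Nat.gcd_dvd_right j r) with e4 | e4
    · rw [e4] at e3
      norm_num at e3
      exact hp.one_lt.ne' e3
    · have h5 : r ∣ j := by rw [← e4]; exact Nat.gcd_dvd_left j r
      have h6 : j = r := le_antisymm hj (Nat.le_of_dvd hj1 h5)
      have h7 : W = V := Subgroup.eq_of_le_of_card_ge hWV (by rw [Ex.card, hWj, h6])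
      have h8 : T = ⊥ := by
        rw [eq_bot_iff]
        intro s hs
        rw [mem_bot]
        apply faithV C hno
        intro v hv
        rw [← h7] at hv
        exact hv.2 s hs
      rw [h8, card_bot] at hT
      exact (Nat.one_lt_two_pow Ex.rp.pos.ne').ne hT
  · obtain ⟨d, hd, hk⟩ := C.exists_DH hb'
    set k := d⁻¹ * c with hkd
    have hck : c = d * k := by rw [hkd]; group
    have hpow : ∀ n : ℕ, ∃ d' ∈ D, c ^ n = d' * k ^ n := by
      intro n
      induction n with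
      | zero => exact ⟨1, D.one_mem, by simp⟩
      | succ n ih =>
        obtain ⟨d', hd', e⟩ := ih
        refine ⟨d' * (k ^ n * d * (k ^ n)⁻¹), D.mul_mem hd' (C.Dn _ (hk.pow n).1 d hd), ?_⟩
        rw [pow_succ, e, pow_succ]
        conv_lhs => rw [hck]
        group
    have hpr : p = r := by
      by_contra hne
      obtain ⟨d', hd', e⟩ := hpow r
      rw [Ex.pow_r hk, mul_one] at e
      have hco : Nat.Coprime r (orderOf c) := by
        rw [ho']; exact (Nat.coprime_primes Ex.rp hp).2 (Ne.symm hne)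
      obtain ⟨m, hm⟩ := exists_pow_eq_self_of_coprime hco
      apply hcD
      rw [← hm, e]
      exact D.pow_mem hd' m
    subst hpr
    obtain ⟨v, hv, hv1, hcv⟩ : ∃ v ∈ V, v ≠ 1 ∧ c • v = v := by
      by_contra hcon
      push Not at hcon
      have := fix_modEq ho' V (C.inv c) (fun w hw e => by_contra fun hw1 => hcon w hw hw1 e)
      rw [Ex.card] at this
      exact not_modEq_one Ex this
    obtain ⟨d1, hd1, hh'⟩ := C.toH hb' hv hv1 hcv
    have hord : orderOf (d1⁻¹ * c * d1) = orderOf h := by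
      rw [orderOf_conj, ho', Ex.ho]
    have hmem : h ∈ zpowers (d1⁻¹ * c * d1) :=
      mem_zpowers_of_orderOf (C.Hcyc h Ex.hh.1 Ex.hh.2) (C.Hcyc _ hh'.1 hh'.2) hord.symm
    have := card_modEq_one ho' T hbT' (by
      intro s hs hcs
      have h1 : Commute (d1⁻¹ * s * d1) (d1⁻¹ * c * d1) := by
        change (d1⁻¹ * s * d1) * (d1⁻¹ * c * d1) = (d1⁻¹ * c * d1) * (d1⁻¹ * s * d1)
        have e1 : (d1⁻¹ * s * d1) * (d1⁻¹ * c * d1) = d1⁻¹ * (s * c) * d1 := by group
        have e2 : (d1⁻¹ * c * d1) * (d1⁻¹ * s * d1) = d1⁻¹ * (c * s) * d1 := by group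
        rw [e1, e2, hcs]
      obtain ⟨n, hn⟩ := hmem
      have h2 : (d1⁻¹ * s * d1) * h = h * (d1⁻¹ * s * d1) := by
        simp only at hn
        rw [← hn]
        exact (h1.zpow_right n).eq
      have h3 := Ex.pow_r (Ex.isH_of_comm h2)
      have h4 : orderOf s ∣ p := by
        rw [← orderOf_conj d1 s]
        exact orderOf_dvd_of_pow_eq_one h3
      have h5 : orderOf s ∣ 2 ^ p := by rw [← hT]; exact Subgroup.orderOf_dvd_natCard _ hs
      rw [← orderOf_eq_one_iff]
      exact Nat.eq_one_of_dvd_coprimes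
        (Nat.Coprime.pow_left p (Nat.coprime_two_left.2 Ex.odd_r)) h5 h4)
    rw [hT] at this
    exact not_modEq_one Ex this

/-- a subgroup of order `2^r` has at most one central involution -/
theorem central_unique (Ex : Exc C r h y)
    (hno : ¬ ∃ n : X, n • t = t * v0 ∧ ∀ v ∈ V, n • v = v) {T : Subgroup X}
    (hT : Nat.card T = 2 ^ r) {z z' : X} (hz : z * z = 1) (hz1 : z ≠ 1)
    (hzT : ∀ x ∈ T, x * z = z * x) (hz' : z' * z' = 1) (hz1' : z' ≠ 1)
    (hzT' : ∀ x ∈ T, x * z' = z' * x) : z = z' := by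
  have h1 := cent_eq Ex hT hz hz1 hzT
  have h2 := cent_eq Ex hT hz' hz1' hzT'
  obtain ⟨g1, hg1⟩ := Ex.conj_y hz hz1
  obtain ⟨g2, hg2⟩ := Ex.conj_y hz' hz1'
  obtain ⟨g, hg⟩ : ∃ g : X, g * z * g⁻¹ = z' := by
    refine ⟨g2 * g1⁻¹, ?_⟩
    rw [← hg1, ← hg2]; group
  have hgN : g ∈ normalizer (T : Set X) := by
    rw [mem_normalizer_iff]
    intro x
    rw [← h1, mem_centralizer_singleton_iff]
    constructor
    · intro hx
      rw [h1, ← h2, mem_centralizer_singleton_iff, ← hg]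
      have e1 : g * x * g⁻¹ * (g * z * g⁻¹) = g * (x * z) * g⁻¹ := by group
      have e2 : g * z * g⁻¹ * (g * x * g⁻¹) = g * (z * x) * g⁻¹ := by group
      rw [e1, e2, hx]
    · intro hx
      rw [h1, ← h2, mem_centralizer_singleton_iff, ← hg] at hx
      have e1 : g * x * g⁻¹ * (g * z * g⁻¹) = g * (x * z) * g⁻¹ := by group
      have e2 : g * z * g⁻¹ * (g * x * g⁻¹) = g * (z * x) * g⁻¹ := by group
      rw [e1, e2] at hx
      exact mul_left_cancel (mul_right_cancel hx)
  have hgtV : g • t ∉ V := fun e => C.tV ((C.smul_mem_iff g t).1 e)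
  obtain ⟨x, hx, hxt⟩ := trans_of_free C T (fun x hx e => free_of_card Ex hT hx e)
    (by rw [hT, Ex.card]) hgtV
  have h3 : x⁻¹ * g = 1 := by
    apply norm_trivial Ex hno hT
    · rw [mul_smul, inv_smul_eq_iff, hxt]
    · exact (normalizer (T : Set X)).mul_mem
        ((normalizer (T : Set X)).inv_mem (le_normalizer hx)) hgN
  have h4 : x = g := inv_mul_eq_one.1 h3
  rw [← h4, hzT x hx, mul_inv_cancel_right] at hg
  exact hg

end

end Cfsg.Agent.StdL2.LemmaXD
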