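import Cfsg.Agent.StdL2.LemmaXD

/-!
# Lemma X of S1773, the exceptional case: `r = 3`
-/

set_option autoImplicit false
set_option linter.unusedSectionVars false
set_option linter.style.haveILetI false

open MulAction Subgroup

namespace Cfsg.Agent.StdL2.LemmaXE

open Cfsg.Agent.StdL2.LemmaX Cfsg.Agent.StdL2.LemmaX.Cfg Cfsg.Agent.StdL2.LemmaXC
  Cfsg.Agent.StdL2.LemmaXD

/-- a normal section of exponent `r` of a solvable group, above a normal `r'`-subgroup -/
theorem exists_normal_section {G : Type*} [Group G] [Finite G] (hs : Group.IsSolvable G) {r : ℕ}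
    (hr : r.Prime) (hd : r ∣ Nat.card G) :
    ∃ K M : Subgroup G, K.Normal ∧ M.Normal ∧ K ≤ M ∧ ¬ r ∣ Nat.card K ∧ r ∣ Nat.card M ∧
      ∀ m ∈ M, m ^ r ∈ K := by
  classical
  haveI := Fact.mk hr
  obtain ⟨M, ⟨hMn, hMr⟩, hmin⟩ := exists_minimal_of_wellFoundedLT
    (fun M : Subgroup G => M.Normal ∧ r ∣ Nat.card M) ⟨⊤, inferInstance, by rwa [card_top]⟩
  have hMbot : M ≠ ⊥ := by
    rintro rfl
    rw [card_bot] at hMr
    exact hr.one_lt.ne' (Nat.dvd_one.1 hMr)
  have hlt : ⁅M, M⁆ < M := Group.IsSolvable.commutator_lt_of_ne_bot hMbot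
  haveI hKn : (⁅M, M⁆ : Subgroup G).Normal := Subgroup.commutator_normal M M
  have hK : ¬ r ∣ Nat.card (⁅M, M⁆ : Subgroup G) := by
    intro h
    exact hlt.not_ge (hmin ⟨hKn, h⟩ hlt.le)
  have key : ∀ m : M, (m : G) ∈ (⁅M, M⁆ : Subgroup G) ↔ Abelianization.of m = 1 := by
    intro m
    rw [← MonoidHom.mem_ker, Abelianization.ker_of, ← map_subtype_commutator M]
    constructor
    · rintro ⟨x, hx, e⟩
      have : x = m := Subtype.ext e
      rwa [← this]
    · intro hm
      exact ⟨m, hm, rfl⟩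
  let M' : Subgroup G :=
    { carrier := {m | m ∈ M ∧ m ^ r ∈ (⁅M, M⁆ : Subgroup G)}
      mul_mem' := by
        rintro a b ⟨ha, ha'⟩ ⟨hb, hb'⟩
        refine ⟨M.mul_mem ha hb, ?_⟩
        have h1 := (key (⟨a, ha⟩ ^ r)).1 ha'
        have h2 := (key (⟨b, hb⟩ ^ r)).1 hb'
        refine (key ((⟨a, ha⟩ * ⟨b, hb⟩) ^ r)).2 ?_
        rw [map_pow] at h1 h2
        rw [map_pow, map_mul, mul_pow, h1, h2, one_mul]
      one_mem' := ⟨M.one_mem, by rw [one_pow]; exact one_mem _⟩
      inv_mem' := by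
        rintro a ⟨ha, ha'⟩
        exact ⟨M.inv_mem ha, by rw [inv_pow]; exact inv_mem ha'⟩ }
  have hM'n : M'.Normal := ⟨by
    rintro m ⟨hm, hm'⟩ g
    refine ⟨hMn.conj_mem m hm g, ?_⟩
    rw [conj_pow]
    exact hKn.conj_mem _ hm' g⟩
  have hM'r : r ∣ Nat.card M' := by
    obtain ⟨x, hx⟩ := exists_prime_orderOf_dvd_card' r hMr
    have hxo : orderOf (x : G) = r := (Subgroup.orderOf_coe x).trans hx
    have hxM : (x : G) ∈ M' := ⟨x.2, by rw [← hxo, pow_orderOf_eq_one]; exact one_mem _⟩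
    rw [← hxo]
    exact Subgroup.orderOf_dvd_natCard _ hxM
  have hle : M ≤ M' := hmin ⟨hM'n, hM'r⟩ (fun m hm => hm.1)
  exact ⟨⁅M, M⁆, M, hKn, hMn, hlt.le, hK, hMr, fun m hm => (hle hm).2⟩

/-- the structure of a group of order `2^r r` -/
theorem exists_K {G : Type*} [Group G] [Finite G] {r : ℕ} (hr : r.Prime) (hr2 : r ≠ 2)
    (hcard : Nat.card G = 2 ^ r * r) {h y : G} (ho : orderOf h = r)
    (hN : ∀ n ∈ normalizer (zpowers h : Set G), n ∈ zpowers h ∨ y⁻¹ * n ∈ zpowers h) :
    ∃ K : Subgroup G, K.Normal ∧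
      (Nat.card K = 2 ^ r ∨ (Nat.card K = 2 ^ (r - 1) ∧ y ∉ K)) := by
  classical
  haveI := Fact.mk hr
  have hrpos := hr.pos
  have hco2 : Nat.Coprime r (2 ^ r) :=
    Nat.Coprime.pow_right r (Nat.coprime_two_right.2 (hr.odd_of_ne_two hr2))
  have hsol : Group.IsSolvable G :=
    Cfsg.Agent.S0144.result 2 r r 1 Nat.prime_two hr (by rw [hcard, pow_one])
  obtain ⟨K, M, hKn, hMn, hKM, hKr, hMr, hexp⟩ := exists_normal_section hsol hr (by
    rw [hcard]; exact Dvd.intro_left _ rfl)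
  -- the order of `K`
  obtain ⟨k, hkr, hk⟩ : ∃ k ≤ r, Nat.card K = 2 ^ k := by
    have h1 : Nat.card K ∣ 2 ^ r * r := by rw [← hcard]; exact card_subgroup_dvd_card K
    have h2 : Nat.Coprime (Nat.card K) r := ((hr.coprime_iff_not_dvd).2 hKr).symm
    exact (Nat.dvd_prime_pow Nat.prime_two).1 (h2.dvd_of_dvd_mul_right h1)
  have hr2' : ¬ r * r ∣ 2 ^ r * r := by
    intro h1
    have h2 : r ∣ 2 ^ r := Nat.dvd_of_mul_dvd_mul_right hrpos h1
    have h3 := Nat.Coprime.eq_one_of_dvd hco2 h2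
    exact hr.one_lt.ne' h3
  -- `h ∈ M`
  have hhM : h ∈ M := by
    have h1 : ¬ r ∣ M.index := by
      intro h2
      apply hr2'
      rw [← hcard, ← card_mul_index M]
      exact Nat.mul_dvd_mul hMr h2
    have h3 : orderOf (QuotientGroup.mk h : G ⧸ M) ∣ r := by
      rw [← ho]
      exact orderOf_map_dvd (QuotientGroup.mk' M) h
    have h4 : orderOf (QuotientGroup.mk h : G ⧸ M) ∣ M.index := orderOf_dvd_natCard _
    have h5 : orderOf (QuotientGroup.mk h : G ⧸ M) = 1 := by
      rcases (Nat.dvd_prime hr).1 h3 with h6 | h6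
      · exact h6
      · rw [h6] at h4; exact absurd h4 h1
    rw [orderOf_eq_one_iff, QuotientGroup.eq_one_iff] at h5
    exact h5
  have hcM : Nat.card M ≤ Nat.card K * r := by
    have hp : IsPGroup r (M ⧸ K.subgroupOf M) := by
      intro x
      obtain ⟨m, rfl⟩ := QuotientGroup.mk_surjective x
      refine ⟨1, ?_⟩
      rw [pow_one, ← QuotientGroup.mk_pow, QuotientGroup.eq_one_iff, mem_subgroupOf]
      exact hexp m m.2
    obtain ⟨i, hi⟩ := IsPGroup.iff_card.1 hp
    have h1 : Nat.card M = r ^ i * Nat.card K := by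
      rw [card_eq_card_quotient_mul_card_subgroup (K.subgroupOf M), hi,
        Nat.card_congr (subgroupOfEquivOfLe hKM).toEquiv]
    have h2 : i ≤ 1 := by
      by_contra hcon
      apply hr2'
      have h3 : Nat.card M ∣ 2 ^ r * r := by rw [← hcard]; exact card_subgroup_dvd_card M
      refine dvd_trans ?_ h3
      rw [h1]
      refine dvd_trans ?_ (Dvd.intro _ rfl)
      have : r ^ 2 ∣ r ^ i := pow_dvd_pow r (by omega)
      rwa [pow_two] at this
    rw [h1, mul_comm]
    refine Nat.mul_le_mul_left _ ?_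
    calc r ^ i ≤ r ^ 1 := Nat.pow_le_pow_right hrpos h2
      _ = r := pow_one r
  -- Frattini
  have hfr : ∀ g : G, g ∈ M ∨ y⁻¹ * g ∈ M := by
    have hz : IsPGroup r (zpowers (⟨h, hhM⟩ : M)) := IsPGroup.of_card (n := 1) (by
      rw [Nat.card_zpowers, pow_one, ← ho]
      exact (Subgroup.orderOf_coe (⟨h, hhM⟩ : M)).symm)
    obtain ⟨P, hP⟩ := hz.exists_le_sylow
    have hPeq : zpowers (⟨h, hhM⟩ : M) = P := by
      refine eq_of_le_of_card_ge hP ?_
      obtain ⟨i, hi⟩ := IsPGroup.iff_card.1 P.isPGroup'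
      have h2 : i ≤ 1 := by
        by_contra hcon
        apply hr2'
        have h3 : Nat.card M ∣ 2 ^ r * r := by rw [← hcard]; exact card_subgroup_dvd_card M
        refine dvd_trans ?_ (dvd_trans (card_subgroup_dvd_card (P : Subgroup M)) h3)
        rw [hi]
        have : r ^ 2 ∣ r ^ i := pow_dvd_pow r (by omega)
        rwa [pow_two] at this
      rw [hi, Nat.card_zpowers]
      have h4 : orderOf (⟨h, hhM⟩ : M) = r := by
        rw [← ho]; exact (Subgroup.orderOf_coe (⟨h, hhM⟩ : M)).symm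
      rw [h4]
      calc r ^ i ≤ r ^ 1 := Nat.pow_le_pow_right hrpos h2
        _ = r := pow_one r
    have hF := Sylow.normalizer_sup_eq_top P
    rw [← hPeq, MonoidHom.map_zpowers] at hF
    intro g
    have hg : g ∈ normalizer (zpowers (M.subtype ⟨h, hhM⟩) : Set G) ⊔ M := by
      rw [hF]; exact mem_top g
    rw [mem_sup_of_normal_right] at hg
    obtain ⟨n, hn, m, hm, rfl⟩ := hg
    have hz' : zpowers h ≤ M := by rwa [zpowers_le]
    rcases hN n hn with h1 | h1
    · left; exact M.mul_mem (hz' h1) hm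
    · right
      rw [← mul_assoc]
      exact M.mul_mem (hz' h1) hm
  have hG2 : Nat.card G ≤ 2 * Nat.card M := by
    have hidx : M.index ≤ 2 := by
      have hsurj : Function.Surjective (fun b : Bool => (if b then QuotientGroup.mk 1 else
          QuotientGroup.mk y : G ⧸ M)) := by
        intro x
        obtain ⟨g, rfl⟩ := QuotientGroup.mk_surjective x
        rcases hfr g with h1 | h1
        · refine ⟨true, ?_⟩
          simp only [if_true]
          rw [QuotientGroup.eq]
          simpa using h1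
        · refine ⟨false, ?_⟩
          simp only [Bool.false_eq_true, if_false]
          rw [QuotientGroup.eq]
          exact h1
      have := Nat.card_le_card_of_surjective _ hsurj
      have hB : Nat.card Bool = 2 := by simp
      rwa [hB] at this
    rw [← card_mul_index M, mul_comm]
    exact Nat.mul_le_mul_right _ hidx
  have hk1 : r - 1 ≤ k := by
    have h1 : 2 ^ r * r ≤ 2 ^ (k + 1) * r := by
      calc 2 ^ r * r = Nat.card G := hcard.symm
        _ ≤ 2 * Nat.card M := hG2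
        _ ≤ 2 * (Nat.card K * r) := Nat.mul_le_mul_left _ hcM
        _ = 2 ^ (k + 1) * r := by rw [hk, pow_succ]; ring
    have h2 := Nat.le_of_mul_le_mul_right h1 hrpos
    have h3 := (Nat.pow_le_pow_iff_right (by norm_num)).1 h2
    omega
  refine ⟨K, hKn, ?_⟩
  rcases Nat.eq_or_lt_of_le hkr with h1 | h1
  · left; rw [hk, h1]
  · right
    have h2 : k = r - 1 := by omega
    refine ⟨by rw [hk, h2], ?_⟩
    intro hyK
    have hyM := hKM hyK
    have hMtop : M = ⊤ := by
      rw [eq_top_iff]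
      intro g _
      rcases hfr g with h3 | h3
      · exact h3
      · have := M.mul_mem hyM h3
        rwa [mul_inv_cancel_left] at this
    have h4 : 2 ^ r * r ≤ 2 ^ k * r := by
      calc 2 ^ r * r = Nat.card G := hcard.symm
        _ = Nat.card M := by rw [hMtop, card_top]
        _ ≤ Nat.card K * r := hcM
        _ = 2 ^ k * r := by rw [hk]
    have h5 := Nat.le_of_mul_le_mul_right h4 hrpos
    have h6 := (Nat.pow_le_pow_iff_right (by norm_num)).1 h5
    omega

section

variable {X E : Type*} [Group X] [Finite X] [CommGroup E] [Finite E] [MulDistribMulAction X E]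
  {V : Subgroup E} {t v0 : E} {D : Subgroup X} {h0 : X} {C : Cfg V t v0 D h0}
  {r : ℕ} {h y : X}

theorem card_P (Ex : Exc C r h y) : Nat.card (stabilizer X v0) = 2 ^ r * r := by
  have h1 : (stabilizer X v0).index + 1 = 2 ^ r := by
    rw [← Ex.card, ← C.card_Vs, index_stabilizer, ← Nat.card_coe_set_eq]
    congr 1
    refine Nat.card_congr (Equiv.subtypeEquivRight ?_)
    intro e
    constructor
    · rintro ⟨x, rfl⟩
      exact ⟨C.inv _ _ C.v0V, smul_ne_one C.v01⟩
    · rintro ⟨he, he1⟩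
      obtain ⟨d, _, hd⟩ := C.Dtrans e he he1
      exact ⟨d, hd⟩
  have h2 := card_mul_index (stabilizer X v0)
  have h3 := Ex.card_X
  have h4 : (stabilizer X v0).index = 2 ^ r - 1 := by omega
  rw [h4, h3] at h2
  have h5 : 0 < 2 ^ r - 1 := by
    have := Nat.one_lt_two_pow Ex.rp.pos.ne'
    omega
  have h6 : Nat.card (stabilizer X v0) * (2 ^ r - 1) = (2 ^ r * r) * (2 ^ r - 1) := by
    rw [h2]; ring
  exact Nat.eq_of_mul_eq_mul_right h5 h6

theorem y_v0 (Ex : Exc C r h y) : y • v0 = v0 := by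
  have h1 : v0 = t * (t * v0) := by rw [← mul_assoc, C.sq, one_mul]
  conv_lhs => rw [h1]
  rw [smul_mul', Ex.yt, Ex.yt', mul_comm, ← mul_assoc, C.sq, one_mul]

theorem norm_h (Ex : Exc C r h y) {n : X} (hn : n ∈ normalizer (zpowers h : Set X)) :
    n ∈ zpowers h ∨ y⁻¹ * n ∈ zpowers h := by
  have h1 : n⁻¹ * h * n ∈ zpowers h := by
    have := (mem_normalizer_iff.1 ((normalizer (zpowers h : Set X)).inv_mem hn) h).1
      (mem_zpowers h)
    simpa using this
  have hH := Ex.hh.of_mem_zpowers h1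
  have h3 : h * n = n * (n⁻¹ * h * n) := by group
  have hnt : h • (n • t) = n • t := by
    rw [← mul_smul, h3, mul_smul, hH.1]
  have hnt' : h • (n • (t * v0)) = n • (t * v0) := by
    rw [← mul_smul, h3, mul_smul, (C.isH_iff.1 hH).2]
  have htV : n • t ∉ V := fun e => C.tV ((C.smul_mem_iff n t).1 e)
  have htV' : n • (t * v0) ∉ V := fun e => C.tv0 ((C.smul_mem_iff n _).1 e)
  rcases Ex.pts htV hnt with h4 | h4
  · left
    apply Ex.hH
    rw [isH_iff]
    refine ⟨h4, ?_⟩
    rcases Ex.pts htV' hnt' with h5 | h5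
    · exact absurd (smul_left_cancel n (h5.trans h4.symm)) C.tv0_ne
    · exact h5
  · right
    apply Ex.hH
    apply Ex.swap h4
    rcases Ex.pts htV' hnt' with h5 | h5
    · exact h5
    · exact absurd (smul_left_cancel n (h5.trans h4.symm)) C.tv0_ne

/-- the normal 2-subgroup of index `2` in a Sylow 2-subgroup -/
theorem exists_K' (Ex : Exc C r h y)
    (hno : ¬ ∃ n : X, n • t = t * v0 ∧ ∀ v ∈ V, n • v = v) :
    ∃ K : Subgroup X, Nat.card K = 2 ^ (r - 1) ∧ y ∉ K ∧
      h ∈ normalizer (K : Set X) ∧ y ∈ normalizer (K : Set X) := by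
  have hhP : h ∈ stabilizer X v0 := Ex.hh.2
  have hyP : y ∈ stabilizer X v0 := y_v0 Ex
  obtain ⟨K, hKn, hK⟩ := exists_K (G := stabilizer X v0) (r := r) Ex.rp Ex.r2 (card_P Ex)
    (h := ⟨h, hhP⟩) (y := ⟨y, hyP⟩) (by rw [Subgroup.orderOf_mk]; exact Ex.ho) (by
      rintro ⟨n, hnP⟩ hn
      have h1 : n ∈ normalizer (zpowers h : Set X) := by
        apply mem_normalizer_zpowers
        obtain ⟨k, hk⟩ := (mem_normalizer_iff.1 hn ⟨h, hhP⟩).1 (mem_zpowers _)
        exact ⟨k, congrArg Subtype.val hk⟩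
      rcases norm_h Ex h1 with ⟨k, hk⟩ | ⟨k, hk⟩
      · left; exact ⟨k, Subtype.ext hk⟩
      · right; exact ⟨k, Subtype.ext hk⟩)
  have hcK : Nat.card (K.map (stabilizer X v0).subtype) = Nat.card K :=
    Nat.card_congr (K.equivMapOfInjective _ (stabilizer X v0).subtype_injective).symm.toEquiv
  have hnorm : ∀ x ∈ stabilizer X v0,
      x ∈ normalizer ((K.map (stabilizer X v0).subtype : Subgroup X) : Set X) := by
    intro x hx
    have hle : ∀ x ∈ stabilizer X v0, ∀ k : X, k ∈ (K.map (stabilizer X v0).subtype : Subgroup X) →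
        x * k * x⁻¹ ∈ (K.map (stabilizer X v0).subtype : Subgroup X) := by
      rintro x hx _ ⟨k, hk, rfl⟩
      exact ⟨⟨x, hx⟩ * k * ⟨x, hx⟩⁻¹, hKn.conj_mem k hk _, rfl⟩
    rw [mem_normalizer_iff]
    intro k
    refine ⟨hle x hx k, fun hk => ?_⟩
    have := hle x⁻¹ ((stabilizer X v0).inv_mem hx) _ hk
    have e : x⁻¹ * (x * k * x⁻¹) * x⁻¹⁻¹ = k := by group
    rwa [e] at this
  rcases hK with hK | ⟨hK, hyK⟩
  · exfalso
    exact Ex.h_ne (norm_trivial Ex hno (T := K.map (stabilizer X v0).subtype)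
      (by rw [hcK, hK]) Ex.hh.1 (hnorm h hhP))
  · refine ⟨K.map (stabilizer X v0).subtype, by rw [hcK, hK], ?_, hnorm h hhP, hnorm y hyP⟩
    rintro ⟨k, hk, hky⟩
    apply hyK
    have : k = ⟨y, hyP⟩ := Subtype.ext hky
    rwa [this] at hk

/-- the exceptional case: `|V| = 8`, `|X| = 168` -/
theorem exc_end (Ex : Exc C r h y)
    (hno : ¬ ∃ n : X, n • t = t * v0 ∧ ∀ v ∈ V, n • v = v) :
    Nat.card V = 8 ∧ Nat.card X = 168 := by
  classical
  haveI : Fact (Nat.Prime 2) := ⟨Nat.prime_two⟩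
  haveI := Fact.mk Ex.rp
  have hr3 : 3 ≤ r := by
    have h1 := Ex.rp.two_le
    have h2 := Ex.r2
    omega
  suffices hr : r = 3 by
    subst hr
    refine ⟨by rw [Ex.card]; norm_num, by rw [Ex.card_X]; norm_num⟩
  obtain ⟨K, hK, hyK, hhN, hyN⟩ := exists_K' Ex hno
  -- `T0 = K⟨y⟩`
  have hpair : ∀ e e' : X, e ∈ K → e' ∈ K → e * e = 1 → e' * e' = 1 → e ≠ 1 → e' ≠ 1 →
      (∀ k ∈ K, k * e = e * k) → (∀ k ∈ K, k * e' = e' * k) → y * e = e * y →
      y * e' = e' * y → e = e' := by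
    intro e e' heK heK' he2 he2' he1 he1' hec hec' hye hye'
    have hT1 : K ⊔ zpowers y ≤ centralizer {e} := by
      rw [sup_le_iff, zpowers_le]
      exact ⟨fun k hk => mem_centralizer_singleton_iff.2 (hec k hk),
        mem_centralizer_singleton_iff.2 hye⟩
    have hT1' : K ⊔ zpowers y ≤ centralizer {e'} := by
      rw [sup_le_iff, zpowers_le]
      exact ⟨fun k hk => mem_centralizer_singleton_iff.2 (hec' k hk),
        mem_centralizer_singleton_iff.2 hye'⟩
    have hcT : Nat.card (K ⊔ zpowers y : Subgroup X) = 2 ^ r := by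
      have h1 : Nat.card (K ⊔ zpowers y : Subgroup X) ∣ 2 ^ r := by
        rw [← card_cent Ex he2 he1]; exact card_dvd_of_le hT1
      obtain ⟨i, hi, hi'⟩ := (Nat.dvd_prime_pow Nat.prime_two).1 h1
      have h2 : Nat.card K < Nat.card (K ⊔ zpowers y : Subgroup X) := by
        by_contra hcon
        push Not at hcon
        have h3 : K = K ⊔ zpowers y := eq_of_le_of_card_ge le_sup_left hcon
        apply hyK
        rw [h3]
        exact (le_sup_right : zpowers y ≤ K ⊔ zpowers y) (mem_zpowers y)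
      rw [hK, hi'] at h2
      have h3 := (Nat.pow_lt_pow_iff_right (by norm_num)).1 h2
      have h4 : i = r := by omega
      rw [hi', h4]
    refine central_unique Ex hno hcT he2 he1 ?_ he2' he1' ?_
    · intro x hx; exact mem_centralizer_singleton_iff.1 (hT1 hx)
    · intro x hx; exact mem_centralizer_singleton_iff.1 (hT1' hx)
  -- `E0 = Ω₁(Z(K))`
  let E0 : Subgroup X :=
    { carrier := {e | e ∈ K ∧ e * e = 1 ∧ ∀ k ∈ K, k * e = e * k}
      mul_mem' := by
        rintro a b ⟨ha, ha', ha''⟩ ⟨hb, hb', hb''⟩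
        refine ⟨K.mul_mem ha hb, ?_, ?_⟩
        · have e1 : a * b * (a * b) = a * (b * a) * b := by group
          rw [e1, hb'' a ha |>.symm]
          have e2 : a * (a * b) * b = (a * a) * (b * b) := by group
          rw [e2, ha', hb', one_mul]
        · intro k hk
          rw [← mul_assoc, ha'' k hk, mul_assoc, hb'' k hk, mul_assoc]
      one_mem' := ⟨K.one_mem, by simp, by simp⟩
      inv_mem' := by
        rintro a ⟨ha, ha', ha''⟩
        have : a⁻¹ = a := inv_eq_of_mul_eq_one_left ha'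
        rw [this]
        exact ⟨ha, ha', ha''⟩ }
  have hE0n : ∀ x : X, x ∈ normalizer (K : Set X) → ∀ e ∈ E0, x * e * x⁻¹ ∈ E0 := by
    rintro x hx e ⟨he, he', he''⟩
    refine ⟨(mem_normalizer_iff.1 hx e).1 he, ?_, ?_⟩
    · have : x * e * x⁻¹ * (x * e * x⁻¹) = x * (e * e) * x⁻¹ := by group
      rw [this, he']; simp
    · intro k hk
      have h1 : x⁻¹ * k * x ∈ K := by
        have := (mem_normalizer_iff.1 ((normalizer (K : Set X)).inv_mem hx) k).1 hk
        simpa using this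
      have h2 := he'' _ h1
      have e1 : k * (x * e * x⁻¹) = x * ((x⁻¹ * k * x) * e) * x⁻¹ := by group
      have e2 : x * e * x⁻¹ * k = x * (e * (x⁻¹ * k * x)) * x⁻¹ := by group
      rw [e1, e2, h2]
  have hmod : Nat.card E0 ≡ 1 [MOD r] := by
    refine card_modEq_one Ex.ho E0 ?_ ?_
    · rw [mem_normalizer_iff]
      intro e
      refine ⟨hE0n h hhN e, fun he => ?_⟩
      have := hE0n h⁻¹ ((normalizer (K : Set X)).inv_mem hhN) _ he
      have e' : h⁻¹ * (h * e * h⁻¹) * h⁻¹⁻¹ = e := by group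
      rwa [e'] at this
    · rintro s ⟨hs, hs', _⟩ hhs
      exact Ex.eq_one_of_inv (Ex.isH_of_comm hhs.symm) hs'
  -- `|E0| > 1`
  have hgt : 1 < Nat.card E0 := by
    haveI : Nontrivial K := by
      rw [← Finite.one_lt_card_iff_nontrivial, hK]
      exact Nat.one_lt_two_pow (by omega)
    have hKp : IsPGroup 2 K := IsPGroup.of_card hK
    haveI := hKp.center_nontrivial
    have hcen : 2 ∣ Nat.card (center K) := by
      obtain ⟨k, hk⟩ := (hKp.to_subgroup (center K)).exists_card_eq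
      have h1 : 1 < Nat.card (center K) := Finite.one_lt_card
      rw [hk] at h1 ⊢
      refine dvd_pow_self _ ?_
      rintro rfl
      simp at h1
    obtain ⟨z, hz⟩ := exists_prime_orderOf_dvd_card' 2 hcen
    have hzo : orderOf (((z : K) : X)) = 2 :=
      (Subgroup.orderOf_coe (z : K)).trans ((Subgroup.orderOf_coe z).trans hz)
    have hz2 : ((z : K) : X) * ((z : K) : X) = 1 := by
      have := pow_orderOf_eq_one ((z : K) : X)
      rwa [hzo, pow_two] at this
    have hz1 : ((z : K) : X) ≠ 1 := by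
      intro e; rw [e, orderOf_one] at hzo; norm_num at hzo
    have hzE : ((z : K) : X) ∈ E0 := by
      refine ⟨(z : K).2, hz2, fun k hk => ?_⟩
      have := mem_center_iff.1 z.2 ⟨k, hk⟩
      exact congrArg Subtype.val this
    rw [Finite.one_lt_card_iff_nontrivial]
    exact ⟨⟨⟨_, hzE⟩, 1, fun e => hz1 (congrArg Subtype.val e)⟩⟩
  -- `|E0| ≤ 4`
  let Cy : Subgroup X := E0 ⊓ centralizer {y}
  have hCy : Nat.card Cy ≤ 2 := by
    have hinj : Function.Injective (fun e : Cy => decide ((e : X) = 1)) := by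
      rintro ⟨e, he⟩ ⟨e', he'⟩ hee
      simp only [decide_eq_decide] at hee
      refine Subtype.ext ?_
      by_cases h1 : e = 1
      · exact h1.trans (hee.1 h1).symm
      · have h2 : e' ≠ 1 := fun h => h1 (hee.2 h)
        exact hpair e e' he.1.1 he'.1.1 he.1.2.1 he'.1.2.1 h1 h2 he.1.2.2 he'.1.2.2
          (mem_centralizer_singleton_iff.1 he.2).symm (mem_centralizer_singleton_iff.1 he'.2).symm
    have := Nat.card_le_card_of_injective _ hinj
    have hB : Nat.card Bool = 2 := by simp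
    rwa [hB] at this
  have hcomm : ∀ a ∈ E0, ∀ b ∈ E0, a * b = b * a := fun a ha b hb => hb.2.2 a ha.1
  let f : E0 →* X :=
    { toFun := fun e => (e : X) * (y * e * y⁻¹)
      map_one' := by simp
      map_mul' := by
        rintro ⟨a, ha⟩ ⟨b, hb⟩
        have h1 := hcomm b hb _ (hE0n y hyN a ha)
        simp only [MulMemClass.mk_mul_mk]
        have e1 : a * b * (y * (a * b) * y⁻¹) = a * (b * (y * a * y⁻¹)) * (y * b * y⁻¹) := by
          group
        have e2 : a * (y * a * y⁻¹) * (b * (y * b * y⁻¹)) =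
          a * ((y * a * y⁻¹) * b) * (y * b * y⁻¹) := by group
        rw [e1, e2, h1] }
  have hyy : ∀ x : X, y * (y * x * y⁻¹) * y⁻¹ = x := by
    intro x
    have e1 : y * (y * x * y⁻¹) * y⁻¹ = (y * y) * x * (y * y)⁻¹ := by group
    rw [e1, Ex.y2]; simp
  have hrange : f.range ≤ Cy := by
    rintro _ ⟨⟨e, he⟩, rfl⟩
    have h1 := hE0n y hyN e he
    refine ⟨E0.mul_mem he h1, mem_centralizer_singleton_iff.2 ?_⟩
    have h2 : y * (e * (y * e * y⁻¹)) * y⁻¹ = e * (y * e * y⁻¹) := by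
      have e1 : y * (e * (y * e * y⁻¹)) * y⁻¹ = (y * e * y⁻¹) * (y * (y * e * y⁻¹) * y⁻¹) := by
        group
      rw [e1, hyy]
      exact (hcomm _ h1 _ he)
    change e * (y * e * y⁻¹) * y = y * (e * (y * e * y⁻¹))
    rw [mul_inv_eq_iff_eq_mul] at h2
    exact h2.symm
  have hker : Nat.card f.ker ≤ Nat.card Cy := by
    refine Nat.card_le_card_of_injective (fun e : f.ker => (⟨((e : E0) : X), ?_⟩ : Cy)) ?_
    · refine ⟨(e : E0).2, mem_centralizer_singleton_iff.2 ?_⟩
      have h1 : ((e : E0) : X) * (y * (e : E0) * y⁻¹) = 1 := e.2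
      have h2 : ((e : E0) : X) * ((e : E0) : X) = 1 := (e : E0).2.2.1
      have h3 : y * ((e : E0) : X) * y⁻¹ = ((e : E0) : X) := mul_left_cancel (h1.trans h2.symm)
      rw [mul_inv_eq_iff_eq_mul] at h3
      exact h3.symm
    · intro a b hab
      exact Subtype.ext (Subtype.ext (congrArg (fun z : Cy => (z : X)) hab))
  have hle4 : Nat.card E0 ≤ 4 := by
    rw [← card_mul_index f.ker, index_ker]
    calc Nat.card f.ker * Nat.card f.range ≤ 2 * 2 :=
          Nat.mul_le_mul (hker.trans hCy) ((card_le_of_le hrange).trans hCy)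
      _ = 4 := rfl
  have hdvd : r ∣ Nat.card E0 - 1 := (Nat.modEq_iff_dvd' (by omega)).1 hmod.symm
  have h5 : Nat.card E0 - 1 ≤ 3 := by omega
  have h6 : r ≤ Nat.card E0 - 1 := Nat.le_of_dvd (by omega) hdvd
  omega

/-- **Lemma X**, faithful form, for the vector `v0`. -/
theorem main0 (C : Cfg V t v0 D h0) (a : ℕ) (hq : Nat.card V = 2 ^ a) (ha : 2 ≤ a) :
    (∃ n : X, n • t = t * v0 ∧ ∀ v ∈ V, n • v = v) ∨ (Nat.card V = 8 ∧ Nat.card X = 168) := by
  by_cases hno : ∃ n : X, n • t = t * v0 ∧ ∀ v ∈ V, n • v = v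
  · exact Or.inl hno
  right
  by_cases hN : ∀ h : X, C.IsH h → (orderOf h).Prime → orderOf h ≠ 2 →
      ∀ n ∈ normalizer (zpowers h : Set X), n * h * n⁻¹ = h
  · exact absurd (C.partB a hq ha hN) hno
  · push Not at hN
    obtain ⟨h, hh, hp, hp2, n, hn, hne⟩ := hN
    obtain ⟨y, Ex⟩ := exists_exc C hh hp hp2 hn hne
    exact exc_end Ex hno

/-- **Lemma X**, faithful form. -/
theorem main (C : Cfg V t v0 D h0) (a : ℕ) (hq : Nat.card V = 2 ^ a) (ha : 2 ≤ a) :
    (∀ w ∈ V, ∃ n : X, n • t = t * w ∧ ∀ v ∈ V, n • v = v) ∨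
      (Nat.card V = 8 ∧ Nat.card X = 168) := by
  rcases main0 C a hq ha with ⟨n, hnt, hnV⟩ | h
  · left
    intro w hw
    by_cases hw1 : w = 1
    · exact ⟨1, by simp [hw1], fun v _ => one_smul _ v⟩
    obtain ⟨d, hd, hdw⟩ := C.Dtrans w hw hw1
    have hdt : d⁻¹ • t = t := by rw [inv_smul_eq_iff, C.Dt d hd]
    refine ⟨d * n * d⁻¹, ?_, ?_⟩
    · rw [mul_smul, mul_smul, hdt, hnt, smul_mul', C.Dt d hd, hdw]
    · intro v hv
      rw [mul_smul, mul_smul, hnV _ (C.inv _ _ hv), smul_inv_smul]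
  · exact Or.inr h

end

end Cfsg.Agent.StdL2.LemmaXE
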