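import Cfsg.Agent.StdL2.LemmaXE

/-!
# Lemma X of S1773, coordinate free form

An abelian group regular on the non-trivial elements of an elementary abelian 2-group `V` makes
`V` a field; automorphisms of `V` normalising it and fixing a vector are field automorphisms.
-/

set_option autoImplicit false
set_option linter.unusedSectionVars false
set_option linter.style.haveILetI false

open MulAction Subgroup

namespace Cfsg.Agent.StdL2.LemmaXF

open Cfsg.Agent.StdL2.LemmaX Cfsg.Agent.StdL2.LemmaX.Cfg

theorem card_fix {K F : Type*} [Field K] [Field F] [Finite F] [Algebra K F]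
    [FiniteDimensional K F] (σ : F ≃ₐ[K] F) :
    (Nat.card {x : F // σ x = x}) ^ orderOf σ = Nat.card F := by
  have h1 := IntermediateField.finrank_fixedField_eq_card (F := K) (E := F) (zpowers σ)
  rw [Nat.card_zpowers] at h1
  have h2 := Module.natCard_eq_pow_finrank
    (K := IntermediateField.fixedField (F := K) (E := F) (zpowers σ)) (V := F)
  rw [h1] at h2
  rw [h2]
  congr 1
  refine Nat.card_congr (Equiv.subtypeEquivRight ?_)
  intro x
  rw [← SetLike.mem_coe, SetLike.mem_coe, IntermediateField.mem_fixedField_iff]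
  constructor
  · intro hx g hg
    obtain ⟨k, hk⟩ := hg
    have h3 : σ ∈ stabilizer (F ≃ₐ[K] F) x := hx
    have h4 := (stabilizer (F ≃ₐ[K] F) x).zpow_mem h3 k
    rw [← hk]
    exact h4
  · intro hx
    exact hx σ (mem_zpowers σ)

universe u v

/-- the field -/
theorem exists_field {D : Type u} {V : Type v} [CommGroup D] [CommGroup V]
    [MulDistribMulAction D V] (v0 : V) (h0 : v0 ≠ 1) (free : ∀ d : D, d • v0 = v0 → d = 1)
    (trans : ∀ v : V, v ≠ 1 → ∃ d : D, d • v0 = v) :
    ∃ (F : Type u) (_ : Field F) (e : F ≃ V), (∀ x y, e (x + y) = e x * e y) ∧ e 1 = v0 ∧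
      ∀ x : F, x ≠ 0 → ∃ d : D, ∀ y, e (x * y) = d • e y := by
  classical
  let f : WithZero D → V := fun x => x.elim 1 (fun d => d • v0)
  have hf0 : f 0 = 1 := rfl
  have hfd : ∀ d : D, f (d : WithZero D) = d • v0 := fun d => rfl
  have hne : ∀ d : D, d • v0 ≠ 1 := by
    intro d e
    apply h0
    have := congrArg (fun z => d⁻¹ • z) e
    simpa using this
  have hbij : Function.Bijective f := by
    constructor
    · intro x y hxy
      induction x using WithZero.recZeroCoe with
      | zero =>
        induction y using WithZero.recZeroCoe with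
        | zero => rfl
        | coe y => rw [hf0, hfd] at hxy; exact absurd hxy.symm (hne y)
      | coe x =>
        induction y using WithZero.recZeroCoe with
        | zero => rw [hf0, hfd] at hxy; exact absurd hxy (hne x)
        | coe y =>
          rw [hfd, hfd] at hxy
          have : (y⁻¹ * x) • v0 = v0 := by rw [mul_smul, hxy, inv_smul_smul]
          have := free _ this
          rw [inv_mul_eq_one] at this
          rw [this]
    · intro v
      by_cases hv : v = 1
      · exact ⟨0, hv.symm⟩
      · obtain ⟨d, hd⟩ := trans v hv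
        exact ⟨d, hd⟩
  let e : WithZero D ≃ V := Equiv.ofBijective f hbij
  have he : ∀ x, e x = f x := fun x => rfl
  have hmul : ∀ (d : D) (y : WithZero D), e (d * y) = d • e y := by
    intro d y
    induction y using WithZero.recZeroCoe with
    | zero => rw [mul_zero, he, hf0, smul_one]
    | coe y =>
      rw [← WithZero.coe_mul, he, he, hfd, hfd, mul_smul]
  have hdist : ∀ a b c : WithZero D,
      a * e.symm (e b * e c) = e.symm (e (a * b) * e (a * c)) := by
    intro a b c
    induction a using WithZero.recZeroCoe with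
    | zero =>
      rw [zero_mul, zero_mul, zero_mul]
      apply e.injective
      rw [Equiv.apply_symm_apply, he, hf0, one_mul]
    | coe a =>
      apply e.injective
      rw [hmul, Equiv.apply_symm_apply, Equiv.apply_symm_apply, hmul, hmul, smul_mul']
  letI iadd : Add (WithZero D) := ⟨fun x y => e.symm (e x * e y)⟩
  letI ineg : Neg (WithZero D) := ⟨fun x => e.symm (e x)⁻¹⟩
  letI igrp : AddCommGroup (WithZero D) :=
    { add_assoc := by
        intro a b c
        change e.symm (e (e.symm (e a * e b)) * e c) = e.symm (e a * e (e.symm (e b * e c)))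
        rw [Equiv.apply_symm_apply, Equiv.apply_symm_apply, mul_assoc]
      zero_add := by
        intro a
        change e.symm (e 0 * e a) = a
        rw [he 0, hf0, one_mul, Equiv.symm_apply_apply]
      add_zero := by
        intro a
        change e.symm (e a * e 0) = a
        rw [he 0, hf0, mul_one, Equiv.symm_apply_apply]
      neg_add_cancel := by
        intro a
        change e.symm (e (e.symm (e a)⁻¹) * e a) = 0
        rw [Equiv.apply_symm_apply, inv_mul_cancel, ← hf0, ← he 0, Equiv.symm_apply_apply]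
      add_comm := by
        intro a b
        change e.symm (e a * e b) = e.symm (e b * e a)
        rw [mul_comm]
      nsmul := nsmulRec
      zsmul := zsmulRec }
  letI : Field (WithZero D) :=
    { igrp, (inferInstance : CommGroupWithZero (WithZero D)) with
      left_distrib := by
        intro a b c
        exact hdist a b c
      right_distrib := by
        intro a b c
        change e.symm (e a * e b) * c = e.symm (e (a * c) * e (b * c))
        rw [mul_comm _ c, hdist, mul_comm c, mul_comm c]
      nnqsmul := _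
      nnqsmul_def := fun _ _ => rfl
      qsmul := _
      qsmul_def := fun _ _ => rfl }
  refine ⟨WithZero D, inferInstance, e, ?_, ?_, ?_⟩
  · intro x y
    change e (e.symm (e x * e y)) = e x * e y
    rw [Equiv.apply_symm_apply]
  · change (1 : D) • v0 = v0
    rw [one_smul]
  · intro x hx
    induction x using WithZero.recZeroCoe with
    | zero => exact absurd rfl hx
    | coe d => exact ⟨d, hmul d⟩

/-- Coordinate free hypotheses of Lemma X. -/
structure Pre {X E : Type*} [Group X] [CommGroup E] [MulDistribMulAction X E]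
    (V : Subgroup E) (t v0 : E) (D : Subgroup X) : Prop where
  faithful : ∀ x : X, (∀ e : E, x • e = e) → x = 1
  sq : ∀ e : E, e * e = 1
  tV : t ∉ V
  idx : ∀ e : E, e ∉ V → t * e ∈ V
  inv : ∀ (x : X), ∀ v ∈ V, x • v ∈ V
  trans : ∀ e : E, e ∉ V → ∃ x : X, x • t = e
  Dt : ∀ d ∈ D, d • t = t
  Dn : ∀ x : X, x • t = t → ∀ d ∈ D, x * d * x⁻¹ ∈ D
  Dcomm : ∀ d ∈ D, ∀ e ∈ D, d * e = e * d
  v0V : v0 ∈ V
  v01 : v0 ≠ 1
  Dtrans : ∀ v ∈ V, v ≠ 1 → ∃ d ∈ D, d • v0 = v

variable {X : Type u} {E : Type v} [Group X] [Finite X] [CommGroup E] [Finite E]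
  [MulDistribMulAction X E] {V : Subgroup E} {t v0 : E} {D : Subgroup X}

theorem Pre.eq_of_V (P : Pre V t v0 D) {x : X} (hxt : x • t = t) (hx : ∀ v ∈ V, x • v = v) :
    x = 1 := by
  apply P.faithful
  intro u
  by_cases hu : u ∈ V
  · exact hx u hu
  · have h1 := hx _ (P.idx u hu)
    rw [smul_mul', hxt] at h1
    exact mul_left_cancel h1

theorem Pre.Dfree (P : Pre V t v0 D) : ∀ d ∈ D, ∀ v ∈ V, v ≠ 1 → d • v = v → d = 1 := by
  intro d hd v hv hv1 hdv
  apply P.eq_of_V (P.Dt d hd)
  intro w hw
  by_cases hw1 : w = 1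
  · rw [hw1, smul_one]
  obtain ⟨d1, hd1, e1⟩ := P.Dtrans v hv hv1
  obtain ⟨d2, hd2, e2⟩ := P.Dtrans w hw hw1
  have h1 : (d2 * d1⁻¹) • v = w := by rw [mul_smul, ← e1, inv_smul_smul, e2]
  have h2 : d * (d2 * d1⁻¹) = (d2 * d1⁻¹) * d :=
    P.Dcomm d hd _ (D.mul_mem hd2 (D.inv_mem hd1))
  rw [← h1, ← mul_smul, h2, mul_smul, hdv]

theorem Pre.exists_cfg (P : Pre V t v0 D) : ∃ h0, Cfg V t v0 D h0 := by
  classical
  letI : CommGroup D := { (inferInstance : Group D) with
    mul_comm := fun a b => Subtype.ext (P.Dcomm a a.2 b b.2) }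
  letI : MulDistribMulAction D V :=
    { smul := fun d v => ⟨(d : X) • (v : E), P.inv d v v.2⟩
      one_smul := fun v => Subtype.ext (one_smul X (v : E))
      mul_smul := fun a b v => Subtype.ext (mul_smul (a : X) (b : X) (v : E))
      smul_mul := fun a v w => Subtype.ext (smul_mul' (a : X) (v : E) (w : E))
      smul_one := fun a => Subtype.ext (smul_one (a : X)) }
  obtain ⟨F, iF, e, he, he1, hem⟩ := exists_field (D := D) (V := V) ⟨v0, P.v0V⟩
    (fun h => P.v01 (congrArg Subtype.val h))
    (fun d hd => Subtype.ext (P.Dfree d d.2 v0 P.v0V P.v01 (congrArg Subtype.val hd)))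
    (fun v hv => by
      obtain ⟨d, hd, hdv⟩ := P.Dtrans v v.2 (fun h => hv (Subtype.ext h))
      exact ⟨⟨d, hd⟩, Subtype.ext hdv⟩)
  have hem' : ∀ x : F, x ≠ 0 → ∃ d ∈ D, ∀ y, ((e (x * y) : V) : E) = d • ((e y : V) : E) := by
    intro x hx
    obtain ⟨d, hd⟩ := hem x hx
    exact ⟨d, d.2, fun y => congrArg Subtype.val (hd y)⟩
  have he0 : e 0 = 1 := by
    have := he 0 0
    rw [add_zero] at this
    exact (left_eq_mul.1 this)
  have h2 : (2 : F) = 0 := by
    apply e.injective
    rw [← one_add_one_eq_two, he, he0]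
    exact Subtype.ext (P.sq _)
  haveI : CharP F 2 := CharTwo.of_one_ne_zero_of_two_eq_zero one_ne_zero h2
  haveI : Fact (Nat.Prime 2) := ⟨Nat.prime_two⟩
  letI : Algebra (ZMod 2) F := ZMod.algebra F 2
  haveI : Finite F := Finite.of_equiv V e.symm
  let H : Subgroup X := stabilizer X t ⊓ stabilizer X v0
  have hmulH : ∀ x ∈ H, ∀ a b : F, ∀ a' b' : F, ((e a' : V) : E) = x • ((e a : V) : E) →
      ((e b' : V) : E) = x • ((e b : V) : E) →
      ((e (a' * b') : V) : E) = x • ((e (a * b) : V) : E) := by
    intro x hx a b a' b' ha hb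
    by_cases ha0 : a = 0
    · have ha0' : a' = 0 := by
        apply e.injective
        apply Subtype.ext
        rw [ha, ha0, he0]
        simp
      rw [ha0, ha0', zero_mul, zero_mul, he0]
      simp
    · have ha0' : a' ≠ 0 := by
        intro h
        apply ha0
        apply e.injective
        rw [he0]
        apply Subtype.ext
        rw [h, he0] at ha
        have := congrArg (fun z => x⁻¹ • z) ha
        simpa using this.symm
      obtain ⟨d, hd, hdy⟩ := hem' a ha0
      obtain ⟨d', hd', hdy'⟩ := hem' a' ha0'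
      have h1 : ((e a : V) : E) = d • v0 := by
        have := hdy 1
        rw [mul_one, he1] at this
        exact this
      have h1' : ((e a' : V) : E) = d' • v0 := by
        have := hdy' 1
        rw [mul_one, he1] at this
        exact this
      have hxt : x • t = t := hx.1
      have hxv : x • v0 = v0 := hx.2
      have h3 : d' = x * d * x⁻¹ := by
        have hmem : x * d * x⁻¹ ∈ D := P.Dn x hxt d hd
        have h4 : ((x * d * x⁻¹)⁻¹ * d') • v0 = v0 := by
          have e1 : (x * d * x⁻¹)⁻¹ * d' = x * d⁻¹ * x⁻¹ * d' := by group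
          rw [e1, mul_smul, ← h1', ha, h1, mul_smul, mul_smul, inv_smul_smul, inv_smul_smul, hxv]
        have h5 := P.Dfree _ (D.mul_mem (D.inv_mem hmem) hd') v0 P.v0V P.v01 h4
        exact (inv_mul_eq_one.1 h5).symm
      rw [hdy', hdy, hb, h3, ← mul_smul, ← mul_smul]
      congr 1
      group
  let σ : X → F → F := fun x a => e.symm ⟨x • ((e a : V) : E), P.inv x _ (e a).2⟩
  have hσ : ∀ x a, ((e (σ x a) : V) : E) = x • ((e a : V) : E) := by
    intro x a
    simp only [σ, Equiv.apply_symm_apply]
  have hσu : ∀ x a b, ((e b : V) : E) = x • ((e a : V) : E) → b = σ x a := by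
    intro x a b hb
    apply e.injective
    apply Subtype.ext
    rw [hσ, hb]
  have hσmul : ∀ x y a, σ (x * y) a = σ x (σ y a) := by
    intro x y a
    symm
    apply hσu
    rw [hσ, hσ, mul_smul]
  have hσone : ∀ a, σ 1 a = a := by
    intro a
    symm
    apply hσu
    rw [one_smul]
  let τ : H → (F ≃+* F) := fun x =>
    { toFun := σ x
      invFun := σ (x : X)⁻¹
      left_inv := fun a => by rw [← hσmul, inv_mul_cancel, hσone]
      right_inv := fun a => by rw [← hσmul, mul_inv_cancel, hσone]
      map_mul' := fun a b => by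
        symm
        apply hσu
        exact hmulH x x.2 a b _ _ (hσ _ _) (hσ _ _)
      map_add' := fun a b => by
        symm
        apply hσu
        rw [he, he]
        change ((e (σ x a) : V) : E) * ((e (σ x b) : V) : E) = x • (((e a : V) : E) * ((e b : V) : E))
        rw [hσ, hσ, smul_mul']
        rfl }
  let ψ : H →* (F ≃ₐ[ZMod 2] F) :=
    { toFun := fun x => AlgEquiv.ofRingEquiv (f := τ x) (fun a => by
        have : (τ x : F →+* F).comp (algebraMap (ZMod 2) F) = algebraMap (ZMod 2) F :=
          Subsingleton.elim _ _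
        exact RingHom.congr_fun this a)
      map_one' := by
        ext a
        exact hσone a
      map_mul' := fun x y => by
        ext a
        exact hσmul x y a }
  have hψ : ∀ (x : H) (a : F), ψ x a = σ x a := fun x a => rfl
  have hinj : Function.Injective ψ := by
    rw [injective_iff_map_eq_one]
    intro x hx
    apply Subtype.ext
    apply P.eq_of_V x.2.1
    intro v hv
    have h1 : ψ x (e.symm ⟨v, hv⟩) = e.symm ⟨v, hv⟩ := by rw [hx]; rfl
    have h3 := hσ x (e.symm ⟨v, hv⟩)
    rw [← hψ, h1, Equiv.apply_symm_apply] at h3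
    exact h3.symm
  haveI : IsCyclic H := isCyclic_of_injective ψ hinj
  obtain ⟨h0, hh0⟩ := IsCyclic.exists_generator (α := H)
  refine ⟨h0, ⟨P.faithful, P.sq, P.tV, P.idx, P.inv, P.trans, P.Dt, P.Dn, P.Dcomm, P.v0V, P.v01,
    P.Dtrans, P.Dfree, h0.2.1, h0.2.2, ?_, ?_⟩⟩
  · intro h ht hv
    obtain ⟨k, hk⟩ := hh0 ⟨h, ht, hv⟩
    exact ⟨k, congrArg Subtype.val hk⟩
  · intro h ht hv
    have ho : orderOf h = orderOf (ψ ⟨h, ht, hv⟩) := by
      rw [orderOf_injective ψ hinj]
      exact (Subgroup.orderOf_mk h _).symm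
    rw [ho, Nat.card_congr e.symm, ← card_fix (ψ ⟨h, ht, hv⟩)]
    congr 1
    refine Nat.card_congr
      { toFun := fun v => ⟨e.symm ⟨v, v.2.1⟩, ?_⟩
        invFun := fun a => ⟨(e a : V), (e a).2, ?_⟩
        left_inv := ?_
        right_inv := ?_ }
    · rw [hψ]
      symm
      apply hσu
      rw [Equiv.apply_symm_apply]
      exact v.2.2.symm
    · have h3 := hσ h a
      have h4 : σ h a = a := a.2
      rw [h4] at h3
      exact h3.symm
    · intro v
      refine Subtype.ext ?_
      simp only [Equiv.apply_symm_apply]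
    · intro a
      refine Subtype.ext ?_
      simp only [Subtype.coe_eta, Equiv.symm_apply_apply]

/-- **Lemma X**, coordinate free and faithful. -/
theorem Pre.main (P : Pre V t v0 D) (hV4 : 4 ≤ Nat.card V) :
    (∀ w ∈ V, ∃ n : X, n • t = t * w ∧ ∀ v ∈ V, n • v = v) ∨
      (Nat.card V = 8 ∧ Nat.card X = 168) := by
  haveI : Fact (Nat.Prime 2) := ⟨Nat.prime_two⟩
  obtain ⟨h0, C⟩ := P.exists_cfg
  have hp : IsPGroup 2 V := by
    intro v
    refine ⟨1, Subtype.ext ?_⟩
    rw [pow_one, pow_two]
    exact P.sq v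
  obtain ⟨a, ha⟩ := IsPGroup.iff_card.1 hp
  refine LemmaXE.main C a ha ?_
  rw [ha] at hV4
  by_contra hcon
  push Not at hcon
  have : 2 ^ a ≤ 2 ^ 1 := Nat.pow_le_pow_right (by norm_num) (by omega)
  omega

end Cfsg.Agent.StdL2.LemmaXF
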