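import Cfsg.Agent.StdL2.LemmaXF

/-!
# Lemma X of S1773, for a group acting (not necessarily faithfully) and for conjugation

`LemmaXMain.act`  : `X` acts on `E`.
`LemmaXMain.conj` : `N ≤ N_G(E)` acts by conjugation on the elementary abelian subgroup `E`.
-/

set_option autoImplicit false
set_option linter.unusedSectionVars false
set_option linter.style.haveILetI false

open MulAction Subgroup

namespace Cfsg.Agent.StdL2.LemmaXMain

open Cfsg.Agent.StdL2.LemmaXF

universe u v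

/-- **Lemma X** for an action which need not be faithful. -/
theorem act {X : Type u} {E : Type v} [Group X] [Finite X] [CommGroup E] [Finite E]
    [MulDistribMulAction X E] (V : Subgroup E) (t v0 : E) (D : Subgroup X)
    (sq : ∀ e : E, e * e = 1) (tV : t ∉ V) (idx : ∀ e : E, e ∉ V → t * e ∈ V)
    (inv : ∀ (x : X), ∀ v ∈ V, x • v ∈ V)
    (trans : ∀ e : E, e ∉ V → ∃ x : X, x • t = e)
    (Dt : ∀ d ∈ D, d • t = t)
    (Dn : ∀ x : X, x • t = t → ∀ d ∈ D, ∃ d' ∈ D, ∀ v ∈ V, (x * d * x⁻¹) • v = d' • v)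
    (Dcomm : ∀ d ∈ D, ∀ e ∈ D, ∀ v ∈ V, d • e • v = e • d • v)
    (v0V : v0 ∈ V) (v01 : v0 ≠ 1)
    (Dtrans : ∀ v ∈ V, v ≠ 1 → ∃ d ∈ D, d • v0 = v) (hV4 : 4 ≤ Nat.card V) :
    (∀ w ∈ V, ∃ n : X, n • t = t * w ∧ ∀ v ∈ V, n • v = v) ∨
      (Nat.card V = 8 ∧ Nat.card (MulDistribMulAction.toMulAut X E).range = 168) := by
  classical
  haveI : Finite (MulAut E) := Finite.of_injective (fun f : MulAut E => (f : E → E))
    (fun f g h => MulEquiv.ext (congrFun h))
  set ρ := MulDistribMulAction.toMulAut X E with hρ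
  have hρs : ∀ (x : X) (e : E), ρ x • e = x • e := fun x e => rfl
  -- equality of elements of the range
  have hext : ∀ a b : ρ.range, (∀ e : E, a • e = b • e) → a = b := by
    intro a b h
    refine Subtype.ext (MulEquiv.ext fun e => h e)
  have hVext : ∀ x y : X, x • t = t → y • t = t → (∀ v ∈ V, x • v = y • v) →
      ∀ e : E, x • e = y • e := by
    intro x y hx hy hxy e
    by_cases he : e ∈ V
    · exact hxy e he
    · have h1 := hxy _ (idx e he)
      rw [smul_mul', smul_mul', hx, hy] at h1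
      exact mul_left_cancel h1
  have P : Pre (X := ρ.range) (E := E) V t v0 (D.map ρ.rangeRestrict) := by
    refine ⟨?_, sq, tV, idx, ?_, ?_, ?_, ?_, ?_, v0V, v01, ?_⟩
    · intro x hx
      exact hext x 1 (fun e => by rw [hx, one_smul])
    · rintro ⟨_, x, rfl⟩ v hv
      exact inv x v hv
    · intro e he
      obtain ⟨x, hx⟩ := trans e he
      exact ⟨⟨ρ x, x, rfl⟩, hx⟩
    · rintro _ ⟨d, hd, rfl⟩
      exact Dt d hd
    · rintro ⟨_, x, rfl⟩ hx _ ⟨d, hd, rfl⟩
      have hx' : x • t = t := hx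
      obtain ⟨d', hd', hdd⟩ := Dn x hx' d hd
      refine ⟨d', hd', ?_⟩
      have e0 : (⟨ρ x, x, rfl⟩ : ρ.range) * ρ.rangeRestrict d * (⟨ρ x, x, rfl⟩ : ρ.range)⁻¹ =
          ρ.rangeRestrict (x * d * x⁻¹) := by rw [map_mul, map_mul, map_inv]; rfl
      rw [e0]
      apply hext
      intro e
      change d' • e = (x * d * x⁻¹) • e
      symm
      refine hVext _ _ ?_ (Dt d' hd') hdd e
      rw [mul_smul, mul_smul, inv_smul_eq_iff.2 hx'.symm, Dt d hd, hx']
    · rintro _ ⟨d, hd, rfl⟩ _ ⟨e, he, rfl⟩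
      rw [← map_mul, ← map_mul]
      apply hext
      intro z
      change (d * e) • z = (e * d) • z
      refine hVext _ _ ?_ ?_ ?_ z
      · rw [mul_smul, Dt e he, Dt d hd]
      · rw [mul_smul, Dt d hd, Dt e he]
      · intro v hv
        rw [mul_smul, mul_smul]
        exact Dcomm d hd e he v hv
    · intro v hv hv1
      obtain ⟨d, hd, hdv⟩ := Dtrans v hv hv1
      exact ⟨ρ.rangeRestrict d, ⟨d, hd, rfl⟩, hdv⟩
  rcases P.main hV4 with h | h
  · left
    intro w hw
    obtain ⟨⟨_, n, rfl⟩, hn, hnV⟩ := h w hw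
    exact ⟨n, hn, hnV⟩
  · exact Or.inr h

/-- **Lemma X** for conjugation: `N` normalises the elementary abelian 2-subgroup `E`, leaves the
hyperplane `V` invariant and is transitive on `E ∖ V`; a subgroup `D` of `C_N(t)` acts on `V` as
an abelian group, is (modulo its action on `V`) normal in `C_N(t)` and transitive on
`V ∖ {1}`.  Then `N` contains all transvections `t ↦ t w`, or `|V| = 8`, `|N : C_N(E)| = 168`. -/
theorem conj {G : Type u} [Group G] [Finite G] (E V N D : Subgroup G) (t v0 : G)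
    (hVE : V ≤ E) (htE : t ∈ E) (htV : t ∉ V) (hidx : ∀ e ∈ E, e ∉ V → t * e ∈ V)
    (hsq : ∀ e ∈ E, e * e = 1)
    (hNE : N ≤ normalizer (E : Set G)) (hNV : ∀ n ∈ N, ∀ v ∈ V, n * v * n⁻¹ ∈ V)
    (htrans : ∀ e ∈ E, e ∉ V → ∃ n ∈ N, n * t * n⁻¹ = e)
    (hDN : D ≤ N) (hDt : ∀ d ∈ D, d * t = t * d)
    (hDn : ∀ n ∈ N, n * t = t * n → ∀ d ∈ D, ∃ d' ∈ D, ∀ v ∈ V,
      (n * d * n⁻¹) * v * (n * d * n⁻¹)⁻¹ = d' * v * d'⁻¹)
    (hDc : ∀ d ∈ D, ∀ e ∈ D, ∀ v ∈ V, d * e * v * (d * e)⁻¹ = e * d * v * (e * d)⁻¹)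
    (hv0 : v0 ∈ V) (hv01 : v0 ≠ 1)
    (hDtr : ∀ v ∈ V, v ≠ 1 → ∃ d ∈ D, d * v0 * d⁻¹ = v)
    (hV4 : 4 ≤ Nat.card V) :
    (∀ w ∈ V, ∃ n ∈ N, n * t * n⁻¹ = t * w ∧ ∀ v ∈ V, n * v * n⁻¹ = v) ∨
      (Nat.card V = 8 ∧ Nat.card N = 168 * Nat.card (N ⊓ centralizer (E : Set G) : Subgroup G)) := by
  classical
  have hcomm : ∀ a ∈ E, ∀ b ∈ E, a * b = b * a := by
    intro a ha b hb
    have h1 := hsq _ (E.mul_mem ha hb)
    have h2 : b⁻¹ = b := inv_eq_of_mul_eq_one_left (hsq b hb)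
    have h3 : a⁻¹ = a := inv_eq_of_mul_eq_one_left (hsq a ha)
    have h4 : (a * b)⁻¹ = a * b := inv_eq_of_mul_eq_one_left h1
    rw [← h4, mul_inv_rev, h2, h3]
  letI : CommGroup E := { (inferInstance : Group E) with
    mul_comm := fun a b => Subtype.ext (hcomm a a.2 b b.2) }
  have hconj : ∀ n ∈ N, ∀ e ∈ E, n * e * n⁻¹ ∈ E := fun n hn e he =>
    (mem_normalizer_iff.1 (hNE hn) e).1 he
  letI : MulDistribMulAction N E :=
    { smul := fun n e => ⟨(n : G) * e * (n : G)⁻¹, hconj n n.2 e e.2⟩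
      one_smul := fun e => Subtype.ext (by
        change (1 : G) * e * (1 : G)⁻¹ = e
        simp)
      mul_smul := fun a b e => Subtype.ext (by
        change ((a : G) * b) * e * ((a : G) * b)⁻¹ = a * (b * e * (b : G)⁻¹) * (a : G)⁻¹
        group)
      smul_mul := fun a e f => Subtype.ext (by
        change (a : G) * (e * f) * (a : G)⁻¹ = (a * e * (a : G)⁻¹) * (a * f * (a : G)⁻¹)
        group)
      smul_one := fun a => Subtype.ext (by
        change (a : G) * (1 : G) * (a : G)⁻¹ = 1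
        simp) }
  have hs : ∀ (n : N) (e : E), ((n • e : E) : G) = (n : G) * e * (n : G)⁻¹ := fun n e => rfl
  have hcardV : Nat.card (V.subgroupOf E) = Nat.card V :=
    Nat.card_congr (subgroupOfEquivOfLe hVE).toEquiv
  have key := act (X := N) (E := E) (V.subgroupOf E) ⟨t, htE⟩ ⟨v0, hVE hv0⟩ (D.subgroupOf N)
    (fun e => Subtype.ext (hsq e e.2)) (fun h => htV (mem_subgroupOf.1 h))
    (fun e he => mem_subgroupOf.2 (hidx e e.2 (fun h => he (mem_subgroupOf.2 h))))
    (fun n v hv => mem_subgroupOf.2 (hNV n n.2 v (mem_subgroupOf.1 hv)))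
    (fun e he => by
      obtain ⟨n, hn, hne⟩ := htrans e e.2 (fun h => he (mem_subgroupOf.2 h))
      exact ⟨⟨n, hn⟩, Subtype.ext hne⟩)
    (fun d hd => Subtype.ext (by
      rw [hs]
      change (d : G) * t * (d : G)⁻¹ = t
      rw [hDt d (mem_subgroupOf.1 hd), mul_inv_cancel_right]))
    (fun n hn d hd => by
      have hnt : (n : G) * t = t * n := by
        have := congrArg Subtype.val hn
        change (n : G) * t * (n : G)⁻¹ = t at this
        rwa [mul_inv_eq_iff_eq_mul] at this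
      obtain ⟨d', hd', h⟩ := hDn n n.2 hnt d (mem_subgroupOf.1 hd)
      exact ⟨⟨d', hDN hd'⟩, mem_subgroupOf.2 hd', fun v hv =>
        Subtype.ext (h v (mem_subgroupOf.1 hv))⟩)
    (fun d hd e he v hv => Subtype.ext (by
      have := hDc d (mem_subgroupOf.1 hd) e (mem_subgroupOf.1 he) v (mem_subgroupOf.1 hv)
      change (d : G) * (e * v * (e : G)⁻¹) * (d : G)⁻¹ = e * (d * v * (d : G)⁻¹) * (e : G)⁻¹
      have e1 : (d : G) * (e * v * (e : G)⁻¹) * (d : G)⁻¹ = d * e * v * ((d : G) * e)⁻¹ := by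
        group
      have e2 : (e : G) * (d * v * (d : G)⁻¹) * (e : G)⁻¹ = e * d * v * ((e : G) * d)⁻¹ := by
        group
      rw [e1, e2, this]))
    (mem_subgroupOf.2 hv0) (fun h => hv01 (congrArg Subtype.val h))
    (fun v hv hv1 => by
      obtain ⟨d, hd, hdv⟩ := hDtr v (mem_subgroupOf.1 hv) (fun h => hv1 (Subtype.ext h))
      exact ⟨⟨d, hDN hd⟩, mem_subgroupOf.2 hd, Subtype.ext hdv⟩)
    (by rw [hcardV]; exact hV4)
  rcases key with h | ⟨h1, h2⟩
  · left
    intro w hw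
    obtain ⟨n, hn, hnV⟩ := h ⟨w, hVE hw⟩ (mem_subgroupOf.2 hw)
    refine ⟨n, n.2, congrArg Subtype.val hn, fun v hv => ?_⟩
    exact congrArg Subtype.val (hnV ⟨v, hVE hv⟩ (mem_subgroupOf.2 hv))
  · right
    refine ⟨by rw [← hcardV, h1], ?_⟩
    have hker : Nat.card (MulDistribMulAction.toMulAut N E).ker =
        Nat.card (N ⊓ centralizer (E : Set G) : Subgroup G) := by
      refine Nat.card_congr
        { toFun := fun n => ⟨(n : N), (n : N).2, ?_⟩
          invFun := fun n => ⟨⟨n, n.2.1⟩, ?_⟩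
          left_inv := fun n => rfl
          right_inv := fun n => rfl }
      · change ((n : N) : G) ∈ centralizer (E : Set G)
        rw [mem_centralizer_iff]
        intro e he
        have h3 : (n : N) • (⟨e, he⟩ : E) = ⟨e, he⟩ := DFunLike.congr_fun n.2 ⟨e, he⟩
        have h4 := congrArg Subtype.val h3
        change ((n : N) : G) * e * ((n : N) : G)⁻¹ = e at h4
        rw [mul_inv_eq_iff_eq_mul] at h4
        exact h4.symm
      · rw [MonoidHom.mem_ker]
        refine MulEquiv.ext fun e => Subtype.ext ?_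
        change (n : G) * e * (n : G)⁻¹ = e
        rw [mul_inv_eq_iff_eq_mul]
        exact (mem_centralizer_iff.1 n.2.2 e e.2).symm
    rw [← hker, ← h2, ← index_ker, mul_comm, card_mul_index]

end Cfsg.Agent.StdL2.LemmaXMain
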