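import Mathlib

/-!
# Biadditive maps of a field of characteristic two of weight one

`b : F → F → F` biadditive with `b (r x) (r y) = r (b x y)`: then `(b x y)² = x y (b 1 1)²` (Hua's
identity).  Group version: pairings between groups on which an element acts with the module `F` on a
quotient.
-/

set_option autoImplicit false

namespace Cfsg.Agent.StdL2

section field

variable {F : Type*} [Field F] [CharP F 2]

theorem hua_sq (b : F → F → F) (hl : ∀ x x' y, b (x + x') y = b x y + b x' y)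
    (hr : ∀ x y y', b x (y + y') = b x y + b x y')
    (hs : ∀ r x y, r ≠ 0 → b (r * x) (r * y) = r * b x y) (x : F) :
    b (x ^ 2) 1 = x * b 1 1 := by
  have hl0 : ∀ y, b 0 y = 0 := by
    intro y
    have := hl 0 0 y
    rw [add_zero] at this
    exact left_eq_add.mp this
  have hr0 : ∀ y, b y 0 = 0 := by
    intro y
    have := hr y 0 0
    rw [add_zero] at this
    exact left_eq_add.mp this
  -- `h x = b x 1`, `g x = b 1 x`, `h x = x g x⁻¹`
  have hgh : ∀ z, z ≠ 0 → b z 1 = z * b 1 z⁻¹ := by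
    intro z hz
    rw [← hs z 1 z⁻¹ hz, mul_one, mul_inv_cancel₀ hz]
  have hgh' : ∀ z, z ≠ 0 → b 1 z⁻¹ = z⁻¹ * b z 1 := by
    intro z hz
    rw [hgh z hz, inv_mul_cancel_left₀ hz]
  by_cases hx0 : x = 0
  · subst hx0
    rw [zero_pow two_ne_zero, hl0, zero_mul]
  by_cases hx1 : x = 1
  · subst hx1
    rw [one_pow, one_mul]
  have hx1' : x + 1 ≠ 0 := by
    intro h
    apply hx1
    have h2 : x = -1 := eq_neg_of_add_eq_zero_left h
    rw [h2]
    exact CharTwo.neg_eq 1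
  have hxx : x * (x + 1) ≠ 0 := mul_ne_zero hx0 hx1'
  have hinv : (x * (x + 1))⁻¹ = x⁻¹ + (x + 1)⁻¹ := by
    field_simp
    have : (2 : F) = 0 := CharTwo.two_eq_zero
    linear_combination (-x) * this
  have h1 := hgh' _ hxx
  rw [hinv, hr, hgh' x hx0, hgh' (x + 1) hx1', hl x 1 1, ← hinv] at h1
  have h2 : b (x * (x + 1)) 1 = b (x ^ 2) 1 + b x 1 := by
    rw [← hl]
    congr 1
    ring
  rw [h2] at h1
  have h3 : x * (x + 1) * (x⁻¹ * b x 1 + (x + 1)⁻¹ * (b x 1 + b 1 1)) =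
      x * (x + 1) * ((x * (x + 1))⁻¹ * (b (x ^ 2) 1 + b x 1)) := by rw [h1]
  rw [mul_inv_cancel_left₀ hxx] at h3
  have h4 : x * (x + 1) * (x⁻¹ * b x 1 + (x + 1)⁻¹ * (b x 1 + b 1 1)) =
      (x + 1) * b x 1 + x * (b x 1 + b 1 1) := by
    field_simp
  rw [h4] at h3
  have h2z : (2 : F) = 0 := CharTwo.two_eq_zero
  linear_combination (-1 : F) * h3 + (x * b x 1) * h2z

theorem hua (b : F → F → F) (hl : ∀ x x' y, b (x + x') y = b x y + b x' y)
    (hr : ∀ x y y', b x (y + y') = b x y + b x y')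
    (hs : ∀ r x y, r ≠ 0 → b (r * x) (r * y) = r * b x y)
    (hsurj : ∀ z : F, ∃ w, w ^ 2 = z) (x y : F) :
    (b x y) ^ 2 = x * y * (b 1 1) ^ 2 := by
  by_cases hy : y = 0
  · subst hy
    have h0 : b x 0 = 0 := by
      have := hr x 0 0
      rw [add_zero] at this
      exact left_eq_add.mp this
    rw [h0]
    ring
  obtain ⟨w, hw⟩ := hsurj (x / y)
  have h1 : b x y = y * b (x / y) 1 := by
    rw [← hs y (x / y) 1 hy, mul_one, mul_div_cancel₀ x hy]
  rw [h1, ← hw, hua_sq b hl hr hs w, mul_pow, mul_pow, hw]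
  field_simp

end field

section group

variable {G : Type*} [Group G] {F : Type*} [Field F]

/-- Coordinates: `V` is the additive group of the field `F` and `d` acts as the multiplication by
`lam`, a generator of the unit group. -/
structure Crd (V : Subgroup G) (d : G) (T : F → G) (lam : F) : Prop where
  add : ∀ a b, T (a + b) = T a * T b
  inj : ∀ a b, T a = T b → a = b
  mem : ∀ a, T a ∈ V
  surj : ∀ x ∈ V, ∃ a, T a = x
  conj : ∀ a, d * T a * d⁻¹ = T (lam * a)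
  gen : ∀ r : F, r ≠ 0 → ∃ n : ℕ, lam ^ n = r

/-- A group `A` with an additive function onto `F`, semilinear for the conjugation by `d`. -/
structure Mdl (d : G) (lam : F) (A : Subgroup G) (i : G → F) : Prop where
  mul : ∀ x ∈ A, ∀ y ∈ A, i (x * y) = i x + i y
  surj : ∀ r, ∃ x ∈ A, i x = r
  dmem : ∀ x ∈ A, d * x * d⁻¹ ∈ A
  dval : ∀ x ∈ A, i (d * x * d⁻¹) = lam * i x

variable {V : Subgroup G} {d : G} {T : F → G} {lam : F}

theorem Crd.zero (C : Crd V d T lam) : T 0 = 1 := by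
  have := C.add 0 0
  rw [add_zero] at this
  exact left_eq_mul.mp this

theorem Mdl.one {A : Subgroup G} {i : G → F} (M : Mdl d lam A i) : i 1 = 0 := by
  have := M.mul 1 (one_mem _) 1 (one_mem _)
  rw [mul_one] at this
  exact left_eq_add.mp this

theorem Mdl.inv {A : Subgroup G} {i : G → F} (M : Mdl d lam A i) {x : G} (hx : x ∈ A) :
    i x⁻¹ = - i x := by
  have := M.mul x hx x⁻¹ (inv_mem hx)
  rw [mul_inv_cancel, M.one] at this
  exact (neg_eq_of_add_eq_zero_right this.symm).symm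

/-- **Pairings.** -/
theorem pairing [CharP F 2] [Finite F] (C : Crd V d T lam) {A B : Subgroup G} {ia ib : G → F}
    (MA : Mdl d lam A ia) (MB : Mdl d lam B ib) (c : G → G → G)
    (cV : ∀ x ∈ A, ∀ y ∈ B, c x y ∈ V)
    (cl : ∀ x ∈ A, ∀ x' ∈ A, ∀ y ∈ B, c (x * x') y = c x y * c x' y)
    (cr : ∀ x ∈ A, ∀ y ∈ B, ∀ y' ∈ B, c x (y * y') = c x y * c x y')
    (cd : ∀ x ∈ A, ∀ y ∈ B, c (d * x * d⁻¹) (d * y * d⁻¹) = d * c x y * d⁻¹)
    (kl : ∀ x ∈ A, ∀ y ∈ B, ia x = 0 → c x y = 1)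
    (kr : ∀ x ∈ A, ∀ y ∈ B, ib y = 0 → c x y = 1) :
    ∃ c0 : F, ∀ x ∈ A, ∀ y ∈ B, ∀ z, T z = c x y → z ^ 2 = ia x * ib y * c0 ^ 2 := by
  classical
  choose sa hsa hia using MA.surj
  choose sb hsb hib using MB.surj
  -- values only depend on the classes
  have dl : ∀ x ∈ A, ∀ x' ∈ A, ∀ y ∈ B, ia x = ia x' → c x y = c x' y := by
    intro x hx x' hx' y hy h
    have h1 : ia (x * x'⁻¹) = 0 := by
      rw [MA.mul x hx _ (inv_mem hx'), MA.inv hx', h, add_neg_cancel]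
    have h2 : x = (x * x'⁻¹) * x' := by group
    rw [h2, cl _ (mul_mem hx (inv_mem hx')) _ hx' _ hy, kl _ (mul_mem hx (inv_mem hx')) _ hy h1,
      one_mul]
  have dr : ∀ x ∈ A, ∀ y ∈ B, ∀ y' ∈ B, ib y = ib y' → c x y = c x y' := by
    intro x hx y hy y' hy' h
    have h1 : ib (y * y'⁻¹) = 0 := by
      rw [MB.mul y hy _ (inv_mem hy'), MB.inv hy', h, add_neg_cancel]
    have h2 : y = (y * y'⁻¹) * y' := by group
    rw [h2, cr _ hx _ (mul_mem hy (inv_mem hy')) _ hy', kr _ hx _ (mul_mem hy (inv_mem hy')) h1,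
      one_mul]
  have hv : ∀ x y : F, ∃ z, T z = c (sa x) (sb y) := fun x y =>
    C.surj _ (cV _ (hsa x) _ (hsb y))
  choose b hb using hv
  have hbv : ∀ x ∈ A, ∀ y ∈ B, T (b (ia x) (ib y)) = c x y := by
    intro x hx y hy
    rw [hb, dl _ (hsa _) x hx _ (hsb _) (hia _), dr _ hx _ (hsb _) y hy (hib _)]
  have bl : ∀ x x' y, b (x + x') y = b x y + b x' y := by
    intro x x' y
    apply C.inj
    have h1 := hbv (sa x * sa x') (mul_mem (hsa x) (hsa x')) (sb y) (hsb y)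
    rw [MA.mul _ (hsa x) _ (hsa x'), hia, hia, hib] at h1
    rw [h1, C.add, hb, hb, cl _ (hsa x) _ (hsa x') _ (hsb y)]
  have br : ∀ x y y', b x (y + y') = b x y + b x y' := by
    intro x y y'
    apply C.inj
    have h1 := hbv (sa x) (hsa x) (sb y * sb y') (mul_mem (hsb y) (hsb y'))
    rw [MB.mul _ (hsb y) _ (hsb y'), hia, hib, hib] at h1
    rw [h1, C.add, hb, hb, cr _ (hsa x) _ (hsb y) _ (hsb y')]
  have b1 : ∀ x y, b (lam * x) (lam * y) = lam * b x y := by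
    intro x y
    apply C.inj
    have h1 := hbv (d * sa x * d⁻¹) (MA.dmem _ (hsa x)) (d * sb y * d⁻¹) (MB.dmem _ (hsb y))
    rw [MA.dval _ (hsa x), MB.dval _ (hsb y), hia, hib] at h1
    rw [h1, cd _ (hsa x) _ (hsb y), ← hb, C.conj]
  have bn : ∀ (n : ℕ) x y, b (lam ^ n * x) (lam ^ n * y) = lam ^ n * b x y := by
    intro n
    induction n with
    | zero => intro x y; simp
    | succ n ih =>
      intro x y
      rw [pow_succ', mul_assoc, mul_assoc, b1, ih, mul_assoc]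
  have bs : ∀ r x y, r ≠ 0 → b (r * x) (r * y) = r * b x y := by
    intro r x y hr
    obtain ⟨n, rfl⟩ := C.gen r hr
    exact bn n x y
  have hsq : ∀ z : F, ∃ w, w ^ 2 = z := by
    intro z
    have hinj : Function.Injective (fun w : F => w ^ 2) := by
      intro a a' h
      have h : a ^ 2 = a' ^ 2 := h
      have h1 : (a - a') ^ 2 = 0 := by
        rw [sub_sq, h]
        have h2z : (2 : F) = 0 := CharTwo.two_eq_zero
        linear_combination (a' ^ 2 - a * a') * h2z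
      exact sub_eq_zero.mp (pow_eq_zero_iff two_ne_zero |>.mp h1)
    obtain ⟨w, hw⟩ := Finite.surjective_of_injective hinj z
    exact ⟨w, hw⟩
  refine ⟨b 1 1, ?_⟩
  intro x hx y hy z hz
  have h1 : z = b (ia x) (ib y) := C.inj _ _ (by rw [hz, hbv x hx y hy])
  rw [h1]
  exact hua b bl br bs hsq _ _

/-- Alternating pairings vanish. -/
theorem pairing_alt [CharP F 2] [Finite F] (C : Crd V d T lam) {A : Subgroup G} {ia : G → F}
    (MA : Mdl d lam A ia) (c : G → G → G)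
    (cV : ∀ x ∈ A, ∀ y ∈ A, c x y ∈ V)
    (cl : ∀ x ∈ A, ∀ x' ∈ A, ∀ y ∈ A, c (x * x') y = c x y * c x' y)
    (cr : ∀ x ∈ A, ∀ y ∈ A, ∀ y' ∈ A, c x (y * y') = c x y * c x y')
    (cd : ∀ x ∈ A, ∀ y ∈ A, c (d * x * d⁻¹) (d * y * d⁻¹) = d * c x y * d⁻¹)
    (kl : ∀ x ∈ A, ∀ y ∈ A, ia x = 0 → c x y = 1)
    (kr : ∀ x ∈ A, ∀ y ∈ A, ia y = 0 → c x y = 1)
    (alt : ∀ x ∈ A, c x x = 1) : ∀ x ∈ A, ∀ y ∈ A, c x y = 1 := by
  obtain ⟨c0, hc0⟩ := pairing C MA MA c cV cl cr cd kl kr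
  obtain ⟨x1, hx1, h1⟩ := MA.surj 1
  have h2 := hc0 x1 hx1 x1 hx1 0 (by rw [C.zero, alt x1 hx1])
  rw [h1, one_mul, one_mul, zero_pow two_ne_zero] at h2
  intro x hx y hy
  obtain ⟨z, hz⟩ := C.surj _ (cV x hx y hy)
  have h3 := hc0 x hx y hy z hz
  rw [← h2, mul_zero] at h3
  rw [← hz, pow_eq_zero_iff two_ne_zero |>.mp h3, C.zero]

end group

end Cfsg.Agent.StdL2
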