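import Cfsg.Agent.StdL2.Field
import Cfsg.Agent.StdL2.FieldStart
import Cfsg.Agent.StdL2.TowerHua

/-!
# S1773: the root group `V`, the torus and the action of `N_G(A) ∩ N_G(V)` on `V`

`IsPar A π`, `F` finite of characteristic two; `VV π = π (upG F)`.
-/

set_option autoImplicit false
set_option linter.unusedSectionVars false
set_option linter.style.haveILetI false

namespace Cfsg.Agent.StdL2.Local

open Cfsg Subgroup Cfsg.Agent.StdL2.Setup Cfsg.Agent.StdL2.Frame Cfsg.Agent.StdL2.Field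
  Cfsg.Agent.Lib.SL2Mat Cfsg.Agent.Lib.AutSL2

universe u

variable {F : Type*} [Field F] {G : Type u} [Group G] {A L : Subgroup G} {t : G}

local notation "SL2" => Matrix.SpecialLinearGroup (Fin 2)

variable {π : SL2 F →* G}

/-- the root group -/
def VV (π : SL2 F →* G) : Subgroup G := (upG F).map π

theorem mem_VV {x : G} : x ∈ VV π ↔ ∃ b, π (up b) = x := by
  constructor
  · rintro ⟨_, ⟨b, rfl⟩, rfl⟩
    exact ⟨b, rfl⟩
  · rintro ⟨b, rfl⟩
    exact ⟨up b, up_mem b, rfl⟩

theorem up_mem_VV (b : F) : π (up b) ∈ VV π := mem_VV.2 ⟨b, rfl⟩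

theorem VV_le (P : IsPar A π) : VV π ≤ A := by
  intro x hx
  obtain ⟨b, rfl⟩ := mem_VV.1 hx
  exact P.mem _

theorem up_injective (P : IsPar A π) {b c : F} (h : π (up b) = π (up c)) : b = c :=
  up_inj (P.inj h)

theorem card_VV (P : IsPar A π) : Nat.card (VV π) = Nat.card F := by
  refine (Nat.card_congr (Equiv.ofBijective (fun b : F => (⟨π (up b), up_mem_VV b⟩ : VV π)) ⟨?_, ?_⟩)).symm
  · intro b c h
    exact up_injective P (congrArg Subtype.val h)
  · rintro ⟨x, hx⟩
    obtain ⟨b, rfl⟩ := mem_VV.1 hx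
    exact ⟨b, rfl⟩

section char2

variable [CharP F 2]

theorem add_self (b : F) : b + b = 0 := CharTwo.add_self_eq_zero b

theorem vsq : ∀ v ∈ VV π, v * v = 1 := by
  intro v hv
  obtain ⟨b, rfl⟩ := mem_VV.1 hv
  rw [← map_mul, up_mul, add_self, up_zero, map_one]

theorem exists_sq [Finite F] (c : F) : ∃ b : F, b ^ 2 = c := by
  obtain ⟨b, hb⟩ := FiniteField.isSquare_of_char_two (ringChar.eq F 2 ▸ rfl : ringChar F = 2) c
  exact ⟨b, by rw [hb, pow_two]⟩

/-- an element of the torus acting as the multiplication by `c` -/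
theorem exists_tor [Finite F] (π : SL2 F →* G) {c : F} (hc : c ≠ 0) : ∃ (b : F) (hb : b ≠ 0), b ^ 2 = c ∧
    ∀ x, π (dg b hb) * π (up x) * (π (dg b hb))⁻¹ = π (up (c * x)) := by
  obtain ⟨b, rfl⟩ := exists_sq c
  have hb : b ≠ 0 := by
    rintro rfl
    exact hc (by ring)
  refine ⟨b, hb, rfl, fun x => ?_⟩
  rw [← map_mul, dg_up, map_mul, mul_inv_cancel_right]

end char2

theorem upper_up {y : SL2 F} (h : ent y 1 0 = 0) (b : F) : y * up b = up (ent y 0 0 ^ 2 * b) * y := by
  have hd := det_eq y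
  rw [h, mul_zero, sub_zero] at hd
  refine ext_ent ?_ ?_ ?_ ?_ <;> simp only [ent_mul, up_00, up_01, up_10, up_11, h]
  · ring
  · linear_combination (-(ent y 0 0 * b)) * hd
  · ring
  · ring

theorem upper_of_conj {y : SL2 F} {b c : F} (hb : b ≠ 0) (h : y * up b = up c * y) : ent y 1 0 = 0 := by
  have h1 := congrArg (fun w => ent w 1 1) h
  simp only [ent_mul, up_01, up_10, up_11] at h1
  have h2 : ent y 1 0 * b = 0 := by linear_combination h1
  exact (mul_eq_zero.1 h2).resolve_right hb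

/-- `g` acts on `V` as `b ↦ μ σ(b)` -/
def ActV (π : SL2 F →* G) (g : G) (μ : F) (σ : F ≃+* F) : Prop :=
  ∀ b, g * π (up b) * g⁻¹ = π (up (μ * σ b))

theorem ActV.mul {g g' : G} {μ μ' : F} {σ σ' : F ≃+* F} (h : ActV π g μ σ) (h' : ActV π g' μ' σ') :
    ActV π (g * g') (μ * σ μ') (σ * σ') := by
  intro b
  calc g * g' * π (up b) * (g * g')⁻¹ = g * (g' * π (up b) * g'⁻¹) * g⁻¹ := by group
    _ = _ := by
      rw [h' b, h, map_mul, mul_assoc]
      rfl

theorem ActV.one : ActV π (1 : G) (1 : F) (1 : F ≃+* F) := by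
  intro b
  rw [one_mul, one_mul, inv_one, mul_one]
  rfl

theorem ActV.pow {g : G} {μ : F} (h : ActV π g μ (1 : F ≃+* F)) (n : ℕ) :
    ActV π (g ^ n) (μ ^ n) (1 : F ≃+* F) := by
  induction n with
  | zero =>
    rw [pow_zero, pow_zero]
    exact ActV.one
  | succ n ih =>
    have h1 := ih.mul h
    rw [pow_succ, pow_succ]
    exact h1

theorem ActV.mem {g : G} {μ : F} {σ : F ≃+* F} (h : ActV π g μ σ) :
    ∀ v ∈ VV π, g * v * g⁻¹ ∈ VV π := by
  intro v hv
  obtain ⟨b, rfl⟩ := mem_VV.1 hv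
  rw [h b]; exact up_mem_VV _

/-- the action on `V` of an element of `N(A) ∩ N(V)` -/
theorem actV_of {g : G} {y : SL2 F} {σ : F ≃+* F} (P : IsPar A π) (h : Acts π g y σ)
    (hV : ∀ v ∈ VV π, g * v * g⁻¹ ∈ VV π) :
    ent y 1 0 = 0 ∧ ent y 0 0 ≠ 0 ∧ ActV π g (ent y 0 0 ^ 2) σ := by
  obtain ⟨c, hc⟩ := mem_VV.1 (hV _ (up_mem_VV (1 : F)))
  have h1 := h (up 1)
  rw [← hc] at h1
  have h2 := P.inj h1
  rw [fieldAut_up_one] at h2
  have h3 : y * up 1 = up c * y := by rw [h2]; group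
  have h4 := upper_of_conj one_ne_zero h3
  refine ⟨h4, ?_, ?_⟩
  · intro h5
    have hd := det_eq y
    rw [h4, h5] at hd
    simp at hd
  · intro b
    rw [h (up b), fieldAut_up, upper_up h4, mul_inv_cancel_right]

/-- elements of the centralizer of `V` -/
theorem actV_one_iff [CharP F 2] (P : IsPar A π) {g : G} {μ : F} {σ : F ≃+* F} (h : ActV π g μ σ) :
    (∀ v ∈ VV π, g * v = v * g) ↔ μ = 1 ∧ σ = 1 := by
  constructor
  · intro hc
    have h0 : ∀ b, μ * σ b = b := by
      intro b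
      have h1 := hc _ (up_mem_VV b)
      have h2 := h b
      rw [h1, mul_inv_cancel_right] at h2
      exact (up_injective P h2).symm
    have h1 : μ = 1 := by
      have := h0 1
      rwa [map_one, mul_one] at this
    refine ⟨h1, ?_⟩
    ext b
    have := h0 b
    rwa [h1, one_mul] at this
  · rintro ⟨rfl, rfl⟩ v hv
    obtain ⟨b, rfl⟩ := mem_VV.1 hv
    have := h b
    rw [one_mul] at this
    exact mul_inv_eq_iff_eq_mul.1 this

/-- two-elements acting without field automorphism centralise `V`. -/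
theorem eq_one_of_twoElement [CharP F 2] (P : IsPar A π) {g : G} {μ : F} (h : ActV π g μ (1 : F ≃+* F))
    {k : ℕ} (hk : g ^ 2 ^ k = 1) : μ = 1 := by
  have h1 := h.pow (2 ^ k)
  rw [hk] at h1
  have h2 := h1 1
  rw [one_mul, inv_one, mul_one] at h2
  have h3 := up_injective P h2
  have h4 : μ ^ 2 ^ k = 1 := by
    have : (1 : F ≃+* F) 1 = 1 := rfl
    rw [this, mul_one] at h3
    exact h3.symm
  have h5 : (μ - 1) ^ 2 ^ k = 0 := by
    rw [sub_pow_char_pow, h4, one_pow, sub_self]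
  have h6 := pow_eq_zero_iff (by positivity) |>.1 h5
  exact sub_eq_zero.1 h6

end Cfsg.Agent.StdL2.Local
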