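import Cfsg.Agent.StdL2.Local

/-!
# S1773: the Sylow 2-subgroup `T` of `C_G(t)` and its action on the root group `V`
-/

set_option autoImplicit false
set_option linter.unusedSectionVars false
set_option linter.style.haveILetI false

namespace Cfsg.Agent.StdL2.Local

open Cfsg Subgroup Cfsg.Agent.StdL2.Setup Cfsg.Agent.StdL2.Frame Cfsg.Agent.StdL2.Field
  Cfsg.Agent.Lib.SL2Mat Cfsg.Agent.Lib.AutSL2 Cfsg.Agent.StdL2.FieldStart

universe u

variable {F : Type*} [Field F] {G : Type u} [Group G] {A L : Subgroup G} {t : G}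

local notation "SL2" => Matrix.SpecialLinearGroup (Fin 2)

variable {π : SL2 F →* G}

theorem ActV.unique (P : IsPar A π) {g : G} {μ μ' : F} {σ σ' : F ≃+* F} (h : ActV π g μ σ)
    (h' : ActV π g μ' σ') : μ = μ' ∧ σ = σ' := by
  have h0 : ∀ b, μ * σ b = μ' * σ' b := by
    intro b
    apply up_injective P
    rw [← h b, ← h' b]
  have h1 : μ = μ' := by
    have := h0 1
    rwa [map_one, map_one, mul_one, mul_one] at this
  have hμ : μ ≠ 0 := by
    rintro rfl
    have h2 := h 1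
    rw [zero_mul, up_zero, map_one] at h2
    have h3 : π (up 1) = 1 := by
      have e : π (up (1 : F)) = g⁻¹ * (g * π (up 1) * g⁻¹) * g := by group
      rw [e, h2]; group
    have h4 : (1 : F) = 0 := by
      apply up_injective P
      rw [h3, up_zero, map_one]
    exact one_ne_zero h4
  refine ⟨h1, ?_⟩
  ext b
  have := h0 b
  rw [← h1] at this
  exact mul_left_cancel₀ hμ this

theorem ActV.ne_zero (P : IsPar A π) {g : G} {μ : F} {σ : F ≃+* F} (h : ActV π g μ σ) : μ ≠ 0 := by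
  rintro rfl
  have h2 := h 1
  rw [zero_mul, up_zero, map_one] at h2
  have h3 : π (up 1) = 1 := by
    have e : π (up (1 : F)) = g⁻¹ * (g * π (up 1) * g⁻¹) * g := by group
    rw [e, h2]; group
  have h4 : (1 : F) = 0 := by
    apply up_injective P
    rw [h3, up_zero, map_one]
  exact one_ne_zero h4

/-- The automorphism group of a finite field is cyclic. -/
theorem isCyclic_ringEquiv (F : Type*) [Field F] [Finite F] : IsCyclic (F ≃+* F) := by
  obtain ⟨p, hpc⟩ := CharP.exists F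
  have : CharP F p := hpc
  have hp : Fact p.Prime := ⟨CharP.char_is_prime F p⟩
  let _ : Algebra (ZMod p) F := ZMod.algebra F p
  have hcomm : ∀ (ρ : F ≃+* F) (r : ZMod p), ρ (algebraMap (ZMod p) F r) = algebraMap (ZMod p) F r := by
    intro ρ r
    obtain ⟨n, rfl⟩ := ZMod.natCast_zmod_surjective r
    rw [map_natCast, map_natCast]
  let f : (F ≃+* F) →* (F ≃ₐ[ZMod p] F) :=
    { toFun := fun ρ => AlgEquiv.ofRingEquiv (f := ρ) (hcomm ρ)
      map_one' := rfl
      map_mul' := fun _ _ => rfl }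
  have hf : Function.Injective f := by
    intro a b hab
    ext x
    exact DFunLike.congr_fun hab x
  exact isCyclic_of_injective f hf

section count

variable [Finite F]

/-- the fixed points of an involutory semilinear map. -/
theorem card_fixed {μ : F} {σ : F ≃+* F} [CharP F 2] (hσ : σ ≠ 1) (h2 : ∀ b, μ * σ (μ * σ b) = b) :
    Nat.card {b : F // μ * σ b = b} ^ 2 = Nat.card F ∧ ∀ b, μ * σ b = b → ∃ c, b = c + μ * σ c := by
  have hμ : μ ≠ 0 := by
    rintro rfl
    have := h2 1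
    rw [zero_mul] at this
    exact zero_ne_one this
  let φ : F →+ F :=
    { toFun := fun b => b + μ * σ b
      map_zero' := by simp
      map_add' := fun a b => by rw [map_add]; ring }
  have hφ : ∀ b, φ b = b + μ * σ b := fun b => rfl
  have hker : ∀ b, b ∈ φ.ker ↔ μ * σ b = b := by
    intro b
    rw [AddMonoidHom.mem_ker, hφ]
    constructor
    · intro h
      exact (CharTwo.add_eq_zero.1 h).symm
    · intro h
      rw [h]; exact CharTwo.add_self_eq_zero b
  have hle : φ.range ≤ φ.ker := by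
    rintro _ ⟨b, rfl⟩
    rw [hker, hφ, map_add, mul_add, h2 b, add_comm]
  have hcard : Nat.card {b : F // μ * σ b = b} = Nat.card φ.ker :=
    Nat.card_congr (Equiv.subtypeEquivRight (fun b => (hker b).symm))
  have hc1 : Nat.card F = Nat.card φ.range * Nat.card φ.ker := by
    rw [AddSubgroup.card_eq_card_quotient_mul_card_addSubgroup φ.ker,
      Nat.card_congr (QuotientAddGroup.quotientKerEquivRange φ).toEquiv]
  have hc2 : Nat.card φ.range ≤ Nat.card φ.ker := AddSubgroup.card_le_of_le hle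
  obtain ⟨c, hc⟩ : ∃ c, σ c ≠ c := by
    by_contra hcon
    push Not at hcon
    exact hσ (RingEquiv.ext hcon)
  have hc3 : Nat.card φ.ker * Nat.card φ.ker ≤ Nat.card F := by
    rw [← Nat.card_prod]
    refine Nat.card_le_card_of_injective (fun p : φ.ker × φ.ker => (p.1 : F) + p.2 * c) ?_
    rintro ⟨⟨a, ha⟩, ⟨b, hb⟩⟩ ⟨⟨a', ha'⟩, ⟨b', hb'⟩⟩ h
    have h : a + b * c = a' + b' * c := h
    rw [hker] at ha hb ha' hb'
    by_cases hbb : b = b'
    · subst hbb
      have : a = a' := by linear_combination h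
      subst this
      rfl
    · exfalso
      apply hc
      have h3 : (b - b') ≠ 0 := sub_ne_zero.2 hbb
      have h4 : (b - b') * c = a' - a := by linear_combination h
      have h5 : μ * σ (b - b') = b - b' := by rw [map_sub, mul_sub, hb, hb']
      have h6 : μ * σ (a' - a) = a' - a := by rw [map_sub, mul_sub, ha, ha']
      have h7 : μ * (σ (b - b') * σ c) = a' - a := by
        rw [← map_mul, h4, h6]
      have h8 : (b - b') * σ c = a' - a := by
        rw [← h7, ← mul_assoc, h5]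
      exact mul_left_cancel₀ h3 (h8.trans h4.symm)
  have hpos : 0 < Nat.card φ.ker := Nat.card_pos
  have h5 : Nat.card φ.range = Nat.card φ.ker := by
    apply le_antisymm hc2
    rw [hc1] at hc3
    exact Nat.le_of_mul_le_mul_right hc3 hpos
  constructor
  · rw [hcard, hc1, h5, pow_two]
  · intro b hb
    have h6 : φ.range = φ.ker := by
      apply SetLike.coe_injective
      apply Set.eq_of_subset_of_ncard_le hle
      exact h5.symm.le
    have h7 : b ∈ φ.range := by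
      rw [h6, hker]; exact hb
    obtain ⟨c, hc⟩ := h7
    exact ⟨c, hc.symm⟩

end count

section sylT

variable [Finite G]

/-- `T` is a Sylow 2-subgroup of `C(t)` containing `V` -/
structure SylT (π : SL2 F →* G) (t : G) (T : Subgroup G) : Prop where
  syl : IsSyl (centralizer ({t} : Set G)) T
  VT : VV π ≤ T

variable {T : Subgroup G}

theorem commT {x : G} (hx : x ∈ centralizer ({t} : Set G)) : x * t = t * x :=
  mem_centralizer_singleton_iff.1 hx

theorem A_le (C : Conf L A t) : A ≤ centralizer ({t} : Set G) := by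
  intro x hx
  rw [mem_centralizer_singleton_iff]
  exact mem_centralizer_iff.1 C.htA x hx

variable [CharP F 2]

theorem VV_two (π : SL2 F →* G) : IsPGroup 2 (VV π) := by
  rintro ⟨v, hv⟩
  refine ⟨1, Subtype.ext ?_⟩
  show v ^ 2 ^ 1 = 1
  rw [pow_one, pow_two]
  exact vsq v hv

theorem exists_sylT (C : Conf L A t) (P : IsPar A π) : ∃ T, SylT π t T := by
  obtain ⟨T, h1, h2⟩ := exists_isSyl (centralizer ({t} : Set G)) (VV π) (VV_two π)
    ((VV_le P).trans (A_le C))
  exact ⟨T, h1, h2⟩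

theorem SylT.Tt (H : SylT π t T) {x : G} (hx : x ∈ T) : x * t = t * x := commT (H.syl.2.1 hx)

theorem SylT.tT (C : Conf L A t) (H : SylT π t T) : t ∈ T := by
  have h1 : IsPGroup 2 (zpowers t) := by
    rintro ⟨x, k, rfl⟩
    refine ⟨1, Subtype.ext ?_⟩
    show (t ^ k) ^ 2 ^ 1 = 1
    rw [pow_one, pow_two, ← zpow_add, ← two_mul, zpow_mul, zpow_two, tt C, one_zpow]
  have h2 : zpowers t ≤ normalizer (T : Set G) := by
    rw [zpowers_le, mem_normalizer_iff]
    intro x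
    constructor
    · intro hx
      have := H.Tt hx
      rw [← this, mul_inv_cancel_right]; exact hx
    · intro hx
      have h3 := H.Tt hx
      have h4 : x = t⁻¹ * (t * x * t⁻¹) * t := by group
      have h5 : t⁻¹ * (t * x * t⁻¹) * t = t * x * t⁻¹ := by
        rw [mul_assoc, h3, ← mul_assoc, inv_mul_cancel, one_mul]
      rw [h4, h5]; exact hx
  have h3 := H.syl.2.2 (T ⊔ zpowers t) (isPGroup_sup H.syl.1 h1 h2) le_sup_left (by
    rw [sup_le_iff, zpowers_le]
    exact ⟨H.syl.2.1, mem_centralizer_singleton_iff.2 rfl⟩)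
  exact h3 ((le_sup_right : zpowers t ≤ _) (mem_zpowers t))

variable [Finite F]

theorem SylT.mem_VV (P : IsPar A π) (H : SylT π t T) {x : G} (hx : x ∈ T) (hxA : x ∈ A) : x ∈ VV π := by
  haveI : Fact (Nat.Prime 2) := ⟨Nat.prime_two⟩
  have h1 : IsPGroup 2 ((T ⊓ A).comap π) :=
    (H.syl.1.to_le inf_le_left).comap_of_injective π P.inj
  have h2 : upG F ≤ (T ⊓ A).comap π := by
    rintro _ ⟨b, rfl⟩
    rw [mem_comap]
    exact ⟨H.VT (up_mem_VV b), P.mem _⟩
  have h3 := eq_upG_of_le h1 h2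
  obtain ⟨y, rfl⟩ := P.exists_eq hxA
  have h4 : y ∈ (T ⊓ A).comap π := mem_comap.2 ⟨hx, hxA⟩
  rw [h3] at h4
  exact ⟨y, h4, rfl⟩

theorem norm_of_cent (C : Conf L A t) {x : G} (hx : x * t = t * x) : x ∈ normalizer (A : Set G) :=
  cent_le C (mem_centralizer_singleton_iff.2 hx)

theorem SylT.TV (C : Conf L A t) (P : IsPar A π) (H : SylT π t T) {s : G} (hs : s ∈ T) :
    ∀ v ∈ VV π, s * v * s⁻¹ ∈ VV π := by
  intro v hv
  apply H.mem_VV P
  · exact mul_mem (mul_mem hs (H.VT hv)) (inv_mem hs)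
  · exact (mem_normalizer_iff.1 (norm_of_cent C (H.Tt hs)) v).1 (VV_le P hv)

/-- the action of elements of `C(t) ∩ N(V)` -/
theorem exists_actV (C : Conf L A t) (P : IsPar A π) {s : G} (hs : s * t = t * s)
    (hV : ∀ v ∈ VV π, s * v * s⁻¹ ∈ VV π) :
    ∃ (y : SL2 F) (σ : F ≃+* F), Acts π s y σ ∧ ent y 1 0 = 0 ∧ ent y 0 0 ≠ 0 ∧
      ActV π s (ent y 0 0 ^ 2) σ := by
  obtain ⟨y, σ, h⟩ := exists_semilinear P (norm_of_cent C hs)
  have h : Acts π s y σ := h
  obtain ⟨h1, h2, h3⟩ := actV_of P h hV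
  exact ⟨y, σ, h, h1, h2, h3⟩

theorem SylT.exists_actV (C : Conf L A t) (P : IsPar A π) (H : SylT π t T) {s : G} (hs : s ∈ T) :
    ∃ (y : SL2 F) (σ : F ≃+* F), Acts π s y σ ∧ ent y 1 0 = 0 ∧ ent y 0 0 ≠ 0 ∧
      ActV π s (ent y 0 0 ^ 2) σ :=
  Local.exists_actV C P (H.Tt hs) (H.TV C P hs)

/-- an element of `T` without field automorphism centralises `V` -/
theorem SylT.cent_of_one (P : IsPar A π) (H : SylT π t T) {s : G} (hs : s ∈ T) {μ : F}
    (h : ActV π s μ (1 : F ≃+* F)) : ∀ v ∈ VV π, s * v = v * s := by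
  obtain ⟨k, hk⟩ := H.syl.1 ⟨s, hs⟩
  have hk' : s ^ 2 ^ k = 1 := congrArg Subtype.val hk
  have := eq_one_of_twoElement P h hk'
  exact (actV_one_iff P h).2 ⟨this, rfl⟩

/-- elements of `T` acting with the same field automorphism differ by an element of `C_T(V)` -/
theorem SylT.cent_of_eq (C : Conf L A t) (P : IsPar A π) (H : SylT π t T) {x y : G} (hx : x ∈ T)
    (hy : y ∈ T) {μ μ' : F} {σ : F ≃+* F} (h : ActV π x μ σ) (h' : ActV π y μ' σ) :
    ∀ v ∈ VV π, (x⁻¹ * y) * v = v * (x⁻¹ * y) := by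
  have hxy : x⁻¹ * y ∈ T := mul_mem (inv_mem hx) hy
  obtain ⟨z, τ, _, _, _, h3⟩ := H.exists_actV C P hxy
  have h4 := h.mul h3
  rw [mul_inv_cancel_left] at h4
  have h5 := (h4.unique P h').2
  have h6 : τ = 1 := mul_eq_left.1 h5
  subst h6
  exact H.cent_of_one P hxy h3

/-- `C_T(V) = R V`, with `R = C_T(A)` -/
theorem SylT.cent (C : Conf L A t) (P : IsPar A π) (H : SylT π t T) {x : G} (hx : x ∈ T)
    (hc : ∀ v ∈ VV π, x * v = v * x) : ∃ r ∈ T ⊓ centralizer (A : Set G), ∃ v ∈ VV π, x = r * v := by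
  obtain ⟨y, σ, h1, h2, h3, h4⟩ := H.exists_actV C P hx
  obtain ⟨h5, h6⟩ := (actV_one_iff P h4).1 hc
  subst h6
  have h7 : ent y 0 0 = 1 := by
    have h8 : (ent y 0 0 - 1) ^ 2 = 0 := by
      rw [sub_sq, h5, CharTwo.two_eq_zero]
      simp only [zero_mul, sub_zero, one_pow]
      exact CharTwo.add_self_eq_zero 1
    exact sub_eq_zero.1 (pow_eq_zero_iff two_ne_zero |>.1 h8)
  have h8 : y = up (ent y 0 1) := by
    have hd := det_eq y
    rw [h2, h7, mul_zero, sub_zero, one_mul] at hd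
    exact ext_ent h7 rfl h2 hd
  have h9 := h1.inv_mul_mem P
  have hyV : π y ∈ VV π := by rw [h8]; exact up_mem_VV _
  refine ⟨(π y)⁻¹ * x, Subgroup.mem_inf.2 ⟨mul_mem (inv_mem (H.VT hyV)) hx, h9⟩, π y, hyV, ?_⟩
  have h10 := mem_centralizer_iff.1 h9 (π y) (P.mem y)
  rw [← h10]; group

theorem SylT.uniq (C : Conf L A t) (P : IsPar A π) (H : SylT π t T) : ∀ x ∈ T, ∀ y ∈ T,
    (∀ v ∈ VV π, (x * x) * v = v * (x * x)) →
    (∀ v ∈ VV π, (y * y) * v = v * (y * y)) → (∃ v ∈ VV π, x * v ≠ v * x) →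
    (∃ v ∈ VV π, y * v ≠ v * y) → ∀ v ∈ VV π, (x⁻¹ * y) * v = v * (x⁻¹ * y) := by
  haveI := Fintype.ofFinite F
  intro x hx y hy hx2 hy2 ⟨v, hv, hvx⟩ ⟨w, hw, hwy⟩
  obtain ⟨a, σ, -, -, -, h1⟩ := H.exists_actV C P hx
  obtain ⟨b, τ, -, -, -, h2⟩ := H.exists_actV C P hy
  have h3 := ((actV_one_iff P (h1.mul h1)).1 hx2).2
  have h4 := ((actV_one_iff P (h2.mul h2)).1 hy2).2
  have hσ : σ ≠ 1 := by
    rintro rfl
    exact hvx (H.cent_of_one P hx h1 v hv)
  have hτ : τ ≠ 1 := by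
    rintro rfl
    exact hwy (H.cent_of_one P hy h2 w hw)
  haveI := isCyclic_ringEquiv F
  haveI : Finite (F ≃+* F) := DFunLike.finite _
  have h5 : σ = τ := eq_of_isCyclic h3 hσ h4 hτ
  subst h5
  exact H.cent_of_eq C P hx hy h1 h2

/-- data of an element of `T` acting on `V` as an involution -/
theorem SylT.field_inv (C : Conf L A t) (P : IsPar A π) (H : SylT π t T) {x : G} (hx : x ∈ T)
    (hxv : ∃ v ∈ VV π, x * v ≠ v * x) (hx2 : ∀ v ∈ VV π, (x * x) * v = v * (x * x)) :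
    ∃ (μ : F) (σ : F ≃+* F), ActV π x μ σ ∧ σ ≠ 1 ∧ ∀ b, μ * σ (μ * σ b) = b := by
  obtain ⟨v, hv, hvx⟩ := hxv
  obtain ⟨a, σ, -, -, -, h1⟩ := H.exists_actV C P hx
  have h3 := (actV_one_iff P (h1.mul h1)).1 hx2
  refine ⟨_, σ, h1, ?_, fun b => ?_⟩
  · rintro rfl
    exact hvx (H.cent_of_one P hx h1 v hv)
  · have h4 := h1.mul h1 b
    rw [h3.1, h3.2, one_mul] at h4
    have h5 : x * x * π (up b) * (x * x)⁻¹ = π (up (ent a 0 0 ^ 2 * σ (ent a 0 0 ^ 2 * σ b))) := by
      have e : x * x * π (up b) * (x * x)⁻¹ = x * (x * π (up b) * x⁻¹) * x⁻¹ := by group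
      rw [e, h1 b, h1]
    rw [h5] at h4
    exact up_injective P h4

theorem SylT.fix (C : Conf L A t) (P : IsPar A π) (H : SylT π t T) : ∀ x ∈ T,
    (∃ v ∈ VV π, x * v ≠ v * x) → (∀ v ∈ VV π, (x * x) * v = v * (x * x)) →
    (Nat.card (VV π ⊓ centralizer {x} : Subgroup G)) ^ 2 = Nat.card (VV π) := by
  intro x hx hxv hx2
  obtain ⟨μ, σ, h1, h2, h3⟩ := H.field_inv C P hx hxv hx2
  obtain ⟨h4, -⟩ := card_fixed h2 h3
  rw [card_VV P, ← h4]
  congr 1
  refine (Nat.card_congr (Equiv.ofBijective (fun b : {b : F // μ * σ b = b} =>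
    (⟨π (up b.1), Subgroup.mem_inf.2 ⟨up_mem_VV b.1, ?_⟩⟩ :
      (VV π ⊓ centralizer {x} : Subgroup G))) ⟨?_, ?_⟩)).symm
  · have h5 := h1 b.1
    rw [b.2] at h5
    rw [mem_centralizer_singleton_iff]
    exact (mul_inv_eq_iff_eq_mul.1 h5).symm
  · intro b c h
    exact Subtype.ext (up_injective P (congrArg Subtype.val h))
  · rintro ⟨v, hvv⟩
    obtain ⟨hv, hvx⟩ := Subgroup.mem_inf.1 hvv
    obtain ⟨b, rfl⟩ := Local.mem_VV.1 hv
    have h5 := h1 b
    rw [mem_centralizer_singleton_iff] at hvx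
    rw [← hvx, mul_inv_cancel_right] at h5
    exact ⟨⟨b, (up_injective P h5).symm⟩, rfl⟩

/-- `[V, x] = C_V(x)` -/
theorem SylT.surj (C : Conf L A t) (P : IsPar A π) (H : SylT π t T) {x : G} (hx : x ∈ T)
    (hxv : ∃ v ∈ VV π, x * v ≠ v * x) (hx2 : ∀ v ∈ VV π, (x * x) * v = v * (x * x)) :
    ∀ v ∈ VV π, x * v * x⁻¹ = v → ∃ y ∈ VV π, v = y * (x * y * x⁻¹) := by
  obtain ⟨μ, σ, h1, h2, h3⟩ := H.field_inv C P hx hxv hx2
  obtain ⟨-, h4⟩ := card_fixed h2 h3
  intro v hv hvx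
  obtain ⟨b, rfl⟩ := Local.mem_VV.1 hv
  rw [h1 b] at hvx
  obtain ⟨c, hc⟩ := h4 b (up_injective P hvx)
  refine ⟨π (up c), up_mem_VV c, ?_⟩
  rw [h1 c, ← map_mul, up_mul, ← hc]

end sylT

end Cfsg.Agent.StdL2.Local
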