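import Mathlib
import Cfsg.Agent.Transfer.ThompsonTransfer
import Cfsg.Agent.TwoFusion.IndexTwo
import Cfsg.Agent.TwoFusion.SylowConj

/-!
# Sylow 2-subgroups with a normal quaternion subgroup whose centralizer is cyclic

`T` is a Sylow 2-subgroup of `G`, `P = ⟨u, v⟩` is a normal quaternion subgroup of order 8 of `T`,
`R = C_T(P)` is cyclic, and some element of `G` centralizes `R` and permutes `u, v, uv` cyclically.
If `G` has no normal subgroup of index two and the involution `t` of `P` is not isolated then the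
2-rank of `G` is at most 2.
-/

set_option autoImplicit false
set_option linter.unusedSimpArgs false
set_option linter.unusedSectionVars false

namespace Cfsg.Agent.StdL2.QEight

open Subgroup

/-- The configuration. -/
structure QE {G : Type*} [Group G] [Finite G] (T : Sylow 2 G) (R : Subgroup G) (t u v : G) : Prop where
  uT : u ∈ (T : Subgroup G)
  vT : v ∈ (T : Subgroup G)
  uu : u * u = t
  vv : v * v = t
  tt : t * t = 1
  t1 : t ≠ 1
  uv : v * u = t * (u * v)
  RT : R ≤ (T : Subgroup G)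
  Rcyc : IsCyclic R
  Ru : ∀ r ∈ R, r * u = u * r
  Rv : ∀ r ∈ R, r * v = v * r
  cent : ∀ w ∈ (T : Subgroup G), w * u = u * w → w * v = v * w → w ∈ R
  nu : ∀ w ∈ (T : Subgroup G), w * u = u * w ∨ w * u = t * (u * w)
  nv : ∀ w ∈ (T : Subgroup G), w * v = v * w ∨ w * v = t * (v * w) ∨ w * v = u * (v * w) ∨
    w * v = t * (u * (v * w))
  h3 : ∃ h : G, h * u = v * h ∧ h * v = u * (v * h) ∧ ∀ r ∈ R, h * r = r * h

namespace QE

variable {G : Type*} [Group G] [Finite G] {T : Sylow 2 G} {R : Subgroup G} {t u v : G} (h : QE T R t u v)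

include h

theorem tT : t ∈ (T : Subgroup G) := h.uu ▸ mul_mem h.uT h.uT

theorem tu : u * t = t * u := by rw [← h.uu, mul_assoc]

theorem tv : v * t = t * v := by rw [← h.vv, mul_assoc]

theorem tw {w : G} (hw : w ∈ (T : Subgroup G)) : w * t = t * w := by
  rcases h.nu w hw with e | e
  · rw [← h.uu, ← mul_assoc, e, mul_assoc, e, mul_assoc]
  · have e' : ∀ z : G, w * (u * z) = t * (u * (w * z)) := fun z => by rw [← mul_assoc, e]; simp only [mul_assoc]
    have htt : ∀ z : G, t * (t * z) = z := fun z => by rw [← mul_assoc, h.tt, one_mul]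
    have hut : ∀ z : G, u * (t * z) = t * (u * z) := fun z => by rw [← mul_assoc, h.tu, mul_assoc]
    have huu : ∀ z : G, u * (u * z) = t * z := fun z => by rw [← mul_assoc, h.uu]
    have h1 : w * (u * u) = t * w := by simp only [e', e, hut, huu, htt]
    rwa [h.uu] at h1

theorem tR : t ∈ R := h.cent t h.tT h.tu.symm h.tv.symm

theorem inv_R {r : G} (hr : r ∈ R) (h2 : r * r = 1) : r = 1 ∨ r = t := by
  classical
  have hc := h.Rcyc
  have : Fintype R := Fintype.ofFinite R
  by_contra hcon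
  push Not at hcon
  have h1 := IsCyclic.card_pow_eq_one_le (α := R) (n := 2) (by norm_num)
  have h3 : ({1, ⟨t, h.tR⟩, ⟨r, hr⟩} : Finset R) ⊆ Finset.univ.filter (fun a : R => a ^ 2 = 1) := by
    intro a ha
    simp only [Finset.mem_insert, Finset.mem_singleton] at ha
    rw [Finset.mem_filter]
    refine ⟨Finset.mem_univ _, ?_⟩
    rcases ha with rfl | rfl | rfl
    · exact one_pow 2
    · exact Subtype.ext (by rw [SubmonoidClass.coe_pow, pow_two]; exact h.tt)
    · exact Subtype.ext (by rw [SubmonoidClass.coe_pow, pow_two]; exact h2)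
  have h4 := Finset.card_le_card h3
  have h5 : ({1, ⟨t, h.tR⟩, ⟨r, hr⟩} : Finset R).card = 3 := by
    rw [Finset.card_eq_three]
    refine ⟨1, ⟨t, h.tR⟩, ⟨r, hr⟩, ?_, ?_, ?_, rfl⟩
    · intro e; exact h.t1 (congrArg Subtype.val e).symm
    · intro e; exact hcon.1 (congrArg Subtype.val e).symm
    · intro e; exact hcon.2 (congrArg Subtype.val e).symm
  omega

/-- elements of `T` which act on `P` as inner automorphisms -/
theorem inner_form {w : G} (hw : w ∈ (T : Subgroup G)) (hi : w * v = v * w ∨ w * v = t * (v * w)) :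
    ∃ r ∈ R, w = r ∨ w = r * u ∨ w = r * v ∨ w = r * (u * v) := by
  have hti : t⁻¹ = t := inv_eq_of_mul_eq_one_left h.tt
  have htt : ∀ z : G, t * (t * z) = z := fun z => by rw [← mul_assoc, h.tt, one_mul]
  have hut : ∀ z : G, u * (t * z) = t * (u * z) := fun z => by rw [← mul_assoc, h.tu, mul_assoc]
  have hvt : ∀ z : G, v * (t * z) = t * (v * z) := fun z => by rw [← mul_assoc, h.tv, mul_assoc]
  have huu : ∀ z : G, u * (u * z) = t * z := fun z => by rw [← mul_assoc, h.uu]
  have hvv : ∀ z : G, v * (v * z) = t * z := fun z => by rw [← mul_assoc, h.vv]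
  have hvu : ∀ z : G, v * (u * z) = t * (u * (v * z)) := fun z => by
    rw [← mul_assoc, h.uv]; simp only [mul_assoc]
  have htw := h.tw hw
  have htw' : ∀ z : G, w * (t * z) = t * (w * z) := fun z => by rw [← mul_assoc, htw, mul_assoc]
  rcases h.nu w hw with e1 | e1
  · have e1' : ∀ z : G, w * (u * z) = u * (w * z) := fun z => by rw [← mul_assoc, e1, mul_assoc]
    rcases hi with e2 | e2
    · exact ⟨w, h.cent w hw e1 e2, Or.inl rfl⟩
    · have e2' : ∀ z : G, w * (v * z) = t * (v * (w * z)) := fun z => by rw [← mul_assoc, e2]; simp only [mul_assoc]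
      refine ⟨w * (t * u), h.cent _ (mul_mem hw (mul_mem h.tT h.uT)) ?_ ?_, Or.inr (Or.inl ?_)⟩
      · simp only [mul_assoc, htt, hut, huu, htw', e1', e1, h.tu, h.uu]
      · simp only [mul_assoc, htt, hut, hvt, huu, hvv, hvu, htw', e1', e1, e2', e2, h.tu, h.uu, h.uv, h.tv]
      · simp only [mul_assoc, htt, hut, huu, htw', e1', e1, h.tu, h.uu, htw]
  · have e1' : ∀ z : G, w * (u * z) = t * (u * (w * z)) := fun z => by rw [← mul_assoc, e1]; simp only [mul_assoc]
    rcases hi with e2 | e2
    · have e2' : ∀ z : G, w * (v * z) = v * (w * z) := fun z => by rw [← mul_assoc, e2, mul_assoc]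
      refine ⟨w * (t * v), h.cent _ (mul_mem hw (mul_mem h.tT h.vT)) ?_ ?_, Or.inr (Or.inr (Or.inl ?_))⟩
      · simp only [mul_assoc, htt, hut, hvt, huu, hvv, hvu, htw', e1', e1, e2', e2, h.tu, h.uu, h.uv, h.tv]
      · simp only [mul_assoc, htt, hut, hvt, huu, hvv, hvu, htw', e1', e1, e2', e2, h.tu, h.uu, h.uv, h.tv]
      · simp only [mul_assoc, htt, hut, hvt, huu, hvv, hvu, htw', e1', e1, e2', e2, h.tu, h.uu, h.uv, h.tv, h.vv, htw]
    · have e2' : ∀ z : G, w * (v * z) = t * (v * (w * z)) := fun z => by rw [← mul_assoc, e2]; simp only [mul_assoc]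
      refine ⟨w * (t * (u * v)), h.cent _ (mul_mem hw (mul_mem h.tT (mul_mem h.uT h.vT))) ?_ ?_,
        Or.inr (Or.inr (Or.inr ?_))⟩
      · simp only [mul_assoc, htt, hut, hvt, huu, hvv, hvu, htw', e1', e1, e2', e2, h.tu, h.uu, h.uv, h.tv]
      · simp only [mul_assoc, htt, hut, hvt, huu, hvv, hvu, htw', e1', e1, e2', e2, h.tu, h.uu, h.uv, h.tv]
      · simp only [mul_assoc, htt, hut, hvt, huu, hvv, hvu, htw', e1', e1, e2', e2, h.tu, h.uu, h.uv, h.tv, h.vv, htw]

/-- `r u` does not belong to `R`, etc.: `u`, `v`, `uv` are not in `R`. -/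
theorem u_not_mem : u ∉ R := by
  intro hu
  have h1 := h.Rv u hu
  have h2 := h.uv
  rw [← h1] at h2
  exact h.t1 (by
    have : (1 : G) * (u * v) = t * (u * v) := by rw [one_mul]; exact h2
    exact (mul_right_cancel this).symm)

theorem v_not_mem : v ∉ R := by
  intro hu
  have h1 := h.Ru v hu
  have h2 := h.uv
  rw [h1] at h2
  exact h.t1 (by
    have : (1 : G) * (u * v) = t * (u * v) := by rw [one_mul]; exact h2
    exact (mul_right_cancel this).symm)

theorem uv_not_mem : u * v ∉ R := by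
  intro hu
  have h1 := h.Ru _ hu
  have h2 : u * v * u = t * (u * (u * v)) := by
    rw [mul_assoc, h.uv, ← mul_assoc, h.tu]
    simp only [mul_assoc]
  rw [h1] at h2
  exact h.t1 (by
    have : (1 : G) * (u * (u * v)) = t * (u * (u * v)) := by rw [one_mul]; exact h2
    exact (mul_right_cancel this).symm)

/-- `R` is normalized by `T`. -/
theorem conj_R {w r : G} (hw : w ∈ (T : Subgroup G)) (hr : r ∈ R) : w * r * w⁻¹ ∈ R := by
  have hrt : r * t = t * r := (h.tw (h.RT hr))
  have hru := h.Ru r hr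
  have hrv := h.Rv r hr
  have hwi : w⁻¹ ∈ (T : Subgroup G) := inv_mem hw
  have key : ∀ p : G, r * (w⁻¹ * p * w) = (w⁻¹ * p * w) * r → (w * r * w⁻¹) * p = p * (w * r * w⁻¹) := by
    intro p hp
    calc (w * r * w⁻¹) * p = w * (r * (w⁻¹ * p * w)) * w⁻¹ := by group
      _ = w * ((w⁻¹ * p * w) * r) * w⁻¹ := by rw [hp]
      _ = p * (w * r * w⁻¹) := by group
  apply h.cent _ (mul_mem (mul_mem hw (h.RT hr)) hwi)
  · apply key
    rcases h.nu _ hwi with e | e
    · rw [e, inv_mul_cancel_right]; exact hru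
    · rw [e]
      have : t * (u * w⁻¹) * w = t * u := by group
      rw [this, ← mul_assoc, hrt, mul_assoc, hru, mul_assoc]
  · apply key
    rcases h.nv _ hwi with e | e | e | e
    · rw [e, inv_mul_cancel_right]; exact hrv
    · rw [e]
      have : t * (v * w⁻¹) * w = t * v := by group
      rw [this, ← mul_assoc, hrt, mul_assoc, hrv, mul_assoc]
    · rw [e]
      have : u * (v * w⁻¹) * w = u * v := by group
      rw [this, ← mul_assoc, hru, mul_assoc, hrv, mul_assoc]
    · rw [e]
      have : t * (u * (v * w⁻¹)) * w = t * (u * v) := by group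
      rw [this, ← mul_assoc, hrt, mul_assoc, ← mul_assoc r u v, hru, mul_assoc, hrv, mul_assoc, mul_assoc]

/-- elements acting on `P` as inner automorphisms -/
def Inn (t v w : G) : Prop := w * v = v * w ∨ w * v = t * (v * w)

/-- elements acting on `P` as outer automorphisms -/
def Outr (t u v w : G) : Prop := w * v = u * (v * w) ∨ w * v = t * (u * (v * w))

theorem inn_or_outr {w : G} (hw : w ∈ (T : Subgroup G)) : Inn t v w ∨ Outr t u v w := by
  rcases h.nv w hw with e | e | e | e
  · exact Or.inl (Or.inl e)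
  · exact Or.inl (Or.inr e)
  · exact Or.inr (Or.inl e)
  · exact Or.inr (Or.inr e)

theorem not_inn_outr {w : G} (h1 : Inn t v w) (h2 : Outr t u v w) : False := by
  have htt : ∀ z : G, t * (t * z) = z := fun z => by rw [← mul_assoc, h.tt, one_mul]
  have hu1 : u ≠ 1 := fun e => h.u_not_mem (e ▸ one_mem R)
  have hut : u ≠ t := fun e => h.u_not_mem (e ▸ h.tR)
  have key : ∀ a b : G, a * (v * w) = b * (v * w) → a = b := fun a b hab => mul_right_cancel hab
  rcases h1 with e1 | e1 <;> rcases h2 with e2 | e2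
  · exact hu1 (key u 1 (by rw [one_mul, ← e2, e1])) 
  · have : t * (u * (v * w)) = v * w := by rw [← e2, e1]
    have h3 : u * (v * w) = t * (v * w) := by rw [← this, htt, this]
    exact hut (key _ _ h3)
  · have : u * (v * w) = t * (v * w) := by rw [← e2, e1]
    exact hut (key _ _ this)
  · have : t * (u * (v * w)) = t * (v * w) := by rw [← e2, e1]
    have h3 := mul_left_cancel this
    exact hu1 (key u 1 (by rw [one_mul]; exact h3))

/-- the product of two outer elements is inner -/
theorem outr_mul_outr {w z : G} (hw : w ∈ (T : Subgroup G)) (h1 : Outr t u v w)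
    (h2 : Outr t u v z) : Inn t v (w * z) := by
  have htt : ∀ z : G, t * (t * z) = z := fun z => by rw [← mul_assoc, h.tt, one_mul]
  have huu : ∀ z : G, u * (u * z) = t * z := fun z => by rw [← mul_assoc, h.uu]
  obtain ⟨c1, hc1, e1⟩ : ∃ c, (c = 1 ∨ c = t) ∧ ∀ y : G, w * (u * y) = c * (u * (w * y)) := by
    rcases h.nu w hw with e1 | e1
    · exact ⟨1, Or.inl rfl, fun y => by rw [← mul_assoc, e1, one_mul, mul_assoc]⟩
    · exact ⟨t, Or.inr rfl, fun y => by rw [← mul_assoc, e1]; simp only [mul_assoc]⟩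
  obtain ⟨c2, hc2, e2⟩ : ∃ c, (c = 1 ∨ c = t) ∧ ∀ y : G, w * (v * y) = c * (u * (v * (w * y))) := by
    rcases h1 with e1 | e1
    · exact ⟨1, Or.inl rfl, fun y => by rw [← mul_assoc, e1, one_mul]; simp only [mul_assoc]⟩
    · exact ⟨t, Or.inr rfl, fun y => by rw [← mul_assoc, e1]; simp only [mul_assoc]⟩
  obtain ⟨c3, hc3, e3⟩ : ∃ c, (c = 1 ∨ c = t) ∧ z * v = c * (u * (v * z)) := by
    rcases h2 with e1 | e1
    · exact ⟨1, Or.inl rfl, by rw [e1, one_mul]⟩
    · exact ⟨t, Or.inr rfl, e1⟩
  have hcu : ∀ c : G, (c = 1 ∨ c = t) → ∀ y : G, u * (c * y) = c * (u * y) := by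
    rintro c (rfl | rfl) y
    · simp only [one_mul]
    · rw [← mul_assoc, h.tu, mul_assoc]
  have hcw : ∀ c : G, (c = 1 ∨ c = t) → ∀ y : G, w * (c * y) = c * (w * y) := by
    rintro c (rfl | rfl) y
    · simp only [one_mul]
    · rw [← mul_assoc, h.tw hw, mul_assoc]
  have key : (w * z) * v = c3 * (c1 * (c2 * (t * (v * (w * z))))) := by
    rw [mul_assoc, e3, hcw c3 hc3, e1, e2, hcu c2 hc2, huu]
  unfold Inn
  rw [key]
  rcases hc1 with rfl | rfl <;> rcases hc2 with rfl | rfl <;> rcases hc3 with rfl | rfl <;>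
    simp only [one_mul, htt, true_or, or_true]

/-- outer involutions invert `u` -/
theorem outr_u {x : G} (hx : x ∈ (T : Subgroup G)) (ho : Outr t u v x) (hxx : x * x = 1) : x * u = t * (u * x) := by
  rcases h.nu x hx with e1 | e1
  · exfalso
    have htt : ∀ z : G, t * (t * z) = z := fun z => by rw [← mul_assoc, h.tt, one_mul]
    have hut : ∀ z : G, u * (t * z) = t * (u * z) := fun z => by rw [← mul_assoc, h.tu, mul_assoc]
    have huu : ∀ z : G, u * (u * z) = t * z := fun z => by rw [← mul_assoc, h.uu]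
    have htx : ∀ z : G, x * (t * z) = t * (x * z) := fun z => by rw [← mul_assoc, h.tw hx, mul_assoc]
    have e1' : ∀ z : G, x * (u * z) = u * (x * z) := fun z => by rw [← mul_assoc, e1, mul_assoc]
    have key : x * (x * v) = t * v := by
      rcases ho with e2 | e2
      · have e2' : ∀ z : G, x * (v * z) = u * (v * (x * z)) := fun z => by rw [← mul_assoc, e2]; simp only [mul_assoc]
        simp only [e2, e1', e2', htx, htt, hut, huu, hxx, mul_one]
      · have e2' : ∀ z : G, x * (v * z) = t * (u * (v * (x * z))) := fun z => by rw [← mul_assoc, e2]; simp only [mul_assoc]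
        simp only [e2, e1', e2', htx, htt, hut, huu, hxx, mul_one]
    rw [← mul_assoc, hxx] at key
    exact h.t1 (mul_right_cancel key).symm
  · exact e1

/-- inner involutions -/
theorem inn_inv {w : G} (hw : w ∈ (T : Subgroup G)) (hi : Inn t v w) (hww : w * w = 1) :
    w = 1 ∨ w = t ∨ ∃ r ∈ R, r * r = t ∧ (w = r * u ∨ w = r * v ∨ w = r * (u * v)) := by
  obtain ⟨r, hr, hf⟩ := h.inner_form hw hi
  have hrt := h.tw (h.RT hr)
  have hru : ∀ z : G, r * (u * z) = u * (r * z) := fun z => by rw [← mul_assoc, h.Ru r hr, mul_assoc]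
  have hrv : ∀ z : G, r * (v * z) = v * (r * z) := fun z => by rw [← mul_assoc, h.Rv r hr, mul_assoc]
  have hrt' : ∀ z : G, r * (t * z) = t * (r * z) := fun z => by rw [← mul_assoc, hrt, mul_assoc]
  have htt : ∀ z : G, t * (t * z) = z := fun z => by rw [← mul_assoc, h.tt, one_mul]
  have hut : ∀ z : G, u * (t * z) = t * (u * z) := fun z => by rw [← mul_assoc, h.tu, mul_assoc]
  have hvt : ∀ z : G, v * (t * z) = t * (v * z) := fun z => by rw [← mul_assoc, h.tv, mul_assoc]
  have huu : ∀ z : G, u * (u * z) = t * z := fun z => by rw [← mul_assoc, h.uu]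
  have hvv : ∀ z : G, v * (v * z) = t * z := fun z => by rw [← mul_assoc, h.vv]
  have hvu : ∀ z : G, v * (u * z) = t * (u * (v * z)) := fun z => by
    rw [← mul_assoc, h.uv]; simp only [mul_assoc]
  have hfin : t * (r * r) = 1 → r * r = t := by
    intro e
    have := congrArg (fun z => t * z) e
    simpa only [htt, mul_one] using this
  rcases hf with rfl | rfl | rfl | rfl
  · rcases h.inv_R hr hww with e | e
    · exact Or.inl e
    · exact Or.inr (Or.inl e)
  · refine Or.inr (Or.inr ⟨r, hr, hfin ?_, Or.inl rfl⟩)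
    simp only [mul_assoc, hru, h.Ru r hr, huu] at hww
    exact hww
  · refine Or.inr (Or.inr ⟨r, hr, hfin ?_, Or.inr (Or.inl rfl)⟩)
    simp only [mul_assoc, hrv, h.Rv r hr, hvv] at hww
    exact hww
  · refine Or.inr (Or.inr ⟨r, hr, hfin ?_, Or.inr (Or.inr rfl)⟩)
    simp only [mul_assoc, hru, hrv, h.Rv r hr, h.Ru r hr, hvv, huu, hvu, htt, hut, hvt] at hww
    exact hww

theorem R_comm {a b : G} (ha : a ∈ R) (hb : b ∈ R) : a * b = b * a := by
  have := h.Rcyc
  have e := (IsCyclic.commGroup (α := R)).mul_comm ⟨a, ha⟩ ⟨b, hb⟩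
  exact congrArg Subtype.val e

/-- square roots of `t` in `R` -/
theorem sqrt_t {r s : G} (hr : r ∈ R) (hs : s ∈ R) (hrr : r * r = t) (hss : s * s = t) : s = r ∨ s = t * r := by
  have hrs := h.R_comm hr hs
  have h1 : (r * s) * (r * s) = 1 := by
    calc (r * s) * (r * s) = r * (s * r) * s := by simp only [mul_assoc]
      _ = r * (r * s) * s := by rw [hrs]
      _ = (r * r) * (s * s) := by simp only [mul_assoc]
      _ = 1 := by rw [hrr, hss, h.tt]
  have hrt := h.tw (h.RT hr)
  rcases h.inv_R (mul_mem hr hs) h1 with e | e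
  · right
    -- `r s = 1`
    calc s = (r * r)⁻¹ * (r * (r * s)) := by group
      _ = t * r := by rw [e, hrr, inv_eq_of_mul_eq_one_left h.tt, mul_one]
  · left
    calc s = (r * r)⁻¹ * (r * (r * s)) := by group
      _ = r := by
        rw [e, hrr, inv_eq_of_mul_eq_one_left h.tt, hrt, ← mul_assoc, h.tt, one_mul]

/-- inner involutions commuting with an outer involution -/
theorem inn_outr_inv {w x : G} (hw : w ∈ (T : Subgroup G)) (hi : Inn t v w) (hww : w * w = 1)
    (hx : x ∈ (T : Subgroup G)) (ho : Outr t u v x) (hxx : x * x = 1) (hwx : x * w = w * x) :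
    w = 1 ∨ w = t ∨ ∃ r ∈ R, r * r = t ∧ w = r * u ∧ x * r = t * (r * x) := by
  have hxu := h.outr_u hx ho hxx
  rcases h.inn_inv hw hi hww with e | e | ⟨r, hr, hrr, hf⟩
  · exact Or.inl e
  · exact Or.inr (Or.inl e)
  have hr' : x * r * x⁻¹ ∈ R := h.conj_R hx hr
  have hxr : x * r = (x * r * x⁻¹) * x := by group
  have htx := h.tw hx
  obtain ⟨c, hc, hxv⟩ : ∃ c, (c = 1 ∨ c = t) ∧ x * v = c * (u * (v * x)) := by
    rcases ho with e1 | e1
    · exact ⟨1, Or.inl rfl, by rw [e1, one_mul]⟩
    · exact ⟨t, Or.inr rfl, e1⟩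
  have hcR : c ∈ R := by
    rcases hc with rfl | rfl
    · exact one_mem _
    · exact h.tR
  rcases hf with rfl | rfl | rfl
  · right; right
    refine ⟨r, hr, hrr, rfl, ?_⟩
    -- `x r u = r u x`
    have h1 : (x * r) * u = r * (u * x) := by rw [mul_assoc, hwx, mul_assoc]
    rw [hxr] at h1
    have h2 : (x * r * x⁻¹) * (t * u) = r * u := by
      have : (x * r * x⁻¹) * x * u = (x * r * x⁻¹) * (t * u) * x := by
        rw [mul_assoc _ x u, hxu]; simp only [mul_assoc]
      rw [this, ← mul_assoc r u x] at h1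
      exact mul_right_cancel h1
    have h3 : (x * r * x⁻¹) * t = r := by
      rw [← mul_assoc] at h2
      exact mul_right_cancel h2
    have h4 : x * r * x⁻¹ = r * t := by
      calc x * r * x⁻¹ = (x * r * x⁻¹) * t * t := by rw [mul_assoc _ t t, h.tt, mul_one]
        _ = r * t := by rw [h3]
    rw [hxr, h4, h.tw (h.RT hr), mul_assoc]
  · exfalso
    have h1 : (x * r) * v = r * (v * x) := by rw [mul_assoc, hwx, mul_assoc]
    rw [hxr] at h1
    have h2 : (x * r * x⁻¹) * (c * (u * v)) = r * v := by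
      have : (x * r * x⁻¹) * x * v = (x * r * x⁻¹) * (c * (u * v)) * x := by
        rw [mul_assoc _ x v, hxv]; simp only [mul_assoc]
      rw [this, ← mul_assoc r v x] at h1
      exact mul_right_cancel h1
    have h3 : (x * r * x⁻¹) * (c * u) = r := by
      rw [← mul_assoc c u v, ← mul_assoc] at h2
      exact mul_right_cancel h2
    apply h.u_not_mem
    have h4 : u = c⁻¹ * ((x * r * x⁻¹)⁻¹ * r) := by
      have e5 : c * u = (x * r * x⁻¹)⁻¹ * r := eq_inv_mul_of_mul_eq h3
      exact eq_inv_mul_of_mul_eq e5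
    rw [h4]
    exact mul_mem (inv_mem hcR) (mul_mem (inv_mem hr') hr)
  · exfalso
    have h1 : (x * r) * (u * v) = r * (u * v) * x := by rw [mul_assoc, hwx]
    rw [hxr] at h1
    have hcu : c * u = u * c := (h.Ru c hcR)
    have h2 : (x * r * x⁻¹) * (c * v) = r * (u * v) := by
      have : (x * r * x⁻¹) * x * (u * v) = (x * r * x⁻¹) * (c * v) * x := by
        have e1 : x * (u * v) = c * v * x := by
          calc x * (u * v) = (x * u) * v := by rw [mul_assoc]
            _ = t * (u * (x * v)) := by rw [hxu]; simp only [mul_assoc]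
            _ = t * (u * (c * (u * (v * x)))) := by rw [hxv]
            _ = t * (c * ((u * u) * (v * x))) := by
              rw [← mul_assoc u c, ← hcu]; simp only [mul_assoc]
            _ = t * (c * (t * (v * x))) := by rw [h.uu]
            _ = c * v * x := by
              rw [← mul_assoc c t, h.R_comm hcR h.tR, mul_assoc t c, ← mul_assoc t t, h.tt, one_mul, mul_assoc]
        rw [mul_assoc _ x, e1]; simp only [mul_assoc]
      rw [this] at h1
      exact mul_right_cancel h1
    have h3 : (x * r * x⁻¹) * c = r * u := by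
      rw [← mul_assoc, ← mul_assoc] at h2
      exact mul_right_cancel h2
    apply h.u_not_mem
    have h4 : u = r⁻¹ * ((x * r * x⁻¹) * c) := by rw [h3]; group
    rw [h4]
    exact mul_mem (inv_mem hr) (mul_mem hr' hcR)

theorem off {r s p q : G} (hr : r ∈ R) (hs : s ∈ R) (hp : ∀ r ∈ R, r * p = p * r)
    (hq : ∀ r ∈ R, r * q = q * r) (hpq : p * q = t * (q * p))
    (hc : (r * p) * (s * q) = (s * q) * (r * p)) : False := by
  have e1 : (r * p) * (s * q) = t * ((r * s) * (q * p)) := by
    calc (r * p) * (s * q) = r * (p * s) * q := by simp only [mul_assoc]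
      _ = r * (s * p) * q := by rw [hp s hs]
      _ = (r * s) * (p * q) := by simp only [mul_assoc]
      _ = ((r * s) * t) * (q * p) := by rw [hpq]; simp only [mul_assoc]
      _ = t * ((r * s) * (q * p)) := by
        rw [h.tw (h.RT (mul_mem hr hs))]; simp only [mul_assoc]
  have e2 : (s * q) * (r * p) = (r * s) * (q * p) := by
    calc (s * q) * (r * p) = s * (q * r) * p := by simp only [mul_assoc]
      _ = s * (r * q) * p := by rw [hq r hr]
      _ = (s * r) * (q * p) := by simp only [mul_assoc]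
      _ = (r * s) * (q * p) := by rw [h.R_comm hs hr]
  rw [e1, e2] at hc
  exact h.t1 (mul_right_cancel (hc.trans (one_mul _).symm))

theorem uv' : u * v = t * (v * u) := by
  rw [h.uv, ← mul_assoc, h.tt, one_mul]

theorem u_uv : u * (u * v) = t * ((u * v) * u) := by
  rw [mul_assoc u v u, h.uv, ← mul_assoc u t, h.tu, mul_assoc t u, ← mul_assoc t t, h.tt, one_mul]

theorem uv_u : (u * v) * u = t * (u * (u * v)) := by
  rw [h.u_uv, ← mul_assoc t t, h.tt, one_mul]

theorem v_uv : v * (u * v) = t * ((u * v) * v) := by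
  rw [← mul_assoc, h.uv, mul_assoc]

theorem uv_v : (u * v) * v = t * (v * (u * v)) := by
  rw [h.v_uv, ← mul_assoc t t, h.tt, one_mul]

/-- commuting inner involutions -/
theorem two_inn {w z : G} (hw : w ∈ (T : Subgroup G)) (hi : Inn t v w) (hww : w * w = 1)
    (hw1 : w ≠ 1) (hwt : w ≠ t) (hz : z ∈ (T : Subgroup G)) (hj : Inn t v z) (hzz : z * z = 1)
    (hc : w * z = z * w) : z = 1 ∨ z = t ∨ z = w ∨ z = t * w := by
  rcases h.inn_inv hw hi hww with e | e | ⟨r, hr, hrr, hf⟩
  · exact absurd e hw1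
  · exact absurd e hwt
  rcases h.inn_inv hz hj hzz with e | e | ⟨s, hs, hss, hg⟩
  · exact Or.inl e
  · exact Or.inr (Or.inl e)
  right; right
  have hRu := h.Ru
  have hRv := h.Rv
  have hRuv : ∀ r ∈ R, r * (u * v) = (u * v) * r := fun r hr => by
    rw [← mul_assoc, h.Ru r hr, mul_assoc, h.Rv r hr, mul_assoc]
  have hsr : s = r ∨ s = t * r := h.sqrt_t hr hs hrr hss
  rcases hf with rfl | rfl | rfl <;> rcases hg with rfl | rfl | rfl
  · rcases hsr with rfl | rfl
    · exact Or.inl rfl
    · exact Or.inr (by rw [mul_assoc])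
  · exact (h.off hr hs hRu hRv h.uv' hc).elim
  · exact (h.off hr hs hRu hRuv h.u_uv hc).elim
  · exact (h.off hr hs hRv hRu h.uv hc).elim
  · rcases hsr with rfl | rfl
    · exact Or.inl rfl
    · exact Or.inr (by rw [mul_assoc])
  · exact (h.off hr hs hRv hRuv h.v_uv hc).elim
  · exact (h.off hr hs hRuv hRu h.uv_u hc).elim
  · exact (h.off hr hs hRuv hRv h.uv_v hc).elim
  · rcases hsr with rfl | rfl
    · exact Or.inl rfl
    · exact Or.inr (by simp only [mul_assoc])

/-- inner elements centralize `R` -/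
theorem inn_R {w r : G} (hw : w ∈ (T : Subgroup G)) (hi : Inn t v w) (hr : r ∈ R) : w * r = r * w := by
  obtain ⟨s, hs, hf⟩ := h.inner_form hw hi
  have hsr := h.R_comm hs hr
  rcases hf with rfl | rfl | rfl | rfl
  · exact hsr
  · rw [mul_assoc, ← h.Ru r hr, ← mul_assoc, hsr, mul_assoc]
  · rw [mul_assoc, ← h.Rv r hr, ← mul_assoc, hsr, mul_assoc]
  · rw [mul_assoc, mul_assoc, ← h.Rv r hr, ← mul_assoc u r, ← h.Ru r hr, mul_assoc r u, ← mul_assoc s r,
      hsr, mul_assoc]

/-- if an outer involution inverts `r` then all outer elements do -/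
theorem outr_r {x w r : G} (hx : x ∈ (T : Subgroup G)) (ho : Outr t u v x) (hxx : x * x = 1)
    (hr : r ∈ R) (hxr : x * r = t * (r * x)) (hw : w ∈ (T : Subgroup G)) (hwo : Outr t u v w) :
    w * r = t * (r * w) := by
  have h1 := h.inn_R (mul_mem hx hw) (h.outr_mul_outr hx ho hwo) hr
  have h2 : w = x * (x * w) := by rw [← mul_assoc, hxx, one_mul]
  calc w * r = x * ((x * w) * r) := by rw [← mul_assoc, ← h2]
    _ = (x * r) * (x * w) := by rw [h1, mul_assoc]
    _ = t * (r * (x * (x * w))) := by rw [hxr]; simp only [mul_assoc]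
    _ = t * (r * w) := by rw [← h2]

/-- outer elements are closed under multiplication by inner ones -/
theorem inn_mul_outr {w z : G} (hw : w ∈ (T : Subgroup G)) (hz : z ∈ (T : Subgroup G))
    (hi : Inn t v w) (ho : Outr t u v z) : Outr t u v (w * z) := by
  rcases h.inn_or_outr (mul_mem hw hz) with e | e
  · exfalso
    -- `w z` inner and `w⁻¹` inner give `z` inner
    have htt : ∀ z : G, t * (t * z) = z := fun z => by rw [← mul_assoc, h.tt, one_mul]
    obtain ⟨c1, hc1, e1⟩ : ∃ c, (c = 1 ∨ c = t) ∧ w * v = c * (v * w) := by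
      rcases hi with e1 | e1
      · exact ⟨1, Or.inl rfl, by rw [e1, one_mul]⟩
      · exact ⟨t, Or.inr rfl, e1⟩
    obtain ⟨c2, hc2, e2⟩ : ∃ c, (c = 1 ∨ c = t) ∧ w * z * v = c * (v * (w * z)) := by
      rcases e with e1 | e1
      · exact ⟨1, Or.inl rfl, by rw [e1, one_mul]⟩
      · exact ⟨t, Or.inr rfl, e1⟩
    have hcw : ∀ c : G, (c = 1 ∨ c = t) → c * w = w * c := by
      rintro c (rfl | rfl)
      · simp only [one_mul, mul_one]
      · exact (h.tw hw).symm
    have hcc : c1 * c1 = 1 := by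
      rcases hc1 with rfl | rfl
      · exact one_mul 1
      · exact h.tt
    have hc12 : c2 * c1 = 1 ∨ c2 * c1 = t := by
      rcases hc1 with rfl | rfl <;> rcases hc2 with rfl | rfl <;>
        simp only [one_mul, mul_one, h.tt, true_or, or_true]
    have key : z * v = (c2 * c1) * (v * z) := by
      have h3 : w * (z * v) = w * ((c2 * c1) * (v * z)) := by
        calc w * (z * v) = c2 * (v * w) * z := by rw [← mul_assoc, e2]; simp only [mul_assoc]
          _ = c2 * (c1 * (c1 * (v * w))) * z := by rw [← mul_assoc c1 c1, hcc, one_mul]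
          _ = c2 * (c1 * (w * v)) * z := by rw [e1]
          _ = (c2 * c1 * w) * (v * z) := by simp only [mul_assoc]
          _ = (w * (c2 * c1)) * (v * z) := by rw [hcw _ hc12]
          _ = w * ((c2 * c1) * (v * z)) := by rw [mul_assoc]
      exact mul_left_cancel h3
    apply h.not_inn_outr _ ho
    rcases hc12 with e3 | e3
    · left; rw [key, e3, one_mul]
    · right; rw [key, e3]
  · exact e

theorem inn_u : Inn t v u := Or.inr h.uv'

theorem inn_r {r : G} (hr : r ∈ R) : Inn t v r := Or.inl (h.Rv r hr)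

theorem inn_mul {w z : G} (hw : w ∈ (T : Subgroup G)) (hi : Inn t v w) (hj : Inn t v z) :
    Inn t v (w * z) := by
  obtain ⟨c1, hc1, e1⟩ : ∃ c, (c = 1 ∨ c = t) ∧ w * v = c * (v * w) := by
    rcases hi with e1 | e1
    · exact ⟨1, Or.inl rfl, by rw [e1, one_mul]⟩
    · exact ⟨t, Or.inr rfl, e1⟩
  obtain ⟨c2, hc2, e2⟩ : ∃ c, (c = 1 ∨ c = t) ∧ z * v = c * (v * z) := by
    rcases hj with e1 | e1
    · exact ⟨1, Or.inl rfl, by rw [e1, one_mul]⟩
    · exact ⟨t, Or.inr rfl, e1⟩
  have hcw : ∀ c : G, (c = 1 ∨ c = t) → w * c = c * w := by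
    rintro c (rfl | rfl)
    · simp only [one_mul, mul_one]
    · exact (h.tw hw)
  have hc12 : c2 * c1 = 1 ∨ c2 * c1 = t := by
    rcases hc1 with rfl | rfl <;> rcases hc2 with rfl | rfl <;>
      simp only [one_mul, mul_one, h.tt, true_or, or_true]
  have key : (w * z) * v = (c2 * c1) * (v * (w * z)) := by
    calc (w * z) * v = w * (z * v) := by rw [mul_assoc]
      _ = (w * c2) * (v * z) := by rw [e2, mul_assoc]
      _ = c2 * (w * v) * z := by rw [hcw c2 hc2]; simp only [mul_assoc]
      _ = (c2 * c1) * (v * (w * z)) := by rw [e1]; simp only [mul_assoc]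
  rcases hc12 with e3 | e3
  · left; rw [key, e3, one_mul]
  · right; rw [key, e3]

omit h in
theorem card_le_four (E : Subgroup G) (a b c d : G) (hE : ∀ x ∈ E, x = a ∨ x = b ∨ x = c ∨ x = d) :
    Nat.card E ≤ 4 := by
  classical
  have h1 : (E : Set G) ⊆ (({a, b, c, d} : Finset G) : Set G) := by
    intro x hx
    simp only [Finset.coe_insert, Finset.coe_singleton, Set.mem_insert_iff, Set.mem_singleton_iff]
    exact hE x hx
  have h2 := Set.ncard_le_ncard h1 (Finset.finite_toSet _)
  rw [Set.ncard_coe_finset] at h2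
  have h3 : Nat.card E = (E : Set G).ncard := rfl
  rw [h3]
  exact h2.trans Finset.card_le_four

theorem exists_pair (E : Subgroup G) (hET : E ≤ (T : Subgroup G)) (hE : ∀ x ∈ E, x * x = 1)
    (hcard : 4 < Nat.card E) : ∃ x r : G, x ∈ (T : Subgroup G) ∧ Outr t u v x ∧ x * x = 1 ∧ r ∈ R ∧
      r * r = t ∧ x * r = t * (r * x) := by
  have hcomm : ∀ a ∈ E, ∀ b ∈ E, a * b = b * a := by
    intro a ha b hb
    have h1 := hE _ (mul_mem ha hb)
    calc a * b = (a * b) * ((b * a) * (b * a)) := by rw [hE _ (mul_mem hb ha), mul_one]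
      _ = a * (b * b) * a * (b * a) := by simp only [mul_assoc]
      _ = b * a := by rw [hE b hb, mul_one, hE a ha, one_mul]
  have hout : ∃ x ∈ E, Outr t u v x := by
    by_contra hcon
    push Not at hcon
    have hinn : ∀ x ∈ E, Inn t v x := fun x hx =>
      (h.inn_or_outr (hET hx)).resolve_right (hcon x hx)
    by_cases hw : ∃ w ∈ E, w ≠ 1 ∧ w ≠ t
    · obtain ⟨w, hwE, hw1, hwt⟩ := hw
      have := card_le_four E 1 t w (t * w) (fun z hz =>
        h.two_inn (hET hwE) (hinn w hwE) (hE w hwE) hw1 hwt (hET hz) (hinn z hz) (hE z hz)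
          (hcomm w hwE z hz))
      omega
    · push Not at hw
      have := card_le_four E 1 t 1 1 (fun z hz => by
        by_cases e : z = 1
        · exact Or.inl e
        · exact Or.inr (Or.inl (hw z hz e)))
      omega
  obtain ⟨x, hxE, hxo⟩ := hout
  have hw : ∃ w ∈ E, Inn t v w ∧ w ≠ 1 ∧ w ≠ t := by
    by_contra hcon
    push Not at hcon
    have := card_le_four E 1 t x (x * t) (fun z hz => by
      rcases h.inn_or_outr (hET hz) with e | e
      · by_cases e' : z = 1
        · exact Or.inl e'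
        · exact Or.inr (Or.inl (hcon z hz e e'))
      · right; right
        have hi := h.outr_mul_outr (hET hxE) hxo e
        have hz' : z = x * (x * z) := by rw [← mul_assoc, hE x hxE, one_mul]
        by_cases e' : x * z = 1
        · left; rw [hz', e', mul_one]
        · right
          have := hcon (x * z) (mul_mem hxE hz) hi e'
          rw [hz', this])
    omega
  obtain ⟨w, hwE, hwi, hw1, hwt⟩ := hw
  rcases h.inn_outr_inv (hET hwE) hwi (hE w hwE) (hET hxE) hxo (hE x hxE) (hcomm x hxE w hwE) with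
    e | e | ⟨r, hr, hrr, _, hxr⟩
  · exact absurd e hw1
  · exact absurd e hwt
  · exact ⟨x, r, hET hxE, hxo, hE x hxE, hr, hrr, hxr⟩

/-- `r`, `u` up to sign -/
theorem act_y {x w r : G} (hx : x ∈ (T : Subgroup G)) (ho : Outr t u v x) (hxx : x * x = 1)
    (hr : r ∈ R) (hxr : x * r = t * (r * x)) (hw : w ∈ (T : Subgroup G)) :
    w * (r * u) = (r * u) * w ∨ w * (r * u) = t * ((r * u) * w) := by
  have h1 : ∃ c, (c = 1 ∨ c = t) ∧ w * r = c * (r * w) := by
    rcases h.inn_or_outr hw with e | e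
    · exact ⟨1, Or.inl rfl, by rw [one_mul]; exact h.inn_R hw e hr⟩
    · exact ⟨t, Or.inr rfl, h.outr_r hx ho hxx hr hxr hw e⟩
  have h2 : ∃ c, (c = 1 ∨ c = t) ∧ w * u = c * (u * w) := by
    rcases h.nu w hw with e | e
    · exact ⟨1, Or.inl rfl, by rw [one_mul]; exact e⟩
    · exact ⟨t, Or.inr rfl, e⟩
  obtain ⟨c, hc, e1⟩ := h1
  obtain ⟨d, hd, e2⟩ := h2
  have hdr : r * d = d * r := by
    rcases hd with rfl | rfl
    · rw [mul_one, one_mul]
    · exact h.tw (h.RT hr)
  have key : w * (r * u) = (c * d) * ((r * u) * w) := by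
    calc w * (r * u) = (w * r) * u := by rw [mul_assoc]
      _ = c * (r * (w * u)) := by rw [e1]; simp only [mul_assoc]
      _ = c * ((r * d) * (u * w)) := by rw [e2]; simp only [mul_assoc]
      _ = (c * d) * ((r * u) * w) := by rw [hdr]; simp only [mul_assoc]
  rw [key]
  rcases hc with rfl | rfl <;> rcases hd with rfl | rfl <;>
    simp only [one_mul, mul_one, h.tt, true_or, or_true]

/-- squares of most elements of `T` lie in `R` -/
theorem sq_mem {c : G} (hc : c ∈ (T : Subgroup G)) (hcu : Inn t v c ∨ c * u = t * (u * c)) :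
    c * c ∈ R := by
  have htt : ∀ z : G, t * (t * z) = z := fun z => by rw [← mul_assoc, h.tt, one_mul]
  have hut : ∀ z : G, u * (t * z) = t * (u * z) := fun z => by rw [← mul_assoc, h.tu, mul_assoc]
  have hct := h.tw hc
  have hct' : ∀ z : G, c * (t * z) = t * (c * z) := fun z => by rw [← mul_assoc, hct, mul_assoc]
  have huu : ∀ z : G, u * (u * z) = t * z := fun z => by rw [← mul_assoc, h.uu]
  have hU : (c * c) * u = u * (c * c) := by
    rcases h.nu c hc with e | e
    · rw [mul_assoc, e, ← mul_assoc, e, mul_assoc]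
    · rw [mul_assoc, e, hct', ← mul_assoc c u, e]; simp only [mul_assoc, htt]
  apply h.cent _ (mul_mem hc hc) hU
  rcases h.inn_or_outr hc with ho | ho
  · obtain ⟨d, hd, e1⟩ : ∃ d, (d = 1 ∨ d = t) ∧ c * v = d * (v * c) := by
      rcases ho with e1 | e1
      · exact ⟨1, Or.inl rfl, by rw [e1, one_mul]⟩
      · exact ⟨t, Or.inr rfl, e1⟩
    have hdd : d * d = 1 := by
      rcases hd with rfl | rfl
      · exact one_mul 1
      · exact h.tt
    have hcd : c * d = d * c := by
      rcases hd with rfl | rfl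
      · rw [mul_one, one_mul]
      · exact hct
    calc (c * c) * v = c * (c * v) := by rw [mul_assoc]
      _ = (c * d) * (v * c) := by rw [e1, mul_assoc]
      _ = d * ((c * v) * c) := by rw [hcd]; simp only [mul_assoc]
      _ = (d * d) * (v * (c * c)) := by rw [e1]; simp only [mul_assoc]
      _ = v * (c * c) := by rw [hdd, one_mul]
  · have hcu' : c * u = t * (u * c) := by
      rcases hcu with e | e
      · exact (h.not_inn_outr e ho).elim
      · exact e
    have hcu'' : ∀ z, c * (u * z) = t * (u * (c * z)) := fun z => by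
      rw [← mul_assoc, hcu']; simp only [mul_assoc]
    rcases ho with e | e
    · have e' : ∀ z, c * (v * z) = u * (v * (c * z)) := fun z => by
        rw [← mul_assoc, e]; simp only [mul_assoc]
      simp only [mul_assoc, e, e', hcu'', huu, htt, hut, hct']
    · have e' : ∀ z, c * (v * z) = t * (u * (v * (c * z))) := fun z => by
        rw [← mul_assoc, e]; simp only [mul_assoc]
      simp only [mul_assoc, e, e', hcu'', huu, htt, hut, hct']

omit h in
theorem mem_cent_iff (y w : G) : w ∈ Subgroup.centralizer {y} ↔ w * y = y * w := by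
  rw [Subgroup.mem_centralizer_iff]
  constructor
  · intro hh; exact (hh y rfl).symm
  · rintro hh z hz
    have : z = y := hz
    rw [this]; exact hh.symm

/-- `r u` is not conjugate to `t` -/
theorem y_not {x r : G} (hx : x ∈ (T : Subgroup G)) (ho : Outr t u v x) (hxx : x * x = 1)
    (hr : r ∈ R) (hxr : x * r = t * (r * x)) (g : G) : g * (r * u) * g⁻¹ ≠ t := by
  intro hg
  have hrt := h.tw (h.RT hr)
  have htt : ∀ z : G, t * (t * z) = z := fun z => by rw [← mul_assoc, h.tt, one_mul]
  -- the centralizer of `y`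
  set C : Subgroup G := (T : Subgroup G) ⊓ Subgroup.centralizer {r * u} with hC
  have hCmem : ∀ w, w ∈ C ↔ w ∈ (T : Subgroup G) ∧ w * (r * u) = (r * u) * w := fun w => by
    rw [hC, Subgroup.mem_inf, mem_cent_iff]
  have huC : u ∈ C := by
    rw [hCmem]
    refine ⟨h.uT, ?_⟩
    rw [← mul_assoc, ← h.Ru r hr]
  have hind : C.relIndex (T : Subgroup G) = 2 := by
    rw [Subgroup.relIndex_eq_two_iff_exists_notMem_and]
    have hvy : v * (r * u) = t * ((r * u) * v) := by
      rw [← mul_assoc, ← h.Rv r hr, mul_assoc, h.uv, ← mul_assoc r t, hrt]; simp only [mul_assoc]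
    refine ⟨v, h.vT, ?_, ?_⟩
    · rw [hCmem]
      rintro ⟨-, e⟩
      rw [hvy] at e
      exact h.t1 (mul_right_cancel (e.trans (one_mul _).symm))
    · intro b hb
      rcases h.act_y hx ho hxx hr hxr hb with e | e
      · exact Or.inr ((hCmem b).2 ⟨hb, e⟩)
      · left
        rw [hCmem]
        refine ⟨mul_mem hb h.vT, ?_⟩
        calc b * v * (r * u) = (b * t) * ((r * u) * v) := by rw [mul_assoc b v, hvy, ← mul_assoc b t]
          _ = t * (b * (r * u) * v) := by rw [h.tw hb]; simp only [mul_assoc]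
          _ = r * u * (b * v) := by rw [e]; simp only [mul_assoc, htt]
  -- move it into `T`
  have hV : IsPGroup 2 (C.map (MulAut.conj g).toMonoidHom) :=
    (T.isPGroup'.to_le inf_le_left).map _
  have hVH : C.map (MulAut.conj g).toMonoidHom ≤ Subgroup.centralizer {t} := by
    rintro _ ⟨w, hw, rfl⟩
    rw [mem_cent_iff]
    have hw' := ((hCmem w).1 hw).2
    show g * w * g⁻¹ * t = t * (g * w * g⁻¹)
    rw [← hg]
    calc g * w * g⁻¹ * (g * (r * u) * g⁻¹) = g * (w * (r * u)) * g⁻¹ := by group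
      _ = g * ((r * u) * w) * g⁻¹ := by rw [hw']
      _ = g * (r * u) * g⁻¹ * (g * w * g⁻¹) := by group
  have hTH : (T : Subgroup G) ≤ Subgroup.centralizer {t} := by
    intro w hw
    rw [mem_cent_iff]
    exact h.tw hw
  obtain ⟨c, hcH, hc⟩ := TwoFusion.SylowConj.exists_conj_le_of_sylow_le T _ _ hTH hV hVH
  rw [mem_cent_iff] at hcH
  set k : G := c * g with hk
  have hky : k * (r * u) * k⁻¹ = t := by
    calc k * (r * u) * k⁻¹ = c * (g * (r * u) * g⁻¹) * c⁻¹ := by rw [hk]; group
      _ = t := by rw [hg, hcH, mul_inv_cancel_right]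
  set V : Subgroup G := C.map (MulAut.conj k).toMonoidHom with hVdef
  have hVT : V ≤ (T : Subgroup G) := by
    rintro _ ⟨w, hw, rfl⟩
    have := hc (g * w * g⁻¹) ⟨w, hw, rfl⟩
    show k * w * k⁻¹ ∈ (T : Subgroup G)
    have e : k * w * k⁻¹ = c * (g * w * g⁻¹) * c⁻¹ := by rw [hk]; group
    rw [e]; exact this
  have hVi : V.relIndex (T : Subgroup G) = 2 := by
    have h1 : Nat.card V = Nat.card C :=
      Nat.card_congr (C.equivMapOfInjective _ (MulAut.conj k).injective).toEquiv.symm
    have h2 := Subgroup.card_mul_index (V.subgroupOf (T : Subgroup G))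
    have h3 := Subgroup.card_mul_index (C.subgroupOf (T : Subgroup G))
    have h4 : Nat.card (V.subgroupOf (T : Subgroup G)) = Nat.card V :=
      Nat.card_congr (Subgroup.subgroupOfEquivOfLe hVT).toEquiv
    have h5 : Nat.card (C.subgroupOf (T : Subgroup G)) = Nat.card C :=
      Nat.card_congr (Subgroup.subgroupOfEquivOfLe inf_le_left).toEquiv
    rw [h4, h1] at h2
    rw [h5] at h3
    have h6 : (C.subgroupOf (T : Subgroup G)).index = 2 := hind
    rw [h6] at h3
    have h7 : 0 < Nat.card C := Nat.card_pos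
    show (V.subgroupOf (T : Subgroup G)).index = 2
    exact Nat.eq_of_mul_eq_mul_left h7 (h2.trans h3.symm)
  have hVn : ∀ w ∈ (T : Subgroup G), ∀ z ∈ V, w * z * w⁻¹ ∈ V := by
    intro w hw z hz
    have h1 : (V.subgroupOf (T : Subgroup G)).Normal := Subgroup.normal_of_index_eq_two hVi
    have h2 := h1.conj_mem ⟨z, hVT hz⟩ (Subgroup.mem_subgroupOf.2 hz) ⟨w, hw⟩
    exact Subgroup.mem_subgroupOf.1 h2
  -- `k t k⁻¹` is central in `T`
  have hcen : ∀ w ∈ (T : Subgroup G), w * (k * t * k⁻¹) * w⁻¹ = k * t * k⁻¹ := by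
    intro w hw
    obtain ⟨d, hd, hde⟩ := hVn w hw (k * u * k⁻¹) ⟨u, huC, rfl⟩
    have hde' : k * d * k⁻¹ = w * (k * u * k⁻¹) * w⁻¹ := hde
    have h1 : w * (k * t * k⁻¹) * w⁻¹ = k * (d * d) * k⁻¹ := by
      calc w * (k * t * k⁻¹) * w⁻¹ = (w * (k * u * k⁻¹) * w⁻¹) * (w * (k * u * k⁻¹) * w⁻¹) := by
            rw [← h.uu]; group
        _ = k * (d * d) * k⁻¹ := by rw [← hde']; group
    have hd' := (hCmem d).1 hd
    have h2 : d * d ∈ R := by
      apply h.sq_mem hd'.1
      rcases h.inn_or_outr hd'.1 with e | e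
      · exact Or.inl e
      · right
        have h3 := h.outr_r hx ho hxx hr hxr hd'.1 e
        have h4 : r * (t * (d * u)) = r * (u * d) := by
          calc r * (t * (d * u)) = (r * t) * (d * u) := by rw [mul_assoc]
            _ = (t * (r * d)) * u := by rw [hrt]; simp only [mul_assoc]
            _ = d * (r * u) := by rw [← h3, mul_assoc]
            _ = r * (u * d) := by rw [hd'.2, mul_assoc]
        have h5 := mul_left_cancel h4
        rw [← h5, htt]
    have h3 : (d * d) * (d * d) = 1 := by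
      have h4 : (k * (d * d) * k⁻¹) * (k * (d * d) * k⁻¹) = 1 := by
        rw [← h1]
        calc w * (k * t * k⁻¹) * w⁻¹ * (w * (k * t * k⁻¹) * w⁻¹) = w * (k * (t * t) * k⁻¹) * w⁻¹ := by group
          _ = 1 := by rw [h.tt]; group
      have h5 : k * ((d * d) * (d * d)) * k⁻¹ = 1 := by
        rw [← h4]; group
      calc (d * d) * (d * d) = k⁻¹ * (k * ((d * d) * (d * d)) * k⁻¹) * k := by group
        _ = 1 := by rw [h5]; group
    rw [h1]
    rcases h.inv_R h2 h3 with e | e
    · exfalso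
      rw [e] at h1
      have h6 : k * t * k⁻¹ = 1 := by
        calc k * t * k⁻¹ = w⁻¹ * (w * (k * t * k⁻¹) * w⁻¹) * w := by group
          _ = 1 := by rw [h1]; group
      apply h.t1
      calc t = k⁻¹ * (k * t * k⁻¹) * k := by group
        _ = 1 := by rw [h6]; group
    · rw [e]
  have hkT : k * t * k⁻¹ ∈ (T : Subgroup G) := by
    apply hVT
    refine ⟨t, ?_, rfl⟩
    rw [← h.uu]
    exact mul_mem huC huC
  have hcm : ∀ w ∈ (T : Subgroup G), (k * t * k⁻¹) * w = w * (k * t * k⁻¹) := by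
    intro w hw
    have := hcen w hw
    calc (k * t * k⁻¹) * w = (w * (k * t * k⁻¹) * w⁻¹) * w := by rw [this]
      _ = w * (k * t * k⁻¹) := by group
  have hkR : k * t * k⁻¹ ∈ R := h.cent _ hkT (hcm u h.uT) (hcm v h.vT)
  have hk2 : (k * t * k⁻¹) * (k * t * k⁻¹) = 1 := by
    calc (k * t * k⁻¹) * (k * t * k⁻¹) = k * (t * t) * k⁻¹ := by group
      _ = 1 := by rw [h.tt]; group
  rcases h.inv_R hkR hk2 with e | e
  · apply h.t1
    calc t = k⁻¹ * (k * t * k⁻¹) * k := by group
      _ = 1 := by rw [e]; group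
  · have h6 : t = r * u := by
      calc t = k⁻¹ * (k * t * k⁻¹) * k := by group
        _ = k⁻¹ * (k * (r * u) * k⁻¹) * k := by rw [e, hky]
        _ = r * u := by group
    apply h.u_not_mem
    have h7 : u = r⁻¹ * t := eq_inv_mul_of_mul_eq h6.symm
    rw [h7]
    exact mul_mem (inv_mem hr) h.tR

/-- conjugate to `t` -/
def Dm (t e : G) : Prop := ∃ g : G, g * e * g⁻¹ = t

omit [Finite G] h in
theorem dm_conj {e : G} (hd : Dm t e) (k : G) : Dm t (k * e * k⁻¹) := by
  obtain ⟨g, hg⟩ := hd
  exact ⟨g * k⁻¹, by rw [← hg]; group⟩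

omit [Finite G] h in
theorem dm_of_conj {e : G} (k : G) (hd : Dm t (k * e * k⁻¹)) : Dm t e := by
  obtain ⟨g, hg⟩ := hd
  exact ⟨g * k, by rw [← hg]; group⟩

/-- the other square root of `t` -/
theorem inv_all {x r s : G} (hx : x ∈ (T : Subgroup G)) (hr : r ∈ R) (hrr : r * r = t)
    (hxr : x * r = t * (r * x)) (hs : s ∈ R) (hss : s * s = t) : x * s = t * (s * x) := by
  rcases h.sqrt_t hr hs hrr hss with rfl | rfl
  · exact hxr
  · rw [← mul_assoc, h.tw hx, mul_assoc, hxr]; simp only [mul_assoc]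

/-- the only inner element conjugate to `t` is `t` -/
theorem inn_dm {x r w : G} (hx : x ∈ (T : Subgroup G)) (ho : Outr t u v x) (hxx : x * x = 1)
    (hr : r ∈ R) (hrr : r * r = t) (hxr : x * r = t * (r * x))
    (hw : w ∈ (T : Subgroup G)) (hi : Inn t v w) (hd : Dm t w) : w = t := by
  obtain ⟨g, hg⟩ := hd
  have hww : w * w = 1 := by
    have h1 : w = g⁻¹ * t * g := by rw [← hg]; group
    calc w * w = g⁻¹ * (t * t) * g := by rw [h1]; group
      _ = 1 := by rw [h.tt]; group
  rcases h.inn_inv hw hi hww with e | e | ⟨s, hs, hss, hf⟩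
  · exfalso
    rw [e, mul_one, mul_inv_cancel] at hg
    exact h.t1 hg.symm
  · exact e
  exfalso
  have hxs := h.inv_all hx hr hrr hxr hs hss
  obtain ⟨k, hku, hkv, hkR⟩ := h.h3
  have hks := hkR s hs
  have hyn := h.y_not hx ho hxx hs hxs
  rcases hf with rfl | rfl | rfl
  · exact hyn g hg
  · apply hyn (g * k)
    rw [← hg]
    calc g * k * (s * u) * (g * k)⁻¹ = g * ((k * s) * u) * k⁻¹ * g⁻¹ := by group
      _ = g * (s * (k * u)) * k⁻¹ * g⁻¹ := by rw [hks, mul_assoc s]
      _ = g * (s * v) * g⁻¹ := by rw [hku]; group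
  · apply hyn (g * (k * k))
    rw [← hg]
    calc g * (k * k) * (s * u) * (g * (k * k))⁻¹ = g * (k * ((k * s) * u)) * k⁻¹ * k⁻¹ * g⁻¹ := by group
      _ = g * (k * (s * (k * u))) * k⁻¹ * k⁻¹ * g⁻¹ := by rw [hks, mul_assoc s k u]
      _ = g * ((k * s) * (v * k)) * k⁻¹ * k⁻¹ * g⁻¹ := by rw [hku]; simp only [mul_assoc]
      _ = g * (s * (k * v)) * k⁻¹ * g⁻¹ := by rw [hks]; group
      _ = g * (s * (u * v)) * g⁻¹ := by rw [hkv]; group

/-- the key lemma -/
theorem outer_pair {x r z : G} (hx : x ∈ (T : Subgroup G)) (ho : Outr t u v x) (hxx : x * x = 1)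
    (hr : r ∈ R) (hrr : r * r = t) (hxr : x * r = t * (r * x))
    (hz : z ∈ (T : Subgroup G)) (hzo : Outr t u v z) (hzz : z * z = 1) (hd : Dm t z)
    (hd' : Dm t (z * (r * u))) : False := by
  have hrt := h.tw (h.RT hr)
  have htt : ∀ z : G, t * (t * z) = z := fun z => by rw [← mul_assoc, h.tt, one_mul]
  have hzr := h.outr_r hx ho hxx hr hxr hz hzo
  have hzu := h.outr_u hz hzo hzz
  have hzt := h.tw hz
  have hzy : z * (r * u) = (r * u) * z := by
    calc z * (r * u) = (z * r) * u := by rw [mul_assoc]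
      _ = t * (r * (z * u)) := by rw [hzr]; simp only [mul_assoc]
      _ = t * ((r * t) * (u * z)) := by rw [hzu]; simp only [mul_assoc]
      _ = (r * u) * z := by rw [hrt]; simp only [mul_assoc, htt]
  obtain ⟨g, hg⟩ := hd
  -- the elementary group
  set E : Subgroup G := Subgroup.closure {z, t, r * u} with hE
  have hET : E ≤ (T : Subgroup G) := by
    rw [hE, Subgroup.closure_le]
    rintro w (rfl | rfl | rfl)
    · exact hz
    · exact h.tT
    · exact mul_mem (h.RT hr) h.uT
  have hEz : E ≤ Subgroup.centralizer {z} := by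
    rw [hE, Subgroup.closure_le]
    rintro w (rfl | rfl | rfl)
    · exact (mem_cent_iff _ _).2 rfl
    · exact (mem_cent_iff _ _).2 hzt.symm
    · exact (mem_cent_iff _ _).2 hzy.symm
  have hV : IsPGroup 2 (E.map (MulAut.conj g).toMonoidHom) := (T.isPGroup'.to_le hET).map _
  have hVH : E.map (MulAut.conj g).toMonoidHom ≤ Subgroup.centralizer {t} := by
    rintro _ ⟨w, hw, rfl⟩
    rw [mem_cent_iff]
    have hw' := (mem_cent_iff _ _).1 (hEz hw)
    show g * w * g⁻¹ * t = t * (g * w * g⁻¹)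
    rw [← hg]
    calc g * w * g⁻¹ * (g * z * g⁻¹) = g * (w * z) * g⁻¹ := by group
      _ = g * (z * w) * g⁻¹ := by rw [hw']
      _ = g * z * g⁻¹ * (g * w * g⁻¹) := by group
  have hTH : (T : Subgroup G) ≤ Subgroup.centralizer {t} := by
    intro w hw
    rw [mem_cent_iff]
    exact h.tw hw
  obtain ⟨c, hcH, hc⟩ := TwoFusion.SylowConj.exists_conj_le_of_sylow_le T _ _ hTH hV hVH
  rw [mem_cent_iff] at hcH
  set k : G := c * g with hk
  have hkz : k * z * k⁻¹ = t := by
    calc k * z * k⁻¹ = c * (g * z * g⁻¹) * c⁻¹ := by rw [hk]; group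
      _ = t := by rw [hg, hcH, mul_inv_cancel_right]
  have hkE : ∀ w ∈ E, k * w * k⁻¹ ∈ (T : Subgroup G) := by
    intro w hw
    have := hc (g * w * g⁻¹) ⟨w, hw, rfl⟩
    have e : k * w * k⁻¹ = c * (g * w * g⁻¹) * c⁻¹ := by rw [hk]; group
    rw [e]; exact this
  have htT : k * t * k⁻¹ ∈ (T : Subgroup G) :=
    hkE t (Subgroup.subset_closure (Or.inr (Or.inl rfl)))
  have hyT : k * (r * u) * k⁻¹ ∈ (T : Subgroup G) :=
    hkE _ (Subgroup.subset_closure (Or.inr (Or.inr rfl)))
  have hzt' : z ≠ t := by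
    rintro rfl
    exact h.not_inn_outr (h.inn_r h.tR) hzo
  have hinj : ∀ a b : G, k * a * k⁻¹ = k * b * k⁻¹ → a = b := by
    intro a b hab
    exact mul_left_cancel (mul_right_cancel hab)
  have ht1 : Outr t u v (k * t * k⁻¹) := by
    rcases h.inn_or_outr htT with e | e
    · exfalso
      have h1 := h.inn_dm hx ho hxx hr hrr hxr htT e (dm_conj ⟨1, by group⟩ k)
      exact hzt' (hinj _ _ (hkz.trans h1.symm))
    · exact e
  rcases h.inn_or_outr hyT with e | e
  · have h1 : t * (k * (r * u) * k⁻¹) = k * (z * (r * u)) * k⁻¹ := by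
      nth_rw 1 [← hkz]; group
    have h2 : Inn t v (t * (k * (r * u) * k⁻¹)) := h.inn_mul h.tT (h.inn_r h.tR) e
    have h3 := h.inn_dm hx ho hxx hr hrr hxr (mul_mem h.tT hyT) h2 (by rw [h1]; exact dm_conj hd' k)
    have h4 : z * (r * u) = z := hinj _ _ (by rw [← h1, h3, hkz])
    have h5 : r * u = 1 := mul_left_cancel (h4.trans (mul_one z).symm)
    apply h.u_not_mem
    rw [eq_inv_of_mul_eq_one_right h5]
    exact inv_mem hr
  · have h1 : t * (k * t * k⁻¹ * (k * (r * u) * k⁻¹)) = k * (z * (t * (r * u))) * k⁻¹ := by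
      nth_rw 1 [← hkz]; group
    have h2 : Inn t v (t * (k * t * k⁻¹ * (k * (r * u) * k⁻¹))) :=
      h.inn_mul h.tT (h.inn_r h.tR) (h.outr_mul_outr htT ht1 e)
    have h6 : r * (z * (r * u)) * r⁻¹ = z * (t * (r * u)) := by
      have h7 : (r * z) = t * (z * r) := by rw [hzr, htt]
      calc r * (z * (r * u)) * r⁻¹ = (r * z) * (r * u) * r⁻¹ := by simp only [mul_assoc]
        _ = t * z * (r * (r * u)) * r⁻¹ := by rw [h7]; simp only [mul_assoc]
        _ = t * z * (r * (u * r)) * r⁻¹ := by rw [h.Ru r hr]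
        _ = t * z * (r * u) := by group
        _ = z * (t * (r * u)) := by rw [← hzt]; simp only [mul_assoc]
    have h3 := h.inn_dm hx ho hxx hr hrr hxr (mul_mem h.tT (mul_mem htT hyT)) h2
      (by rw [h1, ← h6]; exact dm_conj (dm_conj hd' r) k)
    have h4 : z * (t * (r * u)) = z := hinj _ _ (by rw [← h1, h3, hkz])
    have h5 : t * r * u = 1 := by
      rw [mul_assoc]; exact mul_left_cancel (h4.trans (mul_one z).symm)
    apply h.u_not_mem
    rw [eq_inv_of_mul_eq_one_right h5]
    exact inv_mem (mul_mem h.tR hr)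

theorem dm_t_mul {x r z : G} (hx : x ∈ (T : Subgroup G)) (ho : Outr t u v x) (hxx : x * x = 1)
    (hr : r ∈ R) (hxr : x * r = t * (r * x))
    (hz : z ∈ (T : Subgroup G)) (hzo : Outr t u v z) (hd : Dm t z) : Dm t (t * z) := by
  have hzr := h.outr_r hx ho hxx hr hxr hz hzo
  have h1 : r * z * r⁻¹ = t * z := by
    have h7 : r * z = t * (z * r) := by rw [hzr, ← mul_assoc t t, h.tt, one_mul]
    rw [h7]; group
  rw [← h1]
  exact dm_conj hd r

/-- the case where `r` is a square in `R` -/
theorem no_outer_big {x r z ρ : G} (hx : x ∈ (T : Subgroup G)) (ho : Outr t u v x) (hxx : x * x = 1)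
    (hr : r ∈ R) (hrr : r * r = t) (hxr : x * r = t * (r * x))
    (hz : z ∈ (T : Subgroup G)) (hzo : Outr t u v z) (hzz : z * z = 1) (hd : Dm t z)
    (hρ : ρ ∈ R) (hρρ : ρ * ρ = r) : False := by
  have hrt := h.tw (h.RT hr)
  have hρt := h.tw (h.RT hρ)
  have htt : ∀ z : G, t * (t * z) = z := fun z => by rw [← mul_assoc, h.tt, one_mul]
  have hzr := h.outr_r hx ho hxx hr hxr hz hzo
  have hzu := h.outr_u hz hzo hzz
  have hzt := h.tw hz
  obtain ⟨d, hd1, hzv⟩ : ∃ d, (d = 1 ∨ d = t) ∧ z * v = d * (u * (v * z)) := by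
    rcases hzo with e1 | e1
    · exact ⟨1, Or.inl rfl, by rw [e1, one_mul]⟩
    · exact ⟨t, Or.inr rfl, e1⟩
  have hdc : ∀ w ∈ (T : Subgroup G), w * d = d * w := by
    intro w hw
    rcases hd1 with rfl | rfl
    · rw [mul_one, one_mul]
    · exact h.tw hw
  have hdd : d * d = 1 := by
    rcases hd1 with rfl | rfl
    · exact one_mul 1
    · exact h.tt
  -- `σ = z ρ z`
  have hσ : z * ρ * z⁻¹ ∈ R := h.conj_R hz hρ
  set σ : G := z * ρ * z⁻¹ with hσd
  have hzρ : z * ρ = σ * z := by rw [hσd]; group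
  have hσσ : σ * σ = t * r := by
    calc σ * σ = z * (ρ * ρ) * z⁻¹ := by rw [hσd]; group
      _ = (z * r) * z⁻¹ := by rw [hρρ]
      _ = t * r := by rw [hzr]; group
  have hσρ : σ * ρ = 1 ∨ σ * ρ = t := by
    apply h.inv_R (mul_mem hσ hρ)
    calc σ * ρ * (σ * ρ) = σ * (ρ * σ) * ρ := by simp only [mul_assoc]
      _ = σ * (σ * ρ) * ρ := by rw [h.R_comm hρ hσ]
      _ = (σ * σ) * (ρ * ρ) := by simp only [mul_assoc]
      _ = 1 := by rw [hσσ, hρρ, mul_assoc, hrr, h.tt]
  obtain ⟨e, he1, he⟩ : ∃ e, (e = 1 ∨ e = t) ∧ σ * ρ = e := by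
    rcases hσρ with e1 | e1
    · exact ⟨1, Or.inl rfl, e1⟩
    · exact ⟨t, Or.inr rfl, e1⟩
  have hec : ∀ w ∈ (T : Subgroup G), w * e = e * w := by
    intro w hw
    rcases he1 with rfl | rfl
    · rw [mul_one, one_mul]
    · exact h.tw hw
  have hρz : ρ * z = z * σ := by
    calc ρ * z = (z * z) * (ρ * z) := by rw [hzz, one_mul]
      _ = z * ((z * ρ) * z) := by simp only [mul_assoc]
      _ = z * σ := by rw [hzρ, mul_assoc σ z z, hzz, mul_one]
  have hrσ : r * σ = e * ρ := by
    rw [← hρρ, mul_assoc, h.R_comm hρ hσ, he, hec _ (h.RT hρ)]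
  -- `v z = t d u z v`
  have hvz : v * z = t * (d * (u * (z * v))) := by
    have h1 : u * (z * v) = d * (t * (v * z)) := by
      rw [hzv, ← mul_assoc u d, hdc u h.uT, mul_assoc d u, ← mul_assoc u u, h.uu]
    rw [h1, ← mul_assoc d d, hdd, one_mul, htt]
  have hut : ∀ z : G, u * (t * z) = t * (u * z) := fun z => by rw [← mul_assoc, h.tu, mul_assoc]
  have key : (ρ * v) * z = (t * (d * e)) * ((r * u) * z) * (ρ * v) := by
    have h1 : (ρ * v) * z = t * (d * ((ρ * u) * (z * v))) := by
      rw [mul_assoc, hvz, ← mul_assoc ρ t, hρt, mul_assoc t ρ, ← mul_assoc ρ d, hdc _ (h.RT hρ)]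
      simp only [mul_assoc]
    have h2 : (r * u) * z * (ρ * v) = e * ((ρ * u) * (z * v)) := by
      calc (r * u) * z * (ρ * v) = (r * u) * (z * ρ) * v := by simp only [mul_assoc]
        _ = r * (u * σ) * (z * v) := by rw [hzρ]; simp only [mul_assoc]
        _ = (r * σ) * u * (z * v) := by rw [← h.Ru σ hσ]; simp only [mul_assoc]
        _ = e * ((ρ * u) * (z * v)) := by rw [hrσ]; simp only [mul_assoc]
    have hee : e * e = 1 := by
      rcases he1 with rfl | rfl
      · exact one_mul 1
      · exact h.tt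
    rw [h1, mul_assoc (t * (d * e)), h2]
    calc t * (d * ((ρ * u) * (z * v))) = t * (d * ((e * e) * ((ρ * u) * (z * v)))) := by rw [hee, one_mul]
      _ = t * (d * e) * (e * (ρ * u * (z * v))) := by simp only [mul_assoc]
  have hyz : (r * u) * z = z * (r * u) := by
    have : z * (r * u) = (r * u) * z := by
      calc z * (r * u) = (z * r) * u := by rw [mul_assoc]
        _ = t * (r * (z * u)) := by rw [hzr]; simp only [mul_assoc]
        _ = t * ((r * t) * (u * z)) := by rw [hzu]; simp only [mul_assoc]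
        _ = (r * u) * z := by rw [hrt]; simp only [mul_assoc, htt]
    exact this.symm
  have hD1 : Dm t ((t * (d * e)) * (z * (r * u))) := by
    rw [← hyz]
    have h1 : (ρ * v) * z * (ρ * v)⁻¹ = (t * (d * e)) * ((r * u) * z) := by
      rw [key, mul_inv_cancel_right]
    rw [← h1]
    exact dm_conj hd _
  have hzyT : z * (r * u) ∈ (T : Subgroup G) := mul_mem hz (mul_mem (h.RT hr) h.uT)
  have hzyo : Outr t u v (z * (r * u)) := by
    rw [← hyz]
    exact h.inn_mul_outr (mul_mem (h.RT hr) h.uT) hz (h.inn_mul (h.RT hr) (h.inn_r hr) h.inn_u) hzo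
  have hD2 : Dm t (z * (r * u)) := by
    have hc : t * (d * e) = 1 ∨ t * (d * e) = t := by
      rcases hd1 with rfl | rfl <;> rcases he1 with h1 | h1 <;> rw [h1] <;>
        simp only [one_mul, mul_one, h.tt, true_or, or_true]
    rcases hc with h1 | h1
    · rw [h1, one_mul] at hD1; exact hD1
    · rw [h1] at hD1
      have h2 : t * (z * (r * u)) ∈ (T : Subgroup G) := mul_mem h.tT hzyT
      have h3 : Outr t u v (t * (z * (r * u))) := h.inn_mul_outr h.tT hzyT (h.inn_r h.tR) hzyo
      have h4 := h.dm_t_mul hx ho hxx hr hxr h2 h3 hD1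
      rwa [htt] at h4
  exact h.outer_pair hx ho hxx hr hrr hxr hz hzo hzz hd hD2

/-- if `r` is not a square in `R` then `|R| = 4` -/
theorem R_list {r : G} (hr : r ∈ R) (hrr : r * r = t) (hno : ∀ ρ ∈ R, ρ * ρ ≠ r) {s : G} (hs : s ∈ R) :
    (s = 1 ∨ s = t) ∨ (s * r = 1 ∨ s * r = t) := by
  obtain ⟨⟨g0, hg0⟩, hgen⟩ := h.Rcyc
  obtain ⟨k, hk⟩ := Subgroup.mem_zpowers_iff.1 (hgen ⟨r, hr⟩)
  obtain ⟨j, hj⟩ := Subgroup.mem_zpowers_iff.1 (hgen ⟨s, hs⟩)
  have hk' : g0 ^ k = r := congrArg Subtype.val hk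
  have hj' : g0 ^ j = s := congrArg Subtype.val hj
  have hkodd : ¬ (2 : ℤ) ∣ k := by
    rintro ⟨m, rfl⟩
    exact hno (g0 ^ m) (zpow_mem hg0 m) (by rw [← zpow_add, ← two_mul]; exact hk')
  have h4 : g0 ^ (4 : ℤ) = 1 := by
    obtain ⟨n, hn⟩ := (IsPGroup.iff_orderOf.1 (T.isPGroup'.to_le h.RT)) ⟨g0, hg0⟩
    rw [Subgroup.orderOf_mk] at hn
    have h1 : (orderOf g0 : ℤ) ∣ 4 * k := by
      rw [orderOf_dvd_iff_zpow_eq_one, mul_comm, zpow_mul, hk']
      have : r ^ (4 : ℤ) = (r * r) * (r * r) := by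
        have : (4 : ℤ) = 1 + 1 + 1 + 1 := by norm_num
        rw [this]; simp only [zpow_add, zpow_one, mul_assoc]
      rw [this, hrr, h.tt]
    rw [← orderOf_dvd_iff_zpow_eq_one]
    have h2 : IsCoprime ((orderOf g0 : ℕ) : ℤ) k := by
      rw [hn]
      push_cast
      apply IsCoprime.pow_left
      rw [Int.isCoprime_iff_gcd_eq_one]
      have h3 := Int.gcd_dvd_left 2 k
      have h5 := Int.gcd_dvd_right 2 k
      have h6 : Int.gcd 2 k ∣ 2 := by exact_mod_cast h3
      rcases (Nat.dvd_prime Nat.prime_two).1 h6 with e | e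
      · exact e
      · exfalso
        rw [e] at h5
        exact hkodd h5
    exact h2.dvd_of_dvd_mul_right h1
  have h2 : g0 ^ (2 : ℤ) = 1 ∨ g0 ^ (2 : ℤ) = t := by
    apply h.inv_R (zpow_mem hg0 2)
    rw [← zpow_add]; exact h4
  have hsq : s * s = 1 ∨ s * s = t := by
    rw [← hj', ← zpow_add, ← two_mul, zpow_mul]
    rcases h2 with e | e
    · left; rw [e, one_zpow]
    · rw [e]
      rcases Int.even_or_odd j with ⟨m, rfl⟩ | ⟨m, rfl⟩
      · left
        rw [zpow_add, ← (Commute.refl t).mul_zpow, h.tt, one_zpow]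
      · right
        rw [zpow_add, two_mul, zpow_add, ← (Commute.refl t).mul_zpow, h.tt, one_zpow, one_mul, zpow_one]
  rcases hsq with e | e
  · left; exact h.inv_R hs e
  · right
    rcases h.sqrt_t hr hs hrr e with e1 | e1
    · right; rw [e1, hrr]
    · left; rw [e1, mul_assoc, hrr, h.tt]

/-- elements of `⟨u, v⟩` -/
theorem P_list {w : G} (hw : w ∈ Subgroup.closure ({u, v} : Set G)) :
    ∃ c, (c = 1 ∨ c = t) ∧ (w = c ∨ w = c * u ∨ w = c * v ∨ w = c * (u * v)) := by
  have htt : ∀ z : G, t * (t * z) = z := fun z => by rw [← mul_assoc, h.tt, one_mul]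
  have hut : ∀ z : G, u * (t * z) = t * (u * z) := fun z => by rw [← mul_assoc, h.tu, mul_assoc]
  have hvt : ∀ z : G, v * (t * z) = t * (v * z) := fun z => by rw [← mul_assoc, h.tv, mul_assoc]
  have huu : ∀ z : G, u * (u * z) = t * z := fun z => by rw [← mul_assoc, h.uu]
  have hvv : ∀ z : G, v * (v * z) = t * z := fun z => by rw [← mul_assoc, h.vv]
  have hvu : ∀ z : G, v * (u * z) = t * (u * (v * z)) := fun z => by
    rw [← mul_assoc, h.uv]; simp only [mul_assoc]
  have hui : u⁻¹ = t * u := by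
    rw [inv_eq_iff_mul_eq_one, hut, h.uu, h.tt]
  have hvi : v⁻¹ = t * v := by
    rw [inv_eq_iff_mul_eq_one, hvt, h.vv, h.tt]
  have hct : ∀ c : G, (c = 1 ∨ c = t) → (c * t = 1 ∨ c * t = t) := by
    rintro c (rfl | rfl)
    · right; rw [one_mul]
    · left; exact h.tt
  -- multiplication by `u`
  have hU : ∀ x : G, (∃ c, (c = 1 ∨ c = t) ∧ (x = c ∨ x = c * u ∨ x = c * v ∨ x = c * (u * v))) →
      ∃ c, (c = 1 ∨ c = t) ∧ (x * u = c ∨ x * u = c * u ∨ x * u = c * v ∨ x * u = c * (u * v)) := by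
    rintro x ⟨c, hc, rfl | rfl | rfl | rfl⟩
    · exact ⟨x, hc, Or.inr (Or.inl rfl)⟩
    · exact ⟨c * t, hct c hc, Or.inl (by rw [mul_assoc, h.uu])⟩
    · exact ⟨c * t, hct c hc, Or.inr (Or.inr (Or.inr (by rw [mul_assoc, h.uv, mul_assoc])))⟩
    · refine ⟨c, hc, Or.inr (Or.inr (Or.inl ?_))⟩
      rw [mul_assoc, mul_assoc, h.uv, hut, huu, htt]
  have hV : ∀ x : G, (∃ c, (c = 1 ∨ c = t) ∧ (x = c ∨ x = c * u ∨ x = c * v ∨ x = c * (u * v))) →
      ∃ c, (c = 1 ∨ c = t) ∧ (x * v = c ∨ x * v = c * u ∨ x * v = c * v ∨ x * v = c * (u * v)) := by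
    rintro x ⟨c, hc, rfl | rfl | rfl | rfl⟩
    · exact ⟨x, hc, Or.inr (Or.inr (Or.inl rfl))⟩
    · exact ⟨c, hc, Or.inr (Or.inr (Or.inr (by rw [mul_assoc])))⟩
    · exact ⟨c * t, hct c hc, Or.inl (by rw [mul_assoc, h.vv])⟩
    · refine ⟨c * t, hct c hc, Or.inr (Or.inl ?_)⟩
      rw [mul_assoc, mul_assoc, h.vv, h.tu, mul_assoc]
  have hTm : ∀ x : G, (∃ c, (c = 1 ∨ c = t) ∧ (x = c ∨ x = c * u ∨ x = c * v ∨ x = c * (u * v))) →
      ∃ c, (c = 1 ∨ c = t) ∧ (x * t = c ∨ x * t = c * u ∨ x * t = c * v ∨ x * t = c * (u * v)) := by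
    rintro x ⟨c, hc, rfl | rfl | rfl | rfl⟩
    · exact ⟨x * t, hct x hc, Or.inl rfl⟩
    · exact ⟨c * t, hct c hc, Or.inr (Or.inl (by rw [mul_assoc, h.tu, mul_assoc]))⟩
    · exact ⟨c * t, hct c hc, Or.inr (Or.inr (Or.inl (by rw [mul_assoc, h.tv, mul_assoc])))⟩
    · refine ⟨c * t, hct c hc, Or.inr (Or.inr (Or.inr ?_))⟩
      rw [mul_assoc, mul_assoc, h.tv, hut, mul_assoc]
  refine Subgroup.closure_induction_right (p := fun w _ => ∃ c, (c = 1 ∨ c = t) ∧
    (w = c ∨ w = c * u ∨ w = c * v ∨ w = c * (u * v))) ?_ ?_ ?_ hw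
  · exact ⟨1, Or.inl rfl, Or.inl rfl⟩
  · rintro x hx y (rfl | rfl) ih
    · exact hU x ih
    · exact hV x ih
  · rintro x hx y (rfl | rfl) ih
    · rw [hui, ← mul_assoc]
      exact hU _ (hTm x ih)
    · rw [hvi, ← mul_assoc]
      exact hV _ (hTm x ih)

/-- the case where `|R| = 4` -/
theorem no_outer_small (hN : ∀ M : Subgroup G, M.Normal → M.index ≠ 2)
    {x r z : G} (hx : x ∈ (T : Subgroup G)) (ho : Outr t u v x) (hxx : x * x = 1)
    (hr : r ∈ R) (hrr : r * r = t) (hxr : x * r = t * (r * x))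
    (hz : z ∈ (T : Subgroup G)) (hzo : Outr t u v z) (hzz : z * z = 1) (hd : Dm t z)
    (hno : ∀ ρ ∈ R, ρ * ρ ≠ r) : False := by
  have hrt := h.tw (h.RT hr)
  have htt : ∀ z : G, t * (t * z) = z := fun z => by rw [← mul_assoc, h.tt, one_mul]
  have hut : ∀ z : G, u * (t * z) = t * (u * z) := fun z => by rw [← mul_assoc, h.tu, mul_assoc]
  have hvt : ∀ z : G, v * (t * z) = t * (v * z) := fun z => by rw [← mul_assoc, h.tv, mul_assoc]
  have huu : ∀ z : G, u * (u * z) = t * z := fun z => by rw [← mul_assoc, h.uu]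
  have hvv : ∀ z : G, v * (v * z) = t * z := fun z => by rw [← mul_assoc, h.vv]
  have hvu : ∀ z : G, v * (u * z) = t * (u * (v * z)) := fun z => by
    rw [← mul_assoc, h.uv]; simp only [mul_assoc]
  have hzr := h.outr_r hx ho hxx hr hxr hz hzo
  have hzu := h.outr_u hz hzo hzz
  have hzt := h.tw hz
  have hzi : z⁻¹ = z := inv_eq_of_mul_eq_one_left hzz
  obtain ⟨d, hd1, hzv⟩ : ∃ d, (d = 1 ∨ d = t) ∧ z * v = d * (u * (v * z)) := by
    rcases hzo with e1 | e1
    · exact ⟨1, Or.inl rfl, by rw [e1, one_mul]⟩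
    · exact ⟨t, Or.inr rfl, e1⟩
  have hdc : ∀ w ∈ (T : Subgroup G), w * d = d * w := by
    intro w hw
    rcases hd1 with rfl | rfl
    · rw [mul_one, one_mul]
    · exact h.tw hw
  have hdd : d * d = 1 := by
    rcases hd1 with rfl | rfl
    · exact one_mul 1
    · exact h.tt
  set P : Subgroup G := Subgroup.closure {u, v} with hP
  have huP : u ∈ P := Subgroup.subset_closure (Or.inl rfl)
  have hvP : v ∈ P := Subgroup.subset_closure (Or.inr rfl)
  have htP : t ∈ P := h.uu ▸ mul_mem huP huP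
  have hdP : d ∈ P := by
    rcases hd1 with rfl | rfl
    · exact one_mem _
    · exact htP
  have hPT : P ≤ (T : Subgroup G) := by
    rw [hP, Subgroup.closure_le]
    rintro w (rfl | rfl)
    · exact h.uT
    · exact h.vT
  have hPi : ∀ w ∈ P, Inn t v w := by
    intro w hw
    obtain ⟨c, hc, hf⟩ := h.P_list hw
    have hcR : c ∈ R := by
      rcases hc with rfl | rfl
      · exact one_mem _
      · exact h.tR
    have hcT := h.RT hcR
    have hvi : Inn t v v := Or.inl rfl
    rcases hf with rfl | rfl | rfl | rfl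
    · exact h.inn_r hcR
    · exact h.inn_mul hcT (h.inn_r hcR) h.inn_u
    · exact h.inn_mul hcT (h.inn_r hcR) hvi
    · exact h.inn_mul hcT (h.inn_r hcR) (h.inn_mul h.uT h.inn_u hvi)
  -- `z` normalizes `P`
  have hzP : ∀ w ∈ P, z * w * z ∈ P := by
    intro w hw
    rw [hP] at hw
    have hz1 : z * (1 : G) * z = 1 := by rw [mul_one, hzz]
    have hmul : ∀ a b : G, z * (a * b) * z = (z * a * z) * (z * b * z) := by
      intro a b
      calc z * (a * b) * z = z * a * (1 : G) * b * z := by simp only [mul_assoc, one_mul]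
        _ = z * a * (z * z) * b * z := by rw [hzz]
        _ = (z * a * z) * (z * b * z) := by simp only [mul_assoc]
    refine Subgroup.closure_induction (p := fun w _ => z * w * z ∈ P) ?_ ?_ ?_ ?_ hw
    · rintro y (rfl | rfl)
      · rw [hzu, mul_assoc, mul_assoc, hzz, mul_one]
        exact mul_mem htP huP
      · rw [hzv, mul_assoc, mul_assoc, mul_assoc, hzz, mul_one]
        exact mul_mem hdP (mul_mem huP hvP)
    · show z * (1 : G) * z ∈ P
      rw [hz1]; exact one_mem _
    · intro a b _ _ ha hb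
      show z * (a * b) * z ∈ P
      rw [hmul]; exact mul_mem ha hb
    · intro a _ ha
      show z * a⁻¹ * z ∈ P
      have : z * a⁻¹ * z = (z * a * z)⁻¹ := by rw [mul_inv_rev, mul_inv_rev, hzi, mul_assoc]
      rw [this]; exact inv_mem ha
  -- the subgroup `P ⟨z⟩`
  let T2 : Subgroup G :=
    { carrier := {w | w ∈ P ∨ w * z ∈ P}
      one_mem' := Or.inl (one_mem P)
      mul_mem' := by
        rintro a b (ha | ha) (hb | hb)
        · exact Or.inl (mul_mem ha hb)
        · right
          rw [mul_assoc]; exact mul_mem ha hb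
        · right
          have : a * b * z = (a * z) * (z * b * z) := by
            calc a * b * z = a * (1 : G) * b * z := by rw [mul_one]
              _ = a * (z * z) * b * z := by rw [hzz]
              _ = (a * z) * (z * b * z) := by simp only [mul_assoc]
          rw [this]; exact mul_mem ha (hzP b hb)
        · left
          have : a * b = (a * z) * (z * (b * z) * z) := by
            calc a * b = a * (1 : G) * b * 1 := by rw [mul_one, mul_one]
              _ = a * (z * z) * b * (z * z) := by rw [hzz]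
              _ = (a * z) * (z * (b * z) * z) := by simp only [mul_assoc]
          rw [this]; exact mul_mem ha (hzP _ hb)
      inv_mem' := by
        rintro a (ha | ha)
        · exact Or.inl (inv_mem ha)
        · right
          have : a⁻¹ * z = z * (a * z)⁻¹ * z := by
            rw [mul_inv_rev, hzi, ← mul_assoc, hzz, one_mul]
          rw [this]; exact hzP _ (inv_mem ha) }
  have hT2 : ∀ w, w ∈ T2 ↔ w ∈ P ∨ w * z ∈ P := fun w => Iff.rfl
  have hPR : ∀ w ∈ P, w ∈ R → w = 1 ∨ w = t := by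
    intro w hw hwR
    obtain ⟨c, hc, hf⟩ := h.P_list hw
    have hcR : c ∈ R := by
      rcases hc with rfl | rfl
      · exact one_mem _
      · exact h.tR
    rcases hf with rfl | rfl | rfl | rfl
    · exact hc
    · exact (h.u_not_mem ((mul_mem_cancel_left hcR).1 hwR)).elim
    · exact (h.v_not_mem ((mul_mem_cancel_left hcR).1 hwR)).elim
    · exact (h.uv_not_mem ((mul_mem_cancel_left hcR).1 hwR)).elim
  have hT2T : T2 ≤ (T : Subgroup G) := by
    rintro w (hw | hw)
    · exact hPT hw
    · have := mul_mem (hPT hw) hz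
      rwa [mul_assoc, hzz, mul_one] at this
  have hrR : ∀ b ∈ (T : Subgroup G), Inn t v b → b ∈ P ∨ b * r ∈ P := by
    intro b hb hi
    obtain ⟨s, hs, hf⟩ := h.inner_form hb hi
    have hRl := h.R_list hr hrr hno hs
    have hf' : ∃ p ∈ P, (r * p = p * r) ∧ b = s * p := by
      rcases hf with rfl | rfl | rfl | rfl
      · exact ⟨1, one_mem _, by rw [mul_one, one_mul], (mul_one _).symm⟩
      · exact ⟨u, huP, h.Ru r hr, rfl⟩
      · exact ⟨v, hvP, h.Rv r hr, rfl⟩
      · exact ⟨u * v, mul_mem huP hvP, by rw [← mul_assoc, h.Ru r hr, mul_assoc, h.Rv r hr, mul_assoc], rfl⟩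
    obtain ⟨p, hp, hrp, rfl⟩ := hf'
    rcases hRl with e | e
    · left
      apply mul_mem _ hp
      rcases e with rfl | rfl
      · exact one_mem _
      · exact htP
    · right
      rw [mul_assoc, ← hrp, ← mul_assoc]
      apply mul_mem _ hp
      rcases e with e | e <;> rw [e]
      · exact one_mem _
      · exact htP
  have hind : T2.relIndex (T : Subgroup G) = 2 := by
    rw [Subgroup.relIndex_eq_two_iff_exists_notMem_and]
    refine ⟨r, h.RT hr, ?_, ?_⟩
    · rintro (e | e)
      · rcases hPR r e hr with e1 | e1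
        · rw [e1, one_mul] at hrr; exact h.t1 hrr.symm
        · rw [e1, h.tt] at hrr; exact h.t1 hrr.symm
      · exact h.not_inn_outr (hPi _ e) (h.inn_mul_outr (h.RT hr) hz (h.inn_r hr) hzo)
    · intro b hb
      rcases h.inn_or_outr hb with e | e
      · rcases hrR b hb e with e1 | e1
        · exact Or.inr (Or.inl e1)
        · exact Or.inl (Or.inl e1)
      · have h1 := hrR (b * z) (mul_mem hb hz) (h.outr_mul_outr hb e hzo)
        rcases h1 with e1 | e1
        · exact Or.inr (Or.inr e1)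
        · left; right
          have h2 : b * r * z = t * (b * z * r) := by
            have h3 : z * r = t * (r * z) := hzr
            rw [mul_assoc b z r, h3, ← mul_assoc b t, h.tw hb]
            simp only [mul_assoc, htt]
          rw [h2]; exact mul_mem htP e1
  -- involutions of `T2`
  have hinvol : ∀ w ∈ T2, w * w = 1 → w ≠ 1 → Dm t w := by
    have hDt : Dm t t := ⟨1, by group⟩
    have hDz := hd
    have hDtz := h.dm_t_mul hx ho hxx hr hxr hz hzo hd
    have huz : Outr t u v (u * z) := h.inn_mul_outr h.uT hz h.inn_u hzo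
    have huzT : u * z ∈ (T : Subgroup G) := mul_mem h.uT hz
    have h1 : v * z * v⁻¹ = t * (d * (u * z)) := by
      have h2 : v * z = (t * (d * (u * z))) * v := by
        have h3 : u * (z * v) = d * (t * (v * z)) := by
          rw [hzv, ← mul_assoc u d, hdc u h.uT, mul_assoc d u, ← mul_assoc u u, h.uu]
        calc v * z = t * (d * (d * (t * (v * z)))) := by rw [← mul_assoc d d, hdd, one_mul, htt]
          _ = t * (d * (u * (z * v))) := by rw [h3]
          _ = (t * (d * (u * z))) * v := by simp only [mul_assoc]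
      rw [h2, mul_inv_cancel_right]
    have hD1 : Dm t (t * (d * (u * z))) := by rw [← h1]; exact dm_conj hd v
    have hD2 : Dm t (u * z) ∧ Dm t (t * (u * z)) := by
      rcases hd1 with e | e
      · rw [e, one_mul] at hD1
        refine ⟨?_, hD1⟩
        have := h.dm_t_mul hx ho hxx hr hxr (mul_mem h.tT huzT)
          (h.inn_mul_outr h.tT huzT (h.inn_r h.tR) huz) hD1
        rwa [htt] at this
      · rw [e, htt] at hD1
        exact ⟨hD1, h.dm_t_mul hx ho hxx hr hxr huzT huz hD1⟩
    rintro w (hw | hw) hww hw1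
    · obtain ⟨c, hc, hf⟩ := h.P_list hw
      have hcc : c * c = 1 := by
        rcases hc with rfl | rfl
        · exact one_mul 1
        · exact h.tt
      have hcT : c ∈ (T : Subgroup G) := by
        rcases hc with rfl | rfl
        · exact one_mem _
        · exact h.tT
      have hcp : ∀ p : G, (p * c = c * p) → p * p = t → (c * p) * (c * p) = t := by
        intro p h1 h2
        calc (c * p) * (c * p) = c * (p * c) * p := by simp only [mul_assoc]
          _ = (c * c) * (p * p) := by rw [h1]; simp only [mul_assoc]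
          _ = t := by rw [hcc, h2, one_mul]
      have hcw : ∀ w ∈ (T : Subgroup G), w * c = c * w := by
        intro w hw
        rcases hc with rfl | rfl
        · rw [mul_one, one_mul]
        · exact h.tw hw
      rcases hf with rfl | rfl | rfl | rfl
      · rcases hc with rfl | rfl
        · exact absurd rfl hw1
        · exact hDt
      · exact absurd ((hcp u (hcw u h.uT) h.uu).symm.trans hww) h.t1
      · exact absurd ((hcp v (hcw v h.vT) h.vv).symm.trans hww) h.t1
      · refine absurd ((hcp (u * v) (hcw _ (mul_mem h.uT h.vT)) ?_).symm.trans hww) h.t1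
        rw [mul_assoc, hvu, h.vv, hut, huu, h.tt, mul_one]
    · obtain ⟨c, hc, hf⟩ := h.P_list hw
      have hcc : c * c = 1 := by
        rcases hc with rfl | rfl
        · exact one_mul 1
        · exact h.tt
      have hcw : ∀ w ∈ (T : Subgroup G), w * c = c * w := by
        intro w hw
        rcases hc with rfl | rfl
        · rw [mul_one, one_mul]
        · exact h.tw hw
      have hwz : ∀ p, w * z = p → w = p * z := by
        intro p hp; rw [← hp, mul_assoc, hzz, mul_one]
      have hcD : ∀ p : G, Dm t p → Dm t (t * p) → Dm t (c * p) := by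
        intro p h1 h2
        rcases hc with rfl | rfl
        · rw [one_mul]; exact h1
        · exact h2
      -- the square of `c p z`
      have hsq : ∀ p q : G, p ∈ (T : Subgroup G) → z * p = q * z → w = c * p * z → p * q = 1 := by
        intro p q hpT hq hwp
        have h1 : w * w = (c * c) * (p * q) := by
          calc w * w = (c * p * z) * (c * p * z) := by rw [hwp]
            _ = c * (p * (z * c)) * (p * z) := by simp only [mul_assoc]
            _ = c * (p * c) * ((z * p) * z) := by rw [hcw z hz]; simp only [mul_assoc]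
            _ = (c * c) * (p * q) * (z * z) := by rw [hq, hcw p hpT]; simp only [mul_assoc]
            _ = (c * c) * (p * q) := by rw [hzz, mul_one]
        rw [hcc, one_mul] at h1
        rw [← h1, hww]
      have hdu : d * u ≠ 1 := by
        intro e
        apply h.u_not_mem
        rw [eq_inv_of_mul_eq_one_right e]
        apply inv_mem
        rcases hd1 with rfl | rfl
        · exact one_mem _
        · exact h.tR
      rcases hf with e | e | e | e
      · rw [hwz _ e]; exact hcD z hDz hDtz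
      · rw [hwz _ e, mul_assoc]; exact hcD _ hD2.1 hD2.2
      · exfalso
        have h2 := hsq v (d * (u * v)) h.vT (by rw [hzv]; simp only [mul_assoc]) (hwz _ e)
        rw [← mul_assoc, hdc v h.vT, mul_assoc, hvu, h.vv, h.tu, htt] at h2
        exact hdu h2
      · exfalso
        have h2 := hsq (u * v) (t * (d * (t * v))) (mul_mem h.uT h.vT) (by
          rw [← mul_assoc z u v, hzu]
          rw [mul_assoc t (u * z) v, mul_assoc u z v, hzv, ← mul_assoc u d, hdc u h.uT, mul_assoc d u,
            huu]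
          simp only [mul_assoc]) (hwz _ e)
        have h3 : t * (d * (t * v)) = d * v := by
          rw [← hdc (t * v) (mul_mem h.tT h.vT)]
          rw [← mul_assoc, htt, hdc v h.vT]
        rw [h3, ← mul_assoc, hdc _ (mul_mem h.uT h.vT)] at h2
        rw [mul_assoc, mul_assoc, h.vv, h.tu, ← mul_assoc, ← hdc t h.tT, mul_assoc] at h2
        have h4 : d * u = t := by
          calc d * u = t * (t * (d * u)) := (htt _).symm
            _ = t := by rw [h2, mul_one]
        apply h.u_not_mem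
        rw [eq_inv_mul_of_mul_eq h4]
        refine mul_mem (inv_mem ?_) h.tR
        rcases hd1 with rfl | rfl
        · exact one_mem _
        · exact h.tR
  -- conclusion
  have hy2 : (r * u) ^ 2 = 1 := by
    have : (r * u) * (r * u) = 1 := by
      calc (r * u) * (r * u) = (r * (u * r)) * u := by simp only [mul_assoc]
        _ = (r * r) * (u * u) := by rw [← h.Ru r hr]; simp only [mul_assoc]
        _ = 1 := by rw [hrr, h.uu, h.tt]
    rw [pow_two]; exact this
  rcases Cfsg.Agent.Transfer.ThompsonTransfer.thompson_transfer T T2 hT2T hind (r * u) hy2 with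
    ⟨M, hM1, hM2, -⟩ | ⟨g, hg⟩
  · exact hN M hM1 hM2
  · have h1 : g * (r * u) * g⁻¹ ≠ 1 := by
      intro e
      have h2 : r * u = 1 := by
        calc r * u = g⁻¹ * (g * (r * u) * g⁻¹) * g := by group
          _ = 1 := by rw [e]; group
      apply h.u_not_mem
      rw [eq_inv_of_mul_eq_one_right h2]
      exact inv_mem hr
    have h2 : (g * (r * u) * g⁻¹) * (g * (r * u) * g⁻¹) = 1 := by
      calc (g * (r * u) * g⁻¹) * (g * (r * u) * g⁻¹) = g * ((r * u) ^ 2) * g⁻¹ := by
            rw [pow_two]; group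
        _ = 1 := by rw [hy2]; group
    obtain ⟨g', hg'⟩ := dm_of_conj g (hinvol _ hg h2 h1)
    exact h.y_not hx ho hxx hr hxr g' hg'

/-- **Theorem Q.** -/
theorem rank_le (hN : ∀ M : Subgroup G, M.Normal → M.index ≠ 2)
    (hI : ∃ g : G, g * t * g⁻¹ ∈ (T : Subgroup G) ∧ g * t * g⁻¹ ≠ t)
    (E : Subgroup G) (hE : ∀ x ∈ E, x * x = 1) : Nat.card E ≤ 4 := by
  by_contra hcard
  push Not at hcard
  -- move `E` into `T`
  have hEp : IsPGroup 2 E := by
    intro a
    refine ⟨1, ?_⟩
    rw [pow_one, pow_two]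
    exact Subtype.ext (hE a a.2)
  obtain ⟨S, hS⟩ := hEp.exists_le_sylow
  obtain ⟨g, hg⟩ := MulAction.exists_smul_eq G S T
  have hmem : ∀ w ∈ E, g * w * g⁻¹ ∈ (T : Subgroup G) := by
    intro w hw
    have h1 : MulAut.conj g • w ∈ (g • S : Sylow 2 G) :=
      Subgroup.smul_mem_pointwise_smul _ (MulAut.conj g) _ (hS hw)
    rw [hg] at h1
    exact h1
  have h1 : E.map (MulAut.conj g).toMonoidHom ≤ (T : Subgroup G) := by
    rintro _ ⟨w, hw, rfl⟩
    exact hmem w hw
  have h2 : ∀ x ∈ E.map (MulAut.conj g).toMonoidHom, x * x = 1 := by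
    rintro _ ⟨w, hw, rfl⟩
    rw [← map_mul, hE w hw, map_one]
  have h3 : Nat.card (E.map (MulAut.conj g).toMonoidHom) = Nat.card E :=
    Nat.card_congr (E.equivMapOfInjective _ (MulAut.conj g).injective).toEquiv.symm
  obtain ⟨x, r, hx, ho, hxx, hr, hrr, hxr⟩ := h.exists_pair _ h1 h2 (by rw [h3]; exact hcard)
  obtain ⟨k, hkT, hkt⟩ := hI
  have hd : Dm t (k * t * k⁻¹) := ⟨k⁻¹, by group⟩
  have hkk : (k * t * k⁻¹) * (k * t * k⁻¹) = 1 := by
    calc (k * t * k⁻¹) * (k * t * k⁻¹) = k * (t * t) * k⁻¹ := by group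
      _ = 1 := by rw [h.tt]; group
  rcases h.inn_or_outr hkT with e | e
  · exact hkt (h.inn_dm hx ho hxx hr hrr hxr hkT e hd)
  · by_cases hρ : ∃ ρ ∈ R, ρ * ρ = r
    · obtain ⟨ρ, hρ, hρρ⟩ := hρ
      exact h.no_outer_big hx ho hxx hr hrr hxr hkT e hkk hd hρ hρρ
    · push Not at hρ
      exact h.no_outer_small hN hx ho hxx hr hrr hxr hkT e hkk hd hρ

end QE

end Cfsg.Agent.StdL2.QEight
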