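import Mathlib
import Cfsg.Agent.StdL2.FieldStart

/-!
# S1773, case (f): LEMMA SC (strong closure of the elementary abelian group `W`)

`P` is a Sylow 2-subgroup of `L`, `W ≤ P` is elementary abelian and weakly closed in `P`
with respect to `L`.  If no elementary abelian section `F/W` of order `≥ 4` is covered by
elements fused into `W`, and every element `x ∈ P \ W` fused into `W` has
`|W : C_W(x)| ≥ 4` and `W⟨x⟩` is Sylow in `C_L(B₁)` for the subgroups `B₁` of index `≤ 2` in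
`C_W(x)`, then `W` is strongly closed in `P`.
-/

set_option autoImplicit false
set_option linter.unusedSectionVars false

open Subgroup
open scoped Pointwise

namespace Cfsg.Agent.StdL2.SC

open Cfsg.Agent.StdL2.FieldStart

variable {G : Type*} [Group G] [Finite G]

theorem conj_mem_norm {P : Subgroup G} {n : G} (h : ∀ x ∈ P, n * x * n⁻¹ ∈ P) :
    n ∈ normalizer (P : Set G) := Fld.conj_mem_norm h

omit [Finite G] in
theorem norm_conj {P : Subgroup G} {n : G} (h : n ∈ normalizer (P : Set G)) {x : G} (hx : x ∈ P) :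
    n * x * n⁻¹ ∈ P := (mem_normalizer_iff.1 h x).1 hx

omit [Finite G] in
theorem norm_conj' {P : Subgroup G} {n : G} (h : n ∈ normalizer (P : Set G)) {x : G} (hx : x ∈ P) :
    n⁻¹ * x * n ∈ P := by
  have := norm_conj ((normalizer _).inv_mem h) hx
  rwa [inv_inv] at this

/-- a 2-subgroup containing `W` is conjugate into `P` by an element normalising `W` -/
theorem into {L P W : Subgroup G} (hP : IsSyl L P)
    (wc : ∀ g ∈ L, (∀ w ∈ W, g * w * g⁻¹ ∈ P) → ∀ w ∈ W, g * w * g⁻¹ ∈ W)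
    {Q : Subgroup G} (hQ : IsPGroup 2 Q) (hQL : Q ≤ L) (hWQ : W ≤ Q) :
    ∃ k ∈ L, k ∈ normalizer (W : Set G) ∧ ∀ y ∈ Q, k * y * k⁻¹ ∈ P := by
  obtain ⟨k, hk, hkP⟩ := hP.conj hQ hQL
  exact ⟨k, hk, conj_mem_norm (wc k hk fun _ hw => hkP _ (hWQ hw)), hkP⟩

theorem P_norm {L P W : Subgroup G} (hP : IsSyl L P) (hWP : W ≤ P)
    (wc : ∀ g ∈ L, (∀ w ∈ W, g * w * g⁻¹ ∈ P) → ∀ w ∈ W, g * w * g⁻¹ ∈ W) {y : G} (hy : y ∈ P) :
    y ∈ normalizer (W : Set G) :=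
  conj_mem_norm (wc y (hP.2.1 hy) fun _ hw => P.mul_mem (P.mul_mem hy (hWP hw)) (P.inv_mem hy))

theorem Q_norm {L P W : Subgroup G} (hP : IsSyl L P) (hWP : W ≤ P)
    (wc : ∀ g ∈ L, (∀ w ∈ W, g * w * g⁻¹ ∈ P) → ∀ w ∈ W, g * w * g⁻¹ ∈ W)
    {Q : Subgroup G} (hQ : IsPGroup 2 Q) (hQL : Q ≤ L) (hWQ : W ≤ Q) {y : G} (hy : y ∈ Q) :
    y ∈ normalizer (W : Set G) := by
  obtain ⟨k, hk, hkn, hkP⟩ := into hP wc hQ hQL hWQ
  have h1 := P_norm hP hWP wc (hkP y hy)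
  have h2 : k⁻¹ * (k * y * k⁻¹) * k ∈ normalizer (W : Set G) :=
    mul_mem (mul_mem (inv_mem hkn) h1) hkn
  have e : k⁻¹ * (k * y * k⁻¹) * k = y := by group
  rwa [e] at h2

/-- **LEMMA SC**, for one bad element. -/
theorem main {L P W : Subgroup G} (hP : IsSyl L P) (hWP : W ≤ P)
    (wsq : ∀ w ∈ W, w * w = 1)
    (wc : ∀ g ∈ L, (∀ w ∈ W, g * w * g⁻¹ ∈ P) → ∀ w ∈ W, g * w * g⁻¹ ∈ W)
    (hi : ∀ F : Subgroup G, W ≤ F → F ≤ P → (∀ y ∈ F, ∀ z ∈ F, y * z * y⁻¹ * z⁻¹ ∈ W) →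
      (∀ y ∈ F, y * y ∈ W) →
      (∀ y ∈ F, y ∉ W → ∃ w ∈ W, ∃ g ∈ L, g * (y * w) * g⁻¹ ∈ W) →
      ∀ y ∈ F, ∀ z ∈ F, y ∉ W → z ∉ W → y⁻¹ * z ∈ W)
    {x : G} (hxP : x ∈ P) (_hxW : x ∉ W) (hbad : ∃ g ∈ L, g * x * g⁻¹ ∈ W)
    (hcard : 2 * Nat.card (W ⊓ centralizer {x} : Subgroup G) < Nat.card W)
    (hii : ∀ B : Subgroup G, B ≤ W ⊓ centralizer {x} →
      Nat.card (W ⊓ centralizer {x} : Subgroup G) ≤ 2 * Nat.card B →
      ∀ Q : Subgroup G, IsPGroup 2 Q → Q ≤ L → W ≤ Q → x ∈ Q →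
      (∀ y ∈ Q, ∀ b ∈ B, y * b = b * y) → (∀ y ∈ Q, y ∈ normalizer (W : Set G)) →
      ∀ y ∈ Q, y ∈ W ∨ x * y ∈ W) : False := by
  classical
  have hP2 := hP.1
  have hPL := hP.2.1
  have hWL : W ≤ L := hWP.trans hPL
  have hW2 : IsPGroup 2 W := hP2.to_le hWP
  have winv : ∀ w ∈ W, w⁻¹ = w := fun w hw => inv_eq_of_mul_eq_one_left (wsq w hw)
  have wcomm : ∀ w ∈ W, ∀ w' ∈ W, w * w' = w' * w := by
    intro w hw w' hw'
    have h := winv _ (W.mul_mem hw hw')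
    rw [mul_inv_rev, winv w hw, winv w' hw'] at h
    exact h.symm
  have hPn : ∀ y ∈ P, y ∈ normalizer (W : Set G) := fun y hy => P_norm hP hWP wc hy
  have hxn := hPn x hxP
  have hx2 : x * x = 1 := by
    obtain ⟨g, -, hg⟩ := hbad
    have h := wsq _ hg
    have e : g * x * g⁻¹ * (g * x * g⁻¹) = g * (x * x) * g⁻¹ := by group
    rw [e] at h
    exact conj_eq_one_iff.1 h
  have xinv : x⁻¹ = x := inv_eq_of_mul_eq_one_left hx2
  -- Step 1
  obtain ⟨g, hgL, hgx, hgP⟩ : ∃ g ∈ L, g * x * g⁻¹ ∈ W ∧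
      ∀ y ∈ P, y * x = x * y → g * y * g⁻¹ ∈ P := by
    obtain ⟨g0, hg0, hu⟩ := hbad
    set u := g0 * x * g0⁻¹ with hudef
    have hWu : W ≤ L ⊓ centralizer {u} := by
      intro w hw
      exact ⟨hWL hw, mem_centralizer_singleton_iff.2 (wcomm w hw u hu)⟩
    obtain ⟨R, hR, hWR⟩ := exists_isSyl (L ⊓ centralizer {u}) W hW2 hWu
    let Q0 : Subgroup G := (P ⊓ centralizer {x} : Subgroup G).map (MulAut.conj g0).toMonoidHom
    have hQ0 : IsPGroup 2 Q0 := (hP2.to_le inf_le_left).map _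
    have hQ0' : Q0 ≤ L ⊓ centralizer {u} := by
      rintro _ ⟨y, ⟨hy, hyx⟩, rfl⟩
      have hyx' : y * x = x * y := mem_centralizer_singleton_iff.1 hyx
      refine ⟨L.mul_mem (L.mul_mem hg0 (hPL hy)) (L.inv_mem hg0),
        mem_centralizer_singleton_iff.2 ?_⟩
      change g0 * y * g0⁻¹ * u = u * (g0 * y * g0⁻¹)
      rw [hudef]
      have e1 : g0 * y * g0⁻¹ * (g0 * x * g0⁻¹) = g0 * (y * x) * g0⁻¹ := by group
      have e2 : g0 * x * g0⁻¹ * (g0 * y * g0⁻¹) = g0 * (x * y) * g0⁻¹ := by group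
      rw [e1, e2, hyx']
    obtain ⟨c, hc, hcR⟩ := hR.conj hQ0 hQ0'
    obtain ⟨k, hk, hkn, hkP⟩ := into hP wc hR.1 (hR.2.1.trans inf_le_left) hWR
    have hcu : c * u = u * c := mem_centralizer_singleton_iff.1 hc.2
    refine ⟨k * c * g0, L.mul_mem (L.mul_mem hk hc.1) hg0, ?_, ?_⟩
    · have e : k * c * g0 * x * (k * c * g0)⁻¹ = k * (c * u * c⁻¹) * k⁻¹ := by
        rw [hudef]; group
      have e' : c * u * c⁻¹ = u := by rw [hcu]; group
      rw [e, e']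
      exact norm_conj hkn hu
    · intro y hy hyx
      have e : k * c * g0 * y * (k * c * g0)⁻¹ = k * (c * (g0 * y * g0⁻¹) * c⁻¹) * k⁻¹ := by group
      rw [e]
      exact hkP _ (hcR _ ⟨y, ⟨hy, mem_centralizer_singleton_iff.2 hyx⟩, rfl⟩)
  -- Step 2
  let B : Subgroup G := W ⊓ centralizer {x}
  have hB : ∀ b, b ∈ B ↔ b ∈ W ∧ b * x = x * b := by
    intro b
    constructor
    · intro h; exact ⟨h.1, mem_centralizer_singleton_iff.1 h.2⟩
    · intro h; exact ⟨h.1, mem_centralizer_singleton_iff.2 h.2⟩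
  let H1 : Subgroup G := W.comap (MulAut.conj g).toMonoidHom
  have hH1 : ∀ b, b ∈ H1 ↔ g * b * g⁻¹ ∈ W := fun b => Iff.rfl
  let B1 : Subgroup G := B ⊓ H1
  have hB1 : ∀ b, b ∈ B1 ↔ b ∈ B ∧ g * b * g⁻¹ ∈ W := fun b => Iff.rfl
  have hBP : ∀ b ∈ B, g * b * g⁻¹ ∈ P := fun b hb =>
    hgP b (hWP ((hB b).1 hb).1) ((hB b).1 hb).2
  have hidx : ∀ b ∈ B, ∀ b' ∈ B, b ∉ H1 → b' ∉ H1 → b⁻¹ * b' ∈ H1 := by
    let F : Subgroup G := W ⊔ B.map (MulAut.conj g).toMonoidHom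
    have hmemF : ∀ y, y ∈ F ↔ ∃ w ∈ W, ∃ b ∈ B, y = w * (g * b * g⁻¹) := by
      have hle : B.map (MulAut.conj g).toMonoidHom ≤ normalizer (W : Set G) := by
        rintro _ ⟨b, hb, rfl⟩
        exact hPn _ (hBP b hb)
      intro y
      constructor
      · intro hy
        have hy' : y ∈ ((W : Set G) * (B.map (MulAut.conj g).toMonoidHom : Set G)) := by
          rw [← Subgroup.coe_mul_of_right_le_normalizer_left W _ hle]
          exact hy
        obtain ⟨w, hw, _, ⟨b, hb, rfl⟩, e⟩ := hy'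
        exact ⟨w, hw, b, hb, e.symm⟩
      · rintro ⟨w, hw, b, hb, rfl⟩
        exact F.mul_mem (le_sup_left (a := W) hw) (le_sup_right (a := W) ⟨b, hb, rfl⟩)
    have hWF : W ≤ F := le_sup_left
    have hFP : F ≤ P := by
      intro y hy
      obtain ⟨w, hw, b, hb, rfl⟩ := (hmemF y).1 hy
      exact P.mul_mem (hWP hw) (hBP b hb)
    have hbb : ∀ b ∈ B, b * b = 1 := fun b hb => wsq b ((hB b).1 hb).1
    have hsq : ∀ y ∈ F, y * y ∈ W := by
      intro y hy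
      obtain ⟨w, hw, b, hb, rfl⟩ := (hmemF y).1 hy
      have e : w * (g * b * g⁻¹) * (w * (g * b * g⁻¹)) =
          w * ((g * b * g⁻¹) * w * (g * b * g⁻¹)⁻¹) * (g * (b * b) * g⁻¹) := by
        rw [mul_inv_rev, mul_inv_rev, inv_inv]
        have : b⁻¹ = b := inv_eq_of_mul_eq_one_left (hbb b hb)
        rw [this]
        have h1 := hbb b hb
        calc w * (g * b * g⁻¹) * (w * (g * b * g⁻¹))
            = w * (g * b * g⁻¹) * w * (g * b * g⁻¹) := by group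
          _ = w * (g * b * g⁻¹ * w * (g * (b * g⁻¹))) * (g * 1 * g⁻¹) := by group
          _ = w * (g * b * g⁻¹ * w * (g * (b * g⁻¹))) * (g * (b * b) * g⁻¹) := by rw [h1]
      rw [e, hbb b hb]
      have e2 : g * 1 * g⁻¹ = 1 := by group
      rw [e2, mul_one]
      exact W.mul_mem hw (norm_conj (hPn _ (hBP b hb)) hw)
    have hcm : ∀ y ∈ F, ∀ z ∈ F, y * z * y⁻¹ * z⁻¹ ∈ W := by
      intro y hy z hz
      -- all squares in `W`, so the commutators too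
      have hyz := hsq _ (F.mul_mem hy hz)
      have h1 := hsq _ hy
      have h2 := hsq _ hz
      have hyn := hPn y (hFP hy)
      have hzn := hPn z (hFP hz)
      have e : y * z * y⁻¹ * z⁻¹ = (y * z * (y * z)) *
          ((z⁻¹ * (y * y)⁻¹ * z) * (z * z)⁻¹) := by group
      rw [e]
      refine W.mul_mem hyz (W.mul_mem ?_ (W.inv_mem h2))
      exact norm_conj' hzn (W.inv_mem h1)
    have hbadF : ∀ y ∈ F, y ∉ W → ∃ w ∈ W, ∃ g ∈ L, g * (y * w) * g⁻¹ ∈ W := by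
      intro y hy _
      obtain ⟨w, hw, b, hb, rfl⟩ := (hmemF y).1 hy
      have hn := hPn _ (hBP b hb)
      refine ⟨(g * b * g⁻¹)⁻¹ * w⁻¹ * (g * b * g⁻¹), norm_conj' hn (W.inv_mem hw), g⁻¹,
        L.inv_mem hgL, ?_⟩
      have e : g⁻¹ * (w * (g * b * g⁻¹) * ((g * b * g⁻¹)⁻¹ * w⁻¹ * (g * b * g⁻¹))) * g⁻¹⁻¹ = b := by
        group
      rw [e]
      exact ((hB b).1 hb).1
    intro b hb b' hb' h h'
    have := hi F hWF hFP hcm hsq hbadF (g * b * g⁻¹)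
      ((hmemF _).2 ⟨1, W.one_mem, b, hb, by group⟩) (g * b' * g⁻¹)
      ((hmemF _).2 ⟨1, W.one_mem, b', hb', by group⟩) h h'
    rw [hH1]
    have e : g * (b⁻¹ * b') * g⁻¹ = (g * b * g⁻¹)⁻¹ * (g * b' * g⁻¹) := by group
    rw [e]
    exact this
  have hBcard : Nat.card B ≤ 2 * Nat.card B1 := card_le_two_mul B H1 hidx
  -- Step 3
  let Y : Subgroup G := L ⊓ centralizer (B1 : Set G)
  have hY : ∀ y, y ∈ Y ↔ y ∈ L ∧ ∀ b ∈ B1, b * y = y * b := by
    intro y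
    constructor
    · intro h; exact ⟨h.1, fun b hb => mem_centralizer_iff.1 h.2 b hb⟩
    · intro h; exact ⟨h.1, mem_centralizer_iff.2 fun b hb => h.2 b hb⟩
  have hWY : W ≤ Y := by
    intro w hw
    rw [hY]
    exact ⟨hWL hw, fun b hb => wcomm b ((hB b).1 ((hB1 b).1 hb).1).1 w hw⟩
  obtain ⟨h, hhY, hhx⟩ : ∃ h ∈ Y, h * x * h⁻¹ ∈ W := by
    obtain ⟨R, hR, hWR⟩ := exists_isSyl Y W hW2 hWY
    let W' : Subgroup G := W.map (MulAut.conj g⁻¹).toMonoidHom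
    have hW'2 : IsPGroup 2 W' := hW2.map _
    have hW'Y : W' ≤ Y := by
      rintro _ ⟨w, hw, rfl⟩
      rw [hY]
      refine ⟨L.mul_mem (L.mul_mem (L.inv_mem hgL) (hWL hw)) (L.inv_mem (L.inv_mem hgL)), ?_⟩
      intro b hb
      change b * (g⁻¹ * w * g⁻¹⁻¹) = g⁻¹ * w * g⁻¹⁻¹ * b
      have h1 := wcomm _ ((hB1 b).1 hb).2 w hw
      have e1 : b * (g⁻¹ * w * g⁻¹⁻¹) = g⁻¹ * ((g * b * g⁻¹) * w) * g := by group
      have e2 : g⁻¹ * w * g⁻¹⁻¹ * b = g⁻¹ * (w * (g * b * g⁻¹)) * g := by group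
      rw [e1, e2, h1]
    obtain ⟨c, hc, hcR⟩ := hR.conj hW'2 hW'Y
    obtain ⟨k, hk, hkn, hkP⟩ := into hP wc hR.1 (hR.2.1.trans inf_le_left) hWR
    have h1 : ∀ w ∈ W, (k * c * g⁻¹) * w * (k * c * g⁻¹)⁻¹ ∈ W := by
      apply wc _ (L.mul_mem (L.mul_mem hk hc.1) (L.inv_mem hgL))
      intro w hw
      have e : (k * c * g⁻¹) * w * (k * c * g⁻¹)⁻¹ = k * (c * (g⁻¹ * w * g⁻¹⁻¹) * c⁻¹) * k⁻¹ := by
        group
      rw [e]
      exact hkP _ (hcR _ ⟨w, hw, rfl⟩)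
    refine ⟨c, hc, ?_⟩
    have h2 := norm_conj' hkn (h1 _ hgx)
    have e : k⁻¹ * (k * c * g⁻¹ * (g * x * g⁻¹) * (k * c * g⁻¹)⁻¹) * k = c * x * c⁻¹ := by group
    rwa [e] at h2
  -- Step 4
  have hBW : ∀ b ∈ B, b ∈ W := fun b hb => ((hB b).1 hb).1
  have hBx : ∀ b ∈ B, b * x = x * b := fun b hb => ((hB b).1 hb).2
  have hB1B : ∀ b ∈ B1, b ∈ B := fun b hb => hb.1
  have hxY : x ∈ Y := (hY x).2 ⟨hPL hxP, fun b hb => hBx b (hB1B b hb)⟩
  let P1 : Subgroup G :=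
    { carrier := {y | y ∈ W ∨ x * y ∈ W}
      one_mem' := Or.inl W.one_mem
      mul_mem' := by
        rintro a b (ha | ha) (hb | hb)
        · exact Or.inl (W.mul_mem ha hb)
        · right
          have e : x * (a * b) = (x * a * x⁻¹) * (x * b) := by group
          rw [e]
          exact W.mul_mem (norm_conj hxn ha) hb
        · right
          rw [← mul_assoc]
          exact W.mul_mem ha hb
        · left
          have e : a * b = (x⁻¹ * (x * a) * x) * (x⁻¹ * x⁻¹) * (x * b) := by group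
          rw [e, xinv, hx2, mul_one]
          have := norm_conj' hxn ha
          rw [xinv] at this
          exact W.mul_mem this hb
      inv_mem' := by
        rintro a (ha | ha)
        · exact Or.inl (W.inv_mem ha)
        · right
          have e : x * a⁻¹ = x * (x * a)⁻¹ * x⁻¹ * (x * x) := by group
          rw [e, hx2, mul_one]
          exact norm_conj hxn (W.inv_mem ha) }
  have hP1 : ∀ y, y ∈ P1 ↔ y ∈ W ∨ x * y ∈ W := fun y => Iff.rfl
  have hWP1 : W ≤ P1 := fun w hw => Or.inl hw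
  have hxP1 : x ∈ P1 := Or.inr (by rw [hx2]; exact W.one_mem)
  have eq_x : ∀ y, y = x * (x * y) := fun y => by rw [← mul_assoc, hx2, one_mul]
  have hP1P : P1 ≤ P := by
    rintro y (hy | hy)
    · exact hWP hy
    · rw [eq_x y]
      exact P.mul_mem hxP (hWP hy)
  have hP1Y : P1 ≤ Y := by
    rintro y (hy | hy)
    · exact hWY hy
    · rw [eq_x y]
      exact Y.mul_mem hxY (hWY hy)
  have hP1s : IsSyl Y P1 := by
    refine ⟨hP2.to_le hP1P, hP1Y, ?_⟩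
    intro Q hQ hP1Q hQY y hy
    have hQL : Q ≤ L := hQY.trans inf_le_left
    have := hii B1 inf_le_left hBcard Q hQ hQL (hWP1.trans hP1Q) (hP1Q hxP1)
      (fun y hy b hb => (((hY y).1 (hQY hy)).2 b hb).symm)
      (fun y hy => Q_norm hP hWP wc hQ hQL (hWP1.trans hP1Q) hy) y hy
    exact this
  -- Step 5
  let Q1 : Subgroup G :=
    { carrier := {y | y ∈ B ∨ x * y ∈ B}
      one_mem' := Or.inl B.one_mem
      mul_mem' := by
        rintro a b (ha | ha) (hb | hb)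
        · exact Or.inl (B.mul_mem ha hb)
        · right
          have e : x * (a * b) = a * (x * b) := by
            rw [← mul_assoc, ← hBx a ha, mul_assoc]
          rw [e]
          exact B.mul_mem ha hb
        · right
          rw [← mul_assoc]
          exact B.mul_mem ha hb
        · left
          have e : a * b = (x * a) * (x * b) := by
            have h1 : a * x = x * a := by
              have h2 := hBx _ ha
              rw [mul_assoc] at h2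
              exact mul_left_cancel h2
            calc a * b = a * (x * (x * b)) := by rw [← eq_x b]
              _ = (a * x) * (x * b) := by group
              _ = (x * a) * (x * b) := by rw [h1]
          rw [e]
          exact B.mul_mem ha hb
      inv_mem' := by
        rintro a (ha | ha)
        · exact Or.inl (B.inv_mem ha)
        · right
          have h1 : a * x = x * a := by
            have h2 := hBx _ ha
            rw [mul_assoc] at h2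
            exact mul_left_cancel h2
          have e : x * a⁻¹ = (x * a)⁻¹ := by
            rw [← h1, mul_inv_rev, xinv]
          rw [e]
          exact B.inv_mem ha }
  have hQ1 : ∀ y, y ∈ Q1 ↔ y ∈ B ∨ x * y ∈ B := fun y => Iff.rfl
  have hBQ1 : B ≤ Q1 := fun b hb => Or.inl hb
  have hxQ1 : x ∈ Q1 := Or.inr (by rw [hx2]; exact B.one_mem)
  have hQ1P1 : Q1 ≤ P1 := by
    rintro y (hy | hy)
    · exact Or.inl (hBW y hy)
    · exact Or.inr (hBW _ hy)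
  have hQ1x : ∀ y ∈ Q1, y * x = x * y := by
    rintro y (hy | hy)
    · exact hBx y hy
    · have h2 := hBx _ hy
      rw [mul_assoc] at h2
      exact mul_left_cancel h2
  -- the commutators with `x`
  have hcx : ∀ w ∈ W, w * x * w⁻¹ * x⁻¹ ∈ B := by
    intro w hw
    rw [hB]
    have h1 : w * x * w⁻¹ * x⁻¹ = w * (x * w * x⁻¹) := by
      rw [winv w hw]; group
    have h3 : x * w * x⁻¹ ∈ W := norm_conj hxn hw
    refine ⟨by rw [h1]; exact W.mul_mem hw h3, ?_⟩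
    rw [h1]
    have h4 := wcomm w hw _ h3
    calc w * (x * w * x⁻¹) * x = w * x * w := by group
      _ = w * x * w * x⁻¹ * x := by group
      _ = (w * (x * w * x⁻¹)) * x := by group
      _ = ((x * w * x⁻¹) * w) * x := by rw [h4]
      _ = x * (w * (x * w * x⁻¹)) := by rw [xinv]; group
  have hBcomm : ∀ b ∈ B, ∀ y ∈ P1, y * b = b * y := by
    intro b hb y hy
    rcases (hP1 y).1 hy with hy | hy
    · exact wcomm y hy b (hBW b hb)
    · rw [eq_x y]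
      have h1 := wcomm _ hy b (hBW b hb)
      calc x * (x * y) * b = x * ((x * y) * b) := by group
        _ = x * (b * (x * y)) := by rw [h1]
        _ = (x * b) * (x * y) := by group
        _ = (b * x) * (x * y) := by rw [hBx b hb]
        _ = b * (x * (x * y)) := by group
  have hQ1n : ∀ y ∈ P1, y ∈ normalizer (Q1 : Set G) := by
    have key : ∀ w ∈ W, ∀ z ∈ Q1, w * z * w⁻¹ ∈ Q1 := by
      rintro w hw z (hz | hz)
      · left
        have : w * z * w⁻¹ = z := by rw [wcomm w hw z (hBW z hz)]; group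
        rw [this]; exact hz
      · have e : w * z * w⁻¹ = (w * x * w⁻¹ * x⁻¹) * x * (w * (x * z) * w⁻¹) := by
          rw [show w * x * w⁻¹ * x⁻¹ * x * (w * (x * z) * w⁻¹) = w * (x * (x * z)) * w⁻¹ by group,
            ← eq_x z]
        rw [e, wcomm w hw (x * z) (hBW _ hz)]
        have e2 : x * z * w * w⁻¹ = x * z := by group
        rw [e2]
        exact Q1.mul_mem (Q1.mul_mem (hBQ1 (hcx w hw)) hxQ1) (hBQ1 hz)
    intro y hy
    apply conj_mem_norm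
    intro z hz
    rcases (hP1 y).1 hy with hy | hy
    · exact key y hy z hz
    · have e : y * z * y⁻¹ = x * ((x * y) * z * (x * y)⁻¹) * x⁻¹ := by
        conv_lhs => rw [eq_x y]
        group
      rw [e]
      exact Q1.mul_mem (Q1.mul_mem hxQ1 (key _ hy z hz)) (Q1.inv_mem hxQ1)
  let N : Subgroup G := Y ⊓ normalizer (Q1 : Set G)
  have hP1N : P1 ≤ N := fun y hy => ⟨hP1Y hy, hQ1n y hy⟩
  have hP1s' : IsSyl N P1 :=
    ⟨hP1s.1, hP1N, fun Q hQ h1 h2 => hP1s.2.2 Q hQ h1 (h2.trans inf_le_left)⟩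
  -- the element `r`
  have hBcd : Nat.card Q1 ≤ 2 * Nat.card B := by
    have h1 := card_le_two_mul Q1 B (by
      intro a ha b hb ha' hb'
      rcases (hQ1 a).1 ha with ha | ha
      · exact absurd ha ha'
      rcases (hQ1 b).1 hb with hb | hb
      · exact absurd hb hb'
      have e : a⁻¹ * b = (x * a)⁻¹ * (x * b) := by group
      rw [e]
      exact B.mul_mem (B.inv_mem ha) hb)
    have h2 : (Q1 ⊓ B : Subgroup G) = B := inf_eq_right.2 hBQ1
    rwa [h2] at h1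
  obtain ⟨R, hR, hQ1R⟩ := exists_isSyl (Y ⊓ centralizer {x}) Q1 (hP1s.1.to_le hQ1P1)
    (fun y hy => ⟨hP1Y (hQ1P1 hy), mem_centralizer_singleton_iff.2 (hQ1x y hy)⟩)
  have hWR : Nat.card W ≤ Nat.card R := by
    let W' : Subgroup G := W.map (MulAut.conj h⁻¹).toMonoidHom
    have hW'2 : IsPGroup 2 W' := hW2.map _
    have hc1 : Nat.card W' = Nat.card W :=
      Nat.card_congr (W.equivMapOfInjective _ (MulAut.conj h⁻¹).injective).toEquiv.symm
    rw [← hc1]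
    apply hR.card_le hW'2
    rintro _ ⟨w, hw, rfl⟩
    change h⁻¹ * w * h⁻¹⁻¹ ∈ Y ⊓ centralizer {x}
    refine ⟨Y.mul_mem (Y.mul_mem (Y.inv_mem hhY) (hWY hw)) (Y.inv_mem (Y.inv_mem hhY)),
      mem_centralizer_singleton_iff.2 ?_⟩
    have h1 := wcomm w hw _ hhx
    have e1 : h⁻¹ * w * h⁻¹⁻¹ * x = h⁻¹ * (w * (h * x * h⁻¹)) * h := by group
    have e2 : x * (h⁻¹ * w * h⁻¹⁻¹) = h⁻¹ * ((h * x * h⁻¹) * w) * h := by group
    rw [e1, e2, h1]
  have hlt : Q1 < R := by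
    refine lt_of_le_of_ne hQ1R fun e => ?_
    rw [← e] at hWR
    have : Nat.card B = Nat.card (W ⊓ centralizer {x} : Subgroup G) := rfl
    omega
  obtain ⟨r, hrR, hrQ, hrn⟩ := exists_normalizer_gt hR.1 hlt
  have hrx : r * x = x * r := mem_centralizer_singleton_iff.1 (hR.2.1 hrR).2
  -- Step 6
  obtain ⟨n, hnN, hnR⟩ := hP1s'.conj (P := R ⊓ normalizer (Q1 : Set G))
    (hR.1.to_le inf_le_left) (fun y hy => ⟨(hR.2.1 hy.1).1, hy.2⟩)
  have hr' : n * r * n⁻¹ ∈ P1 := hnR r ⟨hrR, hrn⟩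
  have hnQ : ∀ y ∈ Q1, n * y * n⁻¹ ∈ Q1 := fun y hy => norm_conj hnN.2 hy
  have hr'Q : n * r * n⁻¹ ∉ Q1 := by
    intro h1
    apply hrQ
    have h2 := norm_conj' hnN.2 h1
    have e : n⁻¹ * (n * r * n⁻¹) * n = r := by group
    rwa [e] at h2
  -- the fixed points of elements of `P1 \ Q1` in `Q1` lie in `B`
  have hfix : ∀ y ∈ P1, y ∉ Q1 → ∀ z ∈ Q1, y * z = z * y → z ∈ B := by
    intro y hy hyQ z hz hyz
    by_contra hzB
    have hz' : x * z ∈ B := ((hQ1 z).1 hz).resolve_left hzB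
    have h1 : y * x = x * y := by
      have h2 := hBcomm _ hz' y hy
      -- y (x z) = (x z) y = x y z
      have h3 : (y * x) * z = (x * y) * z := by
        calc (y * x) * z = y * (x * z) := by group
          _ = (x * z) * y := h2
          _ = x * (z * y) := by group
          _ = x * (y * z) := by rw [hyz]
          _ = (x * y) * z := by group
      exact mul_right_cancel h3
    apply hyQ
    rcases (hP1 y).1 hy with hyW | hyW
    · exact hBQ1 ((hB y).2 ⟨hyW, h1⟩)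
    · refine Or.inr ((hB _).2 ⟨hyW, ?_⟩)
      rw [mul_assoc, h1]
  have hx'B : n * x * n⁻¹ ∈ B := by
    refine hfix _ hr' hr'Q _ (hnQ x hxQ1) ?_
    have e1 : n * r * n⁻¹ * (n * x * n⁻¹) = n * (r * x) * n⁻¹ := by group
    have e2 : n * x * n⁻¹ * (n * r * n⁻¹) = n * (x * r) * n⁻¹ := by group
    rw [e1, e2, hrx]
  -- the element `w0`
  obtain ⟨w0, hw0W, hw0c, hw0B⟩ : ∃ w0 ∈ W, w0 * x * w0⁻¹ * x⁻¹ ∈ B1 ∧ w0 ∉ B := by
    let Hs : Subgroup G :=
      { carrier := {w | w ∈ W ∧ w * x * w⁻¹ * x⁻¹ ∈ B1}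
        one_mem' := ⟨W.one_mem, by
          have e : (1 : G) * x * 1⁻¹ * x⁻¹ = 1 := by group
          rw [e]; exact B1.one_mem⟩
        mul_mem' := by
          rintro a b ⟨ha, ha'⟩ ⟨hb, hb'⟩
          refine ⟨W.mul_mem ha hb, ?_⟩
          have h1 := hBW _ (hB1B _ hb')
          have e : a * b * x * (a * b)⁻¹ * x⁻¹ =
              (a * (b * x * b⁻¹ * x⁻¹) * a⁻¹) * (a * x * a⁻¹ * x⁻¹) := by group
          rw [e, wcomm a ha _ h1]
          have e2 : b * x * b⁻¹ * x⁻¹ * a * a⁻¹ = b * x * b⁻¹ * x⁻¹ := by group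
          rw [e2]
          exact B1.mul_mem hb' ha'
        inv_mem' := by
          rintro a ⟨ha, ha'⟩
          rw [winv a ha]
          exact ⟨ha, ha'⟩ }
    have hHs : ∀ w, w ∈ Hs ↔ w ∈ W ∧ w * x * w⁻¹ * x⁻¹ ∈ B1 := fun w => Iff.rfl
    have h1 : Nat.card W ≤ 2 * Nat.card (W ⊓ Hs : Subgroup G) := by
      apply card_le_two_mul
      intro a ha b hb ha' hb'
      have ha1 : a * x * a⁻¹ * x⁻¹ ∉ H1 := fun hh => ha' ⟨ha, hcx a ha, hh⟩
      have hb1 : b * x * b⁻¹ * x⁻¹ ∉ H1 := fun hh => hb' ⟨hb, hcx b hb, hh⟩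
      have h2 := hidx _ (hcx a ha) _ (hcx b hb) ha1 hb1
      rw [winv _ (hBW _ (hcx a ha))] at h2
      rw [winv a ha, hHs]
      refine ⟨W.mul_mem ha hb, ?_⟩
      have h3 := hBW _ (hcx b hb)
      have h4 := hBW _ (hcx a ha)
      have e : a * b * x * (a * b)⁻¹ * x⁻¹ =
          (a * (b * x * b⁻¹ * x⁻¹) * a⁻¹) * (a * x * a⁻¹ * x⁻¹) := by group
      rw [e, wcomm a ha _ h3]
      have e2 : b * x * b⁻¹ * x⁻¹ * a * a⁻¹ = b * x * b⁻¹ * x⁻¹ := by group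
      rw [e2, wcomm _ h3 _ h4]
      exact ⟨B.mul_mem (hcx a ha) (hcx b hb), h2⟩
    have h2 : ¬ (W ⊓ Hs : Subgroup G) ≤ B := by
      intro hle
      have h3 : Nat.card (W ⊓ Hs : Subgroup G) ≤ Nat.card B := Subgroup.card_le_of_le hle
      have : Nat.card B = Nat.card (W ⊓ centralizer {x} : Subgroup G) := rfl
      omega
    obtain ⟨w, hw, hwB⟩ := Set.not_subset.1 h2
    exact ⟨w, hw.1, hw.2.2, hwB⟩
  -- the normal subgroup `K`
  let K : Subgroup G :=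
    { carrier := {k | k ∈ N ∧ ∀ y ∈ Q1, k * y * k⁻¹ * y⁻¹ ∈ B1}
      one_mem' := ⟨N.one_mem, fun y _ => by
        have e : (1 : G) * y * 1⁻¹ * y⁻¹ = 1 := by group
        rw [e]; exact B1.one_mem⟩
      mul_mem' := by
        rintro a b ⟨ha, ha'⟩ ⟨hb, hb'⟩
        refine ⟨N.mul_mem ha hb, fun y hy => ?_⟩
        have e : a * b * y * (a * b)⁻¹ * y⁻¹ =
            (a * (b * y * b⁻¹) * a⁻¹ * (b * y * b⁻¹)⁻¹) * (b * y * b⁻¹ * y⁻¹) := by group
        rw [e]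
        exact B1.mul_mem (ha' _ (norm_conj hb.2 hy)) (hb' y hy)
      inv_mem' := by
        rintro a ⟨ha, ha'⟩
        refine ⟨N.inv_mem ha, fun y hy => ?_⟩
        have h1 := ha' _ (norm_conj' ha.2 hy)
        have e : a⁻¹ * y * a⁻¹⁻¹ * y⁻¹ = (a * (a⁻¹ * y * a) * a⁻¹ * (a⁻¹ * y * a)⁻¹)⁻¹ := by group
        rw [e]
        exact B1.inv_mem h1 }
  have hK : ∀ k, k ∈ K ↔ k ∈ N ∧ ∀ y ∈ Q1, k * y * k⁻¹ * y⁻¹ ∈ B1 := fun k => Iff.rfl
  have hKn : ∀ m ∈ N, ∀ k ∈ K, m * k * m⁻¹ ∈ K := by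
    intro m hm k hk
    refine ⟨N.mul_mem (N.mul_mem hm hk.1) (N.inv_mem hm), fun y hy => ?_⟩
    have h1 := hk.2 _ (norm_conj' hm.2 hy)
    have h2 := ((hY m).1 hm.1).2 _ h1
    have e : m * k * m⁻¹ * y * (m * k * m⁻¹)⁻¹ * y⁻¹ =
        m * (k * (m⁻¹ * y * m) * k⁻¹ * (m⁻¹ * y * m)⁻¹) * m⁻¹ := by group
    rw [e, ← h2, mul_inv_cancel_right]
    exact h1
  have hw0K : w0 ∈ K := by
    refine ⟨hP1N (hWP1 hw0W), ?_⟩
    rintro y (hy | hy)
    · have e : w0 * y * w0⁻¹ * y⁻¹ = 1 := by rw [wcomm w0 hw0W y (hBW y hy)]; group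
      rw [e]; exact B1.one_mem
    · have h1 := wcomm w0 hw0W _ (hBW _ hy)
      have e : w0 * y * w0⁻¹ * y⁻¹ = w0 * x * w0⁻¹ * x⁻¹ := by
        have h2 : w0 * (x * y) * w0⁻¹ = x * y := by rw [h1]; group
        calc w0 * y * w0⁻¹ * y⁻¹ = (w0 * x⁻¹ * w0⁻¹) * (w0 * (x * y) * w0⁻¹) * y⁻¹ := by group
          _ = (w0 * x⁻¹ * w0⁻¹) * (x * y) * y⁻¹ := by rw [h2]
          _ = w0 * x⁻¹ * w0⁻¹ * x⁻¹⁻¹ := by group
          _ = w0 * x * w0⁻¹ * x⁻¹ := by rw [xinv, xinv]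
      rw [e]; exact hw0c
  set k := n * w0 * n⁻¹ with hk
  have hkK : k ∈ K := hKn n hnN w0 hw0K
  -- Sylow in `K`
  have hKs : IsSyl K (P1 ⊓ K) := by
    refine ⟨hP1s.1.to_le inf_le_left, inf_le_right, ?_⟩
    intro Q hQ h1 h2
    obtain ⟨c, hc, hcP⟩ := hP1s'.conj hQ (h2.trans fun y hy => hy.1)
    have h3 : Nat.card Q ≤ Nat.card (P1 ⊓ K : Subgroup G) := by
      refine Nat.card_le_card_of_injective
        (fun y : Q => (⟨c * y * c⁻¹, hcP y y.2, hKn c hc y (h2 y.2)⟩ :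
          (P1 ⊓ K : Subgroup G))) ?_
      intro a b hab
      have : c * (a : G) * c⁻¹ = c * (b : G) * c⁻¹ :=
        congrArg (fun z : (P1 ⊓ K : Subgroup G) => (z : G)) hab
      exact Subtype.ext (mul_left_cancel (mul_right_cancel this))
    have h4 := Subgroup.eq_of_le_of_card_ge h1 h3
    exact h4.ge
  have hk2 : k * k = 1 := by
    have e : k * k = n * (w0 * w0) * n⁻¹ := by rw [hk]; group
    rw [e, wsq w0 hw0W]; group
  have hzk : IsPGroup 2 (zpowers k) := by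
    rintro ⟨_, j, rfl⟩
    refine ⟨1, Subtype.ext ?_⟩
    change (k ^ j) ^ (2 ^ 1) = 1
    rw [pow_one, ← zpow_natCast, ← zpow_mul, mul_comm, zpow_mul, zpow_natCast, pow_two, hk2,
      one_zpow]
  obtain ⟨m, hmK, hm⟩ := hKs.conj hzk (by rw [zpowers_le]; exact hkK)
  have hp : m * k * m⁻¹ ∈ P1 := (hm k (mem_zpowers k)).1
  -- final contradiction
  set x' := n * x * n⁻¹ with hx'
  have h1 := hBcomm x' hx'B _ hp
  have h2 : m⁻¹ * x' * m * x'⁻¹ ∈ B1 := by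
    have := (K.inv_mem hmK).2 x' (hBQ1 hx'B)
    rwa [inv_inv] at this
  have h3 := ((hY k).1 hkK.1.1).2 _ h2
  -- `k` commutes with `m⁻¹ x' m`
  have h4 : k * (m⁻¹ * x' * m) = (m⁻¹ * x' * m) * k := by
    have e1 : k * (m⁻¹ * x' * m) = m⁻¹ * ((m * k * m⁻¹) * x') * m := by group
    have e2 : (m⁻¹ * x' * m) * k = m⁻¹ * (x' * (m * k * m⁻¹)) * m := by group
    rw [e1, e2, h1]
  have h5 : k * x' = x' * k := by
    set b1 := m⁻¹ * x' * m * x'⁻¹ with hb1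
    have e : m⁻¹ * x' * m = b1 * x' := by rw [hb1]; group
    rw [e] at h4
    have h6 : b1 * (k * x') = b1 * (x' * k) := by
      calc b1 * (k * x') = (b1 * k) * x' := by group
        _ = (k * b1) * x' := by rw [h3]
        _ = k * (b1 * x') := by group
        _ = b1 * x' * k := h4
        _ = b1 * (x' * k) := by group
    exact mul_left_cancel h6
  apply hw0B
  refine (hB w0).2 ⟨hw0W, ?_⟩
  have e1 : k * x' = n * (w0 * x) * n⁻¹ := by rw [hk, hx']; group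
  have e2 : x' * k = n * (x * w0) * n⁻¹ := by rw [hk, hx']; group
  rw [e1, e2] at h5
  exact mul_left_cancel (mul_right_cancel h5)

/-- **LEMMA SC**: `W` is strongly closed in `P` with respect to `L`. -/
theorem strong {L P W : Subgroup G} (hP : IsSyl L P) (hWP : W ≤ P)
    (wsq : ∀ w ∈ W, w * w = 1)
    (wc : ∀ g ∈ L, (∀ w ∈ W, g * w * g⁻¹ ∈ P) → ∀ w ∈ W, g * w * g⁻¹ ∈ W)
    (hi : ∀ F : Subgroup G, W ≤ F → F ≤ P → (∀ y ∈ F, ∀ z ∈ F, y * z * y⁻¹ * z⁻¹ ∈ W) →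
      (∀ y ∈ F, y * y ∈ W) →
      (∀ y ∈ F, y ∉ W → ∃ w ∈ W, ∃ g ∈ L, g * (y * w) * g⁻¹ ∈ W) →
      ∀ y ∈ F, ∀ z ∈ F, y ∉ W → z ∉ W → y⁻¹ * z ∈ W)
    (hcard : ∀ x ∈ P, x ∉ W → (∃ g ∈ L, g * x * g⁻¹ ∈ W) →
      2 * Nat.card (W ⊓ centralizer {x} : Subgroup G) < Nat.card W)
    (hii : ∀ x ∈ P, x ∉ W → (∃ g ∈ L, g * x * g⁻¹ ∈ W) →
      ∀ B : Subgroup G, B ≤ W ⊓ centralizer {x} →
      Nat.card (W ⊓ centralizer {x} : Subgroup G) ≤ 2 * Nat.card B →
      ∀ Q : Subgroup G, IsPGroup 2 Q → Q ≤ L → W ≤ Q → x ∈ Q →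
      (∀ y ∈ Q, ∀ b ∈ B, y * b = b * y) → (∀ y ∈ Q, y ∈ normalizer (W : Set G)) →
      ∀ y ∈ Q, y ∈ W ∨ x * y ∈ W) :
    ∀ w ∈ W, ∀ g ∈ L, g * w * g⁻¹ ∈ P → g * w * g⁻¹ ∈ W := by
  intro w hw g hg hgw
  by_contra hn
  have hbad : ∃ g' ∈ L, g' * (g * w * g⁻¹) * g'⁻¹ ∈ W := by
    refine ⟨g⁻¹, L.inv_mem hg, ?_⟩
    have e : g⁻¹ * (g * w * g⁻¹) * g⁻¹⁻¹ = w := by group
    rw [e]; exact hw
  exact main hP hWP wsq wc hi hgw hn hbad (hcard _ hgw hn hbad) (hii _ hgw hn hbad)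

end Cfsg.Agent.StdL2.SC
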