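import Cfsg.Agent.StdL2.QEight
import Cfsg.Agent.StdL2.Cover
import Cfsg.Agent.StdL2.EndOne
import Cfsg.Agent.StdL2.FieldStart
import Cfsg.Agent.Lib.AutSL2
import Cfsg.Agent.SmallSimple.SylowPrimeCount

/-!
# S1773, the case `A = SL₂(5)`: the 2-rank of `G` is two

`A` is the perfect double cover of `SL₂(4)`, `t` the central involution of `A`.
-/

set_option autoImplicit false
set_option linter.unusedSectionVars false

namespace Cfsg.Agent.StdL2.SLFive

open Subgroup Cfsg.Agent.Lib.SL2Mat Cfsg.Agent.Lib.AutSL2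

section aut

variable {F : Type*} [Field F] [Finite F]

/-- An automorphism of `SL(2,F)` centralizing the upper unitriangular group is conjugation by an element
of it. -/
theorem aut_up (α : MulAut (Matrix.SpecialLinearGroup (Fin 2) F)) (hα : ∀ b : F, α (up b) = up b) :
    ∃ c : F, ∀ x, α x = up c * x * (up c)⁻¹ := by
  obtain ⟨g, σ, h⟩ := exists_gl_ringEquiv (F := F) (MonoidHom.id _) Function.surjective_id
    (by
      intro x hx
      have : x = 1 := hx
      rw [this]; exact one_mem _) α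
  have h1 : ∀ x, (α x).1 * g.1 = g.1 * (fieldAut σ x).1 := by
    intro x
    have h2 : α x = conjGL g (fieldAut σ x) := h x
    rw [h2, conjGL_val, mul_assoc, inv_val_mul_val, mul_one]
  have h2 : ∀ b : F, (up b).1 * g.1 = g.1 * (up (σ b)).1 := by
    intro b
    have := h1 (up b)
    rwa [hα, fieldAut_up] at this
  have h3 : ∀ (b : F) (i j : Fin 2), ((up b).1 * g.1) i j = (g.1 * (up (σ b)).1) i j := by
    intro b i j; rw [h2]
  have e00 : ∀ b : F, g.1 0 0 + b * g.1 1 0 = g.1 0 0 := by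
    intro b
    have h4 := h3 b 0 0
    rw [Matrix.mul_apply, Matrix.mul_apply, Fin.sum_univ_two, Fin.sum_univ_two] at h4
    have a1 : (up b).1 0 0 = (1 : F) := rfl
    have a2 : (up b).1 0 1 = b := rfl
    have a3 : (up (σ b)).1 0 0 = (1 : F) := rfl
    have a4 : (up (σ b)).1 1 0 = (0 : F) := rfl
    rw [a1, a2, a3, a4] at h4
    linear_combination h4
  have e01 : ∀ b : F, g.1 0 1 + b * g.1 1 1 = g.1 0 0 * σ b + g.1 0 1 := by
    intro b
    have h4 := h3 b 0 1
    rw [Matrix.mul_apply, Matrix.mul_apply, Fin.sum_univ_two, Fin.sum_univ_two] at h4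
    have a1 : (up b).1 0 0 = (1 : F) := rfl
    have a2 : (up b).1 0 1 = b := rfl
    have a3 : (up (σ b)).1 0 1 = σ b := rfl
    have a4 : (up (σ b)).1 1 1 = (1 : F) := rfl
    rw [a1, a2, a3, a4] at h4
    linear_combination h4
  have hc : g.1 1 0 = 0 := by
    have := e00 1
    linear_combination this
  have had : g.1 1 1 = g.1 0 0 := by
    have := e01 1
    rw [map_one] at this
    linear_combination this
  have ha : g.1 0 0 ≠ 0 := by
    intro h0
    have h4 : g.1.det ≠ 0 := by
      have : IsUnit g.1.det := (Matrix.isUnit_iff_isUnit_det _).1 g.isUnit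
      exact this.ne_zero
    rw [Matrix.det_fin_two, hc, h0] at h4
    exact h4 (by ring)
  have hσ : ∀ b, σ b = b := by
    intro b
    have := e01 b
    rw [had] at this
    have h5 : g.1 0 0 * σ b = g.1 0 0 * b := by linear_combination -this
    exact mul_left_cancel₀ ha h5
  have hσx : ∀ x, fieldAut σ x = x := by
    intro x
    refine ext_ent ?_ ?_ ?_ ?_ <;> rw [fieldAut_ent, hσ]
  refine ⟨g.1 0 1 / g.1 0 0, fun x => ?_⟩
  rw [eq_mul_inv_iff_mul_eq]
  have hg : g.1 = g.1 0 0 • (up (g.1 0 1 / g.1 0 0)).1 := by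
    ext i j
    rw [Matrix.smul_apply, smul_eq_mul]
    fin_cases i <;> fin_cases j
    · show g.1 0 0 = g.1 0 0 * 1
      rw [mul_one]
    · show g.1 0 1 = g.1 0 0 * (g.1 0 1 / g.1 0 0)
      field_simp
    · show g.1 1 0 = g.1 0 0 * 0
      rw [hc, mul_zero]
    · show g.1 1 1 = g.1 0 0 * 1
      rw [had, mul_one]
  have h6 := h1 x
  rw [hσx, hg, Matrix.mul_smul, Matrix.smul_mul] at h6
  have h7 : (α x).1 * (up (g.1 0 1 / g.1 0 0)).1 = (up (g.1 0 1 / g.1 0 0)).1 * x.1 := by
    have h8 : ∀ M N : Matrix (Fin 2) (Fin 2) F, g.1 0 0 • M = g.1 0 0 • N → M = N := by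
      intro M N hMN
      have := congrArg (fun Z => (g.1 0 0)⁻¹ • Z) hMN
      simpa only [smul_smul, inv_mul_cancel₀ ha, one_smul] using this
    exact h8 _ _ h6
  exact Subtype.ext h7

end aut

/-- the automorphism induced on `A / Z(A)` -/
theorem exists_ind {A S : Type*} [Group A] [Group S] [Finite S] (f : A →* S) (hf : Function.Surjective f)
    (hk : f.ker = center A) (β : MulAut A) : ∃ α : MulAut S, ∀ x, α (f x) = f (β x) := by
  have hle : f.ker ≤ (f.comp β.toMonoidHom).ker := by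
    intro x hx
    rw [hk] at hx
    have h1 : β x ∈ center A := by
      rw [mem_center_iff] at hx ⊢
      intro g
      have h2 := congrArg β (hx (β.symm g))
      rw [map_mul, map_mul, MulEquiv.apply_symm_apply] at h2
      exact h2
    rw [← hk] at h1
    exact h1
  let φ : S →* S := f.liftOfSurjective hf ⟨f.comp β.toMonoidHom, hle⟩
  have hφ : ∀ x, φ (f x) = f (β x) := fun x =>
    MonoidHom.liftOfRightInverse_comp_apply f _ _ ⟨f.comp β.toMonoidHom, hle⟩ x
  have hs : Function.Surjective φ := by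
    intro y
    obtain ⟨x, rfl⟩ := hf y
    refine ⟨f (β.symm x), ?_⟩
    rw [hφ, MulEquiv.apply_symm_apply]
  exact ⟨MulEquiv.ofBijective φ ⟨Finite.injective_iff_surjective.2 hs, hs⟩, hφ⟩

/-- an automorphism of a perfect group trivial modulo the centre is trivial -/
theorem eq_self_of_perfect {A : Type*} [Group A] (hp : commutator A = ⊤) (β : MulAut A)
    (h : ∀ x, β x * x⁻¹ ∈ center A) (x : A) : β x = x := by
  let φ : A →* A :=
    { toFun := fun x => β x * x⁻¹
      map_one' := by rw [map_one, inv_one, mul_one]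
      map_mul' := by
        intro a b
        have h1 := mem_center_iff.1 (h b)
        calc β (a * b) * (a * b)⁻¹ = β a * (β b * b⁻¹) * a⁻¹ := by rw [map_mul]; group
          _ = β a * ((β b * b⁻¹) * a⁻¹) := by rw [mul_assoc]
          _ = β a * (a⁻¹ * (β b * b⁻¹)) := by rw [h1]
          _ = β a * a⁻¹ * (β b * b⁻¹) := by rw [mul_assoc] }
  have hker : commutator A ≤ φ.ker := by
    rw [commutator_def, commutator_le]
    intro a _ b _
    rw [MonoidHom.mem_ker, map_commutatorElement, commutatorElement_eq_one_iff_mul_comm]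
    exact ((mem_center_iff.1 (h b)) (φ a))
  have hx : x ∈ φ.ker := by
    apply hker; rw [hp]; exact mem_top x
  have h2 : β x * x⁻¹ = 1 := hx
  exact mul_inv_eq_one.1 h2

/-- The data: `A` is a perfect double cover of `SL(2,F)`, with one involution `t`, normal in `C(t)`, and
`C(A)` has cyclic Sylow 2-subgroups. -/
structure Dat {G : Type*} [Group G] {F : Type*} [Field F] (A : Subgroup G) (t : G)
    (f : A →* Matrix.SpecialLinearGroup (Fin 2) F) : Prop where
  tA : t ∈ A
  t1 : t ≠ 1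
  tt : t * t = 1
  perf : commutator A = ⊤
  surj : Function.Surjective f
  ker : f.ker = center A
  cen : ∀ x : A, x ∈ center A ↔ x = 1 ∨ (x : G) = t
  sq : ∀ x : A, f x ≠ 1 → f x * f x = 1 → (x : G) * x = t
  nrm : ∀ g, g * t = t * g → ∀ a ∈ A, g * a * g⁻¹ ∈ A
  cyc : ∀ Q : Subgroup G, IsPGroup 2 Q → Q ≤ centralizer (A : Set G) → IsCyclic Q

namespace Dat

variable {G : Type*} [Group G] [Finite G] {F : Type*} [Field F] [Finite F] [CharP F 2]
  {A : Subgroup G} {t : G} {f : A →* Matrix.SpecialLinearGroup (Fin 2) F}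

theorem comm (D : Dat A t f) {a : G} (ha : a ∈ A) : a * t = t * a := by
  have h1 : (⟨t, D.tA⟩ : A) ∈ center A := (D.cen _).2 (Or.inr rfl)
  exact congrArg Subtype.val (mem_center_iff.1 h1 ⟨a, ha⟩)

theorem f_one (D : Dat A t f) (x : A) : f x = 1 ↔ x = 1 ∨ (x : G) = t := by
  rw [← D.cen, ← D.ker, MonoidHom.mem_ker]

theorem f_eq (D : Dat A t f) {x y : A} (h : f x = f y) : ∃ c : G, (c = 1 ∨ c = t) ∧ (x : G) = c * y := by
  have h1 : f (x * y⁻¹) = 1 := by rw [map_mul, map_inv, h, mul_inv_cancel]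
  refine ⟨(x : G) * (y : G)⁻¹, ?_, by group⟩
  rcases (D.f_one _).1 h1 with e | e
  · left
    exact congrArg Subtype.val e
  · right
    exact e

theorem inv_t (D : Dat A t f) : t⁻¹ = t := inv_eq_of_mul_eq_one_left D.tt

/-- the automorphism of `A` induced by an element of `C(t)` -/
theorem exists_conj (D : Dat A t f) {g : G} (hg : g * t = t * g) :
    ∃ β : MulAut A, ∀ x : A, ((β x : A) : G) = g * x * g⁻¹ := by
  have hgi : g⁻¹ * t = t * g⁻¹ := by
    calc g⁻¹ * t = g⁻¹ * (t * g) * g⁻¹ := by group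
      _ = t * g⁻¹ := by rw [← hg]; group
  refine ⟨{ toFun := fun x => ⟨g * x * g⁻¹, D.nrm g hg x x.2⟩
            invFun := fun x => ⟨g⁻¹ * x * g⁻¹⁻¹, D.nrm g⁻¹ hgi x x.2⟩
            left_inv := fun x => Subtype.ext (by
              show g⁻¹ * (g * (x : G) * g⁻¹) * g⁻¹⁻¹ = x
              group)
            right_inv := fun x => Subtype.ext (by
              show g * (g⁻¹ * (x : G) * g⁻¹⁻¹) * g⁻¹ = x
              group)
            map_mul' := fun x y => Subtype.ext (by
              show g * ((x : G) * (y : G)) * g⁻¹ = (g * (x : G) * g⁻¹) * (g * (y : G) * g⁻¹)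
              group) }, fun x => rfl⟩

/-- the preimage of the upper unitriangular group -/
def P (f : A →* Matrix.SpecialLinearGroup (Fin 2) F) : Subgroup G := ((upG F).comap f).map A.subtype

omit [Finite G] [Finite F] [CharP F 2] in
theorem mem_P {x : G} : x ∈ P f ↔ ∃ h : x ∈ A, ∃ b, up b = f ⟨x, h⟩ := by
  constructor
  · rintro ⟨⟨y, hy⟩, hyb, rfl⟩
    exact ⟨hy, hyb⟩
  · rintro ⟨h, hb⟩
    exact ⟨⟨x, h⟩, hb, rfl⟩

theorem t_mem_P (D : Dat A t f) : t ∈ P f :=
  mem_P.2 ⟨D.tA, 0, by rw [up_zero]; exact ((D.f_one _).2 (Or.inr rfl)).symm⟩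

theorem up_sq (b : F) : up b * up b = 1 := by
  rw [up_mul, CharTwo.add_self_eq_zero, up_zero]

theorem sq_P (D : Dat A t f) {x : G} (hx : x ∈ P f) : (x = 1 ∨ x = t) ∨ x * x = t := by
  obtain ⟨h, b, hb⟩ := mem_P.1 hx
  by_cases h1 : f ⟨x, h⟩ = 1
  · left
    rcases (D.f_one _).1 h1 with e | e
    · left; exact congrArg Subtype.val e
    · right; exact e
  · right
    exact D.sq _ h1 (by rw [← hb]; exact up_sq b)

theorem isPGroup_P (D : Dat A t f) : IsPGroup 2 (P f) := by
  rintro ⟨x, hx⟩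
  refine ⟨2, ?_⟩
  apply Subtype.ext
  show x ^ (2 ^ 2) = 1
  have h4 : x ^ (2 ^ 2) = (x * x) * (x * x) := by
    have : (2 ^ 2 : ℕ) = 4 := rfl
    rw [this]; simp only [pow_succ, pow_zero, one_mul, mul_assoc]
  rw [h4]
  rcases D.sq_P hx with (e | e) | e
  · rw [e]; simp
  · rw [e, D.tt, mul_one]
  · rw [e, D.tt]

theorem P_le (D : Dat A t f) : P f ≤ centralizer ({t} : Set G) := by
  intro x hx
  obtain ⟨h, -⟩ := mem_P.1 hx
  rw [mem_centralizer_singleton_iff]
  exact D.comm h

theorem inter (D : Dat A t f) {T : Subgroup G} (hT : IsPGroup 2 T) (hPT : P f ≤ T) {x : G} (hx : x ∈ T)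
    (hxA : x ∈ A) : x ∈ P f := by
  have : Fact (Nat.Prime 2) := ⟨Nat.prime_two⟩
  have h1 : IsPGroup 2 ((T.subgroupOf A).map f) := (hT.comap_subtype (K := A)).map f
  have h2 : upG F ≤ (T.subgroupOf A).map f := by
    intro y hy
    obtain ⟨a, ha⟩ := D.surj y
    refine ⟨a, ?_, ha⟩
    apply mem_subgroupOf.2
    apply hPT
    rw [← ha] at hy
    exact ⟨a, hy, rfl⟩
  have h3 := eq_upG_of_le h1 h2
  have h4 : f ⟨x, hxA⟩ ∈ upG F := by
    rw [← h3]
    exact ⟨⟨x, hxA⟩, mem_subgroupOf.2 hx, rfl⟩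
  exact ⟨⟨x, hxA⟩, h4, rfl⟩

/-- two elements of `P` with different nontrivial images do not commute -/
theorem not_comm (D : Dat A t f) {x y : G} (hxA : x ∈ A) (hyA : y ∈ A) {b c : F}
    (hx : f ⟨x, hxA⟩ = up b) (hy : f ⟨y, hyA⟩ = up c) (hb : b ≠ 0) (hc : c ≠ 0) (hbc : b ≠ c) :
    x * y ≠ y * x := by
  intro h
  have hup : ∀ b : F, b ≠ 0 → up b ≠ 1 := fun b hb e => hb (up_inj (e.trans up_zero.symm))
  have h1 : x * x = t := D.sq ⟨x, hxA⟩ (by rw [hx]; exact hup b hb) (by rw [hx]; exact up_sq b)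
  have h2 : y * y = t := D.sq ⟨y, hyA⟩ (by rw [hy]; exact hup c hc) (by rw [hy]; exact up_sq c)
  have h3 : f (⟨x, hxA⟩ * ⟨y, hyA⟩) = up (b + c) := by rw [map_mul, hx, hy, up_mul]
  have h4 : (x * y) * (x * y) = t := D.sq (⟨x, hxA⟩ * ⟨y, hyA⟩) (by
    rw [h3]
    apply hup
    intro e
    apply hbc
    rw [add_eq_zero_iff_eq_neg, CharTwo.neg_eq] at e
    exact e) (by rw [h3]; exact up_sq _)
  have h5 : (x * y) * (x * y) = (x * x) * (y * y) := by
    calc (x * y) * (x * y) = x * (y * x) * y := by group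
      _ = x * (x * y) * y := by rw [h]
      _ = (x * x) * (y * y) := by group
  rw [h5, h1, h2, D.tt] at h4
  exact D.t1 h4.symm

/-- `C(P) ∩ C(t) ≤ C(A)·⟨t⟩` -/
theorem cent_P (D : Dat A t f) (hF : 2 < Nat.card F) {w : G} (hwt : w * t = t * w)
    (hw : ∀ p ∈ P f, w * p = p * w) : w ∈ centralizer (A : Set G) := by
  obtain ⟨β, hβ⟩ := D.exists_conj hwt
  obtain ⟨α, hα⟩ := exists_ind f D.surj D.ker β
  have hα1 : ∀ b, α (up b) = up b := by
    intro b
    obtain ⟨a, ha⟩ := D.surj (up b)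
    have haP : (a : G) ∈ P f := mem_P.2 ⟨a.2, b, ha.symm⟩
    rw [← ha, hα]
    congr 1
    apply Subtype.ext
    rw [hβ, hw _ haP]; group
  obtain ⟨c, hc⟩ := aut_up α hα1
  obtain ⟨p, hp⟩ := D.surj (up c)
  have hpP : (p : G) ∈ P f := mem_P.2 ⟨p.2, c, hp.symm⟩
  -- `w p⁻¹` acts trivially on `A / Z(A)`
  have h1 : ∀ a : A, (MulAut.conj p⁻¹ * β) a = a := by
    apply eq_self_of_perfect D.perf
    intro a
    have e1 : f ((MulAut.conj p⁻¹ * β) a * a⁻¹) = (f p)⁻¹ * α (f a) * (f p) * (f a)⁻¹ := by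
      rw [hα, MulAut.mul_apply, MulAut.conj_apply]
      simp only [map_mul, map_inv, inv_inv]
    rw [← D.ker, MonoidHom.mem_ker, e1, hc, hp]
    group
  have h2 : ∀ a ∈ A, (p : G)⁻¹ * w * a = a * ((p : G)⁻¹ * w) := by
    intro a ha
    have h3 := congrArg Subtype.val (h1 ⟨a, ha⟩)
    rw [MulAut.mul_apply, MulAut.conj_apply] at h3
    have h4 : (p : G)⁻¹ * (w * a * w⁻¹) * (p : G)⁻¹⁻¹ = a := by
      rw [← hβ ⟨a, ha⟩]; exact h3
    calc (p : G)⁻¹ * w * a = ((p : G)⁻¹ * (w * a * w⁻¹) * (p : G)⁻¹⁻¹) * ((p : G)⁻¹ * w) := by group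
      _ = a * ((p : G)⁻¹ * w) := by rw [h4]
  -- `p` commutes with `P`
  have h3 : ∀ x ∈ P f, (p : G) * x = x * p := by
    intro x hx
    obtain ⟨hxA, -⟩ := mem_P.1 hx
    have h4 := h2 x hxA
    have h5 := hw x hx
    calc (p : G) * x = w * ((p : G)⁻¹ * w)⁻¹ * x := by group
      _ = w * (((p : G)⁻¹ * w)⁻¹ * (x * ((p : G)⁻¹ * w))) * ((p : G)⁻¹ * w)⁻¹ := by group
      _ = w * (((p : G)⁻¹ * w)⁻¹ * ((p : G)⁻¹ * w * x)) * ((p : G)⁻¹ * w)⁻¹ := by rw [h4]
      _ = (w * x) * w⁻¹ * p := by group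
      _ = x * p := by rw [h5]; group
  have h4 : c = 0 := by
    by_contra hc0
    obtain ⟨d, hd0, hdc⟩ : ∃ d : F, d ≠ 0 ∧ c ≠ d := by
      by_contra hcon
      push Not at hcon
      have h6 : ∀ d : F, d = 0 ∨ d = c := fun d => by
        by_cases hd : d = 0
        · exact Or.inl hd
        · exact Or.inr (hcon d hd).symm
      have h7 : Nat.card F ≤ 2 := by
        classical
        have := Fintype.ofFinite F
        rw [Nat.card_eq_fintype_card]
        have h8 : (Finset.univ : Finset F) ⊆ {0, c} := by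
          intro d _
          rw [Finset.mem_insert, Finset.mem_singleton]
          exact h6 d
        exact (Finset.card_le_card h8).trans Finset.card_le_two
      omega
    obtain ⟨y, hy⟩ := D.surj (up d)
    exact D.not_comm p.2 y.2 hp hy hc0 hd0 hdc (h3 y (mem_P.2 ⟨y.2, d, hy.symm⟩))
  rw [h4, up_zero] at hp
  have h5 : (p : G) = 1 ∨ (p : G) = t := by
    rcases (D.f_one _).1 hp with e | e
    · left; rw [e]; rfl
    · exact Or.inr e
  rw [mem_centralizer_iff]
  intro a ha
  have h6 := h2 a ha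
  rcases h5 with e | e
  · rw [e, inv_one, one_mul] at h6; exact h6.symm
  · rw [e, D.inv_t] at h6
    have ha' := D.comm ha
    have h7 : t * (w * a) = t * (a * w) := by
      calc t * (w * a) = t * w * a := by rw [mul_assoc]
        _ = a * (t * w) := h6
        _ = t * (a * w) := by rw [← mul_assoc, ha', mul_assoc]
    exact (mul_left_cancel h7).symm

omit [Finite F] [CharP F 2] in
theorem cyc_inv {R : Subgroup G} (hc : IsCyclic R) {s r : G} (hs : s ∈ R) (s1 : s ≠ 1) (ss : s * s = 1)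
    (hr : r ∈ R) (h2 : r * r = 1) : r = 1 ∨ r = s := by
  classical
  have : Fintype R := Fintype.ofFinite R
  by_contra hcon
  push Not at hcon
  have h1 := IsCyclic.card_pow_eq_one_le (α := R) (n := 2) (by norm_num)
  have h3 : ({1, ⟨s, hs⟩, ⟨r, hr⟩} : Finset R) ⊆ Finset.univ.filter (fun a : R => a ^ 2 = 1) := by
    intro a ha
    simp only [Finset.mem_insert, Finset.mem_singleton] at ha
    rw [Finset.mem_filter]
    refine ⟨Finset.mem_univ _, ?_⟩
    rcases ha with rfl | rfl | rfl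
    · exact one_pow 2
    · exact Subtype.ext (by rw [SubmonoidClass.coe_pow, pow_two]; exact ss)
    · exact Subtype.ext (by rw [SubmonoidClass.coe_pow, pow_two]; exact h2)
  have h4 := Finset.card_le_card h3
  have h5 : ({1, ⟨s, hs⟩, ⟨r, hr⟩} : Finset R).card = 3 := by
    rw [Finset.card_eq_three]
    refine ⟨1, ⟨s, hs⟩, ⟨r, hr⟩, ?_, ?_, ?_, rfl⟩
    · intro e; exact s1 (congrArg Subtype.val e).symm
    · intro e; exact hcon.1 (congrArg Subtype.val e).symm
    · intro e; exact hcon.2 (congrArg Subtype.val e).symm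
  omega

/-- an element of `P` normalized by `T` up to sign -/
theorem exists_u (D : Dat A t f) {T : Subgroup G} (hT : IsPGroup 2 T) (hTt : ∀ w ∈ T, w * t = t * w)
    (hPT : P f ≤ T) : ∃ u ∈ P f, u ≠ 1 ∧ u ≠ t ∧ ∀ w ∈ T, w * u = u * w ∨ w * u = t * (u * w) := by
  have : Fact (Nat.Prime 2) := ⟨Nat.prime_two⟩
  have htT : t ∈ T := hPT D.t_mem_P
  set N : Subgroup T := zpowers ⟨t, htT⟩ with hN
  have hNmem : ∀ x : T, x ∈ N → (x : G) = 1 ∨ (x : G) = t := by
    intro x hx
    obtain ⟨k, rfl⟩ := mem_zpowers_iff.1 hx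
    have e : (((⟨t, htT⟩ : T) ^ k : T) : G) = t ^ k := by rw [SubgroupClass.coe_zpow]
    rw [e]
    rcases Int.even_or_odd k with ⟨m, rfl⟩ | ⟨m, rfl⟩
    · left
      rw [zpow_add, ← (Commute.refl t).mul_zpow, D.tt, one_zpow]
    · right
      rw [zpow_add, two_mul, zpow_add, ← (Commute.refl t).mul_zpow, D.tt, one_zpow, one_mul, zpow_one]
  have hNn : N.Normal := by
    refine ⟨fun n hn g => ?_⟩
    have h1 : g * n * g⁻¹ = n := by
      apply Subtype.ext
      show (g : G) * n * (g : G)⁻¹ = n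
      rcases hNmem n hn with e | e
      · rw [e]; group
      · rw [e, hTt g g.2]; group
    rw [h1]; exact hn
  have hPn : ((P f).subgroupOf T).Normal := by
    refine ⟨fun n hn g => ?_⟩
    rw [mem_subgroupOf] at hn ⊢
    obtain ⟨hnA, -⟩ := mem_P.1 hn
    exact D.inter hT hPT (mul_mem (mul_mem g.2 (hPT hn)) (inv_mem g.2))
      (D.nrm g (hTt g g.2) n hnA)
  have hPn' : (((P f).subgroupOf T).map (QuotientGroup.mk' N)).Normal :=
    hPn.map _ (QuotientGroup.mk'_surjective N)
  have hne : ((P f).subgroupOf T).map (QuotientGroup.mk' N) ≠ ⊥ := by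
    intro h
    obtain ⟨a, ha⟩ := D.surj (up 1)
    have haP : (a : G) ∈ P f := mem_P.2 ⟨a.2, 1, ha.symm⟩
    have h1 : QuotientGroup.mk' N ⟨a, hPT haP⟩ ∈ ((P f).subgroupOf T).map (QuotientGroup.mk' N) :=
      ⟨⟨a, hPT haP⟩, mem_subgroupOf.2 haP, rfl⟩
    rw [h, mem_bot] at h1
    have h2 : (⟨a, hPT haP⟩ : T) ∈ N := (QuotientGroup.eq_one_iff _).1 h1
    have h3 : f a = 1 := by
      rw [D.f_one]
      rcases hNmem _ h2 with e | e
      · left; exact Subtype.ext e
      · right; exact e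
    rw [ha, ← up_zero] at h3
    exact one_ne_zero (up_inj h3)
  obtain ⟨z, hz, hzc, hzo⟩ := Cfsg.Agent.SmallSimple.SylowPrimeCount.exists_mem_center_of_normal
    (hT.to_quotient N) _ hne
  obtain ⟨u, huP, rfl⟩ := hz
  have huP' : (u : G) ∈ P f := mem_subgroupOf.1 huP
  have hu1 : u ∉ N := fun h => hzo ((QuotientGroup.eq_one_iff _).2 h)
  refine ⟨u, huP', ?_, ?_, ?_⟩
  · intro e
    apply hu1
    have : u = 1 := Subtype.ext e
    rw [this]; exact one_mem _
  · intro e
    apply hu1
    have : u = ⟨t, htT⟩ := Subtype.ext e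
    rw [this]; exact mem_zpowers _
  · intro w hw
    have h1 := mem_center_iff.1 hzc (QuotientGroup.mk' N ⟨w, hw⟩)
    rw [← map_mul, ← map_mul] at h1
    have h2 := (QuotientGroup.eq (s := N)).1 h1
    have h3 := hNmem _ h2
    have h4 : ((((⟨w, hw⟩ * u)⁻¹ * (u * ⟨w, hw⟩) : T)) : G) = (w * u)⁻¹ * (u * w) := rfl
    rw [h4] at h3
    rcases h3 with e | e
    · left
      exact inv_mul_eq_one.1 e
    · right
      have h5 : u * w = w * u * t := by rw [← e]; group
      have h6 : (w * u) * t = t * (w * u) := hTt _ (mul_mem hw u.2)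
      rw [h5, h6, ← mul_assoc t t, D.tt, one_mul]

/-- The configuration of `QEight`. -/
theorem exists_QE' (D : Dat A t f) (hF : Nat.card F = 4) :
    ∃ (T : Sylow 2 G) (R : Subgroup G) (u v : G), QEight.QE T R t u v ∧ u ∈ A ∧ v ∈ A ∧
      ∀ r ∈ R, ∀ a ∈ A, r * a = a * r := by
  have : Fact (Nat.Prime 2) := ⟨Nat.prime_two⟩
  classical
  obtain ⟨T, hT, hPT⟩ := FieldStart.exists_isSyl (centralizer ({t} : Set G)) (P f) D.isPGroup_P D.P_le
  have hTt : ∀ w ∈ T, w * t = t * w := fun w hw => mem_centralizer_singleton_iff.1 (hT.2.1 hw)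
  have htT : t ∈ T := hPT D.t_mem_P
  have hcA : ∀ w ∈ T, (∀ p ∈ P f, w * p = p * w) → w ∈ centralizer (A : Set G) := fun w hw h =>
    D.cent_P (by rw [hF]; norm_num) (hTt w hw) h
  have htcA : t ∈ centralizer (A : Set G) := by
    rw [mem_centralizer_iff]
    intro a ha
    exact D.comm ha
  set R : Subgroup G := T ⊓ centralizer (A : Set G) with hR
  have hRcyc : IsCyclic R := D.cyc R (hT.1.to_le inf_le_left) inf_le_right
  have hRA : ∀ r ∈ R, ∀ a ∈ A, r * a = a * r := by
    intro r hr a ha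
    exact ((mem_centralizer_iff.1 (mem_inf.1 hr).2) a ha).symm
  have htR : t ∈ R := mem_inf.2 ⟨htT, htcA⟩
  -- `T` is a Sylow subgroup of `G`
  obtain ⟨S, hS⟩ := hT.1.exists_le_sylow
  have hST : (S : Subgroup G) = T := by
    by_contra hne
    have hlt : T < (S : Subgroup G) := lt_of_le_of_ne hS (fun e => hne e.symm)
    obtain ⟨n, hnS, hnT, hnN⟩ := FieldStart.exists_normalizer_gt S.isPGroup' hlt
    have h1 : ∀ x ∈ T, n * x * n⁻¹ ∈ T := fun x hx => (mem_normalizer_iff.1 hnN x).1 hx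
    have h2 : ∀ x ∈ T, n⁻¹ * x * n ∈ T := by
      intro x hx
      apply (mem_normalizer_iff.1 hnN _).2
      have e : n * (n⁻¹ * x * n) * n⁻¹ = x := by group
      rw [e]; exact hx
    have h3 : n * t * n⁻¹ ∈ R := by
      refine mem_inf.2 ⟨h1 t htT, hcA _ (h1 t htT) ?_⟩
      intro p hp
      have h4 := hTt _ (h2 p (hPT hp))
      calc n * t * n⁻¹ * p = n * (t * (n⁻¹ * p * n)) * n⁻¹ := by group
        _ = n * ((n⁻¹ * p * n) * t) * n⁻¹ := by rw [h4]
        _ = p * (n * t * n⁻¹) := by group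
    have h4 : (n * t * n⁻¹) * (n * t * n⁻¹) = 1 := by
      calc (n * t * n⁻¹) * (n * t * n⁻¹) = n * (t * t) * n⁻¹ := by group
        _ = 1 := by rw [D.tt]; group
    have h5 : n * t * n⁻¹ = t := by
      rcases cyc_inv hRcyc htR D.t1 D.tt h3 h4 with e | e
      · exfalso
        apply D.t1
        calc t = n⁻¹ * (n * t * n⁻¹) * n := by group
          _ = 1 := by rw [e]; group
      · exact e
    have h6 : n ∈ centralizer ({t} : Set G) := by
      rw [mem_centralizer_singleton_iff]
      calc n * t = (n * t * n⁻¹) * n := by group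
        _ = t * n := by rw [h5]
    have h7 : IsPGroup 2 ((S : Subgroup G) ⊓ centralizer ({t} : Set G) : Subgroup G) :=
      S.isPGroup'.to_le inf_le_left
    have h8 := hT.2.2 _ h7 (le_inf hS hT.2.1) inf_le_right
    exact hnT (h8 (mem_inf.2 ⟨hnS, h6⟩))
  -- the elements `u`, `h₀`, `v`
  obtain ⟨u, huP, hu1, hut, hTu⟩ := D.exists_u hT.1 hTt hPT
  obtain ⟨huA, b0, hb0⟩ := mem_P.1 huP
  have hb00 : b0 ≠ 0 := by
    rintro rfl
    rw [up_zero] at hb0
    rcases (D.f_one _).1 hb0.symm with e | e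
    · exact hu1 (congrArg Subtype.val e)
    · exact hut e
  have hup : ∀ b : F, b ≠ 0 → up b ≠ 1 := fun b hb e => hb (up_inj (e.trans up_zero.symm))
  have huu : u * u = t := D.sq ⟨u, huA⟩ (by rw [← hb0]; exact hup b0 hb00) (by rw [← hb0]; exact up_sq b0)
  -- the field
  have hfin := Fintype.ofFinite F
  have hF' : Fintype.card F = 4 := by rw [← Nat.card_eq_fintype_card]; exact hF
  obtain ⟨l, hl0, hl1⟩ : ∃ l : F, l ≠ 0 ∧ l ≠ 1 := by
    by_contra hcon
    push Not at hcon
    have h8 : (Finset.univ : Finset F) ⊆ {0, 1} := by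
      intro d _
      rw [Finset.mem_insert, Finset.mem_singleton]
      by_cases hd : d = 0
      · exact Or.inl hd
      · exact Or.inr (hcon d hd)
    have := (Finset.card_le_card h8).trans Finset.card_le_two
    rw [Finset.card_univ, hF'] at this
    omega
  have hcube : ∀ b : F, b ≠ 0 → b ^ 3 = 1 := by
    intro b hb
    have := FiniteField.pow_card_sub_one_eq_one b hb
    rwa [hF'] at this
  have h2F : (2 : F) = 0 := CharTwo.two_eq_zero
  have hl : l ^ 2 + l + 1 = 0 := by
    have h3 := hcube l hl0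
    have h4 : (l - 1) * (l ^ 2 + l + 1) = 0 := by linear_combination h3
    rcases mul_eq_zero.1 h4 with e | e
    · exact absurd (sub_eq_zero.1 e) hl1
    · exact e
  have hlist : ∀ b : F, b = 0 ∨ b = b0 ∨ b = l ^ 2 * b0 ∨ b = l * b0 := by
    intro b
    by_cases hb : b = 0
    · exact Or.inl hb
    right
    have h3 := hcube b hb
    have h4 := hcube b0 hb00
    have h5 : (b - b0) * ((b - l ^ 2 * b0) * (b - l * b0)) = 0 := by
      have h6 : (b - b0) * ((b - l ^ 2 * b0) * (b - l * b0)) =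
          b ^ 3 - l ^ 3 * b0 ^ 3 + (l ^ 2 + l + 1) * (b * b0 ^ 2 * l - b ^ 2 * b0) := by ring
      rw [h6, hl, h3, h4, hcube l hl0]; ring
    rcases mul_eq_zero.1 h5 with e | e
    · exact Or.inl (sub_eq_zero.1 e)
    rcases mul_eq_zero.1 e with e | e
    · exact Or.inr (Or.inl (sub_eq_zero.1 e))
    · exact Or.inr (Or.inr (sub_eq_zero.1 e))
  obtain ⟨h0, hh0⟩ := D.surj (dg l hl0)
  have hconj : ∀ (x : A) (b : F), f x = up b → f (h0 * x * h0⁻¹) = up (l ^ 2 * b) := by
    intro x b hx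
    rw [map_mul, map_mul, map_inv, hx, hh0, dg_up, mul_inv_cancel_right]
  obtain ⟨v, hv⟩ : ∃ v : G, v = (h0 : G) * u * (h0 : G)⁻¹ := ⟨_, rfl⟩
  have hvA : v ∈ A := by rw [hv]; exact mul_mem (mul_mem h0.2 huA) (inv_mem h0.2)
  have hfv : f ⟨v, hvA⟩ = up (l ^ 2 * b0) := by
    rw [← hconj ⟨u, huA⟩ b0 hb0.symm]
    congr 1
    exact Subtype.ext hv
  have hvb : l ^ 2 * b0 ≠ 0 := mul_ne_zero (pow_ne_zero 2 hl0) hb00
  have hvv : v * v = t := D.sq ⟨v, hvA⟩ (by rw [hfv]; exact hup _ hvb) (by rw [hfv]; exact up_sq _)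
  have hvP : v ∈ P f := mem_P.2 ⟨hvA, _, hfv.symm⟩
  have hl21 : b0 ≠ l ^ 2 * b0 := by
    intro e
    have h3 : (l ^ 2 - 1) * b0 = 0 := by linear_combination -e
    rcases mul_eq_zero.1 h3 with e1 | e1
    · apply hl0
      linear_combination hl - e1 - h2F
    · exact hb00 e1
  have huvne : u * v ≠ v * u := D.not_comm huA hvA hb0.symm hfv hb00 hvb hl21
  have hfuv : f (⟨u, huA⟩ * ⟨v, hvA⟩) = up (l * b0) := by
    rw [map_mul, ← hb0, hfv, up_mul]
    congr 1
    linear_combination (b0 * hl) - (l * b0) * h2F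
  have huvm : v * u = t * (u * v) := by
    have h3 : f (⟨v, hvA⟩ * ⟨u, huA⟩) = f (⟨u, huA⟩ * ⟨v, hvA⟩) := by
      rw [map_mul, map_mul, ← hb0, hfv, up_mul, up_mul, add_comm]
    obtain ⟨c, hc, hc'⟩ := D.f_eq h3
    have hc'' : v * u = c * (u * v) := hc'
    rcases hc with rfl | rfl
    · exfalso
      apply huvne
      rw [hc'', one_mul]
    · exact hc''
  have hPl : ∀ x ∈ P f, ∃ c : G, (c = 1 ∨ c = t) ∧ (x = c ∨ x = c * u ∨ x = c * v ∨ x = c * (u * v)) := by
    intro x hx
    obtain ⟨hxA, b, hb⟩ := mem_P.1 hx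
    rcases hlist b with rfl | rfl | rfl | rfl
    · rw [up_zero] at hb
      rcases (D.f_one _).1 hb.symm with e | e
      · exact ⟨1, Or.inl rfl, Or.inl (congrArg Subtype.val e)⟩
      · exact ⟨t, Or.inr rfl, Or.inl e⟩
    · obtain ⟨c, hc, hc'⟩ := D.f_eq (x := ⟨x, hxA⟩) (y := ⟨u, huA⟩) (by rw [← hb, ← hb0])
      exact ⟨c, hc, Or.inr (Or.inl hc')⟩
    · obtain ⟨c, hc, hc'⟩ := D.f_eq (x := ⟨x, hxA⟩) (y := ⟨v, hvA⟩) (by rw [← hb, hfv])
      exact ⟨c, hc, Or.inr (Or.inr (Or.inl hc'))⟩
    · obtain ⟨c, hc, hc'⟩ := D.f_eq (x := ⟨x, hxA⟩) (y := ⟨u, huA⟩ * ⟨v, hvA⟩) (by rw [← hb, hfuv])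
      exact ⟨c, hc, Or.inr (Or.inr (Or.inr hc'))⟩
  have huT : u ∈ T := hPT huP
  have hvT : v ∈ T := hPT hvP
  refine ⟨S, R, u, v, ?_, huA, hvA, hRA⟩
  have hmemS : ∀ w, w ∈ (S : Subgroup G) ↔ w ∈ T := fun w => by rw [hST]
  refine
    { uT := (hmemS u).2 huT
      vT := (hmemS v).2 hvT
      uu := huu
      vv := hvv
      tt := D.tt
      t1 := D.t1
      uv := huvm
      RT := by rw [hST]; exact inf_le_left
      Rcyc := hRcyc
      Ru := fun r hr => hRA r hr u huA
      Rv := fun r hr => hRA r hr v hvA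
      cent := ?_
      nu := fun w hw => hTu w ((hmemS w).1 hw)
      nv := ?_
      h3 := ?_ }
  · intro w hw hwu hwv
    have hwT := (hmemS w).1 hw
    refine mem_inf.2 ⟨hwT, hcA w hwT ?_⟩
    intro p hp
    obtain ⟨c, hc, hf⟩ := hPl p hp
    have hwc : w * c = c * w := by
      rcases hc with rfl | rfl
      · rw [mul_one, one_mul]
      · exact hTt w hwT
    rcases hf with rfl | rfl | rfl | rfl
    · exact hwc
    · rw [← mul_assoc, hwc, mul_assoc, hwu, mul_assoc]
    · rw [← mul_assoc, hwc, mul_assoc, hwv, mul_assoc]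
    · rw [← mul_assoc, hwc, mul_assoc, ← mul_assoc w u v, hwu, mul_assoc u w v, hwv]
      simp only [mul_assoc]
  · intro w hw
    have hwT := (hmemS w).1 hw
    have h3 : w * v * w⁻¹ ∈ P f :=
      D.inter hT.1 hPT (mul_mem (mul_mem hwT hvT) (inv_mem hwT)) (D.nrm w (hTt w hwT) v hvA)
    obtain ⟨c, hc, hfc⟩ := hPl _ h3
    have hcT : ∀ x ∈ T, x * c = c * x := by
      rcases hc with rfl | rfl
      · intro x hx; rw [mul_one, one_mul]
      · exact hTt
    have hvw : w * v = (w * v * w⁻¹) * w := by group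
    rcases hfc with e | e | e | e
    · exfalso
      have h4 : v = c := by
        calc v = w⁻¹ * (w * v * w⁻¹) * w := by group
          _ = w⁻¹ * (w * c) := by rw [e, mul_assoc, hcT w hwT]
          _ = c := by group
      have h5 : v * v = 1 := by
        rw [h4]
        rcases hc with rfl | rfl
        · exact one_mul 1
        · exact D.tt
      rw [hvv] at h5
      exact D.t1 h5
    · exfalso
      -- `w v w⁻¹ = c u = c c' w u w⁻¹`
      obtain ⟨c', hc', hcu⟩ : ∃ c', (c' = 1 ∨ c' = t) ∧ w * u = c' * (u * w) := by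
        rcases hTu w hwT with e1 | e1
        · exact ⟨1, Or.inl rfl, by rw [e1, one_mul]⟩
        · exact ⟨t, Or.inr rfl, e1⟩
      have hcc : c' * c' = 1 := by
        rcases hc' with rfl | rfl
        · exact one_mul 1
        · exact D.tt
      have hcc' : ∀ x ∈ T, x * c' = c' * x := by
        rcases hc' with rfl | rfl
        · intro x hx; rw [mul_one, one_mul]
        · exact hTt
      have h4 : w * v = w * ((c * c') * u) := by
        calc w * v = (c * u) * w := by rw [hvw, e]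
          _ = c * ((c' * c') * (u * w)) := by rw [hcc, one_mul, mul_assoc]
          _ = c * (c' * (w * u)) := by rw [hcu]; simp only [mul_assoc]
          _ = (c * (c' * w)) * u := by simp only [mul_assoc]
          _ = w * ((c * c') * u) := by
            rw [← hcc' w hwT, ← mul_assoc c w c', ← hcT w hwT]
            simp only [mul_assoc]
      have h5 : v = (c * c') * u := mul_left_cancel h4
      have hc12 : ∀ x ∈ T, x * (c * c') = (c * c') * x := by
        intro x hx
        rw [← mul_assoc, hcT x hx, mul_assoc, hcc' x hx, mul_assoc]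
      apply huvne
      rw [h5, ← mul_assoc u, hc12 u huT]
    · rw [hvw, e]
      rcases hc with rfl | rfl
      · left; rw [one_mul]
      · right; left; rw [mul_assoc]
    · rw [hvw, e]
      rcases hc with rfl | rfl
      · right; right; left; rw [one_mul, mul_assoc]
      · right; right; right; simp only [mul_assoc]
  · -- the element of order three
    have h4 : f (h0 * ⟨v, hvA⟩ * h0⁻¹) = f (⟨u, huA⟩ * ⟨v, hvA⟩) := by
      rw [hconj _ _ hfv, hfuv]
      congr 1
      have := hcube l hl0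
      linear_combination (l * b0) * this
    obtain ⟨c, hc, hc'⟩ := D.f_eq h4
    have hc'' : (h0 : G) * v * (h0 : G)⁻¹ = c * (u * v) := hc'
    have e1 : (h0 : G) * u = v * h0 := by rw [hv]; group
    have e2 : (h0 : G) * v = c * (u * v) * h0 := by rw [← hc'']; group
    have hh0A : (h0 : G) ∈ A := h0.2
    rcases hc with rfl | rfl
    · refine ⟨h0, e1, ?_, ?_⟩
      · rw [e2, one_mul, mul_assoc]
      · intro r hr
        exact (hRA r hr _ hh0A).symm
    · refine ⟨h0 * u, ?_, ?_, ?_⟩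
      · rw [e1, mul_assoc, e1]
      · have e3 : u * v = c * (v * u) := by
          rw [huvm, ← mul_assoc, D.tt, one_mul]
        have e4 : (h0 : G) * c = c * h0 := D.comm hh0A
        have e5 : (c * (u * v)) * (h0 : G) = (h0 : G) * v := e2.symm
        calc (h0 : G) * u * v = (h0 * c) * (v * u) := by rw [mul_assoc, e3, mul_assoc]
          _ = c * ((h0 : G) * v) * u := by rw [e4]; simp only [mul_assoc]
          _ = (c * c) * (u * v) * ((h0 : G) * u) := by rw [e2]; simp only [mul_assoc]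
          _ = u * (v * (h0 * u)) := by rw [D.tt, one_mul, mul_assoc]
      · intro r hr
        exact (hRA r hr _ (mul_mem hh0A huA)).symm

theorem exists_QE (D : Dat A t f) (hF : Nat.card F = 4) :
    ∃ (T : Sylow 2 G) (R : Subgroup G) (u v : G), QEight.QE T R t u v := by
  obtain ⟨T, R, u, v, h, -⟩ := D.exists_QE' hF
  exact ⟨T, R, u, v, h⟩

end Dat

section conf

open Cfsg Cfsg.Agent.StdL2.Setup Cfsg.Agent.SignalizersComponents

universe u

variable {G : Type u} [Group G] [Finite G] {L A : Subgroup G} {t : G}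

/-- 2-subgroups of `C(A)` are cyclic -/
theorem conf_cyc (C : Conf L A t) (Q : Subgroup G) (hQ : IsPGroup 2 Q)
    (hQA : Q ≤ centralizer (A : Set G)) : IsCyclic Q := by
  have h1 : IsPGroup 2 (Q.subgroupOf (centralizer (A : Set G))) := hQ.comap_subtype
  obtain ⟨R, hR⟩ := h1.exists_le_sylow
  have h2 := C.cyc R
  have h3 : IsCyclic (Q.subgroupOf (centralizer (A : Set G))) :=
    isCyclic_of_injective (Subgroup.inclusion hR) (Subgroup.inclusion_injective hR)
  exact isCyclic_of_surjective (subgroupOfEquivOfLe hQA).toMonoidHom (subgroupOfEquivOfLe hQA).surjective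

theorem conf_nrm (C : Conf L A t) {g : G} (hg : g * t = t * g) {a : G} (ha : a ∈ A) : g * a * g⁻¹ ∈ A := by
  have h1 : zpowers t ≤ centralizer (A : Set G) := by
    rw [zpowers_le]; exact C.htA
  have h2 : Even (Nat.card (zpowers t)) := by
    rw [Nat.card_zpowers, C.ht]; exact even_two
  have h3 := StandardTools.centralizer_le_of_even C.std h1 h2
  have h4 : g ∈ centralizer ((zpowers t : Subgroup G) : Set G) := by
    rw [mem_centralizer_iff]
    rintro x hx
    obtain ⟨k, rfl⟩ := mem_zpowers_iff.1 hx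
    have : Commute t g := hg.symm
    exact (this.zpow_left k).eq
  exact (mem_normalizer_iff.1 (h3 h4) a).1 ha

/-- The central involution of `A` is `t`, so `G = L` is simple. -/
theorem conf_t (C : Conf L A t) {z : A} (hz : z ∈ center A) (z1 : z ≠ 1) (zz : z * z = 1) :
    (z : G) = t ∧ L = ⊤ := by
  have hzA : (z : G) ∈ centralizer (A : Set G) := by
    rw [mem_centralizer_iff]
    intro a ha
    exact congrArg Subtype.val (mem_center_iff.1 hz ⟨a, ha⟩)
  have htz : t * z = z * t := ((mem_centralizer_iff.1 C.htA) z z.2).symm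
  have tt := Ends.sq_eq_one C
  have t1 := Ends.ne_one C
  have zz' : (z : G) * z = 1 := congrArg Subtype.val zz
  have z1' : (z : G) ≠ 1 := fun e => z1 (Subtype.ext e)
  have hQ : IsPGroup 2 (closure ({t, (z : G)} : Set G)) := by
    have hab : ∀ x ∈ closure ({t, (z : G)} : Set G), x * x = 1 ∧ ∀ y ∈ ({t, (z : G)} : Set G), x * y = y * x := by
      intro x hx
      have hcomm : ∀ x ∈ closure ({t, (z : G)} : Set G), ∀ y ∈ ({t, (z : G)} : Set G), x * y = y * x := by
        intro x hx
        refine closure_induction (p := fun x _ => ∀ y ∈ ({t, (z : G)} : Set G), x * y = y * x)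
          ?_ ?_ ?_ ?_ hx
        · rintro x (rfl | rfl) y (rfl | rfl)
          · rfl
          · exact htz
          · exact htz.symm
          · rfl
        · intro y _; rw [one_mul, mul_one]
        · intro a b _ _ ha hb y hy
          rw [mul_assoc, hb y hy, ← mul_assoc, ha y hy, mul_assoc]
        · intro a _ ha y hy
          have h1 : Commute a y := ha y hy
          exact h1.inv_left.eq
      refine ⟨?_, hcomm x hx⟩
      have hcl : ∀ x ∈ closure ({t, (z : G)} : Set G), ∀ y ∈ closure ({t, (z : G)} : Set G), x * y = y * x := by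
        intro x hx y hy
        refine closure_induction (p := fun y _ => x * y = y * x) ?_ ?_ ?_ ?_ hy
        · intro y hy; exact hcomm x hx y hy
        · rw [one_mul, mul_one]
        · intro a b _ _ ha hb
          rw [← mul_assoc, ha, mul_assoc, hb, mul_assoc]
        · intro a _ ha
          have h1 : Commute x a := ha
          exact h1.inv_right.eq
      refine closure_induction (p := fun x _ => x * x = 1) ?_ ?_ ?_ ?_ hx
      · rintro x (rfl | rfl)
        · exact tt
        · exact zz'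
      · exact one_mul 1
      · intro a b hma hmb ha hb
        calc (a * b) * (a * b) = a * (b * a) * b := by simp only [mul_assoc]
          _ = a * (a * b) * b := by rw [hcl b hmb a hma]
          _ = (a * a) * (b * b) := by simp only [mul_assoc]
          _ = 1 := by rw [ha, hb, one_mul]
      · intro a _ ha
        rw [← mul_inv_rev, ha, inv_one]
    rintro ⟨x, hx⟩
    refine ⟨1, Subtype.ext ?_⟩
    show x ^ 2 ^ 1 = 1
    rw [pow_one, pow_two]
    exact (hab x hx).1
  have hQA : closure ({t, (z : G)} : Set G) ≤ centralizer (A : Set G) := by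
    rw [closure_le]
    rintro x (rfl | rfl)
    · exact C.htA
    · exact hzA
  have hcyc := conf_cyc C _ hQ hQA
  have h1 : (z : G) = t := by
    rcases Dat.cyc_inv hcyc (subset_closure (Or.inl rfl)) t1 tt
      (subset_closure (Or.inr rfl)) zz' with e | e
    · exact absurd e z1'
    · exact e
  refine ⟨h1, ?_⟩
  have h2 : t ∈ L := by rw [← h1]; exact C.le z.2
  have h3 := C.gen
  rw [sup_eq_left.2 ((zpowers_le).2 h2)] at h3
  exact h3

/-- **Case (I) of S1773, `A = SL₂(5)`**: `G` is simple of 2-rank two. -/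
theorem rank_le (C : Conf L A t) {F : Type*} [Field F] [Finite F] [CharP F 2] (hF : Nat.card F = 4)
    (f : A →* Matrix.SpecialLinearGroup (Fin 2) F) (hf : Function.Surjective f) (hk : f.ker = center A)
    {z : A} (z1 : z ≠ 1) (zz : z * z = 1) (hc : ∀ x, x ∈ center A ↔ x = 1 ∨ x = z)
    (hsq : ∀ x, f x ≠ 1 → f x * f x = 1 → x * x = z) :
    (z : G) = t ∧ L = ⊤ ∧ Dat A t f ∧ ∀ E : Subgroup G, (∀ x ∈ E, x * x = 1) → Nat.card E ≤ 4 := by
  obtain ⟨hzt, hL⟩ := conf_t C ((hc z).2 (Or.inr rfl)) z1 zz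
  have D : Dat A t f :=
    { tA := by rw [← hzt]; exact z.2
      t1 := Ends.ne_one C
      tt := Ends.sq_eq_one C
      perf := C.std.1.1.commutator_eq_top
      surj := hf
      ker := hk
      cen := by
        intro x
        rw [hc x, ← hzt]
        constructor
        · rintro (e | e)
          · exact Or.inl e
          · right; rw [e]
        · rintro (e | e)
          · exact Or.inl e
          · right; exact Subtype.ext e
      sq := by
        intro x h1 h2
        rw [← hzt]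
        exact congrArg Subtype.val (hsq x h1 h2)
      nrm := fun g hg a ha => conf_nrm C hg ha
      cyc := conf_cyc C }
  refine ⟨hzt, hL, D, ?_⟩
  obtain ⟨T, R, u, v, h⟩ := D.exists_QE hF
  have hev : 2 ∣ Nat.card L := by
    have h1 : t ∈ L := by rw [hL]; exact mem_top t
    have h2 : orderOf (⟨t, h1⟩ : L) = 2 := by
      rw [← Subgroup.orderOf_coe]; exact C.ht
    rw [← h2]
    exact orderOf_dvd_natCard _
  apply h.rank_le _ (EndOne.exists_conj C hev T h.tT)
  intro M hM hi
  have hs := C.simple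
  rcases IsSimpleGroup.eq_bot_or_eq_top_of_normal (M.subgroupOf L) inferInstance with e | e
  · have h1 : (M.subgroupOf L).index ∣ 2 := hi ▸ relIndex_dvd_index_of_normal M L
    rw [e, index_bot] at h1
    apply C.not_comm
    have hp : Fact (Nat.Prime 2) := ⟨Nat.prime_two⟩
    rcases (Nat.dvd_prime Nat.prime_two).1 h1 with h2 | h2
    · have := (Nat.card_eq_one_iff_unique.1 h2).1
      exact ⟨⟨fun x y => Subsingleton.elim _ _⟩⟩
    · have hc : IsCyclic L := isCyclic_of_prime_card h2
      exact ⟨⟨(IsCyclic.commGroup (α := L)).mul_comm⟩⟩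
  · have h1 : L ≤ M := subgroupOf_eq_top.1 e
    rw [hL, top_le_iff] at h1
    rw [h1, index_top] at hi
    omega

end conf

end Cfsg.Agent.StdL2.SLFive
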