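import Cfsg.Agent.StdL2.SLFive
import Cfsg.Agent.TwoFusion.SLTwoFacts
import Cfsg.Agent.TwoFusion.NormalSL2

/-!
# S1773, the case `A = SL₂(5)`: subgroups `SL₂(K)` of `C(t)` lie in `A`
-/

set_option autoImplicit false
set_option linter.unusedSectionVars false

namespace Cfsg.Agent.StdL2.SLFiveIn

open Subgroup Cfsg.Agent.Lib.SL2Mat Cfsg.Agent.TwoFusion.NormalSL2 Cfsg.Agent.StdL2.SLFive
open Cfsg.Agent.StdL2.QEight

section sl

variable {K : Type*} [Field K]

/-- A quaternion subgroup of `SL(2,K)`. -/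
theorem exists_quat [Finite K] :
    ∃ (i j : Matrix.SpecialLinearGroup (Fin 2) K), i * i = neg1 K ∧ j * j = neg1 K ∧
      i * j = neg1 K * (j * i) ∧ IsPGroup 2 (Subgroup.zpowers i ⊔ Subgroup.zpowers j :
        Subgroup (Matrix.SpecialLinearGroup (Fin 2) K)) := by
  obtain ⟨a, b, hab⟩ : ∃ a b : K, a ^ 2 + b ^ 2 = -1 := by
    obtain ⟨p, hpc⟩ := CharP.exists K
    have : CharP K p := hpc
    have hp : p.Prime := CharP.char_is_prime K p
    have : NeZero p := ⟨hp.ne_zero⟩
    obtain ⟨a, b, hab⟩ := CharP.sq_add_sq K p (-1)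
    refine ⟨a, b, ?_⟩
    rw [hab]; push_cast; rfl
  let i : Matrix.SpecialLinearGroup (Fin 2) K := mk 0 1 (-1) 0 (by ring)
  let j : Matrix.SpecialLinearGroup (Fin 2) K := mk a b b (-a) (by linear_combination -hab)
  have hii : i * i = neg1 K := by
    refine ext_ent ?_ ?_ ?_ ?_ <;> simp [ent_mul, i]
  have hjj : j * j = neg1 K := by
    refine ext_ent ?_ ?_ ?_ ?_ <;> simp [ent_mul, j]
    · linear_combination hab
    · ring
    · ring
    · linear_combination hab
  have hij : i * j = neg1 K * (j * i) := by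
    refine ext_ent ?_ ?_ ?_ ?_ <;> simp [ent_mul, i, j]
  have h4 : ∀ x : Matrix.SpecialLinearGroup (Fin 2) K, x * x = neg1 K → IsPGroup 2 (Subgroup.zpowers x) := by
    intro x hx
    rintro ⟨_, ⟨n, rfl⟩⟩
    refine ⟨2, ?_⟩
    apply Subtype.ext
    change (x ^ n) ^ (2 ^ 2) = 1
    rw [← zpow_natCast, zpow_comm]
    have : x ^ ((2 ^ 2 : ℕ) : ℤ) = 1 := by
      rw [zpow_natCast]
      calc x ^ 2 ^ 2 = (x * x) * (x * x) := by rw [show 2 ^ 2 = 2 + 2 from rfl, pow_add, sq]
        _ = 1 := by rw [hx, neg1_mul_neg1]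
    rw [this, _root_.one_zpow]
  have hnorm : Subgroup.zpowers j ≤ Subgroup.normalizer (Subgroup.zpowers i : Set (Matrix.SpecialLinearGroup (Fin 2) K)) := by
    have hi3 : j * i * j⁻¹ = i⁻¹ := by
      have e1 : i⁻¹ = neg1 K * i := by
        refine inv_eq_of_mul_eq_one_right ?_
        rw [← mul_assoc, ← neg1_comm, mul_assoc, hii, neg1_mul_neg1]
      have e2 : j * i = i⁻¹ * j := by
        rw [e1, mul_assoc, hij, ← mul_assoc, neg1_mul_neg1, one_mul]
      rw [e2, mul_inv_cancel_right]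
    rw [Subgroup.zpowers_le, Subgroup.mem_normalizer_iff]
    intro h
    have e3 : ∀ y, j * y * j⁻¹ = MulAut.conj j y := fun y => rfl
    constructor
    · rintro ⟨n, rfl⟩
      refine ⟨-n, ?_⟩
      change i ^ (-n) = j * i ^ n * j⁻¹
      rw [e3, map_zpow, ← e3, hi3, _root_.inv_zpow, _root_.zpow_neg]
    · rintro ⟨n, hn⟩
      refine ⟨-n, ?_⟩
      change i ^ (-n) = h
      change i ^ n = j * h * j⁻¹ at hn
      apply (MulAut.conj j).injective
      rw [← e3 h, ← hn, map_zpow, ← e3, hi3, _root_.inv_zpow, _root_.zpow_neg, inv_inv]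
  exact ⟨i, j, hii, hjj, hij, (h4 i hii).to_sup_of_normal_left' (h4 j hjj) hnorm⟩

/-- a normal subgroup of `SL(2,K)`, `|K| > 3` odd, containing an element with square `-1` is everything -/
theorem eq_top [Fintype K] (h2 : (2 : K) ≠ 0) (h3 : 3 < Fintype.card K)
    (N : Subgroup (Matrix.SpecialLinearGroup (Fin 2) K)) (hN : N.Normal)
    {k : Matrix.SpecialLinearGroup (Fin 2) K} (hk : k ∈ N) (hkk : k * k = neg1 K) : N = ⊤ := by
  have hq : Cfsg.IsQuasisimple (Matrix.SpecialLinearGroup (Fin 2) K) := by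
    refine ⟨?_, ?_⟩
    · rw [Group.isPerfect_def]
      exact Cfsg.Agent.TwoFusion.SLTwoFacts.commutator_eq_top h3
    · exact Cfsg.Agent.TwoFusion.SLTwoFacts.isSimpleGroup_psl h3
  rcases Cfsg.Agent.SignalizersComponents.Components.quasisimple_normal hq N hN with e | e
  · exact e
  · exfalso
    have hkc := e hk
    obtain ⟨h01, h10⟩ := mem_center_offdiag hkc
    have hc := mem_center_iff.1 hkc (up 1)
    have e1 : ent (up 1 * k) 0 1 = ent (k * up 1) 0 1 := by rw [hc]
    rw [ent_mul, ent_mul, up_00, up_01, up_11, h01] at e1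
    have e2 : ent k 1 1 = ent k 0 0 := by linear_combination e1
    have hd := det_eq k
    rw [h01, e2] at hd
    have e3 : ent (k * k) 0 0 = ent (neg1 K) 0 0 := by rw [hkk]
    rw [ent_mul, neg1_00, h01] at e3
    apply h2
    linear_combination e3 - hd

end sl

variable {G : Type*} [Group G] [Finite G] {F : Type*} [Field F] [Finite F] [CharP F 2]
  {A : Subgroup G} {t : G} {f : A →* Matrix.SpecialLinearGroup (Fin 2) F}

theorem conj_centralizer (D : Dat A t f) {g : G} (hg : g * t = t * g) {c : G}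
    (hc : c ∈ centralizer (A : Set G)) : g * c * g⁻¹ ∈ centralizer (A : Set G) := by
  have hgi : g⁻¹ * t = t * g⁻¹ := by
    calc g⁻¹ * t = g⁻¹ * (t * g) * g⁻¹ := by group
      _ = t * g⁻¹ := by rw [← hg]; group
  rw [mem_centralizer_iff]
  intro a ha
  have h1 := D.nrm g⁻¹ hgi a ha
  rw [inv_inv] at h1
  have h2 := mem_centralizer_iff.1 hc _ h1
  calc a * (g * c * g⁻¹) = g * ((g⁻¹ * a * g) * c) * g⁻¹ := by group
    _ = g * (c * (g⁻¹ * a * g)) * g⁻¹ := by rw [h2]
    _ = g * c * g⁻¹ * a := by group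

/-- `SL₂(K) ≤ C(t)` with central involution `t` is contained in `A`. -/
theorem range_le (D : Dat A t f) (hF : Nat.card F = 4) {K : Type*} [Field K] [Fintype K]
    (h2 : (2 : K) ≠ 0) (h3 : 3 < Fintype.card K) (ψ : Matrix.SpecialLinearGroup (Fin 2) K →* G)
    (ht : ψ (neg1 K) = t) (x : Matrix.SpecialLinearGroup (Fin 2) K) : ψ x ∈ A := by
  have : Fact (Nat.Prime 2) := ⟨Nat.prime_two⟩
  obtain ⟨T, R, u, v, h, huA, hvA, hRA⟩ := D.exists_QE' hF
  obtain ⟨i, j, hii, hjj, hij, hP⟩ := exists_quat (K := K)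
  have hψt : ∀ x, ψ x * t = t * ψ x := by
    intro x
    rw [← ht, ← map_mul, ← map_mul, neg1_comm]
  -- move the quaternion group into `T`
  set Q : Subgroup G := (Subgroup.zpowers i ⊔ Subgroup.zpowers j :
        Subgroup (Matrix.SpecialLinearGroup (Fin 2) K)).map ψ with hQ
  have hQ2 : IsPGroup 2 Q := hP.map ψ
  have hQt : Q ≤ centralizer ({t} : Set G) := by
    rintro _ ⟨x, -, rfl⟩
    rw [mem_centralizer_singleton_iff]
    exact hψt x
  have hTt : (T : Subgroup G) ≤ centralizer ({t} : Set G) := by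
    intro w hw
    rw [mem_centralizer_singleton_iff]
    exact h.tw hw
  obtain ⟨c, hct, hc⟩ := TwoFusion.SylowConj.exists_conj_le_of_sylow_le T _ Q hTt hQ2 hQt
  rw [mem_centralizer_singleton_iff] at hct
  -- the conjugate embedding
  set φ : Matrix.SpecialLinearGroup (Fin 2) K →* G := (MulAut.conj c).toMonoidHom.comp ψ with hφ
  have hφx : ∀ x, φ x = c * ψ x * c⁻¹ := fun x => rfl
  have hφt : φ (neg1 K) = t := by
    rw [hφx, ht, hct, mul_inv_cancel_right]
  have hφtx : ∀ x, φ x * t = t * φ x := by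
    intro x
    rw [← hφt, ← map_mul, ← map_mul, neg1_comm]
  have hiT : φ i ∈ (T : Subgroup G) :=
    hc _ ⟨i, mem_sup_left (mem_zpowers i), rfl⟩
  have hjT : φ j ∈ (T : Subgroup G) :=
    hc _ ⟨j, mem_sup_right (mem_zpowers j), rfl⟩
  have hijne : φ i * φ j ≠ φ j * φ i := by
    rw [← map_mul, hij, map_mul, hφt, map_mul]
    intro e
    exact D.t1 (mul_right_cancel (e.trans (one_mul _).symm))
  -- an inner element with square `-1`
  obtain ⟨k, hkk, hkT, hki⟩ : ∃ k : Matrix.SpecialLinearGroup (Fin 2) K, k * k = neg1 K ∧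
      φ k ∈ (T : Subgroup G) ∧ QE.Inn t v (φ k) := by
    rcases h.inn_or_outr hiT with e1 | e1
    · exact ⟨i, hii, hiT, e1⟩
    rcases h.inn_or_outr hjT with e2 | e2
    · exact ⟨j, hjj, hjT, e2⟩
    refine ⟨i * j, ?_, ?_, ?_⟩
    · calc (i * j) * (i * j) = (i * j) * (neg1 K * (j * i)) := by rw [hij]
        _ = (i * j * neg1 K) * (j * i) := by simp only [mul_assoc]
        _ = neg1 K * (i * (j * j) * i) := by rw [← neg1_comm]; simp only [mul_assoc]
        _ = neg1 K * (neg1 K * (i * i)) := by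
          rw [hjj, ← neg1_comm]; simp only [mul_assoc]
        _ = neg1 K := by rw [hii, neg1_mul_neg1, mul_one]
    · rw [map_mul]; exact mul_mem hiT hjT
    · rw [map_mul]; exact h.outr_mul_outr hiT e1 e2
  have hww : φ k * φ k = t := by rw [← map_mul, hkk, hφt]
  obtain ⟨r, hr, hf⟩ := h.inner_form hkT hki
  have key : φ k ∈ centralizer (A : Set G) ∨ φ k ∈ A := by
    have hfin : (∃ p ∈ A, p * p = t ∧ (∀ r ∈ R, r * p = p * r) ∧ φ k = r * p) → φ k ∈ A := by
      rintro ⟨p, hpA, hpp, hrp, e⟩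
      have h5 : r * r = 1 := by
        have h6 : φ k * φ k = (r * r) * t := by
          calc φ k * φ k = r * (p * r) * p := by rw [e]; simp only [mul_assoc]
            _ = (r * r) * (p * p) := by rw [← hrp r hr]; simp only [mul_assoc]
            _ = (r * r) * t := by rw [hpp]
        rw [hww] at h6
        exact (mul_right_cancel ((one_mul t).trans h6)).symm
      rcases h.inv_R hr h5 with e1 | e1
      · rw [e, e1, one_mul]; exact hpA
      · rw [e, e1]; exact mul_mem D.tA hpA
    rcases hf with e | e | e | e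
    · left
      rw [e, mem_centralizer_iff]
      intro a ha
      exact (hRA r hr a ha).symm
    · exact Or.inr (hfin ⟨u, huA, h.uu, h.Ru, e⟩)
    · exact Or.inr (hfin ⟨v, hvA, h.vv, h.Rv, e⟩)
    · refine Or.inr (hfin ⟨u * v, mul_mem huA hvA, ?_, ?_, e⟩)
      · calc (u * v) * (u * v) = u * (v * u) * v := by simp only [mul_assoc]
          _ = (u * t) * u * (v * v) := by rw [h.uv]; simp only [mul_assoc]
          _ = t := by rw [h.tu, h.vv, mul_assoc t u, h.uu, h.tt, one_mul]
      · intro r hr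
        rw [← mul_assoc, h.Ru r hr, mul_assoc, h.Rv r hr, mul_assoc]
  rcases key with hkC | hkA
  · exfalso
    have hN : ((centralizer (A : Set G)).comap φ).Normal := by
      refine ⟨fun n hn g => ?_⟩
      rw [mem_comap] at hn ⊢
      rw [map_mul, map_mul, map_inv]
      exact conj_centralizer D (hφtx g) hn
    have htop := eq_top h2 h3 _ hN (k := k) hkC hkk
    have hall : ∀ x, φ x ∈ centralizer (A : Set G) := by
      intro x
      have : x ∈ (centralizer (A : Set G)).comap φ := by rw [htop]; exact mem_top x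
      exact this
    have hR' : ∀ x, φ x ∈ (T : Subgroup G) → φ x ∈ R := by
      intro x hx
      have h5 := mem_centralizer_iff.1 (hall x)
      exact h.cent _ hx (h5 u huA).symm (h5 v hvA).symm
    exact hijne (h.R_comm (hR' i hiT) (hR' j hjT))
  · have hN : (A.comap φ).Normal := by
      refine ⟨fun n hn g => ?_⟩
      rw [mem_comap] at hn ⊢
      rw [map_mul, map_mul, map_inv]
      exact D.nrm _ (hφtx g) _ hn
    have htop := eq_top h2 h3 _ hN (k := k) hkA hkk
    have hx : φ x ∈ A := by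
      have : x ∈ A.comap φ := by rw [htop]; exact mem_top x
      exact this
    have hci : c⁻¹ * t = t * c⁻¹ := by
      calc c⁻¹ * t = c⁻¹ * (t * c) * c⁻¹ := by group
        _ = t * c⁻¹ := by rw [← hct]; group
    have := D.nrm c⁻¹ hci _ hx
    rw [hφx] at this
    have e : c⁻¹ * (c * ψ x * c⁻¹) * c⁻¹⁻¹ = ψ x := by group
    rwa [e] at this

/-- `|A| = 120` -/
theorem card_A (D : Dat A t f) (hF : Nat.card F = 4) : Nat.card A = 120 := by
  have hfin := Fintype.ofFinite F
  have hF' : Fintype.card F = 4 := by rw [← Nat.card_eq_fintype_card]; exact hF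
  have h1 : Nat.card f.ker = 2 := by
    have h2 : (f.ker : Set A) = {1, ⟨t, D.tA⟩} := by
      ext x
      rw [SetLike.mem_coe, MonoidHom.mem_ker, D.f_one, Set.mem_insert_iff, Set.mem_singleton_iff]
      constructor
      · rintro (e | e)
        · exact Or.inl e
        · exact Or.inr (Subtype.ext e)
      · rintro (e | e)
        · exact Or.inl e
        · right; rw [e]
    have h3 : Nat.card f.ker = (f.ker : Set A).ncard := rfl
    rw [h3, h2, Set.ncard_pair]
    intro e
    exact D.t1 (congrArg Subtype.val e).symm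
  have h2 : Nat.card (A ⧸ f.ker) = 60 := by
    rw [Nat.card_congr (QuotientGroup.quotientKerEquivOfSurjective f D.surj).toEquiv,
      Cfsg.Agent.ClassicalGeometry.PSL2Basic.card_SL2, hF']
    norm_num
  rw [Subgroup.card_eq_card_quotient_mul_card_subgroup f.ker, h1, h2]

theorem five_dvd (D : Dat A t f) (hF : Nat.card F = 4) : 5 ∣ Nat.card (centralizer ({t} : Set G)) := by
  have h1 : A ≤ centralizer ({t} : Set G) := by
    intro a ha
    rw [mem_centralizer_singleton_iff]
    exact D.comm ha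
  have h2 := Subgroup.card_dvd_of_le h1
  rw [card_A D hF] at h2
  exact (by norm_num : 5 ∣ 120).trans h2

theorem card_eq_five (D : Dat A t f) (hF : Nat.card F = 4) {K : Type*} [Field K] [Fintype K]
    (hK : Odd (Fintype.card K)) (h3 : 3 < Fintype.card K)
    (ψ : Matrix.SpecialLinearGroup (Fin 2) K →* G) (hψ : Function.Injective ψ)
    (ht : ψ (neg1 K) = t) : Fintype.card K = 5 := by
  have h2 : (2 : K) ≠ 0 := by
    intro h0
    have : CharP K 2 := CharTwo.of_one_ne_zero_of_two_eq_zero one_ne_zero h0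
    have h4 : ringChar K = 2 := ringChar.eq K 2 ▸ rfl
    have := FiniteField.even_card_iff_char_two.1 h4
    rw [Nat.odd_iff] at hK
    omega
  have h4 : ψ.range ≤ A := by
    rintro _ ⟨x, rfl⟩
    exact range_le D hF h2 h3 ψ ht x
  have h5 := Nat.le_of_dvd (by rw [card_A D hF]; norm_num) (Subgroup.card_dvd_of_le h4)
  rw [card_A D hF, ← Nat.card_congr (MonoidHom.ofInjective hψ).toEquiv,
    Cfsg.Agent.ClassicalGeometry.PSL2Basic.card_SL2] at h5
  obtain ⟨m, hm⟩ := hK
  have h6 : 5 ≤ Fintype.card K := by omega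
  by_contra hne
  have h7 : 7 ≤ Fintype.card K := by omega
  have h8 : 7 * (7 ^ 2 - 1) ≤ Fintype.card K * (Fintype.card K ^ 2 - 1) :=
    Nat.mul_le_mul h7 (Nat.sub_le_sub_right (Nat.pow_le_pow_left h7 2) 1)
  omega

end Cfsg.Agent.StdL2.SLFiveIn
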