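import Cfsg.Agent.StdL2.TowerX

/-!
# The normaliser of `⟨t⟩ × V`
-/

set_option autoImplicit false

namespace Cfsg.Agent.StdL2

open scoped commutatorElement

open Cfsg.Agent.Lib.GoldschmidtFusion (exists_conj_le_in lt_inf_normalizer)

variable {G : Type*} [Group G]

/-- The torus. -/
structure Tor (t : G) (V : Subgroup G) (d : G) : Prop where
  dt : d * t = t * d
  dV : ∀ v ∈ V, d * v * d⁻¹ ∈ V
  reg : ∀ v ∈ V, ∀ w ∈ V, v ≠ 1 → w ≠ 1 → ∃ n : ℕ, d ^ n * v * (d ^ n)⁻¹ = w
  nrm : ∀ n, n * t = t * n → (∀ v ∈ V, n * v * n⁻¹ ∈ V) → ∃ m : ℕ, ∀ v ∈ V,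
    (n * d * n⁻¹) * v * (n * d * n⁻¹)⁻¹ = d ^ m * v * (d ^ m)⁻¹

section

variable {t d : G} {V : Subgroup G}

theorem pow_dt (hdt : d * t = t * d) (n : ℕ) : d ^ n * t = t * d ^ n :=
  (show Commute d t from hdt).pow_left n

theorem pow_dt' (hdt : d * t = t * d) (n : ℕ) : d ^ n * t * (d ^ n)⁻¹ = t := by
  rw [pow_dt hdt, mul_inv_cancel_right]

/-- three distinct elements. -/
theorem exists_two [Finite G] (hV : 4 ≤ Nat.card V) (a : G) :
    ∃ b ∈ V, b ≠ 1 ∧ b ≠ a := by
  classical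
  by_contra hcon
  push Not at hcon
  have h1 : (V : Set G) ⊆ {1, a} := by
    intro b hb
    by_cases h : b = 1
    · exact Or.inl h
    · exact Or.inr (hcon b hb h)
  have h2 : (V : Set G).ncard ≤ 2 :=
    (Set.ncard_le_ncard h1 (Set.toFinite _)).trans (Set.ncard_insert_le _ _ |>.trans (by
      rw [Set.ncard_singleton]))
  have h3 : (V : Set G).ncard = Nat.card V := rfl
  omega

theorem normE [Finite G] (H : TCen t V) (hV : 4 ≤ Nat.card V) (hdt : d * t = t * d)
    (hdV : ∀ v ∈ V, d * v * d⁻¹ ∈ V)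
    (hreg : ∀ v ∈ V, ∀ w ∈ V, v ≠ 1 → w ≠ 1 → ∃ n : ℕ, d ^ n * v * (d ^ n)⁻¹ = w)
    {R : Subgroup G} (hR : IsPGroup 2 R) (hER : H.E ≤ R) {x : G}
    (hxN : x ∈ Subgroup.normalizer (H.E : Set G)) (hxE : x ∉ H.E) (hxR : x ∈ R) :
    ∀ n ∈ Subgroup.normalizer (H.E : Set G), ∀ v ∈ V, n * v * n⁻¹ ∈ V := by
  classical
  set N := Subgroup.normalizer (H.E : Set G) with hN
  have ht2 := H.t2
  have hdE : ∀ e ∈ H.E, d * e * d⁻¹ ∈ H.E := by
    intro e he
    rcases he with h | h
    · exact Or.inl (hdV e h)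
    · right
      have h1 : t * (d * e * d⁻¹) = d * (t * e) * d⁻¹ := by
        rw [← mul_assoc, ← mul_assoc, ← hdt]
        group
      rw [h1]
      exact hdV _ h
  have hdN : d ∈ N := mem_norm_of_le hdE
  have hdNn : ∀ n : ℕ, d ^ n ∈ N := fun n => pow_mem hdN n
  have htx : x * t * x⁻¹ ≠ t := by
    intro h
    apply hxE
    have h1 : x * t = t * x := by
      rw [mul_inv_eq_iff_eq_mul] at h
      exact h
    exact H.syl (R ⊓ Subgroup.centralizer ({t} : Set G)) (hR.to_le inf_le_left)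
      (fun z hz => (Subgroup.mem_centralizer_singleton_iff.1 hz.2).symm)
      (fun v hv => ⟨hER (H.V_le_E hv), Subgroup.mem_centralizer_singleton_iff.2
        (H.vt v hv).symm⟩)
      ⟨hER H.t_mem_E, Subgroup.mem_centralizer_singleton_iff.2 rfl⟩ x
      ⟨hxR, Subgroup.mem_centralizer_singleton_iff.2 h1⟩
  -- the orbit
  have hinE : ∀ n ∈ N, n * t * n⁻¹ ∈ H.E := fun n hn =>
    (Subgroup.mem_normalizer_iff.1 hn t).1 H.t_mem_E
  have hV' : ∀ a ∈ V, ∀ b ∈ V, a ≠ 1 → b ≠ 1 → (∃ n ∈ N, n * t * n⁻¹ = a) →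
      ∃ n ∈ N, n * t * n⁻¹ = b := by
    rintro a ha b hb ha1 hb1 ⟨n, hn, h⟩
    obtain ⟨m, hm⟩ := hreg a ha b hb ha1 hb1
    refine ⟨d ^ m * n, mul_mem (hdNn m) hn, ?_⟩
    rw [← hm, ← h]
    group
  have htV' : ∀ a ∈ V, ∀ b ∈ V, a ≠ 1 → b ≠ 1 → (∃ n ∈ N, n * t * n⁻¹ = t * a) →
      ∃ n ∈ N, n * t * n⁻¹ = t * b := by
    rintro a ha b hb ha1 hb1 ⟨n, hn, h⟩
    obtain ⟨m, hm⟩ := hreg a ha b hb ha1 hb1
    refine ⟨d ^ m * n, mul_mem (hdNn m) hn, ?_⟩
    have h1 : d ^ m * n * t * (d ^ m * n)⁻¹ = d ^ m * (n * t * n⁻¹) * (d ^ m)⁻¹ := by group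
    rw [h1, h, ← hm]
    have h2 : d ^ m * (t * a) * (d ^ m)⁻¹ = (d ^ m * t) * a * (d ^ m)⁻¹ := by group
    rw [h2, pow_dt hdt]
    group
  have hA : ∀ a ∈ V, a ≠ 1 → ¬ ∃ n ∈ N, n * t * n⁻¹ = a := by
    intro a0 ha0 ha01 hΔ
    by_cases hc : ∃ c ∈ V, c ≠ 1 ∧ ∃ n ∈ N, n * t * n⁻¹ = t * c
    · -- everything is conjugate
      obtain ⟨c, hcV, hc1, hcn⟩ := hc
      have hall : ({y | ∃ n ∈ N, n * t * n⁻¹ = y} : Set G) = (H.E : Set G) \ {1} := by
        ext y
        constructor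
        · rintro ⟨n, hn, rfl⟩
          refine ⟨hinE n hn, ?_⟩
          intro h
          have h1 : n * t * n⁻¹ = 1 := h
          have h2 : t = 1 := by
            have h3 : t = n⁻¹ * (n * t * n⁻¹) * n := by group
            rw [h3, h1]
            group
          apply H.tV
          rw [h2]
          exact one_mem _
        · rintro ⟨hy, hy1⟩
          have hy1' : y ≠ 1 := hy1
          rcases hy with h | h
          · exact hV' a0 ha0 y h ha01 hy1' hΔ
          · by_cases h2 : t * y = 1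
            · refine ⟨1, one_mem _, ?_⟩
              have h3 : y = t := by
                rw [Lv.eq_t_mul ht2 y, h2, mul_one]
              rw [h3]
              group
            · have h3 := htV' c hcV _ h hc1 h2 hcn
              rw [← Lv.eq_t_mul ht2] at h3
              exact h3
      have h1 := ncard_orbit' N t
      rw [hall, Set.ncard_sdiff_singleton_of_mem (one_mem H.E)] at h1
      have h2 : (H.E : Set G).ncard = Nat.card H.E := rfl
      rw [h2, H.card_E] at h1
      set K := Subgroup.centralizer ({t} : Set G) with hK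
      have hEK : H.E ≤ K := fun z hz => Subgroup.mem_centralizer_singleton_iff.2 (H.E_comm hz).symm
      have hEN : H.E ≤ N := Subgroup.le_normalizer
      have h3 := Subgroup.relIndex_mul_relIndex H.E (K ⊓ N) K (le_inf hEK hEN) inf_le_left
      have h4 := Subgroup.relIndex_mul_relIndex H.E (K ⊓ N) N (le_inf hEK hEN) inf_le_right
      have h5 := Subgroup.relIndex_mul_relIndex H.E (R ⊓ N) N (le_inf hER hEN) inf_le_right
      rw [Subgroup.inf_relIndex_right] at h4
      have hodd1 : ¬ 2 ∣ H.E.relIndex (K ⊓ N) := fun h =>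
        H.relIndex_E (h3 ▸ h.mul_right _)
      have hodd2 : ¬ 2 ∣ K.relIndex N := by
        rw [← h1]
        omega
      have hodd3 : ¬ 2 ∣ H.E.relIndex N := by
        rw [← h4]
        intro h
        rcases (Nat.Prime.dvd_mul Nat.prime_two).1 h with h | h
        · exact hodd1 h
        · exact hodd2 h
      have hodd4 : ¬ 2 ∣ H.E.relIndex (R ⊓ N) := fun h => hodd3 (h5 ▸ h.mul_right _)
      have hp : IsPGroup 2 (R ⊓ N : Subgroup G) := hR.to_le inf_le_left
      obtain ⟨m, hm⟩ := hp.index (H.E.subgroupOf (R ⊓ N))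
      have hm' : H.E.relIndex (R ⊓ N) = 2 ^ m := hm
      have hm0 : m = 0 := by
        by_contra h
        apply hodd4
        rw [hm']
        exact dvd_pow_self 2 h
      rw [hm0, pow_zero, Subgroup.relIndex_eq_one] at hm'
      exact hxE (hm' ⟨hxR, hxN⟩)
    · push Not at hc
      obtain ⟨b, hb, hb1, hba⟩ := exists_two hV a0
      obtain ⟨m, hm, hma⟩ := hΔ
      set n := m⁻¹ with hn
      have hnN : n ∈ N := inv_mem hm
      have hna : n * a0 * n⁻¹ = t := by
        rw [← hma, hn]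
        group
      -- `n b n⁻¹ ∈ V`
      have hbΔ := hV' a0 ha0 b hb ha01 hb1 ⟨m, hm, hma⟩
      obtain ⟨l, hl, hlb⟩ := hbΔ
      have hnb : n * b * n⁻¹ ∈ V := by
        have h1 : n * b * n⁻¹ = (n * l) * t * (n * l)⁻¹ := by
          rw [← hlb]
          group
        have h2 := hinE (n * l) (mul_mem hnN hl)
        rw [← h1] at h2
        rcases h2 with h2 | h2
        · exact h2
        · exfalso
          by_cases h3 : t * (n * b * n⁻¹) = 1
          · apply hba
            have h4 : n * b * n⁻¹ = t := by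
              rw [Lv.eq_t_mul ht2 (n * b * n⁻¹), h3, mul_one]
            rw [← hna] at h4
            have h5 : n * b * n⁻¹ * n = n * a0 * n⁻¹ * n := by rw [h4]
            rw [inv_mul_cancel_right, inv_mul_cancel_right] at h5
            exact mul_left_cancel h5
          · apply hc _ h2 h3 (n * l) (mul_mem hnN hl)
            rw [← Lv.eq_t_mul ht2, ← h1]
      have hnb1 : n * b * n⁻¹ ≠ 1 := by
        intro h
        apply hb1
        have h3 : b = n⁻¹ * (n * b * n⁻¹) * n := by group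
        rw [h3, h]
        group
      have hab1 : a0 * b ≠ 1 := by
        intro h
        apply hba
        have h3 : b = a0⁻¹ := (inv_eq_of_mul_eq_one_right h).symm
        rw [h3]
        exact inv_eq_of_mul_eq_one_right (H.vsq a0 ha0)
      obtain ⟨l2, hl2, hl2b⟩ := hV' a0 ha0 (a0 * b) (mul_mem ha0 hb) ha01 hab1 ⟨m, hm, hma⟩
      apply hc _ hnb hnb1 (n * l2) (mul_mem hnN hl2)
      have h1 : n * l2 * t * (n * l2)⁻¹ = n * (l2 * t * l2⁻¹) * n⁻¹ := by group
      rw [h1, hl2b, ← hna]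
      group
  -- so all conjugates of `t` lie in `t V`
  have hB : ∀ n ∈ N, t * (n * t * n⁻¹) ∈ V := by
    intro n hn
    rcases hinE n hn with h | h
    · exfalso
      by_cases h1 : n * t * n⁻¹ = 1
      · have h2 : t = 1 := by
          have h3 : t = n⁻¹ * (n * t * n⁻¹) * n := by group
          rw [h3, h1]
          group
        apply H.tV
        rw [h2]
        exact one_mem _
      · exact hA _ h h1 ⟨n, hn, rfl⟩
    · exact h
  have hx1 : t * (x * t * x⁻¹) ≠ 1 := by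
    intro h
    apply htx
    rw [Lv.eq_t_mul ht2 (x * t * x⁻¹), h, mul_one]
  intro n hn v hv
  by_cases hv1 : v = 1
  · rw [hv1, mul_one, mul_inv_cancel]
    exact one_mem _
  · obtain ⟨m, hm, h1⟩ := htV' _ (hB x hxN) v hv hx1 hv1 ⟨x, hxN, by rw [← Lv.eq_t_mul ht2]⟩
    have h2 : v = t * (m * t * m⁻¹) := by
      rw [h1, ← Lv.eq_t_mul ht2]
    have h3 : n * v * n⁻¹ = (n * t * n⁻¹) * ((n * m) * t * (n * m)⁻¹) := by
      rw [h2]
      group
    have h4 : n * v * n⁻¹ = (t * (n * t * n⁻¹)) * (t * ((n * m) * t * (n * m)⁻¹)) := by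
      rw [h3]
      have h5 := H.E_comm (hinE n hn)
      have h6 : t * (n * t * n⁻¹) * (t * (n * m * t * (n * m)⁻¹)) =
          (t * (n * t * n⁻¹) * t) * (n * m * t * (n * m)⁻¹) := by group
      rw [h6, h5, mul_assoc _ t t, ht2, mul_one]
    rw [h4]
    exact mul_mem (hB n hn) (hB _ (mul_mem hn hm))

end

end Cfsg.Agent.StdL2
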