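import Cfsg.Agent.StdL2.TowerKappa
import Cfsg.Agent.Lib.GoldschmidtFusion

/-!
# Growing one level of the tower
-/

set_option autoImplicit false

namespace Cfsg.Agent.StdL2

open scoped commutatorElement

open Cfsg.Agent.Lib.GoldschmidtFusion (exists_conj_le_in lt_inf_normalizer)

variable {G : Type*} [Group G]

/-- `⟨t⟩ × V` is a Sylow 2-subgroup of the centralizer of the involution `t`; `V` is elementary
abelian. -/
structure TCen (t : G) (V : Subgroup G) : Prop where
  t2 : t * t = 1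
  tV : t ∉ V
  vsq : ∀ v ∈ V, v * v = 1
  vt : ∀ v ∈ V, t * v = v * t
  syl : ∀ P : Subgroup G, IsPGroup 2 P → (∀ x ∈ P, t * x = x * t) → V ≤ P → t ∈ P →
    ∀ x ∈ P, x ∈ V ∨ t * x ∈ V

theorem vcomm_of_vsq {V : Subgroup G} (h : ∀ v ∈ V, v * v = 1) {x y : G} (hx : x ∈ V)
    (hy : y ∈ V) : x * y = y * x := by
  have h1 := h _ (mul_mem hx hy)
  have hx' := h x hx
  have hy' := h y hy
  have e1 : x⁻¹ = x := inv_eq_of_mul_eq_one_right hx'
  have e2 : y⁻¹ = y := inv_eq_of_mul_eq_one_right hy'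
  have e3 : (x * y)⁻¹ = x * y := inv_eq_of_mul_eq_one_right h1
  rw [← e3, mul_inv_rev, e1, e2]

/-- The number of `K`-conjugates of `x`. -/
theorem ncard_orbit' (K : Subgroup G) (x : G) :
    ({y | ∃ k ∈ K, k * x * k⁻¹ = y} : Set G).ncard = (Subgroup.centralizer {x}).relIndex K := by
  let _ : MulAction K G := MulAction.compHom G ((MulAut.conj (G := G)).comp K.subtype)
  have hsm : ∀ (k : K) (y : G), k • y = (k : G) * y * (k : G)⁻¹ := fun k y => rfl
  have h1 : ({y | ∃ k ∈ K, k * x * k⁻¹ = y} : Set G) = MulAction.orbit K x := by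
    ext y
    constructor
    · rintro ⟨k, hk, rfl⟩
      exact ⟨⟨k, hk⟩, rfl⟩
    · rintro ⟨k, rfl⟩
      exact ⟨k, k.2, rfl⟩
  have h2 : MulAction.stabilizer K x = (Subgroup.centralizer {x}).subgroupOf K := by
    ext k
    rw [MulAction.mem_stabilizer_iff, hsm, Subgroup.mem_subgroupOf, Subgroup.mem_centralizer_singleton_iff,
      mul_inv_eq_iff_eq_mul]
  rw [h1, ← MulAction.index_stabilizer, h2]
  rfl

namespace TCen

variable {t : G} {V : Subgroup G}

theorem comm_of_tx (H : TCen t V) {x : G} (hx : t * x ∈ V) : t * x = x * t := by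
  have h5 := H.vt _ hx
  calc t * x = (t * x * t) * t := by rw [mul_assoc _ t t, H.t2, mul_one]
    _ = (t * (t * x)) * t := by rw [h5]
    _ = x * t := by rw [← mul_assoc t t, H.t2, one_mul]

/-- The subgroup `⟨t⟩ × V`. -/
def E (H : TCen t V) : Subgroup G where
  carrier := {x | x ∈ V ∨ t * x ∈ V}
  one_mem' := Or.inl (one_mem _)
  mul_mem' := by
    intro a b ha hb
    rcases ha with ha | ha <;> rcases hb with hb | hb
    · exact Or.inl (mul_mem ha hb)
    · right
      have h1 : t * (a * b) = a * (t * b) := by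
        rw [← mul_assoc, H.vt a ha, mul_assoc]
      rw [h1]
      exact mul_mem ha hb
    · right
      rw [← mul_assoc]
      exact mul_mem ha hb
    · left
      have h1 : a * b = (t * a) * (t * b) := by
        have h2 : t * a * t = a := by
          have h3 : a = t * (t * a) := by rw [← mul_assoc, H.t2, one_mul]
          rw [← H.vt _ ha, ← h3]
        rw [← mul_assoc, h2]
      rw [h1]
      exact mul_mem ha hb
  inv_mem' := by
    intro a ha
    rcases ha with ha | ha
    · exact Or.inl (inv_mem ha)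
    · right
      have h1 : t * a⁻¹ = (t * a)⁻¹ := by
        have h2 : (t * a) * (t * a) = 1 := H.vsq _ ha
        have h3 : a * t = t * a := (H.comm_of_tx ha).symm
        rw [← h3, mul_inv_rev, inv_eq_of_mul_eq_one_right H.t2]
      rw [h1]
      exact inv_mem ha

theorem mem_E (H : TCen t V) {x : G} : x ∈ H.E ↔ x ∈ V ∨ t * x ∈ V := Iff.rfl

theorem V_le_E (H : TCen t V) : V ≤ H.E := fun _ h => Or.inl h

theorem t_mem_E (H : TCen t V) : t ∈ H.E := by
  right
  rw [H.t2]
  exact one_mem _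

theorem E_comm (H : TCen t V) {x : G} (hx : x ∈ H.E) : t * x = x * t := by
  rcases hx with hx | hx
  · exact H.vt x hx
  · exact H.comm_of_tx hx

theorem E_sq (H : TCen t V) {x : G} (hx : x ∈ H.E) : x * x = 1 := by
  rcases hx with hx | hx
  · exact H.vsq x hx
  · have h1 : (t * x) * (t * x) = x * x := by
      have h2 : t * x * (t * x) = t * (x * t) * x := by group
      rw [h2, ← H.E_comm (Or.inr hx), ← mul_assoc, H.t2, one_mul]
    rw [← h1]
    exact H.vsq _ hx

theorem E_pgroup (H : TCen t V) : IsPGroup 2 H.E := by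
  intro x
  refine ⟨1, ?_⟩
  apply Subtype.ext
  show (x : G) ^ (2 ^ 1) = 1
  rw [pow_one, pow_two]
  exact H.E_sq x.2

variable [Finite G]

theorem card_E (H : TCen t V) : Nat.card H.E = 2 * Nat.card V := by
  classical
  have h1 : (H.E : Set G) = (V : Set G) ∪ ((fun x => t * x) '' (V : Set G)) := by
    ext x
    constructor
    · rintro (h | h)
      · exact Or.inl h
      · right
        exact ⟨t * x, h, by show t * (t * x) = x; rw [← mul_assoc, H.t2, one_mul]⟩
    · rintro (h | ⟨y, hy, rfl⟩)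
      · exact Or.inl h
      · right
        show t * (t * y) ∈ V
        rw [← mul_assoc, H.t2, one_mul]
        exact hy
  have h2 : Disjoint (V : Set G) ((fun x => t * x) '' (V : Set G)) := by
    rw [Set.disjoint_left]
    rintro _ h ⟨y, hy, rfl⟩
    apply H.tV
    have h3 : t = (t * y) * y⁻¹ := by group
    rw [h3]
    exact mul_mem h (inv_mem hy)
  have h3 : Nat.card H.E = (H.E : Set G).ncard := rfl
  have h4 : Nat.card V = (V : Set G).ncard := rfl
  rw [h3, h1, Set.ncard_union_eq h2 (Set.toFinite _) (Set.toFinite _),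
    Set.ncard_image_of_injective _ (mul_right_injective t), h4, two_mul]

theorem relIndex_E (H : TCen t V) :
    ¬ 2 ∣ H.E.relIndex (Subgroup.centralizer ({t} : Set G)) := by
  have hle : H.E ≤ Subgroup.centralizer ({t} : Set G) := fun x hx =>
    Subgroup.mem_centralizer_singleton_iff.2 (H.E_comm hx).symm
  have hE' : IsPGroup 2 (H.E.subgroupOf (Subgroup.centralizer ({t} : Set G))) :=
    H.E_pgroup.comap_of_injective (Subgroup.subtype _) (Subgroup.subtype_injective _)
  obtain ⟨Q, hQ⟩ := hE'.exists_le_sylow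
  have h1 : (Q : Subgroup _) = H.E.subgroupOf (Subgroup.centralizer ({t} : Set G)) := by
    apply le_antisymm _ hQ
    intro x hx
    have hP : IsPGroup 2 ((Q : Subgroup _).map (Subgroup.centralizer ({t} : Set G)).subtype) :=
      Q.isPGroup'.map _
    have hEQ : ∀ y, (hy : y ∈ H.E) →
        y ∈ (Q : Subgroup _).map (Subgroup.centralizer ({t} : Set G)).subtype := by
      intro y hy
      exact ⟨⟨y, hle hy⟩, hQ (by rw [Subgroup.mem_subgroupOf]; exact hy), rfl⟩
    have h2 := H.syl _ hP (by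
      rintro _ ⟨y, _, rfl⟩
      exact (Subgroup.mem_centralizer_singleton_iff.1 y.2).symm)
      (fun y hy => hEQ y (H.V_le_E hy)) (hEQ t H.t_mem_E) x ⟨x, hx, rfl⟩
    rw [Subgroup.mem_subgroupOf]
    exact h2
  rw [Subgroup.relIndex, ← h1]
  exact Q.not_dvd_index

/-- All 2-subgroups of the centralizer of `t` are conjugate into `⟨t⟩ × V`. -/
theorem exists_conj (H : TCen t V) {P : Subgroup G} (hP : IsPGroup 2 P)
    (hPt : ∀ x ∈ P, t * x = x * t) : ∃ c, c * t = t * c ∧ ∀ x ∈ P, c * x * c⁻¹ ∈ H.E := by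
  obtain ⟨n, hn, hnle⟩ := exists_conj_le_in (p := 2) H.E_pgroup H.relIndex_E (D := P)
    (fun x hx => Subgroup.mem_centralizer_singleton_iff.2 (hPt x hx).symm) hP
  refine ⟨n, Subgroup.mem_centralizer_singleton_iff.1 hn, fun x hx => hnle ⟨x, hx, rfl⟩⟩

theorem card_le (H : TCen t V) {P : Subgroup G} (hP : IsPGroup 2 P)
    (hPt : ∀ x ∈ P, t * x = x * t) : Nat.card P ≤ 2 * Nat.card V := by
  obtain ⟨c, _, hc⟩ := H.exists_conj hP hPt
  rw [← H.card_E]
  have h1 : Nat.card (P.map (MulAut.conj c).toMonoidHom) = Nat.card P :=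
    Nat.card_congr (P.equivMapOfInjective _ (MulAut.conj c).injective).symm.toEquiv
  rw [← h1]
  apply Nat.card_le_card_of_injective (fun x => (⟨x.1, ?_⟩ : H.E))
  · intro x y h
    apply Subtype.ext
    exact congrArg (fun z : H.E => (z : G)) h
  · obtain ⟨y, hy, hy1⟩ := x.2
    rw [← hy1]
    exact hc y hy

/-- `t` is not a square. -/
theorem not_sq (H : TCen t V) (x : G) : x * x ≠ t := by
  intro h
  have hx : t * x = x * t := by rw [← h, mul_assoc]
  have h4 : x ^ (2 ^ 2) = 1 := by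
    have h5 : x ^ (2 ^ 2) = (x * x) * (x * x) := by
      rw [← pow_two, ← pow_two, ← pow_mul]
      norm_num
    rw [h5, h, H.t2]
  have hP : IsPGroup 2 (Subgroup.zpowers x) := by
    apply IsPGroup.of_card (n := Nat.factorization (orderOf x) 2)
    rw [Nat.card_zpowers]
    have h6 : orderOf x ∣ 2 ^ 2 := orderOf_dvd_of_pow_eq_one h4
    obtain ⟨m, _, hm⟩ := (Nat.dvd_prime_pow Nat.prime_two).1 h6
    rw [hm, Nat.Prime.factorization_pow Nat.prime_two, Finsupp.single_eq_same]
  obtain ⟨c, hct, hc⟩ := H.exists_conj hP (by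
    intro y hy
    obtain ⟨n, rfl⟩ := Subgroup.mem_zpowers_iff.1 hy
    exact (show Commute t x from hx).zpow_right n)
  have h7 := H.E_sq (hc x (Subgroup.mem_zpowers x))
  have h8 : c * x * c⁻¹ * (c * x * c⁻¹) = c * (x * x) * c⁻¹ := by group
  rw [h8, h, hct, mul_inv_cancel_right] at h7
  apply H.tV
  rw [h7]
  exact one_mem _

end TCen

/-- The group of all `n` normalising `W`, trivial on `⟨t⟩ W / W` and on `W / W ^ 2`. -/
def towerM (t : G) (W : Subgroup G) (k : ℕ) (hc : ∀ x ∈ W, ∀ y ∈ W, x * y = y * x) :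
    Subgroup G where
  carrier := {n | n ∈ Subgroup.normalizer (W : Set G) ∧ ⁅n, t⁆ ∈ W ∧
    ∀ x ∈ W, ⁅n, x⁆ ^ (2 ^ k) = 1}
  one_mem' := ⟨one_mem _, by rw [commutatorElement_one_left]; exact one_mem _, fun x _ => by
    rw [commutatorElement_one_left, one_pow]⟩
  mul_mem' := by
    rintro a b ⟨ha1, ha2, ha3⟩ ⟨hb1, hb2, hb3⟩
    have hcW : ∀ n ∈ Subgroup.normalizer (W : Set G), ∀ x ∈ W, ⁅n, x⁆ ∈ W := by
      intro n hn x hx
      rw [commutatorElement_def]
      exact mul_mem ((Subgroup.mem_normalizer_iff.1 hn x).1 hx) (inv_mem hx)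
    refine ⟨mul_mem ha1 hb1, ?_, ?_⟩
    · rw [comm_mul_left']
      exact mul_mem ((Subgroup.mem_normalizer_iff.1 ha1 _).1 hb2) ha2
    · intro x hx
      rw [comm_mul_left', mul_pow_of_comm (hc _ ((Subgroup.mem_normalizer_iff.1 ha1 _).1
        (hcW b hb1 x hx)) _ (hcW a ha1 x hx)), conj_pow, hb3 x hx, ha3 x hx, mul_one, mul_one,
        mul_inv_cancel]
  inv_mem' := by
    rintro a ⟨ha1, ha2, ha3⟩
    have ha1' := inv_mem ha1
    refine ⟨ha1', ?_, ?_⟩
    · have h1 : ⁅a⁻¹, t⁆ = a⁻¹ * ⁅a, t⁆⁻¹ * a⁻¹⁻¹ := by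
        simp only [commutatorElement_def]
        group
      rw [h1]
      exact (Subgroup.mem_normalizer_iff.1 ha1' _).1 (inv_mem ha2)
    · intro x hx
      have h1 : ⁅a⁻¹, x⁆ = a⁻¹ * ⁅a, x⁆⁻¹ * a⁻¹⁻¹ := by
        simp only [commutatorElement_def]
        group
      rw [h1, conj_pow, inv_pow, ha3 x hx, inv_one, mul_one, mul_inv_cancel]

end Cfsg.Agent.StdL2
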