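import Cfsg.Agent.StdL2.TowerLevel

/-!
# The squaring map of one level of the tower
-/

set_option autoImplicit false

namespace Cfsg.Agent.StdL2

open scoped commutatorElement

variable {G : Type*} [Group G]

namespace Ex

variable {t d : G} {V W U : Subgroup G} {k : ℕ}

variable {F : Type*} [Field F] {T : F → G} {lam : F} [CharP F 2] [Finite F]

/-- `[U, W] ≤ V` if squaring is trivial on `U / W`. -/
theorem comW_of_kappa_zero (C : Crd V d T lam) (L : Lv t d V W k) (E : Ex t d V W U k)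
    {io p : G → F} (M : Mdl d lam U io) (hker : ∀ u ∈ U, io u = 0 ↔ u ∈ W) (P : Mdl d lam W p)
    (hpT : ∀ w ∈ W, T (p w) = w ^ (2 ^ k)) (hpk : ∀ w ∈ W, p w = 0 ↔ w ^ (2 ^ k) = 1)
    (hF : ∃ r : F, r ≠ 0 ∧ r ≠ 1) :
    ∀ u ∈ U, ∀ w ∈ W, ⁅u, w⁆ ^ 2 = 1 := by
  have key : ∀ i, i + 1 ≤ k → (∀ u ∈ U, ∀ w ∈ W, ⁅u, w⁆ ^ (2 ^ (i + 1)) = 1) →
      ∀ u ∈ U, ∀ w ∈ W, ⁅u, w⁆ ^ (2 ^ 1) = 1 := by
    intro i
    induction i with
    | zero => exact fun _ h => h
    | succ i ih =>
      intro hi h1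
      apply ih (by omega)
      by_contra hcon
      -- the pairing
      have hcV : ∀ u ∈ U, ∀ w ∈ W, ⁅u, w⁆ ^ (2 ^ (i + 1)) ∈ V := by
        intro u hu w hw
        apply L.om _ (pow_mem (E.comW hu hw) _)
        rw [← pow_add, ← two_mul, ← pow_succ']
        exact h1 u hu w hw
      have hst : ∀ u ∈ U, ∀ u' ∈ U, ∀ w ∈ W,
          (u * ⁅u', w⁆ * u⁻¹) ^ (2 ^ (i + 1)) = ⁅u', w⁆ ^ (2 ^ (i + 1)) := by
        intro u hu u' hu' w hw
        exact E.conj_pow_eq L hu (E.comW hu' hw)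
          (E.com_om L hu (E.comW hu' hw) (by omega) (h1 u' hu' w hw))
      obtain ⟨c0, hc0⟩ := pairing C M P (fun u w => ⁅u, w⁆ ^ (2 ^ (i + 1))) hcV
        (by
          intro x hx x' hx' y hy
          show ⁅x * x', y⁆ ^ (2 ^ (i + 1)) = ⁅x, y⁆ ^ (2 ^ (i + 1)) * ⁅x', y⁆ ^ (2 ^ (i + 1))
          rw [comm_mul_left', mul_pow_of_comm
            (L.comm _ (E.nW x hx _ (E.comW hx' hy)) _ (E.comW hx hy)), hst x hx x' hx' y hy]
          exact L.comm _ (pow_mem (E.comW hx' hy) _) _ (pow_mem (E.comW hx hy) _))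
        (by
          intro x hx y hy y' hy'
          show ⁅x, y * y'⁆ ^ (2 ^ (i + 1)) = ⁅x, y⁆ ^ (2 ^ (i + 1)) * ⁅x, y'⁆ ^ (2 ^ (i + 1))
          rw [E.com_mulW L hx hy hy', mul_pow_of_comm (L.comm _ (E.comW hx hy) _ (E.comW hx hy'))])
        (by
          intro x hx y hy
          show ⁅d * x * d⁻¹, d * y * d⁻¹⁆ ^ (2 ^ (i + 1)) = d * ⁅x, y⁆ ^ (2 ^ (i + 1)) * d⁻¹
          rw [comm_conj', conj_pow'])
        (by
          intro x hx y hy h
          show ⁅x, y⁆ ^ (2 ^ (i + 1)) = 1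
          have hxW := (hker x hx).1 h
          rw [commutatorElement_def, L.comm x hxW y hy, mul_inv_cancel_right, mul_inv_cancel,
            one_pow])
        (by
          intro x hx y hy h
          show ⁅x, y⁆ ^ (2 ^ (i + 1)) = 1
          have h2 := (hpk y hy).1 h
          obtain ⟨z, hz, rfl⟩ := L.root' k (by omega) y hy h2
          have h3 : k + 1 - k = 1 := by omega
          rw [h3, pow_one, E.com_pow L hx hz, ← pow_mul, ← pow_succ']
          exact h1 x hx z hz)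
      -- the pairing is not zero
      have hc0' : c0 ≠ 0 := by
        intro h
        apply hcon
        intro u hu w hw
        obtain ⟨z, hz⟩ := C.surj _ (hcV u hu w hw)
        have h2 := hc0 u hu w hw z hz
        rw [h, zero_pow two_ne_zero, mul_zero] at h2
        rw [← hz, pow_eq_zero_iff two_ne_zero |>.mp h2, C.zero]
      -- the double commutator
      have hdc : ∀ u ∈ U, ∀ w ∈ W, ⁅u, ⁅u, w⁆⁆ * (⁅u, w⁆ * ⁅u, w⁆) = 1 := by
        intro u hu w hw
        have h2 : (u * u) * w * (u * u)⁻¹ = w := by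
          rw [L.comm _ (E.sq u hu) w hw, mul_inv_cancel_right]
        have h3 : (u * u) * w * (u * u)⁻¹ = ⁅u, ⁅u, w⁆⁆ * ⁅u, w⁆ * (⁅u, w⁆ * w) := by
          simp only [commutatorElement_def]
          group
        rw [h3] at h2
        have h4 : ⁅u, ⁅u, w⁆⁆ * (⁅u, w⁆ * ⁅u, w⁆) * w = w := by
          rw [← mul_assoc, mul_assoc _ _ w]
          exact h2
        exact mul_eq_right.mp h4
      obtain ⟨u1, hu1, hi1⟩ := M.surj 1
      obtain ⟨w1, hw1, hp1⟩ := P.surj 1
      by_cases hik : i + 2 < k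
      · -- `2 ≤ i + 2 ≤ k - 1`
        have h2 := h1 u1 hu1 w1 hw1
        obtain ⟨y, hy, hy1⟩ := L.root' (i + 2) (by omega) _ (E.comW hu1 hw1) h2
        have h3 : ⁅u1, ⁅u1, w1⁆⁆ ^ (2 ^ i) = 1 := by
          rw [hy1, E.com_pow L hu1 hy, ← pow_mul, ← pow_add]
          have h4 : (k + 1 - (i + 2)) + i = (i + 1 + 1) + (k + 1 - (i + 2) - 2) := by omega
          rw [h4, pow_add, pow_mul, h1 u1 hu1 y hy, one_pow]
        have h5 : ⁅u1, w1⁆ ^ (2 ^ (i + 1)) = 1 := by
          have h6 : (⁅u1, w1⁆ * ⁅u1, w1⁆) = ⁅u1, ⁅u1, w1⁆⁆⁻¹ :=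
            (inv_eq_of_mul_eq_one_right (hdc u1 hu1 w1 hw1)).symm
          rw [pow_succ', pow_mul, pow_two, h6, inv_pow, h3, inv_one]
        have h7 := hc0 u1 hu1 w1 hw1 0 (by rw [C.zero]; exact h5.symm)
        rw [hi1, hp1, one_mul, one_mul, zero_pow two_ne_zero] at h7
        exact hc0' (pow_eq_zero_iff two_ne_zero |>.mp h7.symm)
      · -- `i + 2 = k`
        have hik' : i + 2 = k := by omega
        -- the pairing is the projection on the second variable
        have h2 : ∀ u ∈ U, u ∉ W → ∀ w ∈ W, ⁅u, w⁆ ^ (2 ^ (i + 1)) = w ^ (2 ^ k) := by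
          intro u hu huW w hw
          have h3 := h1 u hu w hw
          have h3' : ⁅u, w⁆ ^ (2 ^ (i + 2)) = 1 := h3
          obtain ⟨y, hy, hy1⟩ := L.root' (i + 2) (by omega) _ (E.comW hu hw) h3'
          have h4 : k + 1 - (i + 2) = 1 := by omega
          rw [h4, pow_one] at hy1
          have h5 : ⁅u, ⁅u, w⁆⁆ = ⁅u, y⁆ ^ 2 := by
            rw [hy1, E.com_pow L hu hy]
          have h6 := hdc u hu w hw
          rw [h5, ← pow_two, ← mul_pow_of_comm (L.comm _ (E.comW hu hy) _ (E.comW hu hw)),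
            ← E.com_mulW L hu hy hw] at h6
          -- so `y * w` is in the kernel
          have h7 : ⁅u, y * w⁆ ^ (2 ^ (i + 1)) = 1 := by
            rw [pow_succ', pow_mul, h6, one_pow]
          have h8 := hc0 u hu (y * w) (mul_mem hy hw) 0 (by rw [C.zero]; exact h7.symm)
          rw [zero_pow two_ne_zero] at h8
          have h9 : p (y * w) = 0 := by
            rcases mul_eq_zero.mp h8.symm with h | h
            · rcases mul_eq_zero.mp h with h | h
              · exact absurd ((hker u hu).1 h) huW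
              · exact h
            · exact absurd (pow_eq_zero_iff two_ne_zero |>.mp h) hc0'
          have h10 := (hpk _ (mul_mem hy hw)).1 h9
          rw [mul_pow_of_comm (L.comm _ hy _ hw)] at h10
          have h11 : w ^ (2 ^ k) * w ^ (2 ^ k) = 1 := L.vsq _ (L.pw w hw)
          have h12 : y ^ (2 ^ k) = w ^ (2 ^ k) := by
            rw [← mul_left_inj (w ^ (2 ^ k)), h10, h11]
          rw [hy1, ← pow_mul, ← pow_succ']
          have h13 : i + 1 + 1 = k := by omega
          rw [h13]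
          exact h12
        obtain ⟨r, hr0, hr1⟩ := hF
        obtain ⟨u2, hu2, hi2⟩ := M.surj r
        have n1 : u1 ∉ W := fun h => by
          have := (hker u1 hu1).2 h
          rw [hi1] at this
          exact one_ne_zero this
        have n2 : u2 ∉ W := fun h => by
          have := (hker u2 hu2).2 h
          rw [hi2] at this
          exact hr0 this
        have n3 : u1 * u2 ∉ W := fun h => by
          have h3 := (hker _ (mul_mem hu1 hu2)).2 h
          rw [M.mul u1 hu1 u2 hu2, hi1, hi2] at h3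
          apply hr1
          have h4 : r = -1 := (neg_eq_of_add_eq_zero_right h3).symm
          rw [h4]
          exact CharTwo.neg_eq 1
        have h3 := h2 _ (mul_mem hu1 hu2) n3 w1 hw1
        rw [comm_mul_left', mul_pow_of_comm
            (L.comm _ (E.nW u1 hu1 _ (E.comW hu2 hw1)) _ (E.comW hu1 hw1)), hst u1 hu1 u2 hu2 w1 hw1,
            h2 u1 hu1 n1 w1 hw1, h2 u2 hu2 n2 w1 hw1, mul_eq_left] at h3
        have h4 := (hpk w1 hw1).2 h3
        rw [hp1] at h4
        exact one_ne_zero h4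
  intro u hu w hw
  by_cases hk : k = 0
  · subst hk
    have h1 := E.cW u hu w hw
    rw [pow_zero, pow_one] at h1
    rw [h1, one_pow]
  · obtain ⟨j, rfl⟩ : ∃ j, k = j + 1 := ⟨k - 1, by omega⟩
    have h1 := key j le_rfl E.cW u hu w hw
    rwa [pow_one] at h1

/-- If squaring is trivial on `U / W`, then `[U, U] ≤ V ≤ Z(U)`. -/
theorem class_two_of_kappa_zero (C : Crd V d T lam) (L : Lv t d V W k) (E : Ex t d V W U k)
    {io p : G → F} (M : Mdl d lam U io) (hker : ∀ u ∈ U, io u = 0 ↔ u ∈ W) (P : Mdl d lam W p)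
    (hpT : ∀ w ∈ W, T (p w) = w ^ (2 ^ k)) (hpk : ∀ w ∈ W, p w = 0 ↔ w ^ (2 ^ k) = 1)
    (hF : ∃ r : F, r ≠ 0 ∧ r ≠ 1) (hk : 1 ≤ k) :
    (∀ u ∈ U, ∀ v ∈ U, ⁅u, v⁆ ∈ V) ∧ ∀ u ∈ U, ∀ v ∈ V, u * v = v * u := by
  have h0 := E.comW_of_kappa_zero C L M hker P hpT hpk hF
  constructor
  · have key : ∀ i, i + 1 ≤ k → (∀ u ∈ U, ∀ w ∈ U, ⁅u, w⁆ ^ (2 ^ (i + 1)) = 1) →
        ∀ u ∈ U, ∀ w ∈ U, ⁅u, w⁆ ^ (2 ^ 1) = 1 := by
      intro i
      induction i with
      | zero => exact fun _ h => h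
      | succ i ih =>
        intro hi h1
        apply ih (by omega)
        apply E.step C L (i + 1) h1
        intro u hu w hw
        rw [pow_succ', pow_mul, h0 u hu w hw, one_pow]
    obtain ⟨j, rfl⟩ : ∃ j, k = j + 1 := ⟨k - 1, by omega⟩
    intro u hu v hv
    apply L.om _ (E.comU hu hv)
    have h1 := key j le_rfl (E.com_k C L) u hu v hv
    rwa [pow_one, pow_two] at h1
  · intro u hu v hv
    obtain ⟨w, hw, rfl⟩ := L.root v hv
    obtain ⟨j, rfl⟩ : ∃ j, k = j + 1 := ⟨k - 1, by omega⟩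
    rw [← commutatorElement_eq_one_iff_mul_comm, E.com_pow L hu hw, pow_succ', pow_mul,
      h0 u hu w hw, one_pow]

end Ex

/-- **The dichotomy at one level.** -/
theorem Ex.dichotomy {t d : G} {V W U : Subgroup G} {k : ℕ}
    {F : Type*} [Field F] {T : F → G} {lam : F} [CharP F 2] [Finite F]
    (C : Crd V d T lam) (L : Lv t d V W k) (E : Ex t d V W U k) (hF : ∃ r : F, r ≠ 0 ∧ r ≠ 1)
    (ht2 : t * t = 1) :
    Lv t d V U (k + 1) ∨
      ((∀ u ∈ U, (t * u) * (t * u) = 1 → u ∈ W) ∧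
        ((∀ x ∈ U, ∀ y ∈ U, x * y = y * x) ∨ (1 ≤ k ∧ (∀ x ∈ U, ∀ y ∈ U, ⁅x, y⁆ ∈ V) ∧
          ∀ x ∈ U, ∀ v ∈ V, x * v = v * x))) := by
  obtain ⟨io, M, hiT, hker⟩ := E.exists_iota C L
  obtain ⟨p, P, hpT, hpk⟩ := Ex.exists_pi C L
  obtain ⟨κ, hκ⟩ := E.exists_kappa C L M hker P hpk
  have htt : ∀ u : G, t * u * (t * u) = ⁅t, u⁆ * (u * u) := by
    intro u
    have h1 : t⁻¹ = t := inv_eq_of_mul_eq_one_right ht2
    rw [commutatorElement_def, h1]
    group
  have hp : ∀ u ∈ U, p ⁅t, u⁆ = io u := by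
    intro u hu
    apply C.inj
    rw [hpT _ (E.tU u hu), hiT u hu]
  have hp1 : p 1 = 0 := P.one
  -- the case `κ ≠ 1`
  have hne : κ ≠ 1 → ∀ u ∈ U, (t * u) * (t * u) = 1 → u ∈ W := by
    intro h1 u hu h
    rw [htt] at h
    have h2 : p (⁅t, u⁆ * (u * u)) = 0 := by rw [h, hp1]
    rw [P.mul _ (E.tU u hu) _ (E.sq u hu), hp u hu, hκ u hu] at h2
    have h3 : (1 + κ) * io u = 0 := by
      rw [add_mul, one_mul]
      exact h2
    rcases mul_eq_zero.mp h3 with h4 | h4
    · exfalso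
      apply h1
      have h5 : κ = -1 := (neg_eq_of_add_eq_zero_right h4).symm
      rw [h5]
      exact CharTwo.neg_eq 1
    · exact (hker u hu).1 h4
  by_cases hκ0 : κ = 0
  · right
    refine ⟨hne (by rw [hκ0]; exact zero_ne_one), ?_⟩
    have hκ' : ∀ u ∈ U, p (u * u) = 0 := by
      intro u hu
      rw [hκ u hu, hκ0, zero_mul]
    rcases Nat.eq_zero_or_pos k with hk | hk
    · left
      subst hk
      intro u hu v hv
      have h1 := E.com_k C L u hu v hv
      rw [pow_zero, pow_one, commutatorElement_eq_one_iff_mul_comm] at h1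
      exact h1
    · right
      exact ⟨hk, E.class_two_of_kappa_zero C L M hker P hpT hpk hF hk⟩
  have hcomm := E.comm_of_kappa C L M P hpk hκ hκ0
  by_cases hκ1 : κ = 1
  swap
  · exact Or.inr ⟨hne hκ1, Or.inl hcomm⟩
  -- `κ = 1`
  have htU : ∀ u ∈ U, t * u * t⁻¹ ∈ U := by
    intro u hu
    have h1 : t * u * t⁻¹ = ⁅t, u⁆ * u := by
      rw [commutatorElement_def]
      group
    rw [h1]
    exact mul_mem (E.WU (E.tU u hu)) hu
  have hfV : ∀ u ∈ U, t * u * t⁻¹ * u ∈ V := by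
    intro u hu
    have h1 : t * u * t⁻¹ * u ∈ W := by
      have h2 : t * u * t⁻¹ * u = ⁅t, u⁆ * (u * u) := by
        rw [commutatorElement_def]
        group
      rw [h2]
      exact mul_mem (E.tU u hu) (E.sq u hu)
    apply L.om _ h1
    have h3 : t * u * t⁻¹ * u * (t * u * t⁻¹ * u) = (t * (u * u) * t⁻¹) * (u * u) := by
      rw [mul_assoc (t * u * t⁻¹) u, ← mul_assoc u (t * u * t⁻¹) u, hcomm u hu _ (htU u hu)]
      group
    rw [h3, L.tinv _ (E.sq u hu), inv_mul_cancel]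
  have hs : ∀ u : G, ∃ a : F, u ∈ U → T a = t * u * t⁻¹ * u := by
    intro u
    by_cases hu : u ∈ U
    · obtain ⟨a, ha⟩ := C.surj _ (hfV u hu)
      exact ⟨a, fun _ => ha⟩
    · exact ⟨0, fun h => absurd h hu⟩
  choose s hs using hs
  obtain ⟨μ, hμ⟩ := proportional C M (s := s)
    (by
      intro x hx y hy
      apply C.inj
      rw [hs _ (mul_mem hx hy), C.add, hs x hx, hs y hy]
      have h1 : t * (x * y) * t⁻¹ * (x * y) = (t * x * t⁻¹) * ((t * y * t⁻¹) * x) * y := by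
        group
      rw [h1, hcomm _ (htU y hy) x hx]
      group)
    (by
      intro x hx
      apply C.inj
      rw [hs _ (E.dU x hx), ← C.conj, hs x hx]
      have h1 : d⁻¹ * t * d = t := by
        rw [mul_assoc, ← E.dt, inv_mul_cancel_left]
      have h1' : d⁻¹ * t⁻¹ * d = t⁻¹ := by
        have := congrArg (·⁻¹) h1
        simpa [mul_assoc] using this
      have h2 : t * d = d * t := E.dt.symm
      have h3 : d⁻¹ * t⁻¹ = t⁻¹ * d⁻¹ := by
        rw [← mul_inv_rev, ← mul_inv_rev, E.dt]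
      calc t * (d * x * d⁻¹) * t⁻¹ * (d * x * d⁻¹)
          = (t * d) * x * (d⁻¹ * t⁻¹) * (d * x * d⁻¹) := by group
        _ = (d * t) * x * (t⁻¹ * d⁻¹) * (d * x * d⁻¹) := by rw [h2, h3]
        _ = d * (t * x * t⁻¹ * x) * d⁻¹ := by group)
    (by
      intro x hx h
      apply C.inj
      rw [hs x hx, C.zero, L.tinv x ((hker x hx).1 h), inv_mul_cancel])
  by_cases hμ0 : μ = 0
  · left
    have hinv : ∀ u ∈ U, t * u * t⁻¹ = u⁻¹ := by
      intro u hu
      have h1 := hs u hu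
      rw [hμ u hu, hμ0, zero_mul, C.zero] at h1
      exact eq_inv_of_mul_eq_one_left h1.symm
    refine ⟨hcomm, hinv, E.dU, L.VW.trans E.WU, ?_, L.vsq, ?_, ?_⟩
    · intro u hu h
      apply L.om u _ h
      rw [← hker u hu]
      have h1 := hκ u hu
      rw [h, hp1, hκ1, one_mul] at h1
      exact h1.symm
    · intro u hu
      rw [pow_succ', pow_mul, pow_two]
      exact L.pw _ (E.sq u hu)
    · intro v hv
      obtain ⟨w, hw, rfl⟩ := L.root v hv
      obtain ⟨u, hu, hu1⟩ := M.surj (p w)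
      refine ⟨u, hu, ?_⟩
      rw [pow_succ', pow_mul, pow_two, ← hpT _ (E.sq u hu), hκ u hu, hκ1, one_mul, hu1, hpT w hw]
  · right
    refine ⟨?_, Or.inl hcomm⟩
    intro u hu h
    rw [← hker u hu]
    rw [htt] at h
    have h2 : t * u * t⁻¹ * u = 1 := by
      rw [← h, commutatorElement_def]
      group
    have h3 := hs u hu
    rw [h2, ← C.zero] at h3
    have h4 := C.inj _ _ h3
    rw [hμ u hu] at h4
    exact (mul_eq_zero.mp h4).resolve_left hμ0

end Cfsg.Agent.StdL2
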