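import Cfsg.Agent.StdL2.TowerHua

/-!
# One level of the tower

`W` homocyclic of exponent `2 ^ (k + 1)` with `Ω₁(W) = V`, inverted by `t`, normalised by `d`;
`U ≥ W` with `U / W ≃ V` and `[U, W] ≤ W ^ 2`.
-/

set_option autoImplicit false

namespace Cfsg.Agent.StdL2

open scoped commutatorElement

variable {G : Type*} [Group G]

/-- `W` is homocyclic of exponent `2 ^ (k + 1)`, `Ω₁(W) = V`, inverted by `t` and invariant under
`d`. -/
structure Lv (t d : G) (V W : Subgroup G) (k : ℕ) : Prop where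
  comm : ∀ x ∈ W, ∀ y ∈ W, x * y = y * x
  tinv : ∀ w ∈ W, t * w * t⁻¹ = w⁻¹
  dW : ∀ w ∈ W, d * w * d⁻¹ ∈ W
  VW : V ≤ W
  om : ∀ w ∈ W, w * w = 1 → w ∈ V
  vsq : ∀ v ∈ V, v * v = 1
  pw : ∀ w ∈ W, w ^ (2 ^ k) ∈ V
  root : ∀ v ∈ V, ∃ w ∈ W, w ^ (2 ^ k) = v

theorem mul_pow_of_comm {a b : G} (h : a * b = b * a) (n : ℕ) : (a * b) ^ n = a ^ n * b ^ n :=
  (show Commute a b from h).mul_pow n

namespace Lv

variable {t d : G} {V W : Subgroup G} {k : ℕ}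

theorem pw_succ (L : Lv t d V W k) {w : G} (hw : w ∈ W) : w ^ (2 ^ (k + 1)) = 1 := by
  rw [pow_succ, pow_mul, pow_two]
  exact L.vsq _ (L.pw w hw)

theorem root' (L : Lv t d V W k) : ∀ (i : ℕ), i ≤ k + 1 → ∀ w ∈ W, w ^ (2 ^ i) = 1 →
    ∃ y ∈ W, w = y ^ (2 ^ (k + 1 - i)) := by
  intro i
  induction i with
  | zero =>
    intro _ w _ h
    rw [pow_zero, pow_one] at h
    exact ⟨1, one_mem _, by rw [h, one_pow]⟩
  | succ i ih =>
    intro hi w hw h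
    have h1 : w ^ (2 ^ i) ∈ V := by
      apply L.om _ (pow_mem hw _)
      rw [← pow_add, ← two_mul, ← pow_succ']
      exact h
    obtain ⟨z, hz, hz1⟩ := L.root _ h1
    have h2 : (z ^ (2 ^ (k - i))) ^ (2 ^ i) = w ^ (2 ^ i) := by
      rw [← hz1, ← pow_mul, ← pow_add]
      congr 2
      omega
    obtain ⟨y, hy, hy1⟩ := ih (by omega) (w * (z ^ (2 ^ (k - i)))⁻¹)
      (mul_mem hw (inv_mem (pow_mem hz _))) (by
        rw [mul_pow_of_comm (L.comm _ hw _ (inv_mem (pow_mem hz _))), inv_pow, h2,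
          mul_inv_cancel])
    refine ⟨y ^ 2 * z, mul_mem (pow_mem hy _) hz, ?_⟩
    have h3 : w = y ^ (2 ^ (k + 1 - i)) * z ^ (2 ^ (k - i)) := by
      rw [← hy1]
      group
    have h4 : k + 1 - (i + 1) = k - i := by omega
    have h5 : 2 ^ (k + 1 - i) = 2 * 2 ^ (k - i) := by
      rw [← pow_succ']
      congr 1
      omega
    rw [h4, mul_pow_of_comm (L.comm _ (pow_mem hy _) _ hz), ← pow_mul, ← h5]
    exact h3

end Lv

/-- `U` is an extension of `W` by a copy of `V`. -/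
structure Ex (t d : G) (V W U : Subgroup G) (k : ℕ) : Prop where
  WU : W ≤ U
  nW : ∀ u ∈ U, ∀ w ∈ W, u * w * u⁻¹ ∈ W
  cW : ∀ u ∈ U, ∀ w ∈ W, ⁅u, w⁆ ^ (2 ^ k) = 1
  tU : ∀ u ∈ U, ⁅t, u⁆ ∈ W
  ker : ∀ u ∈ U, ⁅t, u⁆ ^ (2 ^ k) = 1 → u ∈ W
  sur : ∀ v ∈ V, ∃ u ∈ U, ⁅t, u⁆ ^ (2 ^ k) = v
  sq : ∀ u ∈ U, u * u ∈ W
  dU : ∀ u ∈ U, d * u * d⁻¹ ∈ U
  dt : d * t = t * d

theorem comm_mul_left' (x x' y : G) : ⁅x * x', y⁆ = x * ⁅x', y⁆ * x⁻¹ * ⁅x, y⁆ := by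
  simp only [commutatorElement_def]
  group

theorem comm_mul_right' (x y y' : G) : ⁅x, y * y'⁆ = ⁅x, y⁆ * (y * ⁅x, y'⁆ * y⁻¹) := by
  simp only [commutatorElement_def]
  group

theorem comm_conj' (d x y : G) : ⁅d * x * d⁻¹, d * y * d⁻¹⁆ = d * ⁅x, y⁆ * d⁻¹ := by
  simp only [commutatorElement_def]
  group

theorem conj_pow' (d x : G) (n : ℕ) : (d * x * d⁻¹) ^ n = d * x ^ n * d⁻¹ := by
  rw [conj_pow]

/-- Two additive semilinear functions, one vanishing where the other does, are proportional. -/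
theorem proportional {F : Type*} [Field F] {V : Subgroup G} {d : G} {T : F → G} {lam : F}
    (C : Crd V d T lam) {A : Subgroup G} {i s : G → F} (M : Mdl d lam A i)
    (smul : ∀ x ∈ A, ∀ y ∈ A, s (x * y) = s x + s y)
    (sd : ∀ x ∈ A, s (d * x * d⁻¹) = lam * s x) (h0 : ∀ x ∈ A, i x = 0 → s x = 0) :
    ∃ κ, ∀ x ∈ A, s x = κ * i x := by
  obtain ⟨x1, hx1, h1⟩ := M.surj 1
  have s1 : s 1 = 0 := by
    have := smul 1 (one_mem _) 1 (one_mem _)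
    rw [mul_one] at this
    exact left_eq_add.mp this
  have sinv : ∀ x ∈ A, s x⁻¹ = - s x := by
    intro x hx
    have := smul x hx x⁻¹ (inv_mem hx)
    rw [mul_inv_cancel, s1] at this
    exact (neg_eq_of_add_eq_zero_right this.symm).symm
  have hn : ∀ n : ℕ, ∃ y ∈ A, i y = lam ^ n ∧ s y = lam ^ n * s x1 := by
    intro n
    induction n with
    | zero => exact ⟨x1, hx1, by rw [h1, pow_zero], by rw [pow_zero, one_mul]⟩
    | succ n ih =>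
      obtain ⟨y, hy, h2, h3⟩ := ih
      refine ⟨d * y * d⁻¹, M.dmem y hy, ?_, ?_⟩
      · rw [M.dval y hy, h2, pow_succ']
      · rw [sd y hy, h3, pow_succ', mul_assoc]
  refine ⟨s x1, ?_⟩
  intro x hx
  by_cases hx0 : i x = 0
  · rw [hx0, mul_zero, h0 x hx hx0]
  · obtain ⟨n, hn1⟩ := C.gen _ hx0
    obtain ⟨y, hy, h2, h3⟩ := hn n
    have h4 : i (x * y⁻¹) = 0 := by
      rw [M.mul x hx _ (inv_mem hy), M.inv hy, h2, hn1, add_neg_cancel]
    have h5 := h0 _ (mul_mem hx (inv_mem hy)) h4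
    rw [smul x hx _ (inv_mem hy), sinv y hy, ← sub_eq_add_neg] at h5
    rw [sub_eq_zero.mp h5, h3, hn1, mul_comm]

namespace Ex

variable {t d : G} {V W U : Subgroup G} {k : ℕ}

theorem comW (E : Ex t d V W U k) {u w : G} (hu : u ∈ U) (hw : w ∈ W) : ⁅u, w⁆ ∈ W := by
  rw [commutatorElement_def]
  exact mul_mem (E.nW u hu w hw) (inv_mem hw)

theorem comU (E : Ex t d V W U k) {u v : G} (hu : u ∈ U) (hv : v ∈ U) : ⁅u, v⁆ ∈ W := by
  have h1 : ⁅u, v⁆ = (u * v) * (u * v) * (v⁻¹ * (u * u)⁻¹ * v⁻¹⁻¹) * (v * v)⁻¹ := by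
    rw [commutatorElement_def]
    group
  rw [h1]
  exact mul_mem (mul_mem (E.sq _ (mul_mem hu hv)) (E.nW _ (inv_mem hv) _ (inv_mem (E.sq u hu))))
    (inv_mem (E.sq v hv))

/-- `⁅u, w ^ n⁆ = ⁅u, w⁆ ^ n`. -/
theorem com_pow (L : Lv t d V W k) (E : Ex t d V W U k) {u w : G} (hu : u ∈ U) (hw : w ∈ W)
    (n : ℕ) : ⁅u, w ^ n⁆ = ⁅u, w⁆ ^ n := by
  rw [commutatorElement_def, commutatorElement_def,
    mul_pow_of_comm (L.comm _ (E.nW u hu w hw) _ (inv_mem hw)), conj_pow, inv_pow]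

theorem com_mulW (L : Lv t d V W k) (E : Ex t d V W U k) {u w w' : G} (hu : u ∈ U) (hw : w ∈ W)
    (hw' : w' ∈ W) : ⁅u, w * w'⁆ = ⁅u, w⁆ * ⁅u, w'⁆ := by
  rw [comm_mul_right', L.comm w hw _ (E.comW hu hw'), mul_inv_cancel_right]

/-- `[U, Ω_{i+1}(W)] ≤ Ω_i(W)`. -/
theorem com_om (L : Lv t d V W k) (E : Ex t d V W U k) {u w : G} (hu : u ∈ U) (hw : w ∈ W)
    {i : ℕ} (hi : i ≤ k) (h : w ^ (2 ^ (i + 1)) = 1) : ⁅u, w⁆ ^ (2 ^ i) = 1 := by
  obtain ⟨y, hy, rfl⟩ := L.root' (i + 1) (by omega) w hw h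
  rw [E.com_pow L hu hy, ← pow_mul, ← pow_add]
  have h1 : k + 1 - (i + 1) + i = k := by omega
  rw [h1]
  exact E.cW u hu y hy

theorem conj_eq (u z : G) : u * z * u⁻¹ = ⁅u, z⁆ * z := by
  rw [commutatorElement_def]
  group

/-- conjugation by `u` is trivial on the power `2 ^ i` if it is trivial for commutators. -/
theorem conj_pow_eq (L : Lv t d V W k) (E : Ex t d V W U k) {u z : G} (hu : u ∈ U) (hz : z ∈ W)
    {n : ℕ} (h : ⁅u, z⁆ ^ n = 1) : (u * z * u⁻¹) ^ n = z ^ n := by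
  rw [conj_eq, mul_pow_of_comm (L.comm _ (E.comW hu hz) _ hz), h, one_mul]

section crd

variable {F : Type*} [Field F] {T : F → G} {lam : F}

/-- The module `U / W`. -/
theorem exists_iota (C : Crd V d T lam) (L : Lv t d V W k) (E : Ex t d V W U k) :
    ∃ i : G → F, Mdl d lam U i ∧ (∀ u ∈ U, T (i u) = ⁅t, u⁆ ^ (2 ^ k)) ∧
      (∀ u ∈ U, i u = 0 ↔ u ∈ W) := by
  classical
  have h1 : ∀ u : G, ∃ a : F, u ∈ U → T a = ⁅t, u⁆ ^ (2 ^ k) := by
    intro u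
    by_cases hu : u ∈ U
    · obtain ⟨a, ha⟩ := C.surj _ (L.pw _ (E.tU u hu))
      exact ⟨a, fun _ => ha⟩
    · exact ⟨0, fun h => absurd h hu⟩
  choose i hi using h1
  refine ⟨i, ⟨?_, ?_, E.dU, ?_⟩, hi, ?_⟩
  · intro x hx y hy
    apply C.inj
    rw [hi _ (mul_mem hx hy), C.add, hi x hx, hi y hy, comm_mul_right',
      mul_pow_of_comm (L.comm _ (E.tU x hx) _ (E.nW x hx _ (E.tU y hy))),
      E.conj_pow_eq L hx (E.tU y hy) (E.cW x hx _ (E.tU y hy))]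
  · intro r
    obtain ⟨u, hu, h2⟩ := E.sur _ (C.mem r)
    exact ⟨u, hu, C.inj _ _ (by rw [hi u hu, h2])⟩
  · intro x hx
    apply C.inj
    rw [hi _ (E.dU x hx), ← C.conj, hi x hx, ← conj_pow', ← comm_conj']
    have h2 : d * t * d⁻¹ = t := by rw [E.dt, mul_inv_cancel_right]
    rw [h2]
  · intro u hu
    constructor
    · intro h
      apply E.ker u hu
      rw [← hi u hu, h, C.zero]
    · intro h
      apply C.inj
      rw [hi u hu, C.zero, commutatorElement_def, L.tinv u h]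
      have h2 : (u⁻¹ * u⁻¹) ^ 2 ^ k = (u ^ (2 ^ (k + 1)))⁻¹ := by
        rw [← pow_two, ← pow_mul, ← pow_succ', inv_pow]
      rw [h2, L.pw_succ h, inv_one]

/-- The module `W / W ^ 2`. -/
theorem exists_pi (C : Crd V d T lam) (L : Lv t d V W k) :
    ∃ p : G → F, Mdl d lam W p ∧ (∀ w ∈ W, T (p w) = w ^ (2 ^ k)) ∧
      (∀ w ∈ W, p w = 0 ↔ w ^ (2 ^ k) = 1) := by
  classical
  have h1 : ∀ u : G, ∃ a : F, u ∈ W → T a = u ^ (2 ^ k) := by
    intro u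
    by_cases hu : u ∈ W
    · obtain ⟨a, ha⟩ := C.surj _ (L.pw _ hu)
      exact ⟨a, fun _ => ha⟩
    · exact ⟨0, fun h => absurd h hu⟩
  choose i hi using h1
  refine ⟨i, ⟨?_, ?_, L.dW, ?_⟩, hi, ?_⟩
  · intro x hx y hy
    apply C.inj
    rw [hi _ (mul_mem hx hy), C.add, hi x hx, hi y hy, mul_pow_of_comm (L.comm x hx y hy)]
  · intro r
    obtain ⟨u, hu, h2⟩ := L.root _ (C.mem r)
    exact ⟨u, hu, C.inj _ _ (by rw [hi u hu, h2])⟩
  · intro x hx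
    apply C.inj
    rw [hi _ (L.dW x hx), ← C.conj, hi x hx, ← conj_pow']
  · intro u hu
    constructor
    · intro h
      rw [← hi u hu, h, C.zero]
    · intro h
      apply C.inj
      rw [hi u hu, C.zero, h]

variable [CharP F 2] [Finite F]

/-- The descending step. -/
theorem step (C : Crd V d T lam) (L : Lv t d V W k) (E : Ex t d V W U k) (i : ℕ)
    (h1 : ∀ u ∈ U, ∀ v ∈ U, ⁅u, v⁆ ^ (2 ^ (i + 1)) = 1)
    (h2 : ∀ u ∈ U, ∀ w ∈ W, ⁅u, w⁆ ^ (2 ^ i) = 1) :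
    ∀ u ∈ U, ∀ v ∈ U, ⁅u, v⁆ ^ (2 ^ i) = 1 := by
  obtain ⟨io, M, _, hker⟩ := E.exists_iota C L
  apply pairing_alt C M (fun u v => ⁅u, v⁆ ^ (2 ^ i))
  · intro u hu v hv
    apply L.om _ (pow_mem (E.comU hu hv) _)
    rw [← pow_add, ← two_mul, ← pow_succ']
    exact h1 u hu v hv
  · intro x hx x' hx' y hy
    show ⁅x * x', y⁆ ^ (2 ^ i) = ⁅x, y⁆ ^ (2 ^ i) * ⁅x', y⁆ ^ (2 ^ i)
    rw [comm_mul_left', mul_pow_of_comm
      (L.comm _ (E.nW x hx _ (E.comU hx' hy)) _ (E.comU hx hy)),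
      E.conj_pow_eq L hx (E.comU hx' hy) (h2 x hx _ (E.comU hx' hy))]
    exact L.comm _ (pow_mem (E.comU hx' hy) _) _ (pow_mem (E.comU hx hy) _)
  · intro x hx y hy y' hy'
    show ⁅x, y * y'⁆ ^ (2 ^ i) = ⁅x, y⁆ ^ (2 ^ i) * ⁅x, y'⁆ ^ (2 ^ i)
    rw [comm_mul_right', mul_pow_of_comm
      (L.comm _ (E.comU hx hy) _ (E.nW y hy _ (E.comU hx hy'))),
      E.conj_pow_eq L hy (E.comU hx hy') (h2 y hy _ (E.comU hx hy'))]
  · intro x hx y hy
    show ⁅d * x * d⁻¹, d * y * d⁻¹⁆ ^ (2 ^ i) = d * ⁅x, y⁆ ^ (2 ^ i) * d⁻¹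
    rw [comm_conj', conj_pow']
  · intro x hx y hy h
    show ⁅x, y⁆ ^ (2 ^ i) = 1
    rw [← commutatorElement_inv, inv_pow, h2 y hy x ((hker x hx).1 h), inv_one]
  · intro x hx y hy h
    exact h2 x hx y ((hker y hy).1 h)
  · intro x hx
    show ⁅x, x⁆ ^ (2 ^ i) = 1
    rw [commutatorElement_self, one_pow]

/-- `U / W ^ 2` is abelian. -/
theorem com_k (C : Crd V d T lam) (L : Lv t d V W k) (E : Ex t d V W U k) :
    ∀ u ∈ U, ∀ v ∈ U, ⁅u, v⁆ ^ (2 ^ k) = 1 :=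
  E.step C L k (fun _ hu _ hv => L.pw_succ (E.comU hu hv)) E.cW

/-- The squaring map. -/
theorem exists_kappa (C : Crd V d T lam) (L : Lv t d V W k) (E : Ex t d V W U k) {io p : G → F}
    (M : Mdl d lam U io) (hker : ∀ u ∈ U, io u = 0 ↔ u ∈ W) (P : Mdl d lam W p)
    (hpk : ∀ w ∈ W, p w = 0 ↔ w ^ (2 ^ k) = 1) :
    ∃ κ, ∀ u ∈ U, p (u * u) = κ * io u := by
  apply proportional C M (s := fun u => p (u * u))
  · intro x hx y hy
    show p (x * y * (x * y)) = p (x * x) + p (y * y)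
    have h1 : x * y * (x * y) = (x * x) * ⁅x⁻¹, y⁆ * (y * y) := by
      rw [commutatorElement_def]
      group
    have h2 : p ⁅x⁻¹, y⁆ = 0 :=
      (hpk _ (E.comU (inv_mem hx) hy)).2 (E.com_k C L _ (inv_mem hx) _ hy)
    rw [h1, P.mul _ (mul_mem (E.sq x hx) (E.comU (inv_mem hx) hy)) _ (E.sq y hy),
      P.mul _ (E.sq x hx) _ (E.comU (inv_mem hx) hy), h2, add_zero]
  · intro x hx
    show p (d * x * d⁻¹ * (d * x * d⁻¹)) = lam * p (x * x)
    have h1 : d * x * d⁻¹ * (d * x * d⁻¹) = d * (x * x) * d⁻¹ := by group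
    rw [h1, P.dval _ (E.sq x hx)]
  · intro x hx h
    show p (x * x) = 0
    have h1 : x ∈ W := (hker x hx).1 h
    rw [hpk _ (E.sq x hx), ← pow_two, ← pow_mul, ← pow_succ']
    exact L.pw_succ h1

/-- If squaring is not trivial on `U / W`, then `U` is abelian. -/
theorem comm_of_kappa (C : Crd V d T lam) (L : Lv t d V W k) (E : Ex t d V W U k) {io p : G → F}
    (M : Mdl d lam U io) (P : Mdl d lam W p)
    (hpk : ∀ w ∈ W, p w = 0 ↔ w ^ (2 ^ k) = 1) {κ : F} (hκ : ∀ u ∈ U, p (u * u) = κ * io u)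
    (hκ0 : κ ≠ 0) : ∀ u ∈ U, ∀ v ∈ U, u * v = v * u := by
  have key : ∀ i, i ≤ k → (∀ u ∈ U, ∀ v ∈ U, ⁅u, v⁆ ^ (2 ^ i) = 1) →
      ∀ u ∈ U, ∀ v ∈ U, ⁅u, v⁆ ^ (2 ^ 0) = 1 := by
    intro i
    induction i with
    | zero => exact fun _ h => h
    | succ i ih =>
      intro hi h1
      apply ih (by omega)
      apply E.step C L i h1
      intro u hu w hw
      -- squares
      have hsq : ∀ v ∈ U, ⁅u, v * v⁆ ^ (2 ^ i) = 1 := by
        intro v hv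
        have hz := E.comU hu hv
        have h2 : ⁅u, v * v⁆ = ⁅u, v⁆ * ⁅u, v⁆ * ⁅v, ⁅u, v⁆⁆ := by
          rw [comm_mul_right', conj_eq, L.comm _ (E.comW hv hz) _ hz, mul_assoc]
        rw [h2, mul_pow_of_comm (L.comm _ (mul_mem hz hz) _ (E.comW hv hz)),
          E.com_om L hv hz (by omega) (h1 u hu v hv), mul_one, ← pow_two, ← pow_mul, ← pow_succ']
        exact h1 u hu v hv
      obtain ⟨v, hv, hv1⟩ := M.surj (κ⁻¹ * p w)
      have h3 : p (w * (v * v)⁻¹) = 0 := by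
        rw [P.mul w hw _ (inv_mem (E.sq v hv)), P.inv (E.sq v hv), hκ v hv, hv1,
          mul_inv_cancel_left₀ hκ0, add_neg_cancel]
      have h4 := (hpk _ (mul_mem hw (inv_mem (E.sq v hv)))).1 h3
      obtain ⟨y, hy, hy1⟩ := L.root' k (by omega) _ (mul_mem hw (inv_mem (E.sq v hv))) h4
      have h5 : k + 1 - k = 1 := by omega
      rw [h5, pow_one, pow_two] at hy1
      have h6 : w = (y * y) * (v * v) := by
        rw [← hy1]
        group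
      rw [h6, E.com_mulW L hu (mul_mem hy hy) (E.sq v hv),
        mul_pow_of_comm (L.comm _ (E.comW hu (mul_mem hy hy)) _ (E.comW hu (E.sq v hv))),
        hsq v hv, hsq y (E.WU hy), one_mul]
  intro u hu v hv
  have h1 := key k le_rfl (E.com_k C L) u hu v hv
  rw [pow_zero, pow_one, commutatorElement_eq_one_iff_mul_comm] at h1
  exact h1

end crd

end Ex

end Cfsg.Agent.StdL2
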