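import Cfsg.Agent.StdL2.TowerGrow

/-!
# The 2-group `S` above one level of the tower
-/

set_option autoImplicit false

namespace Cfsg.Agent.StdL2

open scoped commutatorElement

open Cfsg.Agent.Lib.GoldschmidtFusion (exists_conj_le_in lt_inf_normalizer)

variable {G : Type*} [Group G]

namespace Lv

variable {t d : G} {V W : Subgroup G} {k : ℕ}

theorem t_w_t (L : Lv t d V W k) (ht2 : t * t = 1) {w : G} (hw : w ∈ W) : t * w * t = w⁻¹ := by
  have h1 : t⁻¹ = t := inv_eq_of_mul_eq_one_right ht2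
  have h2 := L.tinv w hw
  rwa [h1] at h2

theorem w_t (L : Lv t d V W k) (ht2 : t * t = 1) {w : G} (hw : w ∈ W) : w * t = t * w⁻¹ := by
  rw [← L.t_w_t ht2 hw, ← mul_assoc, ← mul_assoc, ht2, one_mul]

theorem tw_tw (L : Lv t d V W k) (ht2 : t * t = 1) {w : G} (hw : w ∈ W) :
    (t * w) * (t * w) = 1 := by
  rw [← mul_assoc, L.t_w_t ht2 hw, inv_mul_cancel]

theorem eq_t_mul {t : G} (ht2 : t * t = 1) (x : G) : x = t * (t * x) := by
  rw [← mul_assoc, ht2, one_mul]

/-- The subgroup `W ∪ t W`. -/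
def Q (L : Lv t d V W k) (ht2 : t * t = 1) : Subgroup G where
  carrier := {x | x ∈ W ∨ t * x ∈ W}
  one_mem' := Or.inl (one_mem _)
  mul_mem' := by
    intro a b ha hb
    rcases ha with ha | ha <;> rcases hb with hb | hb
    · exact Or.inl (mul_mem ha hb)
    · right
      have h1 : t * (a * b) = a⁻¹ * (t * b) := by
        have h2 := L.t_w_t ht2 ha
        rw [← h2]
        rw [mul_assoc (t * a) t, ← eq_t_mul ht2 b, mul_assoc]
      rw [h1]
      exact mul_mem (inv_mem ha) hb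
    · right
      rw [← mul_assoc]
      exact mul_mem ha hb
    · left
      have h1 : a * b = (t * a)⁻¹ * (t * b) := by
        rw [← L.t_w_t ht2 ha, ← eq_t_mul ht2 a, mul_assoc a t, ← eq_t_mul ht2 b]
      rw [h1]
      exact mul_mem (inv_mem ha) hb
  inv_mem' := by
    intro a ha
    rcases ha with ha | ha
    · exact Or.inl (inv_mem ha)
    · right
      have h2 := L.tw_tw ht2 ha
      rw [← eq_t_mul ht2 a] at h2
      rw [inv_eq_of_mul_eq_one_right h2]
      exact ha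

theorem mem_Q (L : Lv t d V W k) (ht2 : t * t = 1) {x : G} : x ∈ L.Q ht2 ↔ x ∈ W ∨ t * x ∈ W :=
  Iff.rfl

theorem W_le_Q (L : Lv t d V W k) (ht2 : t * t = 1) : W ≤ L.Q ht2 := fun _ h => Or.inl h

theorem t_mem_Q (L : Lv t d V W k) (ht2 : t * t = 1) : t ∈ L.Q ht2 := by
  right
  rw [ht2]
  exact one_mem _

theorem W_pgroup (L : Lv t d V W k) : IsPGroup 2 W := by
  intro x
  exact ⟨k + 1, Subtype.ext (L.pw_succ x.2)⟩

theorem Q_pgroup (L : Lv t d V W k) (ht2 : t * t = 1) : IsPGroup 2 (L.Q ht2) := by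
  intro x
  rcases x.2 with h | h
  · exact ⟨k + 1, Subtype.ext (L.pw_succ h)⟩
  · refine ⟨1, Subtype.ext ?_⟩
    show (x : G) ^ (2 ^ 1) = 1
    have h2 := L.tw_tw ht2 h
    rw [← eq_t_mul ht2 (x : G)] at h2
    rw [pow_one, pow_two]
    exact h2

theorem t_norm (L : Lv t d V W k) (ht2 : t * t = 1) : t ∈ Subgroup.normalizer (W : Set G) := by
  rw [Subgroup.mem_normalizer_iff]
  intro x
  constructor
  · intro hx
    rw [L.tinv x hx]
    exact inv_mem hx
  · intro hx
    have h1 := L.t_w_t ht2 hx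
    have h2 : t * (t * x * t⁻¹) * t = x := by
      have h3 : t * (t * x * t⁻¹) * t = (t * t) * x := by group
      rw [h3, ht2, one_mul]
    rw [← h2, h1]
    exact inv_mem hx

theorem Q_le_M (L : Lv t d V W k) (ht2 : t * t = 1) : L.Q ht2 ≤ towerM t W k L.comm := by
  have hW : W ≤ towerM t W k L.comm := by
    intro w hw
    refine ⟨Subgroup.le_normalizer hw, ?_, ?_⟩
    · have h1 : ⁅w, t⁆ = w * (t * w⁻¹ * t⁻¹) := by
        rw [commutatorElement_def]
        group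
      rw [h1, L.tinv _ (inv_mem hw), inv_inv]
      exact mul_mem hw hw
    · intro x hx
      rw [commutatorElement_def, L.comm w hw x hx, mul_inv_cancel_right, mul_inv_cancel, one_pow]
  have ht : t ∈ towerM t W k L.comm := by
    refine ⟨L.t_norm ht2, ?_, ?_⟩
    · rw [commutatorElement_self]
      exact one_mem _
    · intro x hx
      rw [commutatorElement_def, L.tinv x hx]
      have h2 : (x⁻¹ * x⁻¹) ^ 2 ^ k = (x ^ (2 ^ (k + 1)))⁻¹ := by
        rw [← pow_two, ← pow_mul, ← pow_succ', inv_pow]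
      rw [h2, L.pw_succ hx, inv_one]
  intro x hx
  rcases hx with hx | hx
  · exact hW hx
  · rw [eq_t_mul ht2 x]
    exact mul_mem ht (hW hx)

theorem M_fix (L : Lv t d V W k) {m v : G} (hm : m ∈ towerM t W k L.comm) (hv : v ∈ V) :
    m * v * m⁻¹ = v := by
  obtain ⟨w, hw, rfl⟩ := L.root v hv
  obtain ⟨h1, _, h3⟩ := hm
  have h4 : m * w * m⁻¹ ∈ W := (Subgroup.mem_normalizer_iff.1 h1 w).1 hw
  have h5 := h3 w hw
  rw [commutatorElement_def, mul_pow_of_comm (L.comm _ h4 _ (inv_mem hw)), inv_pow,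
    mul_inv_eq_one, conj_pow] at h5
  exact h5

/-- the conjugates of `t` in `tW`. -/
theorem t_conj_W (L : Lv t d V W k) (ht2 : t * t = 1) {y : G} (hy : y ∈ W) :
    y * t * y⁻¹ = t * (y⁻¹ * y⁻¹) := by
  rw [L.w_t ht2 hy, mul_assoc]

section stage

variable [Finite G]

theorem M_trans (L : Lv t d V W k) (ht2 : t * t = 1)
    (hTr : ∀ w ∈ W, ∃ n ∈ towerM t W k L.comm, ∃ x ∈ W, x ^ (2 ^ k) = 1 ∧
      n * t * n⁻¹ = t * w * x) :
    ∀ w ∈ W, ∃ m ∈ towerM t W k L.comm, m * t * m⁻¹ = t * w := by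
  intro w hw
  obtain ⟨n, hn, x, hx, hx1, hnx⟩ := hTr w hw
  obtain ⟨y, hy, hy1⟩ := L.root' k (by omega) x hx hx1
  have h3 : k + 1 - k = 1 := by omega
  rw [h3, pow_one, pow_two] at hy1
  refine ⟨y * n, mul_mem (L.Q_le_M ht2 (L.W_le_Q ht2 hy)) hn, ?_⟩
  have h4 : y * n * t * (y * n)⁻¹ = y * (n * t * n⁻¹) * y⁻¹ := by group
  rw [h4, hnx, hy1]
  have h5 : y * (t * w * (y * y)) * y⁻¹ = (y * t) * (w * y) := by group
  rw [h5, L.w_t ht2 hy, L.comm w hw y hy]
  group

/-- The orbit of `t` under `M`. -/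
theorem orbit_M (L : Lv t d V W k) (ht2 : t * t = 1)
    (hTr : ∀ w ∈ W, ∃ m ∈ towerM t W k L.comm, m * t * m⁻¹ = t * w) :
    ({y | ∃ m ∈ towerM t W k L.comm, m * t * m⁻¹ = y} : Set G) = (fun w => t * w) '' (W : Set G) := by
  ext y
  constructor
  · rintro ⟨m, hm, rfl⟩
    refine ⟨⁅m, t⁆⁻¹, inv_mem hm.2.1, ?_⟩
    show t * ⁅m, t⁆⁻¹ = m * t * m⁻¹
    rw [← L.w_t ht2 hm.2.1, commutatorElement_def]
    group
  · rintro ⟨w, hw, rfl⟩
    obtain ⟨m, hm, h⟩ := hTr w hw
    exact ⟨m, hm, h⟩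

/-- The group `S`. -/
theorem exists_S (L : Lv t d V W k) (ht2 : t * t = 1)
    (hTr : ∀ w ∈ W, ∃ m ∈ towerM t W k L.comm, m * t * m⁻¹ = t * w) :
    ∃ S : Subgroup G, S ≤ towerM t W k L.comm ∧ IsPGroup 2 S ∧
      ¬ 2 ∣ S.relIndex (towerM t W k L.comm) ∧ W ≤ S ∧ t ∈ S ∧
      ∀ w ∈ W, ∃ s ∈ S, s * t * s⁻¹ = t * w := by
  classical
  set M := towerM t W k L.comm with hM
  have hQ' : IsPGroup 2 ((L.Q ht2).subgroupOf M) :=
    (L.Q_pgroup ht2).comap_of_injective (Subgroup.subtype _) (Subgroup.subtype_injective _)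
  obtain ⟨R, hR⟩ := hQ'.exists_le_sylow
  have hSM : (R : Subgroup M).map M.subtype ≤ M := by
    rintro _ ⟨x, _, rfl⟩
    exact x.2
  have hodd : ¬ 2 ∣ ((R : Subgroup M).map M.subtype).relIndex M := by
    rw [Subgroup.relIndex, Subgroup.subgroupOf,
      Subgroup.comap_map_eq_self_of_injective (Subgroup.subtype_injective _)]
    exact R.not_dvd_index
  set S := (R : Subgroup M).map M.subtype with hS
  refine ⟨S, hSM, R.isPGroup'.map _, hodd, ?_, ?_, ?_⟩
  · intro w hw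
    exact ⟨⟨w, L.Q_le_M ht2 (L.W_le_Q ht2 hw)⟩, hR (by
      rw [Subgroup.mem_subgroupOf]; exact L.W_le_Q ht2 hw), rfl⟩
  · exact ⟨⟨t, L.Q_le_M ht2 (L.t_mem_Q ht2)⟩, hR (by
      rw [Subgroup.mem_subgroupOf]; exact L.t_mem_Q ht2), rfl⟩
  · -- counting
    have hOM := L.orbit_M ht2 hTr
    have h1 := ncard_orbit' M t
    rw [hOM, Set.ncard_image_of_injective _ (mul_right_injective t)] at h1
    have h2 := ncard_orbit' S t
    have hsub : ({y | ∃ s ∈ S, s * t * s⁻¹ = y} : Set G) ⊆ (fun w => t * w) '' (W : Set G) := by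
      rw [← hOM]
      rintro y ⟨s, hs, h⟩
      exact ⟨s, hSM hs, h⟩
    have hcardW : (W : Set G).ncard = Nat.card W := rfl
    obtain ⟨n, hn⟩ := IsPGroup.iff_card.1 L.W_pgroup
    have h3 : (Subgroup.centralizer {t} ⊓ S).relIndex S * S.relIndex M =
        (Subgroup.centralizer {t} ⊓ S).relIndex M :=
      Subgroup.relIndex_mul_relIndex _ _ _ inf_le_right hSM
    have h4 : (Subgroup.centralizer {t} ⊓ S).relIndex (Subgroup.centralizer {t} ⊓ M) *
        (Subgroup.centralizer {t} ⊓ M).relIndex M =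
        (Subgroup.centralizer {t} ⊓ S).relIndex M :=
      Subgroup.relIndex_mul_relIndex _ _ _ (inf_le_inf_left _ hSM) inf_le_right
    rw [Subgroup.inf_relIndex_right] at h3 h4
    have h5 : 2 ^ n ∣ (Subgroup.centralizer {t}).relIndex S * S.relIndex M := by
      rw [h3, ← h4, ← hn, ← hcardW, h1]
      exact Dvd.intro_left _ rfl
    have h6 : Nat.Coprime (2 ^ n) (S.relIndex M) := by
      apply Nat.Coprime.pow_left
      exact (Nat.Prime.coprime_iff_not_dvd Nat.prime_two).2 hodd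
    have h7 : 2 ^ n ∣ (Subgroup.centralizer {t}).relIndex S := h6.dvd_of_dvd_mul_right h5
    have h8 : ((fun w => t * w) '' (W : Set G)).ncard ≤
        ({y | ∃ s ∈ S, s * t * s⁻¹ = y} : Set G).ncard := by
      rw [Set.ncard_image_of_injective _ (mul_right_injective t), hcardW, hn, h2]
      apply Nat.le_of_dvd _ h7
      rw [← h2]
      apply (Set.ncard_pos (Set.toFinite _)).2
      exact ⟨t, 1, one_mem _, by group⟩
    have h9 := Set.eq_of_subset_of_ncard_le hsub h8 (Set.toFinite _)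
    intro w hw
    have h10 : t * w ∈ (fun w => t * w) '' (W : Set G) := ⟨w, hw, rfl⟩
    rw [← h9] at h10
    exact h10

end stage

end Lv

end Cfsg.Agent.StdL2
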