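import Cfsg.Agent.StdL2.TowerStage

/-!
# The group `U` above one level of the tower
-/

set_option autoImplicit false

namespace Cfsg.Agent.StdL2

open scoped commutatorElement

open Cfsg.Agent.Lib.GoldschmidtFusion (exists_conj_le_in lt_inf_normalizer)

variable {G : Type*} [Group G]

theorem mem_norm_of_le [Finite G] {W : Subgroup G} {d : G} (h : ∀ w ∈ W, d * w * d⁻¹ ∈ W) :
    d ∈ Subgroup.normalizer (W : Set G) := by
  have h1 : ∀ n : ℕ, ∀ w ∈ W, d ^ n * w * (d ^ n)⁻¹ ∈ W := by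
    intro n
    induction n with
    | zero => intro w hw; simpa using hw
    | succ n ih =>
      intro w hw
      have h2 : d ^ (n + 1) * w * (d ^ (n + 1))⁻¹ = d * (d ^ n * w * (d ^ n)⁻¹) * d⁻¹ := by
        rw [pow_succ']
        group
      rw [h2]
      exact h _ (ih w hw)
  rw [Subgroup.mem_normalizer_iff]
  intro x
  constructor
  · exact h x
  · intro hx
    have h3 := h1 (orderOf d - 1) _ hx
    have h4 : d ^ (orderOf d - 1) = d⁻¹ := by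
      apply eq_inv_of_mul_eq_one_left
      rw [← pow_succ, Nat.sub_add_cancel (orderOf_pos d), pow_orderOf_eq_one]
    rw [h4, inv_inv] at h3
    have h5 : d⁻¹ * (d * x * d⁻¹) * d = x := by group
    rwa [h5] at h3

namespace Lv

variable {t d : G} {V W : Subgroup G} {k : ℕ}

section

variable [Finite G]

/-- The element `d'`. -/
theorem exists_d (L : Lv t d V W k) (ht2 : t * t = 1) (hdt : d * t = t * d)
    (hdV : ∀ v ∈ V, d * v * d⁻¹ ∈ V) {S : Subgroup G}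
    (hSM : S ≤ towerM t W k L.comm) (hS : IsPGroup 2 S)
    (hodd : ¬ 2 ∣ S.relIndex (towerM t W k L.comm))
    (htr : ∀ w ∈ W, ∃ s ∈ S, s * t * s⁻¹ = t * w) :
    ∃ d' : G, d' * t = t * d' ∧ (∀ x ∈ S, d' * x * d'⁻¹ ∈ S) ∧ (∀ w ∈ W, d' * w * d'⁻¹ ∈ W) ∧
      ∀ v ∈ V, d' * v * d'⁻¹ = d * v * d⁻¹ := by
  have hdn := mem_norm_of_le L.dW
  have hdti : d * t * d⁻¹ = t := by rw [hdt, mul_inv_cancel_right]
  have hdM : ∀ n ∈ towerM t W k L.comm, d * n * d⁻¹ ∈ towerM t W k L.comm := by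
    rintro n ⟨h1, h2, h3⟩
    refine ⟨mul_mem (mul_mem hdn h1) (inv_mem hdn), ?_, ?_⟩
    · have h4 := comm_conj' d n t
      rw [hdti] at h4
      rw [h4]
      exact L.dW _ h2
    · intro x hx
      have hx' : d⁻¹ * x * d ∈ W := by
        have h5 := (Subgroup.mem_normalizer_iff.1 (inv_mem hdn) x).1 hx
        rwa [inv_inv] at h5
      have h4 := comm_conj' d n (d⁻¹ * x * d)
      have h5 : d * (d⁻¹ * x * d) * d⁻¹ = x := by group
      rw [h5] at h4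
      rw [h4, conj_pow, h3 _ hx', mul_one, mul_inv_cancel]
  obtain ⟨m, hm, hmS⟩ := exists_conj_le_in (p := 2) hS hodd
    (D := S.map (MulAut.conj d).toMonoidHom) (by
      rintro _ ⟨x, hx, rfl⟩
      exact hdM x (hSM hx)) (hS.map _)
  have hm1 : ∀ x ∈ S, m * (d * x * d⁻¹) * m⁻¹ ∈ S := by
    intro x hx
    exact hmS ⟨d * x * d⁻¹, ⟨x, hx, rfl⟩, rfl⟩
  -- the image of `t` under `m`
  have hmt : ∃ w ∈ W, m * t * m⁻¹ = t * w := by
    refine ⟨⁅m, t⁆⁻¹, inv_mem hm.2.1, ?_⟩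
    rw [← L.w_t ht2 hm.2.1, commutatorElement_def]
    group
  obtain ⟨w, hw, hmw⟩ := hmt
  obtain ⟨s, hs, hsw⟩ := htr w hw
  have hsM := hSM hs
  refine ⟨s⁻¹ * m * d, ?_, ?_, ?_, ?_⟩
  · have h1 : s⁻¹ * m * d * t = s⁻¹ * (m * t * m⁻¹) * m * d := by
      rw [mul_assoc _ d t, hdt]
      group
    rw [h1, hmw, ← hsw]
    group
  · intro x hx
    have h1 : s⁻¹ * m * d * x * (s⁻¹ * m * d)⁻¹ = s⁻¹ * (m * (d * x * d⁻¹) * m⁻¹) * s := by
      group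
    rw [h1]
    exact mul_mem (mul_mem (inv_mem hs) (hm1 x hx)) hs
  · intro w hw
    have h1 : s⁻¹ * m * d * w * (s⁻¹ * m * d)⁻¹ = s⁻¹ * (m * (d * w * d⁻¹) * m⁻¹) * s⁻¹⁻¹ := by
      group
    rw [h1]
    exact (Subgroup.mem_normalizer_iff.1 (inv_mem hsM.1) _).1
      ((Subgroup.mem_normalizer_iff.1 hm.1 _).1 (L.dW w hw))
  · intro v hv
    have h1 : s⁻¹ * m * d * v * (s⁻¹ * m * d)⁻¹ = s⁻¹ * (m * (d * v * d⁻¹) * m⁻¹) * s⁻¹⁻¹ := by
      group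
    rw [h1, L.M_fix hm (hdV v hv), L.M_fix (inv_mem hsM) (hdV v hv)]

end

/-- The additive function on the stage. -/
structure Stg (t d : G) (V W S : Subgroup G) (k : ℕ) : Prop where
  WS : W ≤ S
  tS : t ∈ S
  nW : ∀ x ∈ S, ∀ w ∈ W, x * w * x⁻¹ ∈ W
  cW : ∀ x ∈ S, ∀ w ∈ W, ⁅x, w⁆ ^ (2 ^ k) = 1
  tc : ∀ x ∈ S, ⁅t, x⁆ ∈ W
  fix : ∀ x ∈ S, ∀ v ∈ V, x * v * x⁻¹ = v
  dS : ∀ x ∈ S, d * x * d⁻¹ ∈ S
  dt : d * t = t * d
  tr : ∀ w ∈ W, ∃ s ∈ S, s * t * s⁻¹ = t * w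
  ker : ∀ x ∈ S, ⁅t, x⁆ ^ (2 ^ k) = 1 → x ∈ W ∨ t * x ∈ W
  sq : ∀ x ∈ S, x * x ∈ W

theorem stg (L : Lv t d V W k) (H : TCen t V) {S : Subgroup G}
    (hSM : S ≤ towerM t W k L.comm) (hS : IsPGroup 2 S) (hWS : W ≤ S) (htS : t ∈ S)
    (htr : ∀ w ∈ W, ∃ s ∈ S, s * t * s⁻¹ = t * w)
    (hdt : d * t = t * d) (hdS : ∀ x ∈ S, d * x * d⁻¹ ∈ S) [Finite G] :
    Stg t d V W S k := by
  have ht2 := H.t2
  have hnW : ∀ x ∈ S, ∀ w ∈ W, x * w * x⁻¹ ∈ W := fun x hx w hw =>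
    (Subgroup.mem_normalizer_iff.1 (hSM hx).1 w).1 hw
  have htc : ∀ x ∈ S, ⁅t, x⁆ ∈ W := by
    intro x hx
    rw [← commutatorElement_inv]
    exact inv_mem (hSM hx).2.1
  have hfix : ∀ x ∈ S, ∀ v ∈ V, x * v * x⁻¹ = v := fun x hx v hv => L.M_fix (hSM hx) hv
  have hker : ∀ x ∈ S, ⁅t, x⁆ ^ (2 ^ k) = 1 → x ∈ W ∨ t * x ∈ W := by
    intro x hx h
    obtain ⟨y, hy, hy1⟩ := L.root' k (by omega) _ (htc x hx) h
    have h3 : k + 1 - k = 1 := by omega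
    rw [h3, pow_one, pow_two] at hy1
    -- `y x` commutes with `t`
    have hyx : t * (y * x) = (y * x) * t := by
      have h4 : t * x = (y * y) * x * t := by
        rw [← hy1, commutatorElement_def]
        have h5 : t * x * t⁻¹ * x⁻¹ * x * t = t * x := by group
        exact h5.symm
      have h6 : t * y = y⁻¹ * t := by
        have h7 := L.w_t ht2 (inv_mem hy)
        rw [inv_inv] at h7
        exact h7.symm
      rw [← mul_assoc, h6, mul_assoc, h4]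
      group
    have h7 := H.syl (S ⊓ Subgroup.centralizer ({t} : Set G)) (hS.to_le inf_le_left)
      (fun z hz => (Subgroup.mem_centralizer_singleton_iff.1 hz.2).symm)
      (fun v hv => ⟨hWS (L.VW hv), Subgroup.mem_centralizer_singleton_iff.2 (H.vt v hv).symm⟩)
      ⟨htS, Subgroup.mem_centralizer_singleton_iff.2 rfl⟩ (y * x)
      ⟨mul_mem (hWS hy) hx, Subgroup.mem_centralizer_singleton_iff.2 hyx.symm⟩
    rcases h7 with h7 | h7
    · left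
      have h8 : x = y⁻¹ * (y * x) := by group
      rw [h8]
      exact mul_mem (inv_mem hy) (L.VW h7)
    · right
      have h6 : y * t = t * y⁻¹ := L.w_t ht2 hy
      have h9 : t * x = y * (t * (y * x)) := by
        rw [← mul_assoc y t, h6]
        group
      rw [h9]
      exact mul_mem hy (L.VW h7)
  refine ⟨hWS, htS, hnW, fun x hx => (hSM hx).2.2, htc, hfix, hdS, hdt, htr, hker, ?_⟩
  intro x hx
  have h1 : ⁅t, x * x⁆ ^ (2 ^ k) = 1 := by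
    rw [comm_mul_right', mul_pow_of_comm (L.comm _ (htc x hx) _ (hnW x hx _ (htc x hx))),
      conj_pow, hfix x hx _ (L.pw _ (htc x hx))]
    exact L.vsq _ (L.pw _ (htc x hx))
  rcases hker _ (mul_mem hx hx) h1 with h2 | h2
  · exact h2
  · exfalso
    obtain ⟨s, hs, hst⟩ := htr _ h2
    rw [← eq_t_mul ht2] at hst
    apply H.not_sq (s⁻¹ * x * s)
    have h3 : s⁻¹ * x * s * (s⁻¹ * x * s) = s⁻¹ * (x * x) * s := by group
    rw [h3, ← hst]
    group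

namespace Stg

variable {S : Subgroup G}

theorem e_mem (L : Lv t d V W k) (Z : Stg t d V W S k) {x : G} (hx : x ∈ S) :
    ⁅t, x⁆ ^ (2 ^ k) ∈ V := L.pw _ (Z.tc x hx)

theorem e_mul (L : Lv t d V W k) (Z : Stg t d V W S k) {x y : G} (hx : x ∈ S) (hy : y ∈ S) :
    ⁅t, x * y⁆ ^ (2 ^ k) = ⁅t, x⁆ ^ (2 ^ k) * ⁅t, y⁆ ^ (2 ^ k) := by
  rw [comm_mul_right', mul_pow_of_comm (L.comm _ (Z.tc x hx) _ (Z.nW x hx _ (Z.tc y hy))),
    conj_pow, Z.fix x hx _ (Z.e_mem L hy)]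

theorem e_inv (L : Lv t d V W k) (Z : Stg t d V W S k) {x : G} (hx : x ∈ S) :
    ⁅t, x⁻¹⁆ ^ (2 ^ k) = (⁅t, x⁆ ^ (2 ^ k))⁻¹ := by
  have h1 := Z.e_mul L (inv_mem hx) hx
  rw [inv_mul_cancel, commutatorElement_one_right, one_pow] at h1
  exact (inv_eq_of_mul_eq_one_left h1.symm).symm

theorem e_W (L : Lv t d V W k) {w : G} (hw : w ∈ W) : ⁅t, w⁆ ^ (2 ^ k) = 1 := by
  rw [commutatorElement_def, L.tinv w hw]
  have h2 : (w⁻¹ * w⁻¹) ^ 2 ^ k = (w ^ (2 ^ (k + 1)))⁻¹ := by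
    rw [← pow_two, ← pow_mul, ← pow_succ', inv_pow]
  rw [h2, L.pw_succ hw, inv_one]

theorem e_d (Z : Stg t d V W S k) (x : G) :
    ⁅t, d * x * d⁻¹⁆ ^ (2 ^ k) = d * ⁅t, x⁆ ^ (2 ^ k) * d⁻¹ := by
  have h1 : d * t * d⁻¹ = t := by rw [Z.dt, mul_inv_cancel_right]
  have h2 := comm_conj' d t x
  rw [h1] at h2
  rw [h2, conj_pow]

theorem e_surj (L : Lv t d V W k) (Z : Stg t d V W S k) {v : G} (hv : v ∈ V) :
    ∃ s ∈ S, ⁅t, s⁆ ^ (2 ^ k) = v := by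
  obtain ⟨w, hw, rfl⟩ := L.root v hv
  obtain ⟨s, hs, hst⟩ := Z.tr w hw
  refine ⟨s, hs, ?_⟩
  have h1 : ⁅t, s⁆ = t * (s * t * s⁻¹)⁻¹ := by
    rw [commutatorElement_def]
    group
  have h2 : t * (t * w)⁻¹ = w := by
    rw [mul_inv_rev, ← mul_assoc, L.tinv _ (inv_mem hw), inv_inv]
  rw [h1, hst, h2]

theorem comm_mem (Z : Stg t d V W S k) {x y : G} (hx : x ∈ S) (hy : y ∈ S) : ⁅x, y⁆ ∈ W := by
  have h1 : ⁅x, y⁆ = (x * y) * (x * y) * (y⁻¹ * (x * x)⁻¹ * y⁻¹⁻¹) * (y * y)⁻¹ := by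
    rw [commutatorElement_def]
    group
  rw [h1]
  exact mul_mem (mul_mem (Z.sq _ (mul_mem hx hy)) (Z.nW _ (inv_mem hy) _ (inv_mem (Z.sq x hx))))
    (inv_mem (Z.sq y hy))

/-- The group `U`. -/
theorem exists_U0 (Z : Stg t d V W S k) :
    ∃ U : Subgroup G, ∀ x, x ∈ U ↔ x ∈ S ∧ ∃ y ∈ S, (y⁻¹ * (d * y * d⁻¹))⁻¹ * x ∈ W := by
  classical
  have hn : (W.subgroupOf S).Normal := by
    constructor
    intro w hw x
    rw [Subgroup.mem_subgroupOf] at hw ⊢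
    exact Z.nW x x.2 w hw
  let q : S →* S ⧸ (W.subgroupOf S) := QuotientGroup.mk' (W.subgroupOf S)
  have hqe : ∀ a b : S, q a = q b ↔ (a : G)⁻¹ * (b : G) ∈ W := by
    intro a b
    have h1 : q a = q b ↔ a⁻¹ * b ∈ W.subgroupOf S := QuotientGroup.eq
    rw [h1, Subgroup.mem_subgroupOf]
    rfl
  have hq : ∀ a b : S, q a * q b = q b * q a := by
    intro a b
    rw [← map_mul, ← map_mul, hqe]
    have h1 : ((a * b : S) : G)⁻¹ * ((b * a : S) : G) = ⁅(b : G)⁻¹, (a : G)⁻¹⁆ := by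
      rw [commutatorElement_def]
      show ((a : G) * (b : G))⁻¹ * ((b : G) * (a : G)) = _
      group
    rw [h1]
    exact Z.comm_mem (inv_mem b.2) (inv_mem a.2)
  let dS : S →* S :=
    { toFun := fun x => ⟨d * x * d⁻¹, Z.dS x x.2⟩
      map_one' := by
        apply Subtype.ext
        show d * 1 * d⁻¹ = 1
        group
      map_mul' := by
        intro a b
        apply Subtype.ext
        show d * ((a : G) * (b : G)) * d⁻¹ = d * (a : G) * d⁻¹ * (d * (b : G) * d⁻¹)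
        group }
  let g : S →* S ⧸ (W.subgroupOf S) :=
    { toFun := fun y => q (y⁻¹ * dS y)
      map_one' := by
        show q ((1 : S)⁻¹ * dS 1) = 1
        rw [map_one dS, inv_one, one_mul, map_one]
      map_mul' := by
        intro a b
        show q ((a * b)⁻¹ * dS (a * b)) = q (a⁻¹ * dS a) * q (b⁻¹ * dS b)
        rw [map_mul dS, mul_inv_rev, map_mul, map_mul, map_mul, map_mul, map_mul,
          hq b⁻¹ a⁻¹, mul_assoc (q a⁻¹), mul_assoc (q a⁻¹), ← mul_assoc (q b⁻¹) (q (dS a)),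
          hq b⁻¹ (dS a), mul_assoc (q (dS a))] }
  refine ⟨(g.range.comap q).map S.subtype, ?_⟩
  intro x
  constructor
  · rintro ⟨x', ⟨y, hy⟩, rfl⟩
    refine ⟨x'.2, y, y.2, ?_⟩
    have h1 : q (y⁻¹ * dS y) = q x' := hy
    rw [hqe] at h1
    exact h1
  · rintro ⟨hx, y, hy, h⟩
    refine ⟨⟨x, hx⟩, ⟨⟨y, hy⟩, ?_⟩, rfl⟩
    show q ((⟨y, hy⟩ : S)⁻¹ * dS ⟨y, hy⟩) = q ⟨x, hx⟩
    rw [hqe]
    exact h

/-- **The extension.** -/
theorem exists_U {F : Type*} [Field F] {T : F → G} {lam : F} (C : Crd V d T lam)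
    (L : Lv t d V W k) (H : TCen t V) (Z : Stg t d V W S k) (hF : ∃ r : F, r ≠ 0 ∧ r ≠ 1)
    (hg : W ≤ commutator G) :
    ∃ U : Subgroup G, Ex t d V W U k ∧ U ≤ S ∧ t ∉ U ∧ (∀ x ∈ S, x ∈ U ∨ t * x ∈ U) ∧
      U ≤ commutator G := by
  obtain ⟨U, hU⟩ := Z.exists_U0
  have ht2 := H.t2
  have hlam : lam ≠ 1 := by
    rintro rfl
    obtain ⟨r, hr0, hr1⟩ := hF
    obtain ⟨n, hn⟩ := C.gen r hr0
    rw [one_pow] at hn
    exact hr1 hn.symm
  have hWU : W ≤ U := by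
    intro w hw
    rw [hU]
    refine ⟨Z.WS hw, 1, one_mem _, ?_⟩
    have h1 : ((1 : G)⁻¹ * (d * 1 * d⁻¹))⁻¹ * w = w := by group
    rw [h1]
    exact hw
  have hUS : U ≤ S := fun x hx => ((hU x).1 hx).1
  have htW : t ∉ W := by
    intro h
    exact H.tV (L.om t h ht2)
  -- `U` meets `W ∪ tW` in `W`
  have htU : t ∉ U := by
    intro h
    obtain ⟨-, y, hy, h1⟩ := (hU t).1 h
    set z := y⁻¹ * (d * y * d⁻¹) with hz
    have hzS : z ∈ S := mul_mem (inv_mem hy) (Z.dS y hy)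
    -- `e z = 1`
    have hez : ⁅t, z⁆ ^ (2 ^ k) = 1 := by
      have h2 : t = z * (z⁻¹ * t) := by group
      have h3 : ⁅t, t⁆ ^ (2 ^ k) = 1 := by rw [commutatorElement_self, one_pow]
      have h4 := Z.e_mul L hzS (Z.WS h1)
      rw [← h2, h3, e_W L h1, mul_one] at h4
      exact h4.symm
    have hez' : ⁅t, z⁆ ^ (2 ^ k) = (⁅t, y⁆ ^ (2 ^ k))⁻¹ * (d * ⁅t, y⁆ ^ (2 ^ k) * d⁻¹) := by
      rw [hz, Z.e_mul L (inv_mem hy) (Z.dS y hy), Z.e_inv L hy, Z.e_d]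
    obtain ⟨a, ha⟩ := C.surj _ (Z.e_mem L hy)
    rw [hez', ← ha, C.conj] at hez
    have h5 : T (lam * a) = T a := by
      rw [inv_mul_eq_one] at hez
      exact hez.symm
    have h6 := C.inj _ _ h5
    have h7 : a = 0 := by
      have h8 : (lam - 1) * a = 0 := by rw [sub_mul, one_mul, h6, sub_self]
      rcases mul_eq_zero.mp h8 with h9 | h9
      · exact absurd (sub_eq_zero.mp h9) hlam
      · exact h9
    rw [h7, C.zero] at ha
    have hzW : z ∈ W := by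
      rcases Z.ker y hy ha.symm with h8 | h8
      · exact mul_mem (inv_mem h8) (L.dW y h8)
      · have h9 : z = (t * y)⁻¹ * (d * (t * y) * d⁻¹) := by
          have h10 : d * (t * y) * d⁻¹ = t * (d * y * d⁻¹) := by
            rw [← mul_assoc, Z.dt]
            group
          rw [h10, hz]
          group
        rw [h9]
        exact mul_mem (inv_mem h8) (L.dW _ h8)
    apply htW
    have h2 : t = z * (z⁻¹ * t) := by group
    rw [h2]
    exact mul_mem hzW h1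
  have hker : ∀ u ∈ U, ⁅t, u⁆ ^ (2 ^ k) = 1 → u ∈ W := by
    intro u hu h
    rcases Z.ker u (hUS hu) h with h1 | h1
    · exact h1
    · exfalso
      apply htU
      have h2 : t = (t * u) * u⁻¹ := by group
      rw [h2]
      exact mul_mem (hWU h1) (inv_mem hu)
  have hsur : ∀ v ∈ V, ∃ u ∈ U, ⁅t, u⁆ ^ (2 ^ k) = v := by
    intro v hv
    obtain ⟨b, rfl⟩ := C.surj v hv
    have hl1 : lam - 1 ≠ 0 := sub_ne_zero.2 hlam
    obtain ⟨y, hy, hy1⟩ := Z.e_surj L (C.mem (b / (lam - 1)))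
    refine ⟨y⁻¹ * (d * y * d⁻¹), ?_, ?_⟩
    · rw [hU]
      refine ⟨mul_mem (inv_mem hy) (Z.dS y hy), y, hy, ?_⟩
      rw [inv_mul_cancel]
      exact one_mem _
    · rw [Z.e_mul L (inv_mem hy) (Z.dS y hy), Z.e_inv L hy, Z.e_d, hy1, C.conj]
      have h1 : lam * (b / (lam - 1)) = b / (lam - 1) + b := by
        field_simp
        ring
      rw [h1, C.add, inv_mul_cancel_left]
  have hdU : ∀ u ∈ U, d * u * d⁻¹ ∈ U := by
    intro u hu
    obtain ⟨h1, y, hy, h2⟩ := (hU u).1 hu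
    rw [hU]
    refine ⟨Z.dS u h1, d * y * d⁻¹, Z.dS y hy, ?_⟩
    have h3 : ((d * y * d⁻¹)⁻¹ * (d * (d * y * d⁻¹) * d⁻¹))⁻¹ * (d * u * d⁻¹) =
        d * ((y⁻¹ * (d * y * d⁻¹))⁻¹ * u) * d⁻¹ := by
      simp [mul_assoc]
    rw [h3]
    exact L.dW _ h2
  refine ⟨U, ⟨hWU, fun u hu => Z.nW u (hUS hu), fun u hu => Z.cW u (hUS hu),
    fun u hu => Z.tc u (hUS hu), hker, hsur, fun u hu => Z.sq u (hUS hu), hdU, Z.dt⟩, hUS, htU,
    ?_, ?_⟩
  · intro x hx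
    obtain ⟨u, hu, hu1⟩ := hsur _ (Z.e_mem L hx)
    have h1 : ⁅t, u⁻¹ * x⁆ ^ (2 ^ k) = 1 := by
      rw [Z.e_mul L (inv_mem (hUS hu)) hx, Z.e_inv L (hUS hu), hu1, inv_mul_cancel]
    rcases Z.ker _ (mul_mem (inv_mem (hUS hu)) hx) h1 with h2 | h2
    · left
      have h3 : x = u * (u⁻¹ * x) := by group
      rw [h3]
      exact mul_mem hu (hWU h2)
    · right
      -- `t x = ⁅t, u⁆ u (t u⁻¹ x)`
      have h3 : t * x = ⁅t, u⁆ * u * (t * (u⁻¹ * x)) := by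
        rw [commutatorElement_def]
        group
      rw [h3]
      exact mul_mem (mul_mem (hWU (Z.tc u (hUS hu))) hu) (hWU h2)
  · intro u hu
    obtain ⟨h1, y, hy, h2⟩ := (hU u).1 hu
    have h3 : u = ⁅y⁻¹, d⁆ * ((y⁻¹ * (d * y * d⁻¹))⁻¹ * u) := by
      rw [commutatorElement_def]
      group
    rw [h3]
    exact mul_mem (Subgroup.commutator_mem_commutator (Subgroup.mem_top _) (Subgroup.mem_top _))
      (hg h2)

end Stg

end Lv

end Cfsg.Agent.StdL2
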