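import Mathlib

/-!
# The odd-order trick: a finite group of odd order acting on a plane in characteristic two is abelian

`P = ∑ h, ρ h ∘ e ∘ ρ h⁻¹` with `tr e = 1` commutes with `ρ H` and has trace `|H| = 1`, so it is
not a scalar; hence `ρ H` lies in the commutative centralizer of a non-scalar endomorphism.
-/

set_option autoImplicit false

namespace Cfsg.Agent.StdL2.Trick

open LinearMap

variable {F W : Type*} [Field F] [AddCommGroup W] [Module F W]

/-- On a plane the centralizer of a non-scalar endomorphism is commutative. -/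
theorem comm_of_comm (h2 : Module.finrank F W = 2) {a b c : Module.End F W}
    (ha : ∀ r : F, a ≠ r • (1 : Module.End F W)) (hab : a * b = b * a) (hac : a * c = c * a) :
    b * c = c * b := by
  have : FiniteDimensional F W := Module.finite_of_finrank_eq_succ h2
  have hfr : ∃ v : W, LinearIndependent F ![v, a v] := by
    by_contra hcon
    push Not at hcon
    obtain ⟨r, hr⟩ := LinearMap.exists_eq_smul_id_of_forall_notLinearIndependent
      (f := a) (by simpa using hcon)
    exact ha r hr
  obtain ⟨v, hv⟩ := hfr
  have hspan : ∀ w : W, ∃ α β : F, w = α • v + β • a v := by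
    have hs := hv.span_eq_top_of_card_eq_finrank (by simp [h2])
    intro w
    have hw : w ∈ Submodule.span F (Set.range ![v, a v]) := by rw [hs]; trivial
    rw [Matrix.range_cons, Matrix.range_cons, Matrix.range_empty, Set.union_empty,
      Set.singleton_union, Submodule.mem_span_pair] at hw
    obtain ⟨α, β, h⟩ := hw
    exact ⟨α, β, h.symm⟩
  have key : ∀ d : Module.End F W, a * d = d * a →
      ∃ α β : F, d = α • (1 : Module.End F W) + β • a := by
    intro d hd
    obtain ⟨α, β, h⟩ := hspan (d v)
    refine ⟨α, β, ?_⟩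
    have hcom : ∀ w, a (d w) = d (a w) := fun w => LinearMap.congr_fun hd w
    ext w
    obtain ⟨x, y, rfl⟩ := hspan w
    simp only [map_add, map_smul, LinearMap.add_apply, LinearMap.smul_apply, Module.End.one_apply]
    rw [← hcom v, h]
    simp only [map_add, map_smul]
  obtain ⟨α, β, rfl⟩ := key b hab
  obtain ⟨γ, δ, rfl⟩ := key c hac
  simp only [mul_add, add_mul, smul_mul_assoc, mul_smul_comm, one_mul, mul_one]
  module

/-- **Odd-order trick.** -/
theorem odd_comm [CharP F 2] (h2 : Module.finrank F W = 2) {H : Type*} [Group H] [Finite H]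
    (hH : ¬ 2 ∣ Nat.card H) (ρ : H →* Module.End F W) (x y : H) : ρ x * ρ y = ρ y * ρ x := by
  classical
  have : FiniteDimensional F W := Module.finite_of_finrank_eq_succ h2
  have := Fintype.ofFinite H
  let b := Module.finBasisOfFinrankEq F W h2
  -- an endomorphism with trace one
  let e : Module.End F W := Matrix.toLin b b !![1, 0; 0, 0]
  have he : LinearMap.trace F W e = 1 := by
    rw [LinearMap.trace_eq_matrix_trace F b, LinearMap.toMatrix_toLin]
    simp [Matrix.trace, Fin.sum_univ_two]
  let P : Module.End F W := ∑ h : H, ρ h * e * ρ h⁻¹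
  have hinv : ∀ h : H, ρ h⁻¹ * ρ h = 1 := fun h => by rw [← map_mul]; simp
  have hinv' : ∀ h : H, ρ h * ρ h⁻¹ = 1 := fun h => by rw [← map_mul]; simp
  have htr : LinearMap.trace F W P = 1 := by
    have h1 : ∀ h : H, LinearMap.trace F W (ρ h * e * ρ h⁻¹) = 1 := by
      intro h
      rw [mul_assoc, LinearMap.trace_mul_comm, mul_assoc, hinv, mul_one, he]
    simp only [P, map_sum, h1, Finset.sum_const, Finset.card_univ, nsmul_eq_mul, mul_one]
    rw [← Nat.card_eq_fintype_card]
    have h3 : ((Nat.card H : ℕ) : F) = ((Nat.card H % 2 : ℕ) : F) := by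
      rw [CharP.cast_eq_iff_mod_eq F 2]; simp
    rw [h3, Nat.two_dvd_ne_zero.1 hH, Nat.cast_one]
  have hns : ∀ r : F, P ≠ r • (1 : Module.End F W) := by
    intro r hr
    rw [hr, map_smul, LinearMap.trace_one, h2] at htr
    have : ((2 : ℕ) : F) = 0 := CharP.cast_eq_zero F 2
    rw [this, smul_zero] at htr
    exact zero_ne_one htr
  have hcom : ∀ g : H, P * ρ g = ρ g * P := by
    intro g
    have h1 : ρ g * P * ρ g⁻¹ = P := by
      simp only [P, Finset.mul_sum, Finset.sum_mul]
      refine Fintype.sum_equiv (Equiv.mulLeft g) _ _ fun h => ?_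
      simp only [Equiv.coe_mulLeft, mul_inv_rev, map_mul, mul_assoc]
    calc P * ρ g = (ρ g * P * ρ g⁻¹) * ρ g := by rw [h1]
      _ = ρ g * P := by rw [mul_assoc, hinv, mul_one]
  exact comm_of_comm h2 hns (hcom x) (hcom y)

end Cfsg.Agent.StdL2.Trick
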